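import Cfsg.Agent.Lib.MinDeg.Orbit
import Cfsg.Agent.Lib.GL.Basic

/-!
Permutation representations of `SL_n(F)`: apart from `(n, q) = (4, 2)`, for `n ≥ 3` every
non-trivial transitive action has degree at least `(q^n - 1)/(q - 1)` (`le_card_of_transitive`).

The proof looks at the elementary abelian subgroups of all transvections with a fixed axis,
respectively a fixed centre, through `orbit_dichotomy`.
-/

set_option autoImplicit false

open Matrix
open scoped MatrixGroups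

namespace Cfsg.Agent.MinDeg

variable {F : Type*} [Field F] {n : ℕ} {Ω : Type*}

/-- An additive rule `a ↦ a + (a ⬝ χ) f` connects any two nonzero vectors. -/
theorem eq_of_forall_dot (hn : 2 ≤ n) {X : Type*} (c : (Fin n → F) → X)
    (h : ∀ φ χ f : Fin n → F, f ⬝ᵥ χ = 0 → c (φ + (φ ⬝ᵥ χ) • f) = c φ)
    {a b : Fin n → F} (ha : a ≠ 0) (hb : b ≠ 0) : c a = c b := by
  have hindep : ∀ a b : Fin n → F, a ≠ 0 → b ∉ Submodule.span F {a} → c a = c b := by
    intro a b ha hb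
    have hnot : a ∉ Submodule.span F {b - a} := by
      intro h
      obtain ⟨d, hd⟩ := Submodule.mem_span_singleton.1 h
      by_cases hd0 : d = 0
      · exact ha (by rw [← hd, hd0, zero_smul])
      · refine hb (Submodule.mem_span_singleton.2 ⟨(1 + d) / d, ?_⟩)
        have hb' : d • b = (1 + d) • a := by
          rw [add_smul, one_smul]
          calc d • b = d • (b - a) + d • a := by rw [smul_sub, sub_add_cancel]
            _ = a + d • a := by rw [hd]
        rw [div_eq_inv_mul, mul_smul, ← hb', inv_smul_smul₀ hd0]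
    obtain ⟨χ, h1, h2⟩ := exists_dot hnot
    have := h a χ (b - a) (h1 _ (Submodule.mem_span_singleton_self _))
    rw [h2, one_smul, add_sub_cancel] at this
    exact this.symm
  by_cases hba : b ∈ Submodule.span F {a}
  · obtain ⟨d, hd⟩ : ∃ d : Fin n → F, d ∉ Submodule.span F {a} := by
      by_contra h
      push Not at h
      have htop : Submodule.span F {a} = ⊤ := eq_top_iff.2 fun x _ => h x
      have := congrArg (fun S : Submodule F (Fin n → F) => Module.finrank F S) htop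
      simp [finrank_span_singleton ha] at this
      omega
    rw [hindep a d ha hd]
    exact (hindep b d hb fun h' =>
      hd ((Submodule.span_le.2 (Set.singleton_subset_iff.2 hba)) h')).symm
  · exact hindep a b ha hba

/-- `SL_n` is transitive on nonzero row vectors. -/
theorem exists_vecMul_eq (hn : 2 ≤ n) {a b : Fin n → F} (ha : a ≠ 0) (hb : b ≠ 0) :
    ∃ g : SL(n, F), a ᵥ* (g : Matrix (Fin n) (Fin n) F) = b := by
  have := eq_of_forall_dot hn
    (fun x : Fin n → F => ∃ g : SL(n, F), a ᵥ* (g : Matrix (Fin n) (Fin n) F) = x)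
    (fun φ χ f hf => by
      ext
      constructor
      · rintro ⟨g, hg⟩
        refine ⟨g * tv χ (-f), ?_⟩
        rw [coe_mul', ← vecMul_vecMul, hg, vecMul_tv (by rw [neg_dotProduct, hf, neg_zero]),
          add_dotProduct, smul_dotProduct, hf, smul_zero, add_zero, smul_neg, add_neg_cancel_right]
      · rintro ⟨g, hg⟩
        exact ⟨g * tv χ f, by rw [coe_mul', ← vecMul_vecMul, hg, vecMul_tv hf]⟩)
    ha hb
  exact this.mp ⟨1, by simp⟩

/-- `ρ (tv v φ)` fixes `ω`. -/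
abbrev Fixes (ρ : SL(n, F) →* Equiv.Perm Ω) (v φ : Fin n → F) (ω : Ω) : Prop :=
  ρ (tv v φ) ω = ω

theorem fixes_neg {ρ : SL(n, F) →* Equiv.Perm Ω} {v φ : Fin n → F} {ω : Ω} (h : φ ⬝ᵥ v = 0) :
    Fixes ρ (-v) φ ω ↔ Fixes ρ v φ ω := by
  show ρ _ ω = ω ↔ ρ _ ω = ω
  rw [tv_neg_left h, map_inv, Equiv.Perm.inv_eq_iff_eq]
  exact eq_comm

/-- The transvections with axis `φ` have one regular orbit and fix everything else. -/
def CaseA (ρ : SL(n, F) →* Equiv.Perm Ω) : Prop :=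
  ∀ φ : Fin n → F, φ ≠ 0 → ∃ ω₀, (∀ v, φ ⬝ᵥ v = 0 → Fixes ρ v φ ω₀ → v = 0) ∧
    ∀ ω, (∀ v, φ ⬝ᵥ v = 0 → Fixes ρ v φ ω) ∨ ∃ v, φ ⬝ᵥ v = 0 ∧ ρ (tv v φ) ω₀ = ω

/-- The stabilisers in the group of transvections with axis `φ` are hyperplanes. -/
def CaseB (ρ : SL(n, F) →* Equiv.Perm Ω) : Prop :=
  ∀ φ : Fin n → F, φ ≠ 0 → ∀ ω, ∃ ψ : Fin n → F, ψ ∉ Submodule.span F {φ} ∧
    ∀ v, φ ⬝ᵥ v = 0 → (Fixes ρ v φ ω ↔ ψ ⬝ᵥ v = 0)

theorem eq_one_of_forall_tv (ρ : SL(n, F) →* Equiv.Perm Ω)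
    (h : ∀ v φ : Fin n → F, φ ⬝ᵥ v = 0 → φ ≠ 0 → ρ (tv v φ) = 1) : ρ = 1 := by
  have : ρ.ker = ⊤ := GL.SL_eq_top_of_transvection_mem fun i j hij c => by
    rw [MonoidHom.mem_ker, transvection_eq_tv]
    exact h _ _ (by simp [hij]) (Pi.single_ne_zero_iff.2 one_ne_zero)
  ext g : 1
  exact MonoidHom.mem_ker.1 (this ▸ Subgroup.mem_top g)

theorem perm_inv_apply (e : Equiv.Perm Ω) (x : Ω) : e⁻¹ (e x) = x := e.symm_apply_apply x

theorem perm_apply_inv (e : Equiv.Perm Ω) (x : Ω) : e (e⁻¹ x) = x := e.apply_symm_apply x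

theorem dotProduct_cons (a b : F) {k : ℕ} (x y : Fin k → F) :
    (Fin.cons a x : Fin (k + 1) → F) ⬝ᵥ (Fin.cons b y : Fin (k + 1) → F) = a * b + x ⬝ᵥ y := by
  simp [dotProduct, Fin.sum_univ_succ]

theorem dichotomy [Fintype F] [Fintype Ω] {k : ℕ} (hk : 2 ≤ k)
    (ρ : SL(k + 1, F) →* Equiv.Perm Ω) (hρ : ρ ≠ 1)
    (hM : Fintype.card Ω * (Fintype.card F - 1) ≤
      Fintype.card F * (Fintype.card F ^ k - 1)) : CaseA ρ ∨ CaseB ρ := by
  let e₀ : Fin (k + 1) → F := Pi.single 0 1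
  have he₀ : e₀ ≠ 0 := Pi.single_ne_zero_iff.2 one_ne_zero
  let ι : (Fin k → F) → (Fin (k + 1) → F) := fun w => Fin.cons 0 w
  have hι : ∀ w, e₀ ⬝ᵥ ι w = 0 := fun w => by simp [e₀, ι, single_dotProduct]
  have hι' : ∀ v, e₀ ⬝ᵥ v = 0 → ι (Fin.tail v) = v := fun v hv => by
    simp only [e₀, single_dotProduct, one_mul] at hv
    conv_rhs => rw [← Fin.cons_self_tail v]
    rw [hv]
  have hconj : ∀ g : SL(k + 1, F), ∀ φ : Fin (k + 1) → F,
      φ ᵥ* (g : Matrix (Fin (k + 1)) (Fin (k + 1)) F) = e₀ →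
      ∀ v, φ ⬝ᵥ v = 0 → ∃ w, v = (g : Matrix (Fin (k + 1)) (Fin (k + 1)) F) *ᵥ ι w ∧
        tv v φ = g * tv (ι w) e₀ * g⁻¹ := by
    intro g φ hg v hv
    have h1 : e₀ ᵥ* ((g⁻¹ : SL(k + 1, F)) : Matrix (Fin (k + 1)) (Fin (k + 1)) F) = φ := by
      rw [← hg, vecMul_vecMul, ← coe_mul', mul_inv_cancel]; exact vecMul_one φ
    have h2 : e₀ ⬝ᵥ (((g⁻¹ : SL(k + 1, F)) : Matrix (Fin (k + 1)) (Fin (k + 1)) F) *ᵥ v) = 0 := by
      rw [dotProduct_mulVec, h1, hv]
    refine ⟨Fin.tail (((g⁻¹ : SL(k + 1, F)) : Matrix (Fin (k + 1)) (Fin (k + 1)) F) *ᵥ v), ?_, ?_⟩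
    · rw [hι' _ h2, mulVec_mulVec_inv]
    · rw [hι' _ h2, tv_conj, h1, mulVec_mulVec_inv]
  let τ : (Fin k → F) → Equiv.Perm Ω := fun w => ρ (tv (ι w) e₀)
  have hadd : ∀ a b, τ (a + b) = τ a * τ b := fun a b => by
    show ρ _ = ρ _ * ρ _
    rw [← map_mul, ← tv_add_left (hι a) (hι b)]
    congr 2; ext i; refine Fin.cases ?_ ?_ i <;> simp [ι]
  have hnt : ∃ w, τ w ≠ 1 := by
    by_contra h
    push Not at h
    refine hρ (eq_one_of_forall_tv ρ fun v φ hv hφ => ?_)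
    obtain ⟨g, hg⟩ := exists_vecMul_eq (by omega) hφ he₀
    obtain ⟨w, -, h1⟩ := hconj g φ hg v hv
    rw [h1, map_mul, map_mul, show ρ (tv (ι w) e₀) = 1 from h w, mul_one, ← map_mul,
      mul_inv_cancel, map_one]
  have hsym : ∀ χ f : Fin k → F, f ⬝ᵥ χ = 0 →
      ∃ π : Equiv.Perm Ω, ∀ w, π * τ w = τ (w + (f ⬝ᵥ w) • χ) * π := by
    intro χ f hf
    have h' : ι f ⬝ᵥ ι χ = 0 := by simp [ι, dotProduct_cons, hf]
    refine ⟨ρ (tv (ι χ) (ι f)), fun w => ?_⟩
    show ρ _ * ρ _ = ρ _ * ρ _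
    rw [← map_mul, ← map_mul]
    congr 1
    have := tv_conj (tv (ι χ) (ι f)) (ι w) e₀
    rw [mul_inv_eq_iff_eq_mul] at this
    rw [this, tv_mulVec h', ← tv_neg_left h',
      vecMul_tv (by rw [dotProduct_neg, h', neg_zero]), dotProduct_neg, hι χ, neg_zero, zero_smul,
      add_zero]
    congr 2
    ext i; refine Fin.cases ?_ ?_ i <;> simp [ι, dotProduct_cons]
  rcases orbit_dichotomy hk τ hadd hnt hsym hM with ⟨ω₀, h1, h2⟩ | ⟨-, h⟩
  · left
    intro φ hφ
    obtain ⟨g, hg⟩ := exists_vecMul_eq (by omega) hφ he₀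
    refine ⟨ρ g ω₀, fun v hv hfix => ?_, fun ω => ?_⟩
    · obtain ⟨w, rfl, e1⟩ := hconj g φ hg v hv
      unfold Fixes at hfix
      rw [e1, map_mul, map_mul, map_inv, Equiv.Perm.mul_apply, Equiv.Perm.mul_apply,
        perm_inv_apply, EmbeddingLike.apply_eq_iff_eq] at hfix
      have h0 : ι w = 0 := by
        rw [h1 w hfix]; ext i; refine Fin.cases ?_ ?_ i <;> simp [ι]
      rw [h0, mulVec_zero]
    · rcases h2 ((ρ g)⁻¹ ω) with h | ⟨w, hw⟩
      · left
        intro v hv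
        obtain ⟨w, -, e1⟩ := hconj g φ hg v hv
        show ρ _ ω = ω
        rw [e1, map_mul, map_mul, map_inv, Equiv.Perm.mul_apply, Equiv.Perm.mul_apply,
          show ρ (tv (ι w) e₀) _ = _ from h w, perm_apply_inv]
      · right
        have hv : φ ⬝ᵥ ((g : Matrix (Fin (k + 1)) (Fin (k + 1)) F) *ᵥ ι w) = 0 := by
          rw [dotProduct_mulVec, hg, hι]
        refine ⟨(g : Matrix (Fin (k + 1)) (Fin (k + 1)) F) *ᵥ ι w, hv, ?_⟩
        obtain ⟨w', hw', e1⟩ := hconj g φ hg _ hv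
        have heq : ι w' = ι w := by
          have := congrArg
            (fun x => ((g⁻¹ : SL(k + 1, F)) : Matrix (Fin (k + 1)) (Fin (k + 1)) F) *ᵥ x) hw'
          simp only [inv_mulVec_mulVec] at this
          exact this.symm
        rw [e1, heq, map_mul, map_mul, map_inv, Equiv.Perm.mul_apply, Equiv.Perm.mul_apply,
          perm_inv_apply]
        show ρ g (τ w ω₀) = ω
        rw [hw, perm_apply_inv]
  · right
    intro φ hφ ω
    obtain ⟨g, hg⟩ := exists_vecMul_eq (by omega) hφ he₀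
    obtain ⟨ψ, hψ0, hψ⟩ := h ((ρ g)⁻¹ ω)
    refine ⟨ι ψ ᵥ* ((g⁻¹ : SL(k + 1, F)) : Matrix (Fin (k + 1)) (Fin (k + 1)) F),
      fun hspan => ?_, fun v hv => ?_⟩
    · obtain ⟨c, hc⟩ := Submodule.mem_span_singleton.1 hspan
      have := congrArg (fun x => x ᵥ* (g : Matrix (Fin (k + 1)) (Fin (k + 1)) F)) hc
      simp only [smul_vecMul, hg, vecMul_vecMul, ← coe_mul', inv_mul_cancel,
        show ((1 : SL(k + 1, F)) : Matrix (Fin (k + 1)) (Fin (k + 1)) F) = 1 from rfl,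
        vecMul_one] at this
      apply hψ0
      ext i
      have := congrFun this i.succ
      simpa [e₀, ι] using this.symm
    · obtain ⟨w, rfl, e1⟩ := hconj g φ hg v hv
      unfold Fixes
      rw [e1, map_mul, map_mul, map_inv, Equiv.Perm.mul_apply, Equiv.Perm.mul_apply,
        ← Equiv.Perm.eq_inv_iff_eq, ← dotProduct_mulVec, inv_mulVec_mulVec,
        show (ρ (tv (ι w) e₀) _ = _ ↔ _) from hψ w]
      simp [ι, dotProduct_cons]

/-! ### The inverse transpose -/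

/-- `g ↦ (gᵀ)⁻¹`. -/
noncomputable def invTranspose : SL(n, F) →* SL(n, F) where
  toFun g := g⁻¹.transpose
  map_one' := by
    apply Subtype.ext
    rw [inv_one]
    show (1 : Matrix (Fin n) (Fin n) F)ᵀ = 1
    exact transpose_one
  map_mul' g h := by
    apply Subtype.ext
    rw [_root_.mul_inv_rev]
    show (((h⁻¹ : SL(n, F)) : Matrix (Fin n) (Fin n) F) * ((g⁻¹ : SL(n, F)) : Matrix (Fin n) (Fin n) F))ᵀ =
      ((g⁻¹ : SL(n, F)) : Matrix (Fin n) (Fin n) F)ᵀ *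
        ((h⁻¹ : SL(n, F)) : Matrix (Fin n) (Fin n) F)ᵀ
    exact transpose_mul _ _

theorem invTranspose_tv {a b : Fin n → F} (h : b ⬝ᵥ a = 0) :
    invTranspose (tv a b) = (tv b a)⁻¹ := by
  have h' : a ⬝ᵥ b = 0 := by rw [dotProduct_comm, h]
  show (tv a b)⁻¹.transpose = _
  rw [← tv_neg_left h, ← tv_neg_left h']
  apply Subtype.ext
  show ((tv (-a) b : SL(n, F)) : Matrix (Fin n) (Fin n) F)ᵀ =
    ((tv (-b) a : SL(n, F)) : Matrix (Fin n) (Fin n) F)
  rw [tv_coe (by rw [dotProduct_neg, h, neg_zero]), tv_coe (by rw [dotProduct_neg, h', neg_zero]),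
    transpose_add, transpose_one]
  ext i j; simp [vecMulVec_apply, mul_comm]

theorem fixes_comp_invTranspose {ρ : SL(n, F) →* Equiv.Perm Ω} {a b : Fin n → F} {ω : Ω}
    (h : b ⬝ᵥ a = 0) : Fixes (ρ.comp invTranspose) a b ω ↔ Fixes ρ b a ω := by
  show ρ (invTranspose (tv a b)) ω = ω ↔ ρ _ ω = ω
  rw [invTranspose_tv h, map_inv, Equiv.Perm.inv_eq_iff_eq]
  exact eq_comm

theorem invTranspose_surjective : Function.Surjective (invTranspose (F := F) (n := n)) := by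
  intro g
  refine ⟨g.transpose⁻¹, ?_⟩
  show ((g.transpose)⁻¹)⁻¹.transpose = g
  rw [inv_inv]
  apply Subtype.ext
  exact transpose_transpose _

/-! ### Linear algebra of a pair of lines -/

section Cases

variable [Fintype F] [Fintype Ω]

/-- The set of vectors killed by two independent functionals. -/
theorem card_filter_pair {φ ψ : Fin n → F} (hφ : φ ≠ 0) (hψ : ψ ∉ Submodule.span F {φ})
    [DecidableEq F] :
    (Finset.univ.filter fun v : Fin n → F => φ ⬝ᵥ v = 0 ∧ ψ ⬝ᵥ v = 0).card *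
      (Fintype.card F * Fintype.card F) = Fintype.card F ^ n := by
  have hφ' : φ ∉ Submodule.span F {ψ} := by
    intro h
    obtain ⟨c, hc⟩ := Submodule.mem_span_singleton.1 h
    refine hψ (Submodule.mem_span_singleton.2 ⟨c⁻¹, ?_⟩)
    rw [← hc, inv_smul_smul₀ (fun h0 => hφ (by rw [← hc, h0, zero_smul]))]
  obtain ⟨a, ha1, ha2⟩ := exists_dot hψ
  obtain ⟨b, hb1, hb2⟩ := exists_dot hφ'
  have ha : φ ⬝ᵥ a = 0 := ha1 _ (Submodule.mem_span_singleton_self _)
  have hb : ψ ⬝ᵥ b = 0 := hb1 _ (Submodule.mem_span_singleton_self _)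
  let e : ({v : Fin n → F // φ ⬝ᵥ v = 0 ∧ ψ ⬝ᵥ v = 0} × F × F) ≃ (Fin n → F) :=
    { toFun := fun x => x.1.1 + x.2.1 • b + x.2.2 • a
      invFun := fun v => (⟨v - (φ ⬝ᵥ v) • b - (ψ ⬝ᵥ v) • a, by
        constructor <;> simp [dotProduct_sub, ha, hb, ha2, hb2]⟩, φ ⬝ᵥ v, ψ ⬝ᵥ v)
      left_inv := by
        rintro ⟨⟨v, hv1, hv2⟩, s, t⟩
        have e1 : φ ⬝ᵥ (v + s • b + t • a) = s := by simp [dotProduct_add, hv1, ha, hb2]
        have e2 : ψ ⬝ᵥ (v + s • b + t • a) = t := by simp [dotProduct_add, hv2, hb, ha2]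
        ext1
        · apply Subtype.ext
          simp only [e1, e2]
          abel
        · simp only [e1, e2]
      right_inv := fun v => by
        show v - (φ ⬝ᵥ v) • b - (ψ ⬝ᵥ v) • a + (φ ⬝ᵥ v) • b + (ψ ⬝ᵥ v) • a = v
        abel }
  have := Fintype.card_congr e
  rw [Fintype.card_prod, Fintype.card_prod, Fintype.card_subtype, Fintype.card_fun,
    Fintype.card_fin] at this
  exact this

theorem card_filter_dot [DecidableEq F] {φ : Fin n → F} (hφ : φ ≠ 0) :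
    (Finset.univ.filter fun v : Fin n → F => φ ⬝ᵥ v = 0).card * Fintype.card F =
      Fintype.card F ^ n := by
  obtain ⟨a, -, ha2⟩ := exists_dot (S := ⊥) (show φ ∉ (⊥ : Submodule F (Fin n → F)) by simpa using hφ)
  let e : ({v : Fin n → F // φ ⬝ᵥ v = 0} × F) ≃ (Fin n → F) :=
    { toFun := fun x => x.1.1 + x.2 • a
      invFun := fun v => (⟨v - (φ ⬝ᵥ v) • a, by simp [dotProduct_sub, ha2]⟩, φ ⬝ᵥ v)
      left_inv := by
        rintro ⟨⟨v, hv⟩, s⟩
        have e1 : φ ⬝ᵥ (v + s • a) = s := by simp [dotProduct_add, hv, ha2]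
        ext1
        · apply Subtype.ext; simp only [e1]; abel
        · simp only [e1]
      right_inv := fun v => by
        show v - (φ ⬝ᵥ v) • a + (φ ⬝ᵥ v) • a = v
        abel }
  have := Fintype.card_congr e
  rw [Fintype.card_prod, Fintype.card_subtype, Fintype.card_fun, Fintype.card_fin] at this
  exact this

/-- Mixed case: double count the transvections fixing one point. -/
theorem not_caseA_caseB (hn : 3 ≤ n) [Nonempty Ω] (ρ : SL(n, F) →* Equiv.Perm Ω) (hA : CaseA ρ)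
    (hB : CaseB (ρ.comp invTranspose)) : False := by
  classical
  obtain ⟨ω⟩ := ‹Nonempty Ω›
  obtain ⟨q, hq⟩ : ∃ q, q = Fintype.card F := ⟨_, rfl⟩
  have hq2 : 2 ≤ q := hq ▸ Fintype.one_lt_card
  obtain ⟨k, rfl⟩ : ∃ k, n = k + 2 := ⟨n - 2, by omega⟩
  let R : (Fin (k + 2) → F) → (Fin (k + 2) → F) → Prop :=
    fun v φ => φ ⬝ᵥ v = 0 ∧ Fixes ρ v φ ω
  let E : Finset (Fin (k + 2) → F) := Finset.univ.erase 0
  have hrow : ∀ v ∈ E, (E.filter fun φ => R v φ).card = q ^ k - 1 := by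
    intro v hv
    have hv0 := (Finset.mem_erase.1 hv).1
    obtain ⟨ψ, hψ, hψ'⟩ := hB v hv0 ω
    have hset : (E.filter fun φ => R v φ) =
        (Finset.univ.filter fun φ => v ⬝ᵥ φ = 0 ∧ ψ ⬝ᵥ φ = 0).erase 0 := by
      ext φ
      simp only [E, R, Finset.mem_filter, Finset.mem_erase, Finset.mem_univ, and_true, true_and]
      refine and_congr_right fun _ => ?_
      rw [dotProduct_comm φ v]
      refine and_congr_right fun h0 => ?_
      rw [← hψ' φ h0, fixes_comp_invTranspose h0]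
    rw [hset, Finset.card_erase_of_mem (by simp)]
    have := card_filter_pair hv0 hψ
    rw [← hq, pow_add, sq] at this
    rw [Nat.eq_of_mul_eq_mul_right (Nat.mul_pos (by omega) (by omega)) this]
  have hcol : ∀ φ ∈ E, (q ^ (k + 1) - 1) ∣ (E.filter fun v => R v φ).card := by
    intro φ hφ
    obtain ⟨ω₀, h1, h2⟩ := hA φ (Finset.mem_erase.1 hφ).1
    rcases h2 ω with h | ⟨w, hw, hw'⟩
    · have hset : (E.filter fun v => R v φ) =
          (Finset.univ.filter fun v => φ ⬝ᵥ v = 0).erase 0 := by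
        ext v
        simp only [E, R, Finset.mem_filter, Finset.mem_erase, Finset.mem_univ, and_true, true_and]
        exact and_congr_right fun _ => ⟨fun hh => hh.1, fun hh => ⟨hh, h v hh⟩⟩
      rw [hset, Finset.card_erase_of_mem (by simp)]
      have := card_filter_dot (Finset.mem_erase.1 hφ).1
      rw [← hq, pow_succ q (k + 1)] at this
      rw [Nat.eq_of_mul_eq_mul_right (by omega) this]
    · have hset : (E.filter fun v => R v φ) = ∅ := by
        rw [Finset.filter_eq_empty_iff]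
        intro v hv ⟨hv0, hfix⟩
        unfold Fixes at hfix
        rw [← hw', ← Equiv.Perm.mul_apply, ← map_mul, ← tv_add_left hv0 hw, add_comm v w,
          tv_add_left hw hv0, map_mul, Equiv.Perm.mul_apply, EmbeddingLike.apply_eq_iff_eq] at hfix
        exact (Finset.mem_erase.1 hv).1 (h1 v hv0 hfix)
      rw [hset]; simp
  have hdbl : ∑ v ∈ E, (E.filter fun φ => R v φ).card = ∑ φ ∈ E, (E.filter fun v => R v φ).card :=
    Finset.sum_card_bipartiteAbove_eq_sum_card_bipartiteBelow R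
  rw [Finset.sum_congr rfl hrow, Finset.sum_const, smul_eq_mul] at hdbl
  have hE : E.card = q ^ (k + 2) - 1 := by
    rw [Finset.card_erase_of_mem (Finset.mem_univ _), Finset.card_univ, Fintype.card_fun,
      Fintype.card_fin, hq]
  have hdvd : (q ^ (k + 1) - 1) ∣ (q ^ (k + 2) - 1) * (q ^ k - 1) := by
    rw [← hE, hdbl]; exact Finset.dvd_sum hcol
  have key : ((q : ℤ) ^ (k + 1) - 1) ∣ (q : ℤ) ^ k * ((q : ℤ) - 1) ^ 2 := by
    have h := Int.natCast_dvd_natCast.2 hdvd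
    simp only [Nat.cast_mul, Nat.cast_sub (Nat.one_le_pow _ _ (by omega : 0 < q)), Nat.cast_pow,
      Nat.cast_one] at h
    have e : (q : ℤ) ^ k * ((q : ℤ) - 1) ^ 2 = ((q : ℤ) ^ (k + 1) - 1) * ((q : ℤ) ^ (k + 1) - 1)
        - ((q : ℤ) ^ (k + 2) - 1) * ((q : ℤ) ^ k - 1) := by ring
    rw [e]
    exact dvd_sub (dvd_mul_right _ _) h
  have hcop : IsCoprime ((q : ℤ) ^ (k + 1) - 1) ((q : ℤ) ^ k) := ⟨-1, (q : ℤ), by ring⟩
  have h2 := Int.le_of_dvd (by
    have : (0 : ℤ) < (q : ℤ) - 1 := by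
      have : (2 : ℤ) ≤ q := by exact_mod_cast hq2
      linarith
    positivity) (hcop.dvd_of_dvd_mul_left key)
  have h3 : (q : ℤ) ^ 2 ≤ (q : ℤ) ^ (k + 1) :=
    pow_le_pow_right₀ (by exact_mod_cast (by omega : 1 ≤ q)) (by omega)
  have : (2 : ℤ) ≤ q := by exact_mod_cast hq2
  nlinarith

end Cases

end Cfsg.Agent.MinDeg
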