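import Cfsg.Agent.Lib.MinDeg.Linear

/-!
Both families of transvection subgroups cannot act with one regular orbit, except for
`(n, q) = (4, 2)` (`not_caseA_caseA`).
-/

set_option autoImplicit false

open Matrix
open scoped MatrixGroups

namespace Cfsg.Agent.MinDeg

variable {F : Type*} [Field F] {n : ℕ} {Ω : Type*}

theorem exists_common_center (hn : 3 ≤ n) (φ φ' : Fin n → F) :
    ∃ v : Fin n → F, v ≠ 0 ∧ φ ⬝ᵥ v = 0 ∧ φ' ⬝ᵥ v = 0 := by
  classical
  obtain ⟨z, hz⟩ : ∃ z, z ∉ Submodule.span F ({φ, φ'} : Set (Fin n → F)) := by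
    by_contra hc'
    push Not at hc'
    have htop : Submodule.span F ({φ, φ'} : Set (Fin n → F)) = ⊤ :=
      eq_top_iff.2 fun x _ => hc' x
    have h1 := finrank_span_le_card (R := F) ({φ, φ'} : Set (Fin n → F))
    have h2 : ({φ, φ'} : Set (Fin n → F)).toFinset.card ≤ 2 := by
      simpa using Finset.card_le_two (a := φ) (b := φ')
    rw [htop, finrank_top, Module.finrank_fintype_fun_eq_card, Fintype.card_fin] at h1
    omega
  obtain ⟨v, h1, h2⟩ := exists_dot hz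
  exact ⟨v, fun h => by rw [h, dotProduct_zero] at h2; exact zero_ne_one h2,
    h1 _ (Submodule.subset_span (Set.mem_insert _ _)),
    h1 _ (Submodule.subset_span (Set.mem_insert_of_mem _ rfl))⟩

/-- With one regular orbit for both families, transvections move every point. -/
theorem free_of_caseA (hn : 3 ≤ n) [Nontrivial Ω] (ρ : SL(n, F) →* Equiv.Perm Ω)
    (htr : ∀ a b : Ω, ∃ g, ρ g a = b) (hA : CaseA ρ) (hA' : CaseA (ρ.comp invTranspose))
    {v φ : Fin n → F} {ω : Ω} (hv : v ≠ 0) (hφ : φ ≠ 0) (h : φ ⬝ᵥ v = 0) :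
    ¬ Fixes ρ v φ ω := by
  intro hfix
  -- fixed by one transvection with axis φ means fixed by all of them
  have haxis : ∀ φ v v' : Fin n → F, φ ≠ 0 → v ≠ 0 → φ ⬝ᵥ v = 0 → φ ⬝ᵥ v' = 0 →
      Fixes ρ v φ ω → Fixes ρ v' φ ω := by
    intro φ v v' hφ hv hv0 hv0' hf
    obtain ⟨ω₀, h1, h2⟩ := hA φ hφ
    rcases h2 ω with h' | ⟨w, hw, hw'⟩
    · exact h' v' hv0'
    · exfalso
      unfold Fixes at hf
      rw [← hw', ← Equiv.Perm.mul_apply, ← map_mul, ← tv_add_left hv0 hw, add_comm v w,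
        tv_add_left hw hv0, map_mul, Equiv.Perm.mul_apply, EmbeddingLike.apply_eq_iff_eq] at hf
      exact hv (h1 v hv0 hf)
  have hcentre : ∀ v φ φ' : Fin n → F, v ≠ 0 → φ ≠ 0 → φ ⬝ᵥ v = 0 → φ' ⬝ᵥ v = 0 →
      Fixes ρ v φ ω → Fixes ρ v φ' ω := by
    intro v φ φ' hv hφ h0 h0' hf
    rw [dotProduct_comm] at h0 h0'
    obtain ⟨ω₀, h1, h2⟩ := hA' v hv
    rcases h2 ω with h' | ⟨w, hw, hw'⟩
    · exact (fixes_comp_invTranspose h0').1 (h' φ' h0')
    · exfalso
      have hf' := (fixes_comp_invTranspose (ρ := ρ) h0).2 hf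
      unfold Fixes at hf'
      rw [← hw', ← Equiv.Perm.mul_apply, ← map_mul, ← tv_add_left h0 hw, add_comm φ w,
        tv_add_left hw h0, map_mul, Equiv.Perm.mul_apply, EmbeddingLike.apply_eq_iff_eq] at hf'
      exact hφ (h1 φ h0 hf')
  have hall : ∀ v' φ' : Fin n → F, φ' ⬝ᵥ v' = 0 → φ' ≠ 0 → Fixes ρ v' φ' ω := by
    intro v' φ' h' hφ'
    obtain ⟨u, hu0, hu1, hu2⟩ := exists_common_center hn φ φ'
    exact haxis φ' u v' hφ' hu0 hu2 h' (hcentre u φ φ' hu0 hφ hu1 hu2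
      (haxis φ v u hφ hv h hu1 hfix))
  obtain ⟨ω', hω'⟩ := exists_ne ω
  obtain ⟨g, hg⟩ := htr ω ω'
  have hK : (MulAction.stabilizer (Equiv.Perm Ω) ω).comap ρ = ⊤ :=
    GL.SL_eq_top_of_transvection_mem fun i j hij c => by
      rw [Subgroup.mem_comap, transvection_eq_tv]
      exact hall _ _ (by simp [hij]) (Pi.single_ne_zero_iff.2 one_ne_zero)
  have : g ∈ (MulAction.stabilizer (Equiv.Perm Ω) ω).comap ρ := hK ▸ Subgroup.mem_top g
  exact hω' (hg.symm.trans this)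

theorem diag_smul_single [DecidableEq (Fin n)] (a : Fin n → F) (c : Fin n) (s : F) :
    Pi.single c s ᵥ* Matrix.diagonal a = Pi.single c (s * a c) := by
  ext i
  rw [vecMul_diagonal]
  by_cases h : i = c
  · subst h; simp
  · simp [h]

set_option maxHeartbeats 1000000 in
theorem not_caseA_caseA [Fintype F] {k : ℕ} (hk : 1 ≤ k)
    (hexc : ¬ (k = 2 ∧ Fintype.card F = 2)) [Nontrivial Ω]
    (ρ : SL(k + 2, F) →* Equiv.Perm Ω)
    (htr : ∀ a b : Ω, ∃ g, ρ g a = b) (hA : CaseA ρ) (hA' : CaseA (ρ.comp invTranspose)) :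
    False := by
  classical
  have hfree : ∀ {v φ : Fin (k + 2) → F} {ω : Ω}, v ≠ 0 → φ ≠ 0 → φ ⬝ᵥ v = 0 →
      ¬ Fixes ρ v φ ω := fun hv hφ h => free_of_caseA (by omega) ρ htr hA hA' hv hφ h
  let e₀ : Fin (k + 2) → F := Pi.single 0 1
  let x : Fin (k + 2) → F := Pi.single 1 1
  have he₀ : e₀ ≠ 0 := Pi.single_ne_zero_iff.2 one_ne_zero
  have hx : x ≠ 0 := Pi.single_ne_zero_iff.2 one_ne_zero
  have h10 : (1 : Fin (k + 2)) ≠ 0 := by simp
  have he₀x : e₀ ⬝ᵥ x = 0 := by simp [e₀, x, single_dotProduct, h10]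
  have he₀v : ∀ v, e₀ ⬝ᵥ v = v 0 := fun v => by simp [e₀, single_dotProduct]
  obtain ⟨ω₀, hreg, horb⟩ := hA e₀ he₀
  have hsurj : ∀ ω, ∃ v, e₀ ⬝ᵥ v = 0 ∧ ρ (tv v e₀) ω₀ = ω := fun ω =>
    (horb ω).resolve_left fun h => hfree hx he₀ he₀x (h x he₀x)
  have hinjω : ∀ a b, e₀ ⬝ᵥ a = 0 → e₀ ⬝ᵥ b = 0 →
      ρ (tv a e₀) ω₀ = ρ (tv b e₀) ω₀ → a = b := by
    intro a b ha hb hab
    have hab' : e₀ ⬝ᵥ (a - b) = 0 := by rw [dotProduct_sub, ha, hb, sub_zero]
    refine sub_eq_zero.1 (hreg _ hab' ?_)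
    show ρ _ ω₀ = ω₀
    have e : tv a e₀ = tv b e₀ * tv (a - b) e₀ := by
      rw [← tv_add_left hb hab', add_sub_cancel]
    rw [e, map_mul, Equiv.Perm.mul_apply, EmbeddingLike.apply_eq_iff_eq] at hab
    exact hab
  choose u hu0 hu using fun ψ : Fin (k + 2) → F => hsurj (ρ (tv x ψ) ω₀)
  -- action of the transvections with centre x
  have hact : ∀ ψ w, ψ ⬝ᵥ x = 0 → e₀ ⬝ᵥ w = 0 →
      ρ (tv x ψ) (ρ (tv w e₀) ω₀) = ρ (tv (w + (ψ ⬝ᵥ w) • x + u ψ) e₀) ω₀ := by
    intro ψ w hψ hw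
    have e := tv_conj (tv x ψ) w e₀
    rw [tv_mulVec hψ, ← tv_neg_left hψ, vecMul_tv (by rw [dotProduct_neg, hψ, neg_zero]),
      dotProduct_neg, he₀x, neg_zero, zero_smul, add_zero, tv_neg_left hψ,
      mul_inv_eq_iff_eq_mul] at e
    rw [← Equiv.Perm.mul_apply, ← map_mul, e, map_mul, Equiv.Perm.mul_apply, ← hu ψ,
      ← Equiv.Perm.mul_apply, ← map_mul, ← tv_add_left (by
        rw [dotProduct_add, dotProduct_smul, hw, he₀x, smul_zero, add_zero]) (hu0 ψ)]
  have hadd : ∀ ψ ψ', ψ ⬝ᵥ x = 0 → ψ' ⬝ᵥ x = 0 →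
      u (ψ + ψ') = u ψ' + (ψ ⬝ᵥ u ψ') • x + u ψ := by
    intro ψ ψ' h h'
    refine hinjω _ _ (hu0 _) (by simp [dotProduct_add, dotProduct_smul, hu0, he₀x]) ?_
    rw [hu, tv_add_right h h', map_mul, Equiv.Perm.mul_apply, ← hu ψ', hact ψ _ h (hu0 ψ')]
  have hzero : u 0 = 0 := by
    refine hinjω _ _ (hu0 _) (dotProduct_zero e₀) ?_
    rw [hu, tv_zero_right, tv_zero_left]
  -- coordinates beyond the first two
  have htail : ∀ ψ ψ' : Fin (k + 2) → F, ψ ⬝ᵥ x = 0 → ψ' ⬝ᵥ x = 0 → ∀ i, i ≠ 1 →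
      u (ψ + ψ') i = u ψ i + u ψ' i := by
    intro ψ ψ' h h' i hi
    rw [hadd ψ ψ' h h']
    simp [x, hi, add_comm]
  have hsingle : ∀ (j : Fin (k + 2)) (s : F), j ≠ 1 → (Pi.single j s : Fin (k + 2) → F) ⬝ᵥ x = 0 :=
    fun j s hj => by simp [x, single_dotProduct, hj]
  have hsymm : ∀ i j : Fin (k + 2), i ≠ 1 → j ≠ 1 →
      u (Pi.single j 1) i = u (Pi.single i 1) j := by
    intro i j hi hj
    have h1 := hadd _ _ (hsingle i 1 hi) (hsingle j 1 hj)
    have h2 := hadd _ _ (hsingle j 1 hj) (hsingle i 1 hi)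
    rw [add_comm (Pi.single j (1 : F) : Fin (k + 2) → F)] at h2
    have := congrFun (h1.symm.trans h2) 1
    simp [x, single_dotProduct] at this
    linear_combination this
  have halt : (2 : F) = 0 → ∀ i : Fin (k + 2), i ≠ 1 → u (Pi.single i 1) i = 0 := by
    intro h2 i hi
    have h1 := hadd _ _ (hsingle i 1 hi) (hsingle i 1 hi)
    have h11 : (1 : F) + 1 = 0 := by rw [one_add_one_eq_two, h2]
    rw [← Pi.single_add, h11, Pi.single_zero, hzero] at h1
    have := congrFun h1 1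
    simp [x, single_dotProduct] at this
    linear_combination -this - u (Pi.single i 1) 1 * h2
  have hne : ∀ j : Fin (k + 2), j ≠ 0 → j ≠ 1 →
      ∃ i, i ≠ 0 ∧ i ≠ 1 ∧ u (Pi.single j 1) i ≠ 0 := by
    intro j hj0 hj1
    by_contra hc
    push Not at hc
    let a := u (Pi.single j 1) 1
    have hua : u (Pi.single j 1) = a • x := by
      ext i
      by_cases hi0 : i = 0
      · subst hi0
        rw [← he₀v (u (Pi.single j 1)), hu0]; simp [x]
      by_cases hi1 : i = 1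
      · subst hi1; simp [x, a]
      rw [hc i hi0 hi1]; simp [x, hi1]
    have hw : e₀ ⬝ᵥ (Pi.single j (-a) : Fin (k + 2) → F) = 0 := by
      rw [he₀v]; simp [Ne.symm hj0]
    have := hact (Pi.single j 1) _ (hsingle j 1 hj1) hw
    rw [hua, single_dotProduct, Pi.single_eq_same, one_mul, add_assoc, ← add_smul,
      neg_add_cancel, zero_smul, add_zero] at this
    exact hfree hx (Pi.single_ne_zero_iff.2 one_ne_zero) (hsingle j 1 hj1) this
  -- the symmetry
  have hsym : ∀ (h : SL(k + 2, F)) (s r : F), s ≠ 0 →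
      (h : Matrix (Fin (k + 2)) (Fin (k + 2)) F) *ᵥ x = s • x →
      e₀ ᵥ* ((h⁻¹ : SL(k + 2, F)) : Matrix (Fin (k + 2)) (Fin (k + 2)) F) = r • e₀ →
      ∀ ψ, ψ ⬝ᵥ x = 0 → ∀ i, i ≠ 1 →
        u (s • (ψ ᵥ* ((h⁻¹ : SL(k + 2, F)) : Matrix (Fin (k + 2)) (Fin (k + 2)) F))) i =
          r * ((h : Matrix (Fin (k + 2)) (Fin (k + 2)) F) *ᵥ u ψ) i := by
    intro h s r hs hhx hhe ψ hψ i hi
    obtain ⟨z, hz0, hz⟩ := hsurj (ρ h ω₀)
    have hz' : e₀ ⬝ᵥ (-z) = 0 := by rw [dotProduct_neg, hz0, neg_zero]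
    let g : SL(k + 2, F) := tv (-z) e₀ * h
    have hgω : ρ g ω₀ = ω₀ := by
      show ρ (tv (-z) e₀ * h) ω₀ = ω₀
      rw [map_mul, Equiv.Perm.mul_apply, ← hz, ← Equiv.Perm.mul_apply, ← map_mul,
        ← tv_add_left hz' hz0, neg_add_cancel, tv_zero_left, map_one]; rfl
    have hgx : (g : Matrix (Fin (k + 2)) (Fin (k + 2)) F) *ᵥ x = s • x := by
      show ((tv (-z) e₀ * h : SL(k + 2, F)) : Matrix (Fin (k + 2)) (Fin (k + 2)) F) *ᵥ x = _
      rw [coe_mul', ← mulVec_mulVec, hhx, tv_mulVec hz', dotProduct_smul, he₀x, smul_zero,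
        zero_smul, add_zero]
    have hginv : ∀ φ : Fin (k + 2) → F,
        φ ᵥ* ((g⁻¹ : SL(k + 2, F)) : Matrix (Fin (k + 2)) (Fin (k + 2)) F) =
        φ ᵥ* ((h⁻¹ : SL(k + 2, F)) : Matrix (Fin (k + 2)) (Fin (k + 2)) F) +
          ((φ ᵥ* ((h⁻¹ : SL(k + 2, F)) : Matrix (Fin (k + 2)) (Fin (k + 2)) F)) ⬝ᵥ z) • e₀ := by
      intro φ
      show φ ᵥ* (((tv (-z) e₀ * h)⁻¹ : SL(k + 2, F)) : Matrix (Fin (k + 2)) (Fin (k + 2)) F) = _
      rw [_root_.mul_inv_rev, coe_mul', ← vecMul_vecMul, ← tv_neg_left hz', neg_neg, vecMul_tv hz0]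
    have hstab : ∀ a φ, φ ⬝ᵥ a = 0 → ρ g (ρ (tv a φ) ω₀) =
        ρ (tv ((g : Matrix (Fin (k + 2)) (Fin (k + 2)) F) *ᵥ a)
          (φ ᵥ* ((g⁻¹ : SL(k + 2, F)) : Matrix (Fin (k + 2)) (Fin (k + 2)) F))) ω₀ := by
      intro a φ _
      rw [← tv_conj, map_mul ρ (g * tv a φ) g⁻¹, Equiv.Perm.mul_apply, map_inv,
        Equiv.Perm.inv_eq_iff_eq.2 hgω.symm, map_mul ρ g (tv a φ), Equiv.Perm.mul_apply]
    let ψ' := ψ ᵥ* ((h⁻¹ : SL(k + 2, F)) : Matrix (Fin (k + 2)) (Fin (k + 2)) F)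
    have hψ'x : ψ' ⬝ᵥ x = 0 := by
      have e : (ψ' ⬝ᵥ ((h : Matrix (Fin (k + 2)) (Fin (k + 2)) F) *ᵥ x)) = ψ ⬝ᵥ x :=
        dot_conj h x ψ
      rw [hhx, dotProduct_smul, hψ, smul_eq_mul] at e
      exact (mul_eq_zero.1 e).resolve_left hs
    have hsψ'x : (s • ψ') ⬝ᵥ x = 0 := by rw [smul_dotProduct, hψ'x, smul_zero]
    let t := ψ' ⬝ᵥ z
    let v := (g : Matrix (Fin (k + 2)) (Fin (k + 2)) F) *ᵥ u ψ
    have hv0 : e₀ ⬝ᵥ v = 0 := by
      have e1 := dot_conj g (u ψ) e₀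
      rw [hginv, hhe, smul_dotProduct, hz0, smul_zero, zero_smul, add_zero,
        smul_dotProduct, hu0, smul_eq_mul] at e1
      refine (mul_eq_zero.1 e1).resolve_left fun h0 => he₀ ?_
      rw [h0, zero_smul] at hhe
      have := congrArg (fun y => y ᵥ* (h : Matrix (Fin (k + 2)) (Fin (k + 2)) F)) hhe
      simp only [zero_vecMul, vecMul_vecMul, ← coe_mul', inv_mul_cancel] at this
      rw [← this]; exact (vecMul_one e₀).symm
    have hL : ρ g (ρ (tv x ψ) ω₀) = ρ (tv (r • v) e₀) ω₀ := by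
      rw [← hu ψ, hstab _ _ (hu0 ψ), hginv, hhe, smul_dotProduct, hz0, smul_zero, zero_smul,
        add_zero, tv_smul_comm r hv0]
    rw [hstab _ _ hψ, hgx, hginv] at hL
    have hte : (t • e₀) ⬝ᵥ (s • x) = 0 := by
      rw [smul_dotProduct, dotProduct_smul, he₀x, smul_zero, smul_zero]
    have hψs : ψ' ⬝ᵥ (s • x) = 0 := by rw [dotProduct_smul, hψ'x, smul_zero]
    rw [show tv (s • x) (ψ' + t • e₀) = tv x (s • ψ') * tv (t • (s • x)) e₀ by
      rw [tv_add_right hψs hte, tv_smul_comm s hψ'x,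
        tv_smul_comm t (by rw [dotProduct_smul, he₀x, smul_zero])]] at hL
    have hts : e₀ ⬝ᵥ (t • (s • x)) = 0 := by
      rw [dotProduct_smul, dotProduct_smul, he₀x, smul_zero, smul_zero]
    rw [map_mul, Equiv.Perm.mul_apply, hact _ _ hsψ'x hts] at hL
    have := hinjω _ _ (by simp [dotProduct_add, dotProduct_smul, hu0, he₀x])
      (by rw [dotProduct_smul, hv0, smul_zero]) hL
    have hi' := congrFun this i
    simp [x, hi] at hi'
    rw [hi']
    have hvi : v i = ((h : Matrix (Fin (k + 2)) (Fin (k + 2)) F) *ᵥ u ψ) i := by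
      show (((tv (-z) e₀ * h : SL(k + 2, F)) : Matrix (Fin (k + 2)) (Fin (k + 2)) F) *ᵥ u ψ) i = _
      rw [coe_mul', ← mulVec_mulVec, tv_mulVec hz']
      have e2 : e₀ ⬝ᵥ ((h : Matrix (Fin (k + 2)) (Fin (k + 2)) F) *ᵥ u ψ) = 0 := by
        have e3 := dot_conj h (u ψ) e₀
        rw [hhe, hu0, smul_dotProduct, smul_eq_mul] at e3
        refine (mul_eq_zero.1 e3).resolve_left fun h0 => he₀ ?_
        rw [h0, zero_smul] at hhe
        have := congrArg (fun y => y ᵥ* (h : Matrix (Fin (k + 2)) (Fin (k + 2)) F)) hhe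
        simp only [zero_vecMul, vecMul_vecMul, ← coe_mul', inv_mul_cancel] at this
        rw [← this]; exact (vecMul_one e₀).symm
      rw [e2, zero_smul, add_zero]
    rw [hvi]
  have htrans : ∀ i j : Fin (k + 2), i ≠ j → i ≠ 0 → i ≠ 1 → j ≠ 0 → j ≠ 1 →
      ∀ ψ, ψ ⬝ᵥ x = 0 → ∀ l, l ≠ 1 →
        u (ψ + (-(ψ i)) • (Pi.single j 1 : Fin (k + 2) → F)) l =
          u ψ l + (if l = i then u ψ j else 0) := by
    intro i j hij hi0 hi1 hj0 hj1 ψ hψ l hl
    let E : SL(k + 2, F) := tv (Pi.single i 1) (Pi.single j 1)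
    have hdot : (Pi.single j (1 : F) : Fin (k + 2) → F) ⬝ᵥ Pi.single i 1 = 0 := by simp [hij]
    have hdot' : (Pi.single j (1 : F) : Fin (k + 2) → F) ⬝ᵥ (-Pi.single i 1) = 0 := by
      rw [dotProduct_neg, hdot, neg_zero]
    have h := hsym E 1 1 one_ne_zero (by
        rw [tv_mulVec hdot, one_smul]; simp [x, single_dotProduct, hj1])
      (by
        rw [← tv_neg_left hdot, vecMul_tv hdot', one_smul]
        simp [e₀, single_dotProduct, Ne.symm hi0]) ψ hψ l hl
    rw [one_smul, one_mul, ← tv_neg_left hdot, vecMul_tv hdot', tv_mulVec hdot] at h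
    simp only [dotProduct_neg, dotProduct_single, mul_one] at h
    rw [h]
    simp [single_dotProduct, Pi.single_apply]
  have hvanish : ∀ i j l : Fin (k + 2), i ≠ j → i ≠ 0 → i ≠ 1 → j ≠ 0 → j ≠ 1 →
      l ≠ i → l ≠ 0 → l ≠ 1 → u (Pi.single l 1) j = 0 := by
    intro i j l hij hi0 hi1 hj0 hj1 hli hl0 hl1
    have h := htrans i j hij hi0 hi1 hj0 hj1 _ (hsingle l 1 hl1) i hi1
    simpa [Ne.symm hli] using h.symm
  -- diagonal elements
  have hdiag : ∀ a : Fin (k + 2) → F, ∏ i, a i = 1 → ∀ (j : Fin (k + 2)), j ≠ 1 →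
      ∀ i, i ≠ 1 →
        u (Pi.single j (a 1 * (a j)⁻¹)) i = (a 0)⁻¹ * (a i * u (Pi.single j 1) i) := by
    intro a ha j hj i hi
    let D : SL(k + 2, F) := ⟨Matrix.diagonal a, by rw [Matrix.det_diagonal, ha]⟩
    have hane : ∀ l, a l ≠ 0 := fun l => Finset.prod_ne_zero_iff.1 (by rw [ha]; exact one_ne_zero) l
      (Finset.mem_univ _)
    have hD : ((D⁻¹ : SL(k + 2, F)) : Matrix (Fin (k + 2)) (Fin (k + 2)) F) =
        Matrix.diagonal (fun l => (a l)⁻¹) := by
      have h1 : D⁻¹ = ⟨Matrix.diagonal (fun l => (a l)⁻¹), by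
          rw [Matrix.det_diagonal, Finset.prod_inv_distrib, ha, inv_one]⟩ := by
        apply inv_eq_of_mul_eq_one_right
        apply Subtype.ext
        show Matrix.diagonal a * Matrix.diagonal (fun l => (a l)⁻¹) = 1
        rw [Matrix.diagonal_mul_diagonal, ← Matrix.diagonal_one]
        congr 1; funext l; exact mul_inv_cancel₀ (hane l)
      rw [h1]
    have hDx : (D : Matrix (Fin (k + 2)) (Fin (k + 2)) F) *ᵥ x = a 1 • x := by
      ext l
      show (Matrix.diagonal a *ᵥ x) l = _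
      rw [mulVec_diagonal]
      by_cases hl : l = 1
      · subst hl; simp [x]
      · simp [x, hl]
    have h := hsym D (a 1) (a 0)⁻¹ (hane 1) hDx (by
      rw [hD, show e₀ = Pi.single 0 1 from rfl, diag_smul_single, ← Pi.single_smul]
      simp) _ (hsingle j 1 hj) i hi
    rw [hD, diag_smul_single, one_mul, ← Pi.single_smul, smul_eq_mul] at h
    rw [h]
    show (a 0)⁻¹ * (Matrix.diagonal a *ᵥ u (Pi.single j 1)) i = _
    rw [mulVec_diagonal]
  by_cases hk3 : 3 ≤ k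
  · -- at least three coordinates
    let j : Fin (k + 2) := ⟨2, by omega⟩
    obtain ⟨l, hl0, hl1, hl⟩ := hne j (by simp [j, Fin.ext_iff]) (by simp [j, Fin.ext_iff])
    obtain ⟨i, hi⟩ : ∃ i, i ∉ ({0, 1, j, l} : Finset (Fin (k + 2))) := by
      by_contra hc
      push Not at hc
      have h1 := Finset.card_le_card (s := Finset.univ) fun i _ => hc i
      have h2 : ({0, 1, j, l} : Finset (Fin (k + 2))).card ≤ 4 := Finset.card_le_four
      rw [Finset.card_univ, Fintype.card_fin] at h1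
      omega
    simp only [Finset.mem_insert, Finset.mem_singleton, not_or] at hi
    exact hl (hvanish i l j hi.2.2.2 hi.1 hi.2.1 hl0 hl1 (Ne.symm hi.2.2.1)
      (by simp [j, Fin.ext_iff]) (by simp [j, Fin.ext_iff]))
  by_cases hk2 : k = 2
  · subst hk2
    let p : Fin 4 := 2
    let r : Fin 4 := 3
    have hpp : u (Pi.single p 1) p = 0 := hvanish r p p (by decide) (by decide) (by decide)
      (by decide) (by decide) (by decide) (by decide) (by decide)
    have hrp : u (Pi.single r 1) p + u (Pi.single p 1) r = 0 := by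
      have h := htrans r p (by decide) (by decide) (by decide) (by decide) (by decide)
        _ (hsingle r 1 (by decide)) r (by decide)
      rw [if_pos rfl, Pi.single_eq_same, ← Pi.single_smul, smul_eq_mul, mul_one] at h
      rw [htail _ _ (hsingle r 1 (by decide)) (hsingle p _ (by decide)) r (by decide)] at h
      have h0 : u (Pi.single p (-1)) r = - u (Pi.single p 1) r := by
        have e := htail _ _ (hsingle p 1 (by decide)) (hsingle p (-1) (by decide)) r (by decide)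
        rw [← Pi.single_add, add_neg_cancel, Pi.single_zero, hzero] at e
        exact (neg_eq_of_add_eq_zero_right e.symm).symm
      rw [h0] at h
      linear_combination -h
    obtain ⟨i, hi0, hi1, hi⟩ := hne p (by decide) (by decide)
    have hcases : ∀ i : Fin 4, i ≠ 0 → i ≠ 1 → i = p ∨ i = r := by decide
    obtain rfl : i = r := (hcases i hi0 hi1).resolve_left fun e => hi (e ▸ hpp)
    have h2 : (2 : F) = 0 := by
      have := hsymm r p (by decide) (by decide)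
      exact (mul_eq_zero.1 (show (2 : F) * u (Pi.single p 1) r = 0 by
        linear_combination hrp + this)).resolve_right hi
    apply hexc
    refine ⟨rfl, ?_⟩
    have hall : ∀ s : F, s ≠ 0 → s = 1 := by
      intro s hs
      have hsd := hdiag ![s⁻¹, 1, 1, s] (by simp [Fin.prod_univ_four, hs]) p (by decide) r (by decide)
      simp [p, r] at hsd
      have hs2 : s * s = 1 := by
        refine mul_right_cancel₀ (b := u (Pi.single p 1) r) hi ?_
        show s * s * u (Pi.single (2 : Fin 4) 1) (3 : Fin 4) = 1 * u (Pi.single (2 : Fin 4) 1) (3 : Fin 4)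
        linear_combination -hsd
      rcases mul_self_eq_one_iff.1 hs2 with h | h
      · exact h
      · rw [h]; linear_combination -h2
    have : (Finset.univ : Finset F) = {0, 1} := by
      ext s; by_cases hs : s = 0
      · simp [hs]
      · simp [hall s hs]
    rw [← Finset.card_univ, this, Finset.card_pair zero_ne_one]
  · obtain rfl : k = 1 := by omega
    let p : Fin 3 := 2
    obtain ⟨i, hi0, hi1, hi⟩ := hne p (by decide) (by decide)
    have hcases : ∀ i : Fin 3, i ≠ 0 → i ≠ 1 → i = p := by decide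
    obtain rfl := hcases i hi0 hi1
    have hcube : ∀ s : F, s ≠ 0 → s ^ 3 = 1 := by
      intro s hs
      have h1 := hdiag ![s, s⁻¹, 1] (by simp [Fin.prod_univ_three, hs]) p (by decide) p (by decide)
      have h2 := hdiag ![s⁻¹, 1, s] (by simp [Fin.prod_univ_three, hs]) p (by decide) p (by decide)
      simp [p] at h1 h2
      rw [h1] at h2
      refine mul_right_cancel₀ (b := u (Pi.single p 1) p) hi ?_
      show s ^ 3 * u (Pi.single (2 : Fin 3) 1) (2 : Fin 3) = 1 * u (Pi.single (2 : Fin 3) 1) (2 : Fin 3)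
      field_simp at h2
      linear_combination -h2
    have h2 : (2 : F) = 0 := by
      have := hcube (-1) (neg_ne_zero.2 one_ne_zero)
      linear_combination -this
    exact hi (halt h2 p hi1)

end Cfsg.Agent.MinDeg
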