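import Cfsg.Agent.Lib.MinDeg.Linear

/-!
Both families of transvection subgroups cannot have hyperplanes as point stabilisers
(`not_caseB_caseB`): this is an incidence argument on the lines
`L(y)` annihilated by the axes of the transvections with centre `y` fixing a given point.
-/

set_option autoImplicit false

open Matrix
open scoped MatrixGroups

namespace Cfsg.Agent.MinDeg

variable {F : Type*} [Field F] {n : ℕ} {Ω : Type*}

/-- If a functional-independent pair is given, their span is a plane. -/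
theorem finrank_span_pair {a b : Fin n → F} (ha : a ≠ 0) (hb : b ∉ Submodule.span F {a}) :
    Module.finrank F (Submodule.span F ({a, b} : Set (Fin n → F))) = 2 := by
  have hli : LinearIndependent F ![a, b] := by
    rw [LinearIndependent.pair_iff' ha]
    intro c hc
    exact hb (Submodule.mem_span_singleton.2 ⟨c, hc⟩)
  have := finrank_span_eq_card hli
  rw [Fintype.card_fin, Matrix.range_cons, Matrix.range_cons, Matrix.range_empty,
    Set.union_empty, Set.singleton_union] at this
  exact this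

theorem dot_span_pair {a b φ : Fin n → F} (ha : φ ⬝ᵥ a = 0) (hb : φ ⬝ᵥ b = 0) :
    ∀ x ∈ Submodule.span F ({a, b} : Set (Fin n → F)), x ⬝ᵥ φ = 0 := by
  intro x hx
  obtain ⟨s, t, rfl⟩ := Submodule.mem_span_pair.1 hx
  simp [add_dotProduct, dotProduct_comm a φ, dotProduct_comm b φ, ha, hb]

set_option maxHeartbeats 1000000 in
theorem not_caseB_caseB [Fintype F] [Nonempty Ω] (hn : 3 ≤ n) (ρ : SL(n, F) →* Equiv.Perm Ω)
    (hB : CaseB ρ) (hB' : CaseB (ρ.comp invTranspose)) : False := by
  classical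
  obtain ⟨ω⟩ := ‹Nonempty Ω›
  let R : (Fin n → F) → (Fin n → F) → Prop := fun v φ => φ ⬝ᵥ v = 0 ∧ Fixes ρ v φ ω
  have hrow : ∀ v : Fin n → F, v ≠ 0 → ∃ ψ, ψ ∉ Submodule.span F {v} ∧
      ∀ φ, R v φ ↔ φ ⬝ᵥ v = 0 ∧ φ ⬝ᵥ ψ = 0 := by
    intro v hv
    obtain ⟨ψ, h1, h2⟩ := hB' v hv ω
    refine ⟨ψ, h1, fun φ => and_congr_right fun h => ?_⟩
    rw [dotProduct_comm] at h
    rw [← fixes_comp_invTranspose h, h2 φ h, dotProduct_comm]
  choose! ψ hψ1 hψ2 using hrow
  have hcol : ∀ φ : Fin n → F, φ ≠ 0 → ∃ χ, χ ∉ Submodule.span F {φ} ∧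
      ∀ v, R v φ ↔ φ ⬝ᵥ v = 0 ∧ χ ⬝ᵥ v = 0 := by
    intro φ hφ
    obtain ⟨χ, h1, h2⟩ := hB φ hφ ω
    exact ⟨χ, h1, fun v => and_congr_right fun h => h2 v h⟩
  -- linearity in the centre
  have hsub : ∀ v v' φ, R v φ → R v' φ → ∀ s : F, R (v' + s • v) φ := by
    intro v v' φ h h' s
    by_cases hφ : φ = 0
    · subst hφ
      refine ⟨zero_dotProduct _, ?_⟩
      show ρ _ ω = ω
      rw [tv_zero_right, map_one]; rfl
    obtain ⟨χ, -, hχ⟩ := hcol φ hφ
    rw [hχ] at h h' ⊢
    simp [dotProduct_add, h.1, h.2, h'.1, h'.2]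
  let L : (Fin n → F) → Submodule F (Fin n → F) := fun v => Submodule.span F {v, ψ v}
  have hLdim : ∀ v, v ≠ 0 → Module.finrank F (L v) = 2 := fun v hv =>
    finrank_span_pair hv (hψ1 v hv)
  have hLmem : ∀ v, v ∈ L v := fun v => Submodule.subset_span (Set.mem_insert _ _)
  have hRL : ∀ v, v ≠ 0 → ∀ φ, R v φ ↔ ∀ x ∈ L v, x ⬝ᵥ φ = 0 := by
    intro v hv φ
    rw [hψ2 v hv]
    constructor
    · exact fun h => dot_span_pair h.1 h.2
    · intro h
      exact ⟨by rw [dotProduct_comm]; exact h v (hLmem v),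
        by rw [dotProduct_comm]; exact h _ (Submodule.subset_span (Set.mem_insert_of_mem _ rfl))⟩
  -- moving centres by a transvection fixing ω
  have htrans : ∀ y z χ φ : Fin n → F, R y φ → R z χ → ∀ s : F,
      R (z + (s * (φ ⬝ᵥ z)) • y) (χ - (s * (χ ⬝ᵥ y)) • φ) := by
    intro y z χ φ hy hz s
    have h0 : φ ⬝ᵥ (s • y) = 0 := by rw [dotProduct_smul, hy.1, smul_zero]
    have hfix : ρ (tv (s • y) φ) ω = ω := by
      have := (hsub y 0 φ hy ⟨dotProduct_zero φ, by
        show ρ _ ω = ω; rw [tv_zero_left, map_one]; rfl⟩ s).2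
      rw [zero_add] at this; exact this
    have e := tv_conj (tv (s • y) φ) z χ
    rw [tv_mulVec h0, ← tv_neg_left h0, vecMul_tv (by rw [dotProduct_neg, h0, neg_zero]),
      smul_smul, dotProduct_neg, dotProduct_smul, smul_eq_mul, neg_smul, ← sub_eq_add_neg,
      mul_comm (φ ⬝ᵥ z) s] at e
    refine ⟨?_, ?_⟩
    · rw [sub_dotProduct, dotProduct_add, dotProduct_add, dotProduct_smul, smul_dotProduct,
        dotProduct_smul, smul_dotProduct, hz.1, hy.1]
      simp only [smul_eq_mul]; ring
    · show ρ _ ω = ω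
      rw [← e, tv_neg_left h0, map_mul, map_mul, map_inv, Equiv.Perm.mul_apply,
        Equiv.Perm.mul_apply, Equiv.Perm.inv_eq_iff_eq.2 hfix.symm, hz.2, hfix]
  have hmeet : ∀ y z, y ≠ 0 → z ≠ 0 → z ∉ L y →
      ∃ c ∈ L y, c ∈ L z ∧ c ≠ 0 := by
    intro y z hy hz hzy
    obtain ⟨φ, hφ, hφz⟩ := exists_dot hzy
    rw [dotProduct_comm] at hφz
    have hRy : R y φ := (hRL y hy φ).2 hφ
    have hmem : ψ y ∈ L z ⊔ Submodule.span F {y} := by
      refine mem_of_forall_dot fun χ hχ => ?_
      have hχy : χ ⬝ᵥ y = 0 := by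
        rw [dotProduct_comm]
        exact hχ y (Submodule.mem_sup_right (Submodule.mem_span_singleton_self y))
      have h1 : R z χ := (hRL z hz χ).2 fun x hx => hχ x (Submodule.mem_sup_left hx)
      have h2 := htrans y z χ φ hRy h1 1
      rw [hχy, hφz, mul_zero, zero_smul, sub_zero, mul_one, one_smul] at h2
      have h3 := hsub z (z + y) χ h1 h2 (-1)
      rw [neg_one_smul, add_neg_cancel_comm] at h3
      exact (hRL y hy χ).1 h3 _ (Submodule.subset_span (Set.mem_insert_of_mem _ rfl))
    obtain ⟨c, hc, w, hw, hcw⟩ := Submodule.mem_sup.1 hmem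
    obtain ⟨t, rfl⟩ := Submodule.mem_span_singleton.1 hw
    refine ⟨c, ?_, hc, fun hc0 => ?_⟩
    · rw [eq_sub_of_add_eq hcw]
      exact Submodule.sub_mem _ (Submodule.subset_span (Set.mem_insert_of_mem _ rfl))
        (Submodule.smul_mem _ t (hLmem y))
    · exact hψ1 y hy (Submodule.mem_span_singleton.2 ⟨t, by rw [← hcw, hc0, zero_add]⟩)
  by_cases hn3 : n = 3
  · subst hn3
    -- the centres belonging to one axis form a line
    have hinj : ∀ v v' φ, φ ≠ 0 → v ≠ 0 → R v φ → R v' φ → v' ∈ Submodule.span F {v} := by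
      intro v v' φ hφ hv h h'
      by_contra hn'
      obtain ⟨χ, hχ, hχ'⟩ := hcol φ hφ
      rw [hχ'] at h h'
      obtain ⟨w, hw1, hw2⟩ := exists_dot hχ
      have hwn : w ∉ Submodule.span F ({v, v'} : Set (Fin 3 → F)) := fun hw => by
        have := dot_span_pair h.2 h'.2 w hw
        rw [dotProduct_comm, hw2] at this
        exact one_ne_zero this
      have htop : Submodule.span F ({v, v'} : Set (Fin 3 → F)) ⊔ Submodule.span F {w} = ⊤ := by
        apply Submodule.eq_top_of_finrank_eq
        have hlt : Submodule.span F ({v, v'} : Set (Fin 3 → F)) <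
            Submodule.span F ({v, v'} : Set (Fin 3 → F)) ⊔ Submodule.span F {w} :=
          lt_of_le_of_ne le_sup_left fun e =>
            hwn (e ▸ Submodule.mem_sup_right (Submodule.mem_span_singleton_self w))
        have h1 := Submodule.finrank_lt_finrank_of_lt hlt
        have h2 := Submodule.finrank_le
          (Submodule.span F ({v, v'} : Set (Fin 3 → F)) ⊔ Submodule.span F {w})
        rw [finrank_span_pair hv hn'] at h1
        rw [Module.finrank_fintype_fun_eq_card, Fintype.card_fin] at h2 ⊢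
        omega
      apply hφ
      refine dotProduct_eq_zero φ fun x => ?_
      have hx : x ∈ Submodule.span F ({v, v'} : Set (Fin 3 → F)) ⊔ Submodule.span F {w} :=
        htop ▸ Submodule.mem_top
      obtain ⟨a, ha, b, hb, rfl⟩ := Submodule.mem_sup.1 hx
      obtain ⟨t, rfl⟩ := Submodule.mem_span_singleton.1 hb
      rw [dotProduct_add, dotProduct_comm, dot_span_pair h.1 h'.1 a ha, zero_add, dotProduct_smul,
        hw1 φ (Submodule.mem_span_singleton_self φ), smul_zero]
    have hax : ∀ v, v ≠ 0 → ∃ φ, φ ≠ 0 ∧ ∀ x ∈ L v, x ⬝ᵥ φ = 0 := by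
      intro v hv
      obtain ⟨x, hx⟩ : ∃ x, x ∉ L v := by
        by_contra hc
        push Not at hc
        have h1 := hLdim v hv
        rw [show L v = ⊤ from eq_top_iff.2 fun x _ => hc x, finrank_top,
          Module.finrank_fintype_fun_eq_card, Fintype.card_fin] at h1
        omega
      obtain ⟨φ, h1, h2⟩ := exists_dot hx
      exact ⟨φ, fun h => by rw [h, dotProduct_zero] at h2; exact zero_ne_one h2, h1⟩
    have hLinj : ∀ v v', v ≠ 0 → v' ≠ 0 → L v = L v' → v' ∈ Submodule.span F {v} := by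
      intro v v' hv hv' hL
      obtain ⟨φ, hφ, hφ'⟩ := hax v hv
      exact hinj v v' φ hφ hv ((hRL v hv φ).2 hφ') ((hRL v' hv' φ).2 (hL ▸ hφ'))
    have hLeq : ∀ v a b, v ≠ 0 → a ∈ L v → b ∈ L v → a ≠ 0 → b ∉ Submodule.span F {a} →
        L v = Submodule.span F {a, b} := by
      intro v a b hv ha hb ha0 hb'
      refine (Submodule.eq_of_le_of_finrank_eq (Submodule.span_le.2 ?_) ?_).symm
      · rintro x (rfl | rfl)
        exacts [ha, hb]
      · rw [hLdim v hv, finrank_span_pair ha0 hb']
    obtain ⟨y, hy⟩ : ∃ y : Fin 3 → F, y ≠ 0 := exists_ne 0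
    obtain ⟨φ₀, hφ₀, hφ₀L⟩ := hax y hy
    obtain ⟨z, hzy⟩ : ∃ z, z ∉ L y := by
      by_contra hc
      push Not at hc
      exact hφ₀ (dotProduct_eq_zero φ₀ fun x => by rw [dotProduct_comm]; exact hφ₀L x (hc x))
    have hz : z ≠ 0 := fun h => hzy (h ▸ Submodule.zero_mem _)
    -- we may assume y ∉ L z
    obtain ⟨z, hzy, hz, hyz⟩ : ∃ z, z ∉ L y ∧ z ≠ 0 ∧ y ∉ L z := by
      by_cases hyz : y ∈ L z
      swap
      · exact ⟨z, hzy, hz, hyz⟩
      have hzy' : z + y ∉ L y := fun h => hzy (by simpa using Submodule.sub_mem _ h (hLmem y))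
      have hz' : z + y ≠ 0 := fun h => hzy' (h ▸ Submodule.zero_mem _)
      refine ⟨z + y, hzy', hz', fun hyz' => ?_⟩
      have hy_z : z ∉ Submodule.span F {y} := fun h =>
        hzy ((Submodule.span_le.2 (Set.singleton_subset_iff.2 (hLmem y))) h)
      have e1 := hLeq z y z hz hyz (hLmem z) hy hy_z
      have hz_mem : z ∈ L (z + y) := by
        simpa using Submodule.sub_mem _ (hLmem (z + y)) hyz'
      have e2 := hLeq (z + y) y z hz' hyz' hz_mem hy hy_z
      obtain ⟨t, ht⟩ := Submodule.mem_span_singleton.1 (hLinj z (z + y) hz hz' (e1.trans e2.symm))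
      have hyz2 : y = (t - 1) • z := by
        rw [sub_smul, one_smul, ht, add_sub_cancel_left]
      refine hy_z (Submodule.mem_span_singleton.2 ⟨(t - 1)⁻¹, ?_⟩)
      rw [hyz2, inv_smul_smul₀]
      intro h0
      exact hy (by rw [hyz2, h0, zero_smul])
    obtain ⟨c, hcy, hcz, hc0⟩ := hmeet y z hy hz hzy
    obtain ⟨φ, hφ, hφz⟩ := exists_dot hzy
    rw [dotProduct_comm] at hφz
    have hcW : c ∉ Submodule.span F ({y, z} : Set (Fin 3 → F)) := by
      intro hc
      obtain ⟨a, b, hab⟩ := Submodule.mem_span_pair.1 hc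
      by_cases hb : b = 0
      · rw [hb, zero_smul, add_zero] at hab
        apply hyz
        have ha : a ≠ 0 := fun h => hc0 (by rw [← hab, h, zero_smul])
        rw [← inv_smul_smul₀ ha y, hab]
        exact Submodule.smul_mem _ _ hcz
      · apply hzy
        have : b • z = c - a • y := eq_sub_of_add_eq' hab
        rw [← inv_smul_smul₀ hb z, this]
        exact Submodule.smul_mem _ _ (Submodule.sub_mem _ hcy (Submodule.smul_mem _ _ (hLmem y)))
    have htop : ∀ x, ∃ a b d : F, x = a • y + b • z + d • c := by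
      intro x
      have hy_z : z ∉ Submodule.span F {y} := fun h =>
        hzy ((Submodule.span_le.2 (Set.singleton_subset_iff.2 (hLmem y))) h)
      have htop : Submodule.span F ({y, z} : Set (Fin 3 → F)) ⊔ Submodule.span F {c} = ⊤ := by
        apply Submodule.eq_top_of_finrank_eq
        have hlt : Submodule.span F ({y, z} : Set (Fin 3 → F)) <
            Submodule.span F ({y, z} : Set (Fin 3 → F)) ⊔ Submodule.span F {c} :=
          lt_of_le_of_ne le_sup_left fun e =>
            hcW (e ▸ Submodule.mem_sup_right (Submodule.mem_span_singleton_self c))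
        have h1 := Submodule.finrank_lt_finrank_of_lt hlt
        have h2 := Submodule.finrank_le
          (Submodule.span F ({y, z} : Set (Fin 3 → F)) ⊔ Submodule.span F {c})
        rw [finrank_span_pair hy hy_z] at h1
        rw [Module.finrank_fintype_fun_eq_card, Fintype.card_fin] at h2 ⊢
        omega
      have hx : x ∈ Submodule.span F ({y, z} : Set (Fin 3 → F)) ⊔ Submodule.span F {c} :=
        htop ▸ Submodule.mem_top
      obtain ⟨p, hp, r, hr, rfl⟩ := Submodule.mem_sup.1 hx
      obtain ⟨a, b, rfl⟩ := Submodule.mem_span_pair.1 hp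
      obtain ⟨d, rfl⟩ := Submodule.mem_span_singleton.1 hr
      exact ⟨a, b, d, rfl⟩
    have hscale : ∀ v (t : F), v ≠ 0 → t ≠ 0 → L (t • v) = L v := by
      intro v t hv ht
      have htv : t • v ≠ 0 := smul_ne_zero ht hv
      have key : ∀ φ, R (t • v) φ ↔ R v φ := by
        intro φ
        have hz0 : R 0 φ := ⟨dotProduct_zero φ, by
          show ρ _ ω = ω; rw [tv_zero_left, map_one]; rfl⟩
        constructor
        · intro h
          have := hsub _ 0 φ h hz0 t⁻¹
          rwa [zero_add, inv_smul_smul₀ ht] at this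
        · intro h
          have := hsub _ 0 φ h hz0 t
          rwa [zero_add] at this
      apply le_antisymm <;> intro x hx <;> refine mem_of_forall_dot fun χ hχ => ?_
      · exact (hRL (t • v) htv χ).1 ((key χ).2 ((hRL v hv χ).2 hχ)) x hx
      · exact (hRL v hv χ).1 ((key χ).1 ((hRL (t • v) htv χ).2 hχ)) x hx
    have hcsy : ∀ s : F, c ∈ L (z + s • y) := by
      intro s
      have hzs : z + s • y ≠ 0 := fun h => hzy (by
        rw [eq_neg_of_add_eq_zero_left h]
        exact Submodule.neg_mem _ (Submodule.smul_mem _ _ (hLmem y)))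
      obtain ⟨χ, hχ0, hχL⟩ := hax z hz
      have h1 := htrans y z χ φ ((hRL y hy φ).2 hφ) ((hRL z hz χ).2 hχL) s
      rw [hφz, mul_one] at h1
      have hχz : χ ⬝ᵥ z = 0 := by rw [dotProduct_comm]; exact hχL z (hLmem z)
      have hχ'0 : χ - (s * (χ ⬝ᵥ y)) • φ ≠ 0 := by
        intro h
        have := congrArg (fun f => f ⬝ᵥ z) h
        rw [sub_dotProduct, smul_dotProduct, hφz, hχz, zero_dotProduct, smul_eq_mul, mul_one,
          zero_sub, neg_eq_zero] at this
        rw [this, zero_smul, sub_zero] at h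
        exact hχ0 h
      have hχ'c : c ⬝ᵥ (χ - (s * (χ ⬝ᵥ y)) • φ) = 0 := by
        rw [dotProduct_sub, dotProduct_smul, hχL c hcz, hφ c hcy, smul_zero, sub_zero]
      by_contra hcn
      obtain ⟨χ'', hdd, hdd'⟩ := exists_dot hcn
      -- the plane L (z + s • y) together with c is everything
      apply hχ'0
      have hall := (hRL _ hzs _).1 h1
      have htop' : L (z + s • y) ⊔ Submodule.span F {c} = ⊤ := by
        apply Submodule.eq_top_of_finrank_eq
        have hlt : L (z + s • y) < L (z + s • y) ⊔ Submodule.span F {c} :=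
          lt_of_le_of_ne le_sup_left fun e =>
            hcn (e ▸ Submodule.mem_sup_right (Submodule.mem_span_singleton_self c))
        have h1 := Submodule.finrank_lt_finrank_of_lt hlt
        have h2 := Submodule.finrank_le (L (z + s • y) ⊔ Submodule.span F {c})
        rw [hLdim _ hzs] at h1
        rw [Module.finrank_fintype_fun_eq_card, Fintype.card_fin] at h2 ⊢
        omega
      refine dotProduct_eq_zero _ fun x => ?_
      have hx : x ∈ L (z + s • y) ⊔ Submodule.span F {c} := htop' ▸ Submodule.mem_top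
      obtain ⟨a, ha, b, hb, rfl⟩ := Submodule.mem_sup.1 hx
      obtain ⟨t, rfl⟩ := Submodule.mem_span_singleton.1 hb
      rw [dotProduct_add, dotProduct_comm, hall a ha, zero_add, dotProduct_smul, dotProduct_comm,
        hχ'c, smul_zero]
    obtain ⟨a, b, d, habd⟩ := htop (ψ c)
    have hu0 : a • y + b • z ≠ 0 := by
      intro h
      rw [h, zero_add] at habd
      exact hψ1 c hc0 (Submodule.mem_span_singleton.2 ⟨d, habd.symm⟩)
    have hcu : c ∈ L (a • y + b • z) := by
      by_cases hb : b = 0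
      · have ha : a ≠ 0 := fun h => hu0 (by rw [h, hb, zero_smul, zero_smul, add_zero])
        rw [hb, zero_smul, add_zero, hscale y a hy ha]
        exact hcy
      · have e : a • y + b • z = b • (z + (a / b) • y) := by
          rw [smul_add, smul_smul, mul_div_cancel₀ _ hb, add_comm]
        rw [e, hscale _ b (fun h => hzy (by
          rw [eq_neg_of_add_eq_zero_left h]
          exact Submodule.neg_mem _ (Submodule.smul_mem _ _ (hLmem y)))) hb]
        exact hcsy _
    have huW : a • y + b • z ∈ Submodule.span F ({y, z} : Set (Fin 3 → F)) :=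
      Submodule.mem_span_pair.2 ⟨a, b, rfl⟩
    have hu_c : a • y + b • z ∉ Submodule.span F {c} := by
      intro h
      obtain ⟨t, ht⟩ := Submodule.mem_span_singleton.1 h
      have ht0 : t ≠ 0 := fun h0 => hu0 (by rw [← ht, h0, zero_smul])
      apply hcW
      rw [← inv_smul_smul₀ ht0 c, ht]
      exact Submodule.smul_mem _ _ huW
    have huLc : a • y + b • z ∈ L c := by
      have : a • y + b • z = ψ c - d • c := eq_sub_of_add_eq habd.symm
      rw [this]
      exact Submodule.sub_mem _ (Submodule.subset_span (Set.mem_insert_of_mem _ rfl))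
        (Submodule.smul_mem _ _ (hLmem c))
    have e1 := hLeq c c _ hc0 (hLmem c) huLc hc0 hu_c
    have e2 := hLeq _ c _ hu0 hcu (hLmem _) hc0 hu_c
    exact hu_c (hLinj c _ hc0 hu0 (e1.trans e2.symm))
  · -- pairwise meeting lines in dimension ≥ 4
    have hmeet' : ∀ y z, y ≠ 0 → z ≠ 0 → ∃ c ∈ L y, c ∈ L z ∧ c ≠ 0 := by
      intro y z hy hz
      by_cases hzy : z ∈ L y
      · exact ⟨z, hzy, hLmem z, hz⟩
      · exact hmeet y z hy hz hzy
    haveI : Nonempty (Fin n) := ⟨⟨0, by omega⟩⟩
    obtain ⟨y₁, hy₁⟩ : ∃ y : Fin n → F, y ≠ 0 := exists_ne 0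
    have htopn : Module.finrank F (⊤ : Submodule F (Fin n → F)) = n := by
      rw [finrank_top, Module.finrank_fintype_fun_eq_card, Fintype.card_fin]
    obtain ⟨y₂, hy₂, hne⟩ : ∃ y₂, y₂ ≠ 0 ∧ y₂ ∉ L y₁ := by
      by_contra hc
      push Not at hc
      have htop : L y₁ = ⊤ := eq_top_iff.2 fun x _ => by
        by_cases hx : x = 0
        · exact hx ▸ Submodule.zero_mem _
        · exact hc x hx
      have := hLdim y₁ hy₁
      rw [htop, htopn] at this
      omega
    let P := L y₁ ⊔ L y₂
    obtain ⟨c, hc1, hc2, hc0⟩ := hmeet' y₁ y₂ hy₁ hy₂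
    have hinf : ∀ x ∈ L y₁, x ∈ L y₂ → x ∈ Submodule.span F {c} := by
      intro x hx1 hx2
      by_contra hx
      have e : ∀ i, i ≠ (0 : Fin n → F) → c ∈ L i → x ∈ L i →
          L i = Submodule.span F {c, x} := by
        intro i hi h1 h2
        refine (Submodule.eq_of_le_of_finrank_eq (Submodule.span_le.2 ?_) ?_).symm
        · rintro z (rfl | rfl)
          exacts [h1, h2]
        · rw [hLdim i hi, finrank_span_pair hc0 hx]
      exact hne ((e y₂ hy₂ hc2 hx2).trans (e y₁ hy₁ hc1 hx1).symm ▸ hLmem y₂)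
    have hP : Module.finrank F P ≤ 3 := by
      have h := Submodule.finrank_sup_add_finrank_inf_eq (L y₁) (L y₂)
      rw [hLdim _ hy₁, hLdim _ hy₂] at h
      have h1 : 1 ≤ Module.finrank F (L y₁ ⊓ L y₂ : Submodule F (Fin n → F)) := by
        rw [Submodule.one_le_finrank_iff]
        intro e
        exact hc0 (by
          have : c ∈ L y₁ ⊓ L y₂ := ⟨hc1, hc2⟩
          rw [e] at this; exact (Submodule.mem_bot F).1 this)
      show Module.finrank F (L y₁ ⊔ L y₂ : Submodule F (Fin n → F)) ≤ 3
      omega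
    have hdich : ∀ v, v ≠ 0 → c ∈ L v ∨ L v ≤ P := by
      intro v hv
      by_cases hcv : c ∈ L v
      · exact Or.inl hcv
      obtain ⟨c₁, h11, h12, h10⟩ := hmeet' y₁ v hy₁ hv
      obtain ⟨c₂, h21, h22, h20⟩ := hmeet' y₂ v hy₂ hv
      by_cases h : c₂ ∈ Submodule.span F {c₁}
      · exfalso
        obtain ⟨t, ht⟩ := Submodule.mem_span_singleton.1 h
        have ht0 : t ≠ 0 := fun h0 => h20 (by rw [← ht, h0, zero_smul])
        have hc₁ : c₁ ∈ L y₂ := by
          rw [← inv_smul_smul₀ ht0 c₁, ht]; exact Submodule.smul_mem _ _ h21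
        obtain ⟨u, hu⟩ := Submodule.mem_span_singleton.1 (hinf c₁ h11 hc₁)
        have hu0 : u ≠ 0 := fun h0 => h10 (by rw [← hu, h0, zero_smul])
        exact hcv (by rw [← inv_smul_smul₀ hu0 c, hu]; exact Submodule.smul_mem _ _ h12)
      · right
        have : L v = Submodule.span F {c₁, c₂} := by
          refine (Submodule.eq_of_le_of_finrank_eq (Submodule.span_le.2 ?_) ?_).symm
          · rintro z (rfl | rfl)
            exacts [h12, h22]
          · rw [hLdim v hv, finrank_span_pair h10 h]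
        rw [this, Submodule.span_le]
        rintro z (rfl | rfl)
        exacts [Submodule.mem_sup_left h11, Submodule.mem_sup_right h21]
    obtain ⟨x, hx⟩ : ∃ x, x ∉ P := by
      by_contra hc'
      push Not at hc'
      have hPtop : P = ⊤ := eq_top_iff.2 fun x _ => hc' x
      rw [hPtop, htopn] at hP
      omega
    have hx0 : x ≠ 0 := fun h => hx (h ▸ Submodule.zero_mem _)
    have hcx : c ∈ L x := (hdich x hx0).resolve_right fun h => hx (h (hLmem x))
    have hcall : ∀ v, v ≠ 0 → c ∈ L v := by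
      intro v hv
      rcases hdich v hv with h | h
      · exact h
      obtain ⟨e, he1, he2, he0⟩ := hmeet' x v hx0 hv
      have he : e ∈ Submodule.span F {c} := by
        by_contra he
        have : L x = Submodule.span F {c, e} := by
          refine (Submodule.eq_of_le_of_finrank_eq (Submodule.span_le.2 ?_) ?_).symm
          · rintro z (rfl | rfl)
            exacts [hcx, he1]
          · rw [hLdim x hx0, finrank_span_pair hc0 he]
        apply hx
        have hle : L x ≤ P := by
          rw [this, Submodule.span_le]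
          rintro z (rfl | rfl)
          exacts [Submodule.mem_sup_left hc1, h he2]
        exact hle (hLmem x)
      obtain ⟨t, ht⟩ := Submodule.mem_span_singleton.1 he
      have ht0 : t ≠ 0 := fun h0 => he0 (by rw [← ht, h0, zero_smul])
      rw [← inv_smul_smul₀ ht0 c, ht]
      exact Submodule.smul_mem _ _ he2
    obtain ⟨φ, -, hφc⟩ := exists_dot
      (S := ⊥) (show c ∉ (⊥ : Submodule F (Fin n → F)) by simpa using hc0)
    have hφ0 : φ ≠ 0 := fun h => by rw [h, dotProduct_zero] at hφc; exact zero_ne_one hφc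
    obtain ⟨χ, -, hχ'⟩ := hcol φ hφ0
    obtain ⟨v, hv, hvv⟩ : ∃ v : Fin n → F, v ≠ 0 ∧ φ ⬝ᵥ v = 0 ∧ χ ⬝ᵥ v = 0 := by
      obtain ⟨z, hz⟩ : ∃ z, z ∉ Submodule.span F ({φ, χ} : Set (Fin n → F)) := by
        by_contra hc'
        push Not at hc'
        have htop : Submodule.span F ({φ, χ} : Set (Fin n → F)) = ⊤ :=
          eq_top_iff.2 fun x _ => hc' x
        have h1 := finrank_span_le_card (R := F) ({φ, χ} : Set (Fin n → F))
        have h2 : ({φ, χ} : Set (Fin n → F)).toFinset.card ≤ 2 := by
          simpa using Finset.card_le_two (a := φ) (b := χ)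
        rw [htop, htopn] at h1
        omega
      obtain ⟨v, h1, h2⟩ := exists_dot hz
      exact ⟨v, fun h => by rw [h, dotProduct_zero] at h2; exact zero_ne_one h2,
        h1 _ (Submodule.subset_span (Set.mem_insert _ _)),
        h1 _ (Submodule.subset_span (Set.mem_insert_of_mem _ rfl))⟩
    have := (hRL v hv φ).1 ((hχ' v).2 hvv) c (hcall v hv)
    rw [hφc] at this
    exact one_ne_zero this

end Cfsg.Agent.MinDeg
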