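import Cfsg.Agent.Lib.MinDeg.Transvection

/-!
Permutation representations of small degree of the additive group `W = F^k`, normalised by all
transvections of `W`: if the degree is at most `q (q^k - 1)/(q - 1)` then either there is a
single regular orbit and every other point is fixed, or equality holds and the point stabilisers
are exactly the hyperplanes.
-/

set_option autoImplicit false

open Matrix

namespace Cfsg.Agent.MinDeg

variable {F : Type*} [Field F] [Fintype F] {k : ℕ}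

open Classical in
/-- The annihilator of an additive subgroup with respect to an additive character. -/
noncomputable def perp (ψ : AddChar F ℂ) (K : AddSubgroup (Fin k → F)) : Finset (Fin k → F) :=
  Finset.univ.filter fun φ => ∀ w ∈ K, ψ (φ ⬝ᵥ w) = 1

omit [Fintype F] in
theorem sum_char_addSubgroup {A : Type*} [AddGroup A] [Fintype A] {χ : A → ℂ}
    (hadd : ∀ a b, χ (a + b) = χ a * χ b) {b : A} (hb : χ b ≠ 1) : ∑ a, χ a = 0 := by
  have h : ∑ a, χ (b + a) = ∑ a, χ a :=
    Fintype.sum_bijective (fun a => b + a) (AddGroup.addLeft_bijective b) _ _ (fun _ => rfl)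
  simp_rw [hadd, ← Finset.mul_sum] at h
  by_contra h0
  exact hb (mul_right_cancel₀ h0 (by rw [h, one_mul]))

theorem card_perp_mul_card {ψ : AddChar F ℂ} (hψ : ψ.IsPrimitive)
    (K : AddSubgroup (Fin k → F)) :
    (perp ψ K).card * Nat.card K = Fintype.card F ^ k := by
  classical
  have h1 : ∀ φ : Fin k → F,
      ∑ w : K, ψ (φ ⬝ᵥ (w : Fin k → F)) = if φ ∈ perp ψ K then (Nat.card K : ℂ) else 0 := by
    intro φ
    split_ifs with h
    · simp only [perp, Finset.mem_filter, Finset.mem_univ, true_and] at h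
      rw [Finset.sum_congr rfl fun (w : K) _ => h w w.2]
      simp [Nat.card_eq_fintype_card]
    · simp only [perp, Finset.mem_filter, Finset.mem_univ, true_and] at h
      push Not at h
      obtain ⟨w, hw, hne⟩ := h
      refine sum_char_addSubgroup (χ := fun w : K => ψ (φ ⬝ᵥ (w : Fin k → F))) ?_ (b := ⟨w, hw⟩) hne
      intro a b
      simp [dotProduct_add, AddChar.map_add_eq_mul]
  have h2 : ∀ w : K, ∑ φ : Fin k → F, ψ (φ ⬝ᵥ (w : Fin k → F)) =
      if w = 0 then ((Fintype.card F ^ k : ℕ) : ℂ) else 0 := by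
    intro w
    split_ifs with h
    · subst h; simp
    · have hw : (w : Fin k → F) ≠ 0 := fun e => h (Subtype.ext e)
      obtain ⟨i, hi⟩ := Function.ne_iff.1 hw
      obtain ⟨a, ha⟩ := AddChar.ne_one_iff.1 (hψ hi)
      refine sum_char_addSubgroup (χ := fun φ => ψ (φ ⬝ᵥ (w : Fin k → F))) ?_
        (b := Pi.single i a) ?_
      · intro a b; simp [add_dotProduct, AddChar.map_add_eq_mul]
      · simpa [AddChar.mulShift_apply, mul_comm] using ha
  have h3 : ∑ φ : Fin k → F, ∑ w : K, ψ (φ ⬝ᵥ (w : Fin k → F)) =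
      ∑ w : K, ∑ φ : Fin k → F, ψ (φ ⬝ᵥ (w : Fin k → F)) := Finset.sum_comm
  simp_rw [h1, h2] at h3
  rw [Finset.sum_ite_mem, Finset.univ_inter, Finset.sum_const, nsmul_eq_mul,
    Finset.sum_ite_eq', if_pos (Finset.mem_univ _)] at h3
  exact_mod_cast h3

variable {Ω : Type*} [Fintype Ω]

/-- The stabiliser of a point in `W`. -/
def stab (τ : (Fin k → F) → Equiv.Perm Ω) (hadd : ∀ a b, τ (a + b) = τ a * τ b) (ω : Ω) :
    AddSubgroup (Fin k → F) where
  carrier := {w | τ w ω = ω}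
  zero_mem' := by
    have : τ 0 = 1 := by
      have := hadd 0 0; rw [add_zero] at this; exact left_eq_mul.1 this
    simp [this]
  add_mem' {a b} ha hb := by
    show τ (a + b) ω = ω
    rw [hadd, Equiv.Perm.mul_apply, hb, ha]
  neg_mem' {a} ha := by
    show τ (-a) ω = ω
    have h0 : τ (-a + a) ω = ω := by
      rw [neg_add_cancel]
      have : τ 0 = 1 := by
        have := hadd 0 0; rw [add_zero] at this; exact left_eq_mul.1 this
      simp [this]
    rwa [hadd, Equiv.Perm.mul_apply, ha] at h0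

omit [Fintype Ω] in
theorem card_orbit_mul [DecidableEq Ω] (τ : (Fin k → F) → Equiv.Perm Ω)
    (hadd : ∀ a b, τ (a + b) = τ a * τ b) (ω : Ω) :
    (Finset.univ.image fun w => τ w ω).card * Nat.card (stab τ hadd ω) = Fintype.card F ^ k := by
  classical
  have h := Finset.card_eq_sum_card_image (fun w => τ w ω) (Finset.univ : Finset (Fin k → F))
  rw [Finset.card_univ, Fintype.card_fun, Fintype.card_fin] at h
  rw [h, Finset.sum_congr rfl (g := fun _ => Nat.card (stab τ hadd ω)), Finset.sum_const,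
    smul_eq_mul]
  intro x hx
  obtain ⟨w₀, -, rfl⟩ := Finset.mem_image.1 hx
  rw [Nat.card_eq_fintype_card, ← Finset.card_univ]
  refine Finset.card_bij' (fun w hw => ⟨-w₀ + w, ?_⟩) (fun w _ => w₀ + (w : Fin k → F)) ?_ ?_ ?_ ?_
  · have hw' : τ w ω = τ w₀ ω := (Finset.mem_filter.1 hw).2
    show τ (-w₀ + w) ω = ω
    rw [hadd, Equiv.Perm.mul_apply, hw', ← Equiv.Perm.mul_apply, ← hadd, neg_add_cancel]
    exact (stab τ hadd ω).zero_mem
  · intro w hw; exact Finset.mem_univ _
  · intro w hw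
    refine Finset.mem_filter.2 ⟨Finset.mem_univ _, ?_⟩
    rw [hadd, Equiv.Perm.mul_apply, w.2]
  · intro w hw; simp
  · intro w hw; ext1; simp

/-- The two possibilities for a small permutation representation of `F^k` normalised by the
transvections. -/
theorem orbit_dichotomy (hk : 2 ≤ k) (τ : (Fin k → F) → Equiv.Perm Ω)
    (hadd : ∀ a b, τ (a + b) = τ a * τ b) (hnt : ∃ w, τ w ≠ 1)
    (hsym : ∀ χ f : Fin k → F, f ⬝ᵥ χ = 0 →
      ∃ π : Equiv.Perm Ω, ∀ w, π * τ w = τ (w + (f ⬝ᵥ w) • χ) * π)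
    (hM : Fintype.card Ω * (Fintype.card F - 1) ≤
      Fintype.card F * (Fintype.card F ^ k - 1)) :
    (∃ ω₀, (∀ w, τ w ω₀ = ω₀ → w = 0) ∧ ∀ ω, (∀ w, τ w ω = ω) ∨ ∃ w, τ w ω₀ = ω) ∨
      (Fintype.card Ω * (Fintype.card F - 1) = Fintype.card F * (Fintype.card F ^ k - 1) ∧
        ∀ ω, ∃ φ : Fin k → F, φ ≠ 0 ∧ ∀ w, τ w ω = ω ↔ φ ⬝ᵥ w = 0) := by
  classical
  obtain ⟨q, hq⟩ : ∃ q, q = Fintype.card F := ⟨_, rfl⟩
  have hq2 : 2 ≤ q := hq ▸ Fintype.one_lt_card
  obtain ⟨ψ, hψ⟩ : ∃ ψ : AddChar F ℂ, ψ.IsPrimitive :=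
    ⟨_, AddChar.FiniteField.primitiveChar_to_Complex_isPrimitive F⟩
  let S := fun ω => stab τ hadd ω
  let P := fun ω => perp ψ (S ω)
  have hmemP : ∀ {φ ω}, φ ∈ P ω ↔ ∀ w, τ w ω = ω → ψ (φ ⬝ᵥ w) = 1 := by
    intro φ ω; simp only [P, perp, Finset.mem_filter, Finset.mem_univ, true_and]; rfl
  have horb : ∀ ω, (Finset.univ.image fun w => τ w ω).card = (P ω).card := by
    intro ω
    have h1 := card_orbit_mul τ hadd ω
    have h2 := card_perp_mul_card hψ (S ω)
    exact Nat.eq_of_mul_eq_mul_right Nat.card_pos (h1.trans h2.symm)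
  have h0P : ∀ ω, (0 : Fin k → F) ∈ P ω := fun ω => hmemP.2 fun w _ => by simp
  have haddP : ∀ {ω a b}, a ∈ P ω → b ∈ P ω → a + b ∈ P ω := by
    intro ω a b ha hb
    refine hmemP.2 fun w hw => ?_
    rw [add_dotProduct, AddChar.map_add_eq_mul, hmemP.1 ha w hw, hmemP.1 hb w hw, one_mul]
  have hsubP : ∀ {ω a b}, a ∈ P ω → b ∈ P ω → a - b ∈ P ω := by
    intro ω a b ha hb
    refine hmemP.2 fun w hw => ?_
    rw [sub_dotProduct, sub_eq_add_neg, AddChar.map_add_eq_mul, hmemP.1 ha w hw,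
      AddChar.map_neg_eq_inv, hmemP.1 hb w hw, inv_one, one_mul]
  have τ0 : τ 0 = 1 := by have := hadd 0 0; rw [add_zero] at this; exact left_eq_mul.1 this
  -- moved points and the family of annihilators
  let Mv : Finset Ω := Finset.univ.filter fun ω => ∃ w, τ w ω ≠ ω
  let U := Mv.image P
  have hsameP : ∀ ω w, P (τ w ω) = P ω := by
    intro ω w
    have : ∀ v, τ v (τ w ω) = τ w ω ↔ τ v ω = ω := by
      intro v
      rw [← Equiv.Perm.mul_apply, ← hadd, add_comm, hadd, Equiv.Perm.mul_apply,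
        EmbeddingLike.apply_eq_iff_eq]
    ext φ; simp only [hmemP, this]
  have hmovedsame : ∀ ω w, ω ∈ Mv → τ w ω ∈ Mv := by
    intro ω w hω
    obtain ⟨v, hv⟩ := (Finset.mem_filter.1 hω).2
    refine Finset.mem_filter.2 ⟨Finset.mem_univ _, v, ?_⟩
    rw [← Equiv.Perm.mul_apply, ← hadd, add_comm, hadd, Equiv.Perm.mul_apply, Ne,
      EmbeddingLike.apply_eq_iff_eq]
    exact hv
  have hUne : ∀ u ∈ U, ∃ φ ∈ u, φ ≠ 0 := by
    intro u hu
    obtain ⟨ω, hω, rfl⟩ := Finset.mem_image.1 hu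
    obtain ⟨w, hw⟩ := (Finset.mem_filter.1 hω).2
    have h1 : 1 < (Finset.univ.image fun w => τ w ω).card :=
      Finset.one_lt_card.2 ⟨τ w ω, Finset.mem_image_of_mem _ (Finset.mem_univ _), ω,
        Finset.mem_image.2 ⟨0, Finset.mem_univ _, by simp [τ0]⟩, hw⟩
    rw [horb] at h1
    exact Finset.exists_mem_ne h1 0
  -- symmetry
  have hmove : ∀ χ f : Fin k → F, f ⬝ᵥ χ = 0 → ∀ u ∈ U,
      u.image (fun φ => φ - (φ ⬝ᵥ χ) • f) ∈ U ∧
        (∀ φ, φ ∈ u.image (fun φ => φ - (φ ⬝ᵥ χ) • f) ↔ φ + (φ ⬝ᵥ χ) • f ∈ u) := by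
    intro χ f hf u hu
    have hiff : ∀ φ, φ ∈ u.image (fun φ => φ - (φ ⬝ᵥ χ) • f) ↔ φ + (φ ⬝ᵥ χ) • f ∈ u := by
      intro φ
      constructor
      · intro h
        obtain ⟨a, ha, rfl⟩ := Finset.mem_image.1 h
        convert ha using 1
        rw [sub_dotProduct, smul_dotProduct, hf, smul_zero, sub_zero, sub_add_cancel]
      · intro h
        refine Finset.mem_image.2 ⟨_, h, ?_⟩
        rw [add_dotProduct, smul_dotProduct, hf, smul_zero, add_zero, add_sub_cancel_right]
    refine ⟨?_, hiff⟩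
    obtain ⟨ω, hω, rfl⟩ := Finset.mem_image.1 hu
    obtain ⟨π, hπ⟩ := hsym χ f hf
    have hfix : ∀ w, τ w ω = ω ↔ τ (w + (f ⬝ᵥ w) • χ) (π ω) = π ω := by
      intro w
      rw [← Equiv.Perm.mul_apply, ← hπ, Equiv.Perm.mul_apply, EmbeddingLike.apply_eq_iff_eq]
    have hE : ∀ φ w : Fin k → F,
        φ ⬝ᵥ (w + (f ⬝ᵥ w) • χ) = (φ + (φ ⬝ᵥ χ) • f) ⬝ᵥ w := by
      intro φ w
      rw [dotProduct_add, dotProduct_smul, add_dotProduct, smul_dotProduct]
      simp [mul_comm]
    refine Finset.mem_image.2 ⟨π ω, ?_, ?_⟩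
    · obtain ⟨w, hw⟩ := (Finset.mem_filter.1 hω).2
      exact Finset.mem_filter.2 ⟨Finset.mem_univ _, _, (hfix w).not.1 hw⟩
    · ext φ
      rw [hiff, hmemP, hmemP]
      constructor
      · intro h w hw
        rw [← hE]
        exact h _ ((hfix w).1 hw)
      · intro h v hv
        have hv' : v = (v - (f ⬝ᵥ v) • χ) + (f ⬝ᵥ (v - (f ⬝ᵥ v) • χ)) • χ := by
          rw [dotProduct_sub, dotProduct_smul, hf, smul_zero, sub_zero, sub_add_cancel]
        rw [hv', hE]
        refine h _ ((hfix _).2 ?_)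
        rwa [← hv']
  let cnt := fun φ : Fin k → F => (U.filter fun u => φ ∈ u).card
  have hstep : ∀ φ χ f : Fin k → F, f ⬝ᵥ χ = 0 → cnt (φ + (φ ⬝ᵥ χ) • f) = cnt φ := by
    have hle : ∀ φ χ f : Fin k → F, f ⬝ᵥ χ = 0 → cnt (φ + (φ ⬝ᵥ χ) • f) ≤ cnt φ := by
      intro φ χ f hf
      refine Finset.card_le_card_of_injOn (fun u => u.image (fun φ => φ - (φ ⬝ᵥ χ) • f)) ?_ ?_
      · intro u hu
        obtain ⟨h1, h2⟩ := Finset.mem_filter.1 hu
        exact Finset.mem_filter.2 ⟨(hmove χ f hf u h1).1, ((hmove χ f hf u h1).2 φ).2 h2⟩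
      · intro u _ v _ huv
        refine Finset.image_injective (fun a b hab => ?_) huv
        have h1 := congrArg (fun x => x + (x ⬝ᵥ χ) • f) hab
        simpa [sub_dotProduct, hf] using h1
    intro φ χ f hf
    refine le_antisymm (hle φ χ f hf) ?_
    have := hle (φ + (φ ⬝ᵥ χ) • f) χ (-f) (by rw [neg_dotProduct, hf, neg_zero])
    simpa [add_dotProduct, hf, add_assoc] using this
  have hindep : ∀ a b : Fin k → F, a ≠ 0 → b ∉ Submodule.span F {a} → cnt a = cnt b := by
    intro a b ha hb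
    have hnot : a ∉ Submodule.span F {b - a} := by
      intro h
      obtain ⟨c, hc⟩ := Submodule.mem_span_singleton.1 h
      by_cases hc0 : c = 0
      · exact ha (by rw [← hc, hc0, zero_smul])
      · refine hb (Submodule.mem_span_singleton.2 ⟨(1 + c) / c, ?_⟩)
        have hb' : c • b = (1 + c) • a := by
          rw [add_smul, one_smul]
          calc c • b = c • (b - a) + c • a := by rw [smul_sub, sub_add_cancel]
            _ = a + c • a := by rw [hc]
        rw [div_eq_inv_mul, mul_smul, ← hb', inv_smul_smul₀ hc0]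
    obtain ⟨χ, h1, h2⟩ := exists_dot hnot
    have := hstep a χ (b - a) (h1 _ (Submodule.mem_span_singleton_self _))
    rw [h2, one_smul, add_sub_cancel] at this
    exact this.symm
  have hconst : ∀ a b : Fin k → F, a ≠ 0 → b ≠ 0 → cnt a = cnt b := by
    intro a b ha hb
    by_cases hba : b ∈ Submodule.span F {a}
    · obtain ⟨c, hc⟩ : ∃ c : Fin k → F, c ∉ Submodule.span F {a} := by
        by_contra h
        push Not at h
        have htop : Submodule.span F {a} = ⊤ := eq_top_iff.2 fun x _ => h x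
        have := congrArg (fun S : Submodule F (Fin k → F) => Module.finrank F S) htop
        simp [finrank_span_singleton ha] at this
        omega
      rw [hindep a c ha hc]
      refine (hindep b c hb fun h => hc ?_).symm
      exact (Submodule.span_le.2 (Set.singleton_subset_iff.2 hba)) h
    · exact hindep a b ha hba
  -- counting
  have hMv : Mv.Nonempty := by
    obtain ⟨w, hw⟩ := hnt
    obtain ⟨ω, hω⟩ : ∃ ω, τ w ω ≠ ω := by
      by_contra h; push Not at h; exact hw (Equiv.ext h)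
    exact ⟨ω, Finset.mem_filter.2 ⟨Finset.mem_univ _, w, hω⟩⟩
  obtain ⟨ω₁, hω₁⟩ := hMv
  obtain ⟨φ₁, hφ₁, hφ₁0⟩ := hUne _ (Finset.mem_image_of_mem P hω₁)
  have hcnt1 : 1 ≤ cnt φ₁ :=
    Finset.card_pos.2 ⟨_, Finset.mem_filter.2 ⟨Finset.mem_image_of_mem P hω₁, hφ₁⟩⟩
  have hdouble : ∑ u ∈ U, (u.card - 1) = (q ^ k - 1) * cnt φ₁ := by
    have h0u : ∀ u ∈ U, (0 : Fin k → F) ∈ u := by
      intro u hu
      obtain ⟨ω, -, rfl⟩ := Finset.mem_image.1 hu
      exact h0P ω
    calc ∑ u ∈ U, (u.card - 1)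
        = ∑ u ∈ U, ((Finset.univ.erase (0 : Fin k → F)).filter fun φ => φ ∈ u).card := by
          refine Finset.sum_congr rfl fun u hu => ?_
          rw [← Finset.card_erase_of_mem (h0u u hu)]
          congr 1; ext φ; simp [and_comm]
      _ = ∑ φ ∈ Finset.univ.erase (0 : Fin k → F), (U.filter fun u => φ ∈ u).card :=
          (Finset.sum_card_bipartiteAbove_eq_sum_card_bipartiteBelow (fun (u : Finset (Fin k → F)) φ => φ ∈ u))
      _ = ∑ φ ∈ Finset.univ.erase (0 : Fin k → F), cnt φ₁ := by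
          refine Finset.sum_congr rfl fun φ hφ => hconst φ φ₁ (Finset.mem_erase.1 hφ).1 hφ₁0
      _ = (q ^ k - 1) * cnt φ₁ := by
          rw [Finset.sum_const, smul_eq_mul, Finset.card_erase_of_mem (Finset.mem_univ _),
            Finset.card_univ, Fintype.card_fun, Fintype.card_fin, hq]
  let fib := fun u => Mv.filter fun ω => P ω = u
  have hfib : ∀ ω ∈ Mv, (Finset.univ.image fun w => τ w ω) ⊆ fib (P ω) := by
    intro ω hω x hx
    obtain ⟨w, -, rfl⟩ := Finset.mem_image.1 hx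
    exact Finset.mem_filter.2 ⟨hmovedsame ω w hω, hsameP ω w⟩
  have hfib' : ∀ u ∈ U, u.card ≤ (fib u).card := by
    intro u hu
    obtain ⟨ω, hω, rfl⟩ := Finset.mem_image.1 hu
    rw [← horb]; exact Finset.card_le_card (hfib ω hω)
  have hMvcard : Mv.card = ∑ u ∈ U, (fib u).card := Finset.card_eq_sum_card_image P Mv
  have hsum : ∑ u ∈ U, (u.card - 1) + U.card ≤ Mv.card := by
    rw [hMvcard, Finset.card_eq_sum_ones U, ← Finset.sum_add_distrib]
    refine Finset.sum_le_sum fun u hu => ?_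
    have h1 := hfib' u hu
    have h2 : 0 < u.card := let ⟨φ, h, _⟩ := hUne u hu; Finset.card_pos.2 ⟨φ, h⟩
    omega
  have hMvle : Mv.card ≤ Fintype.card Ω := Finset.card_le_univ _
  have hU1 : 0 < U.card := Finset.card_pos.2 ⟨_, Finset.mem_image_of_mem P hω₁⟩
  rw [← hq] at hM ⊢
  have hqk : 1 ≤ q ^ k := Nat.one_le_pow _ _ (by omega)
  have hc1 : ∀ φ : Fin k → F, φ ≠ 0 → cnt φ = 1 := by
    intro φ hφ
    rw [hconst φ φ₁ hφ hφ₁0]
    by_contra hne
    have h2 : (q ^ k - 1) * 2 + 1 ≤ Fintype.card Ω :=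
      le_trans (Nat.add_le_add (Nat.mul_le_mul_left _ (by omega)) hU1)
        (hdouble ▸ hsum.trans hMvle)
    have h3 := Nat.mul_le_mul_right (q - 1) h2
    obtain ⟨r, rfl⟩ : ∃ r, q = r + 2 := ⟨q - 2, by omega⟩
    obtain ⟨Q, hQ⟩ : ∃ Q, (r + 2) ^ k - 1 = Q := ⟨_, rfl⟩
    rw [hQ] at h3 hM
    simp only [Nat.add_sub_cancel_right, show r + 2 - 1 = r + 1 from rfl] at h3 hM
    nlinarith
  rw [hc1 φ₁ hφ₁0, mul_one] at hdouble
  have huniq : ∀ u ∈ U, ∀ v ∈ U, ∀ φ : Fin k → F, φ ≠ 0 → φ ∈ u → φ ∈ v → u = v := by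
    intro u hu v hv φ hφ h1 h2
    exact Finset.card_le_one.1 (hc1 φ hφ).le u (Finset.mem_filter.2 ⟨hu, h1⟩) v
      (Finset.mem_filter.2 ⟨hv, h2⟩)
  have hline : ∀ u ∈ U, ∀ a ∈ u, ∀ b ∈ u, a ≠ 0 → b ∉ Submodule.span F {a} →
      u = Finset.univ := by
    intro u hu a ha b hb ha0 hb'
    have hb0 : b ≠ 0 := fun h => hb' (h ▸ Submodule.zero_mem _)
    have ha' : a ∉ Submodule.span F {b} := by
      intro h
      obtain ⟨c, hc⟩ := Submodule.mem_span_singleton.1 h
      refine hb' (Submodule.mem_span_singleton.2 ⟨c⁻¹, ?_⟩)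
      rw [← hc, inv_smul_smul₀ (fun h0 => ha0 (by rw [← hc, h0, zero_smul]))]
    have hu' : ∀ {x y}, x ∈ u → y ∈ u → y - x ∈ u := by
      obtain ⟨ω, -, rfl⟩ := Finset.mem_image.1 hu
      exact fun hx hy => hsubP hy hx
    have trans' : ∀ a b χ : Fin k → F, a ∈ u → b ∈ u → a ≠ 0 → a ⬝ᵥ χ = 0 → b ⬝ᵥ χ = 1 →
        ∀ f, f ⬝ᵥ χ = 0 → f ∈ u := by
      intro a b χ ha hb ha0 haχ hbχ f hf
      obtain ⟨h1, h2⟩ := hmove χ f hf u hu
      have ha' : a ∈ u.image (fun φ => φ - (φ ⬝ᵥ χ) • f) :=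
        (h2 a).2 (by rwa [haχ, zero_smul, add_zero])
      have := huniq _ h1 u hu a ha0 ha' ha
      have hbf := (h2 b).1 (this.symm ▸ hb)
      rw [hbχ, one_smul] at hbf
      simpa using hu' hb hbf
    obtain ⟨χ, hχ1, hχ2⟩ := exists_dot hb'
    obtain ⟨χ', hχ'1, hχ'2⟩ := exists_dot ha'
    have hker := trans' a b χ ha hb ha0 (hχ1 a (Submodule.mem_span_singleton_self a)) hχ2
    have hker' := trans' b a χ' hb ha hb0 (hχ'1 b (Submodule.mem_span_singleton_self b)) hχ'2
    have hbline : ∀ s : F, s • b ∈ u := fun s => hker' _ (by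
      rw [smul_dotProduct, hχ'1 b (Submodule.mem_span_singleton_self b), smul_zero])
    refine Finset.eq_univ_iff_forall.2 fun x => ?_
    have h1 : x - (x ⬝ᵥ χ) • b ∈ u := hker _ (by
      rw [sub_dotProduct, smul_dotProduct, hχ2, smul_eq_mul, mul_one, sub_self])
    have h2 : -((x ⬝ᵥ χ) • b) ∈ u := by rw [← neg_smul]; exact hbline _
    simpa using hu' h2 h1
  by_cases hfull : Finset.univ ∈ U
  · -- one regular orbit
    left
    obtain ⟨ω₀, hω₀, hP0⟩ := Finset.mem_image.1 hfull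
    have hUeq : ∀ u ∈ U, u = Finset.univ := fun u hu =>
      let ⟨φ, h, h0⟩ := hUne u hu
      huniq u hu _ hfull φ h0 h (Finset.mem_univ _)
    have hcard : ∀ ω ∈ Mv, (Finset.univ.image fun w => τ w ω).card = q ^ k := by
      intro ω hω
      rw [horb, hUeq _ (Finset.mem_image_of_mem P hω), Finset.card_univ, Fintype.card_fun,
        Fintype.card_fin, hq]
    refine ⟨ω₀, fun w hw => ?_, fun ω => ?_⟩
    · have h1 := card_orbit_mul τ hadd ω₀
      rw [hcard ω₀ hω₀, ← hq] at h1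
      have h2 : Nat.card (stab τ hadd ω₀) = 1 :=
        Nat.eq_of_mul_eq_mul_left hqk (by rw [h1, mul_one])
      haveI := (Nat.card_eq_one_iff_unique.1 h2).1
      exact congrArg Subtype.val (Subsingleton.elim (⟨w, hw⟩ : stab τ hadd ω₀) 0)
    · by_contra h
      push Not at h
      obtain ⟨⟨w, hw⟩, h2⟩ := h
      have hω : ω ∈ Mv := Finset.mem_filter.2 ⟨Finset.mem_univ _, w, hw⟩
      have hdisj : Disjoint (Finset.univ.image fun w => τ w ω₀)
          (Finset.univ.image fun w => τ w ω) := by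
        rw [Finset.disjoint_left]
        intro x hx hx'
        obtain ⟨a, -, rfl⟩ := Finset.mem_image.1 hx
        obtain ⟨b, -, hb⟩ := Finset.mem_image.1 hx'
        refine h2 (-b + a) ?_
        rw [hadd, Equiv.Perm.mul_apply, ← hb, ← Equiv.Perm.mul_apply, ← hadd, neg_add_cancel, τ0,
          Equiv.Perm.one_apply]
      have h3 : q ^ k + q ^ k ≤ Fintype.card Ω := by
        have h4 := Finset.card_union_of_disjoint hdisj
        rw [hcard ω₀ hω₀, hcard ω hω] at h4
        exact h4 ▸ Finset.card_le_univ _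
      have h5 := Nat.mul_le_mul_right (q - 1) h3
      obtain ⟨r, rfl⟩ : ∃ r, q = r + 2 := ⟨q - 2, by omega⟩
      obtain ⟨Q, hQ⟩ : ∃ Q, (r + 2) ^ k = Q + 1 := ⟨(r + 2) ^ k - 1, by omega⟩
      rw [hQ] at h5 hM
      simp only [Nat.add_sub_cancel_right, show r + 2 - 1 = r + 1 from rfl] at h5 hM
      nlinarith
  · -- all annihilators are lines
    right
    have hle : ∀ u ∈ U, u.card ≤ q ∧
        ∃ a : Fin k → F, a ≠ 0 ∧ ∀ b ∈ u, b ∈ Submodule.span F {a} := by
      intro u hu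
      obtain ⟨a, ha, ha0⟩ := hUne u hu
      have hin : ∀ b ∈ u, b ∈ Submodule.span F {a} := fun b hb => by
        by_contra hb'
        exact hfull ((hline u hu a ha b hb ha0 hb') ▸ hu)
      refine ⟨?_, a, ha0, hin⟩
      calc u.card ≤ (Finset.univ.image fun c : F => c • a).card := by
            refine Finset.card_le_card fun b hb => ?_
            obtain ⟨c, hc⟩ := Submodule.mem_span_singleton.1 (hin b hb)
            exact Finset.mem_image.2 ⟨c, Finset.mem_univ _, hc⟩
        _ ≤ q := Finset.card_image_le.trans (by rw [Finset.card_univ, hq])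
    have hupper : q ^ k - 1 ≤ (q - 1) * U.card := by
      rw [← hdouble, mul_comm]
      refine (Finset.sum_le_card_nsmul U _ (q - 1) fun u hu => ?_).trans (by simp)
      have := (hle u hu).1; omega
    rw [hdouble] at hsum
    have hall : Fintype.card Ω * (q - 1) = q * (q ^ k - 1) ∧ Mv.card = Fintype.card Ω ∧
        Mv.card = q ^ k - 1 + U.card ∧ (q - 1) * U.card = q ^ k - 1 := by
      obtain ⟨r, rfl⟩ : ∃ r, q = r + 2 := ⟨q - 2, by omega⟩
      obtain ⟨Q, hQ⟩ : ∃ Q, (r + 2) ^ k - 1 = Q := ⟨_, rfl⟩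
      rw [hQ] at hM hupper hsum ⊢
      simp only [show r + 2 - 1 = r + 1 from rfl] at hM hupper ⊢
      have h1 := Nat.mul_le_mul_right (r + 1) (hsum.trans hMvle)
      have h2 : (r + 1) * U.card = Q := by nlinarith
      have h3 : Fintype.card Ω = Q + U.card :=
        Nat.eq_of_mul_eq_mul_right (Nat.succ_pos r) (by nlinarith)
      exact ⟨by rw [h3]; nlinarith, by omega, by omega, h2⟩
    obtain ⟨heq, hMvall, -, hUq⟩ := hall
    have hucard : ∀ u ∈ U, u.card = q := by
      by_contra hcon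
      push Not at hcon
      obtain ⟨u, hu, hne⟩ := hcon
      have hlt : ∑ u ∈ U, (u.card - 1) < ∑ _u ∈ U, (q - 1) :=
        Finset.sum_lt_sum (fun v hv => by have := (hle v hv).1; omega)
          ⟨u, hu, by
            have := (hle u hu).1
            have : 0 < u.card := let ⟨φ, h, _⟩ := hUne u hu; Finset.card_pos.2 ⟨φ, h⟩
            omega⟩
      rw [hdouble, Finset.sum_const, smul_eq_mul, mul_comm, hUq] at hlt
      exact lt_irrefl _ hlt
    refine ⟨heq, fun ω => ?_⟩
    have hω : ω ∈ Mv := by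
      rw [Finset.eq_univ_of_card Mv hMvall]; exact Finset.mem_univ _
    have hu := Finset.mem_image_of_mem P hω
    obtain ⟨-, a, ha0, hin⟩ := hle _ hu
    have hPeq : P ω = Finset.univ.image fun c : F => c • a := by
      refine Finset.eq_of_subset_of_card_le (fun b hb => ?_) ?_
      · obtain ⟨c, hc⟩ := Submodule.mem_span_singleton.1 (hin b hb)
        exact Finset.mem_image.2 ⟨c, Finset.mem_univ _, hc⟩
      · rw [hucard _ hu]; exact Finset.card_image_le.trans (by rw [Finset.card_univ, hq])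
    have hsub : ∀ w, τ w ω = ω → a ⬝ᵥ w = 0 := by
      intro w hw
      by_contra h
      obtain ⟨s, hs⟩ := AddChar.ne_one_iff.1 (hψ h)
      refine hs ?_
      have := (hmemP (φ := s • a)).1
        (hPeq ▸ Finset.mem_image.2 ⟨s, Finset.mem_univ _, rfl⟩) w hw
      rw [smul_dotProduct, smul_eq_mul, mul_comm] at this
      rw [AddChar.mulShift_apply]
      exact this
    refine ⟨a, ha0, fun w => ⟨hsub w, fun hw => ?_⟩⟩
    let H : AddSubgroup (Fin k → F) :=
      { carrier := {v | a ⬝ᵥ v = 0}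
        zero_mem' := dotProduct_zero a
        add_mem' := fun {x y} hx hy => by
          show a ⬝ᵥ (x + y) = 0; rw [dotProduct_add, hx, hy, add_zero]
        neg_mem' := fun {x} hx => by show a ⬝ᵥ (-x) = 0; rw [dotProduct_neg, hx, neg_zero] }
    have hSH : stab τ hadd ω ≤ H := hsub
    have h1 := card_perp_mul_card hψ (stab τ hadd ω)
    rw [hucard _ hu, ← hq] at h1
    have hH : Nat.card H * q ≤ q ^ k := by
      obtain ⟨i, hi⟩ := Function.ne_iff.1 ha0
      have hinj : Function.Injective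
          (fun x : H × F => (x.1 : Fin k → F) + Pi.single i x.2) := by
        rintro ⟨x, c⟩ ⟨y, d⟩ h
        have h' := congrArg (fun v => a ⬝ᵥ v) h
        simp only [dotProduct_add, show a ⬝ᵥ (x : Fin k → F) = 0 from x.2,
          show a ⬝ᵥ (y : Fin k → F) = 0 from y.2, zero_add, dotProduct_single] at h'
        obtain rfl : c = d := mul_left_cancel₀ hi h'
        exact Prod.ext (Subtype.ext (add_right_cancel h)) rfl
      have := Nat.card_le_card_of_injective _ hinj
      rwa [Nat.card_prod, Nat.card_fun, Nat.card_fin, Nat.card_eq_fintype_card (α := F),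
        ← hq] at this
    have h2 : Nat.card H ≤ Nat.card (stab τ hadd ω) := by
      refine Nat.le_of_mul_le_mul_right (?_ : _ * q ≤ _ * q) (by omega)
      rw [mul_comm (Nat.card (stab τ hadd ω))]
      exact hH.trans h1.ge
    have : stab τ hadd ω = H := AddSubgroup.eq_of_le_of_card_ge hSH h2
    show w ∈ stab τ hadd ω
    rw [this]; exact hw

end Cfsg.Agent.MinDeg
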