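import Cfsg.Agent.Lib.MinDeg.OrthGeom

/-!
Orbit bounds for the Siegel group in small dimensions, and the bound `q^2` for additive subgroups
without singular vectors (Chevalley–Warning).
-/

set_option autoImplicit false

namespace Cfsg.Agent.MinDeg.Orth

open Cfsg.Agent.ClassicalSimple

variable {F V : Type*} [Field F] [AddCommGroup V] [Module F V] {Q : QuadraticForm F V}

/-- A non-degenerate quadratic polynomial in two variables takes every value. -/
theorem binary_surjective [Finite F] {A B C : F} (hD : B ^ 2 - 4 * A * C ≠ 0) (L M r : F) :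
    ∃ s t, A * s ^ 2 + B * s * t + C * t ^ 2 + L * s + M * t = r := by
  have pure : ∀ r : F, ∃ s t, A * s ^ 2 + B * s * t + C * t ^ 2 = r := by
    intro r
    by_cases hA : A = 0
    · subst hA
      have hB : B ≠ 0 := fun h => hD (by simp [h])
      exact ⟨(r - C) / B, 1, by field_simp; ring⟩
    have := Fintype.ofFinite F
    by_cases h2 : (2 : F) = 0
    · have hc : ringChar F = 2 := by
        by_contra hne
        exact Ring.two_ne_zero hne h2
      obtain ⟨z, hz⟩ := FiniteField.isSquare_of_char_two hc (r / A)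
      exact ⟨z, 0, by rw [sq z, ← hz]; field_simp; ring⟩
    · have h4 : (4 : F) ≠ 0 := by
        have : (4 : F) = 2 * 2 := by norm_num
        rw [this]; exact mul_ne_zero h2 h2
      have hK : -(B ^ 2 - 4 * A * C) / (4 * A) ≠ 0 :=
        div_ne_zero (neg_ne_zero.2 hD) (mul_ne_zero h4 hA)
      obtain ⟨x, y, hxy⟩ := FiniteField.exists_root_sum_quadratic
        (f := Polynomial.C A * Polynomial.X ^ 2)
        (g := Polynomial.C (-(B ^ 2 - 4 * A * C) / (4 * A)) * Polynomial.X ^ 2 + Polynomial.C (-r))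
        (Polynomial.degree_C_mul_X_pow 2 hA)
        (by rw [Polynomial.degree_add_C (by rw [Polynomial.degree_C_mul_X_pow 2 hK]; decide),
          Polynomial.degree_C_mul_X_pow 2 hK]; rfl)
        (FiniteField.odd_card_of_char_ne_two fun hc => h2 (by
          haveI := ringChar.of_eq hc
          exact CharTwo.two_eq_zero))
      simp only [Polynomial.eval_add, Polynomial.eval_mul, Polynomial.eval_C, Polynomial.eval_pow,
        Polynomial.eval_X] at hxy
      refine ⟨x - B * y / (2 * A), y, ?_⟩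
      field_simp at hxy ⊢
      linear_combination hxy
  have hD' := hD
  obtain ⟨s, t, h⟩ := pure (r - A * ((B * M - 2 * C * L) / (4 * A * C - B ^ 2)) ^ 2
    - B * ((B * M - 2 * C * L) / (4 * A * C - B ^ 2)) * ((B * L - 2 * A * M) / (4 * A * C - B ^ 2))
    - C * ((B * L - 2 * A * M) / (4 * A * C - B ^ 2)) ^ 2
    - L * ((B * M - 2 * C * L) / (4 * A * C - B ^ 2))
    - M * ((B * L - 2 * A * M) / (4 * A * C - B ^ 2)))
  have hE : 4 * A * C - B ^ 2 ≠ 0 := fun h0 => hD (by linear_combination -h0)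
  set s₀ := (B * M - 2 * C * L) / (4 * A * C - B ^ 2) with hs₀
  set t₀ := (B * L - 2 * A * M) / (4 * A * C - B ^ 2) with ht₀
  have h1 : s₀ * (4 * A * C - B ^ 2) = B * M - 2 * C * L := div_mul_cancel₀ _ hE
  have h2 : t₀ * (4 * A * C - B ^ 2) = B * L - 2 * A * M := div_mul_cancel₀ _ hE
  have e1 : 2 * A * s₀ + B * t₀ = -L := mul_left_cancel₀ hE (by linear_combination 2 * A * h1 + B * h2)
  have e2 : B * s₀ + 2 * C * t₀ = -M := mul_left_cancel₀ hE (by linear_combination B * h1 + 2 * C * h2)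
  exact ⟨s + s₀, t + t₀, by linear_combination h + s * e1 + t * e2⟩

/-- A small system of polynomials over `ZMod p` vanishing at `0` has another common zero. -/
theorem exists_ne_zero_root {p : ℕ} [Fact p.Prime] {ι σ : Type} [Fintype ι] [Fintype σ]
    {P : ι → MvPolynomial σ (ZMod p)} (hdeg : (∑ s, (P s).totalDegree) < Fintype.card σ)
    (h0 : ∀ s, MvPolynomial.eval 0 (P s) = 0) :
    ∃ c : σ → ZMod p, c ≠ 0 ∧ ∀ s, MvPolynomial.eval c (P s) = 0 := by
  classical
  have hdvd := char_dvd_card_solutions_of_fintype_sum_lt p hdeg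
  by_contra hc
  push Not at hc
  rw [Fintype.card_eq_one_iff.2 ⟨⟨0, h0⟩, fun x => Subtype.ext (by
    by_contra hx
    obtain ⟨s, hs⟩ := hc x.1 hx
    exact hs (x.2 s))⟩] at hdvd
  exact (Fact.out : p.Prime).ne_one (Nat.dvd_one.1 hdvd)

/-- An additive subgroup without singular vectors has at most `q^2` elements. -/
theorem card_le_sq [Fintype F] [FiniteDimensional F V] (u : AddSubgroup V)
    (hu : ∀ x ∈ u, Q x = 0 → x = 0) : Nat.card u ≤ Fintype.card F ^ 2 := by
  classical
  obtain ⟨p, hp⟩ := CharP.exists F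
  have : Fact p.Prime := ⟨CharP.char_is_prime F p⟩
  let _ : Algebra (ZMod p) F := ZMod.algebra F p
  let _ : Module (ZMod p) V := Module.compHom V (algebraMap (ZMod p) F)
  have : IsScalarTower (ZMod p) F V := ⟨fun a b x => by
    show (a • b) • x = algebraMap (ZMod p) F a • b • x
    rw [smul_smul, Algebra.smul_def]⟩
  have : Finite V := Module.finite_of_finite F
  let S : Submodule (ZMod p) V := AddSubgroup.toZModSubmodule p u
  let bF := Module.finBasis (ZMod p) F
  let bS := Module.finBasis (ZMod p) S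
  set e := Module.finrank (ZMod p) F
  set r := Module.finrank (ZMod p) S
  by_contra hlt
  push Not at hlt
  have hq : Fintype.card F = p ^ e := by
    rw [Module.card_eq_pow_finrank (K := ZMod p) (V := F), ZMod.card]
  have hu' : Nat.card u = p ^ r := by
    have := Module.natCard_eq_pow_finrank (K := ZMod p) (V := S)
    rwa [Nat.card_zmod] at this
  rw [hu', hq, ← pow_mul] at hlt
  have her : e * 2 < r := (Nat.pow_lt_pow_iff_right (Fact.out : p.Prime).one_lt).1 hlt
  let Qp : QuadraticMap (ZMod p) V F :=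
    { toFun := Q
      toFun_smul := fun a x => by
        rw [← algebraMap_smul F a x, quad_smul_vec, Algebra.smul_def, map_mul]
      exists_companion' := ⟨(bil Q).restrictScalars₁₂ (ZMod p) (ZMod p), fun x y => quad_add x y⟩ }
  let Bl := (Qp.comp S.subtype).toBilin bS
  let P : Fin e → MvPolynomial (Fin r) (ZMod p) := fun s =>
    ∑ i, ∑ j, MvPolynomial.C (bF.repr (Bl (bS i) (bS j)) s) *
      (MvPolynomial.X i * MvPolynomial.X j)
  have hdeg : ∀ s, (P s).totalDegree ≤ 2 := by
    intro s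
    refine MvPolynomial.totalDegree_finsetSum_le fun i _ => ?_
    refine MvPolynomial.totalDegree_finsetSum_le fun j _ => ?_
    refine (MvPolynomial.totalDegree_mul _ _).trans ?_
    rw [MvPolynomial.totalDegree_C, zero_add]
    exact (MvPolynomial.totalDegree_mul _ _).trans (by simp)
  have hsum : (∑ s, (P s).totalDegree) < Fintype.card (Fin r) := by
    rw [Fintype.card_fin]
    refine lt_of_le_of_lt (Finset.sum_le_sum fun s _ => hdeg s) ?_
    simpa using her
  have heval : ∀ (c : Fin r → ZMod p) s,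
      MvPolynomial.eval c (P s) = bF.repr (Q ((∑ i, c i • bS i : S) : V)) s := by
    intro c s
    have h1 : Q ((∑ i, c i • bS i : S) : V) = Bl (∑ i, c i • bS i) (∑ i, c i • bS i) := by
      rw [← LinearMap.BilinMap.toQuadraticMap_apply, QuadraticMap.toQuadraticMap_toBilin]
      rfl
    rw [h1]
    simp only [P, map_sum, map_mul, MvPolynomial.eval_C, MvPolynomial.eval_X, map_smul,
      LinearMap.sum_apply, LinearMap.smul_apply, Finsupp.coe_finsetSum, Finset.sum_apply,
      Finsupp.smul_apply, smul_eq_mul]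
    rw [Finset.sum_comm]
    refine Finset.sum_congr rfl fun j _ => ?_
    rw [Finset.mul_sum]
    refine Finset.sum_congr rfl fun i _ => ?_
    ring
  have hz : ∀ c : Fin r → ZMod p, (∀ s, MvPolynomial.eval c (P s) = 0) → c = 0 := by
    intro c hc
    have h0 : Q ((∑ i, c i • bS i : S) : V) = 0 :=
      bF.repr.map_eq_zero_iff.1 (Finsupp.ext fun s => by rw [← heval c s, hc]; rfl)
    have h1 : (∑ i, c i • bS i : S) = 0 := Subtype.ext (hu _ (Subtype.prop _) h0)
    funext i
    exact Fintype.linearIndependent_iff.1 bS.linearIndependent c h1 i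
  obtain ⟨c, hc0, hc⟩ := exists_ne_zero_root hsum fun s => by rw [heval]; simp
  exact hc0 (hz c hc)

variable (hN : (bil Q).Nondegenerate) [FiniteDimensional F V]
include hN

/-- A space of dimension at least three has a vector in the complement of a pair. -/
theorem exists_ne_zero_Wsub {v v₁ : V} (P : HP Q v v₁) (h3 : 3 ≤ Module.finrank F V) :
    ∃ m ∈ Wsub Q v v₁, ∃ m' ∈ Wsub Q v v₁, bil Q m m' ≠ 0 := by
  have h := P.finrank_W
  obtain ⟨m, hm⟩ : ∃ m : Wsub Q v v₁, m ≠ 0 := by
    by_contra hc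
    push Not at hc
    have : Module.finrank F (Wsub Q v v₁) = 0 :=
      Module.finrank_zero_iff.2 ⟨fun a b => by rw [hc a, hc b]⟩
    omega
  obtain ⟨m', hm'⟩ := orth_exists_ne_zero (P.nondegenerate_QW hN) hm
  exact ⟨m, m.2, m', m'.2, hm'⟩

variable [Finite F]

omit [Finite F] in
/-- In dimension at least three the Siegel group is transitive on singular lines. -/
theorem exists_siegel_line (h3 : 3 ≤ Module.finrank F V) {x y : V} (hx : Q x = 0) (hy : Q y = 0)
    (hx0 : x ≠ 0) (hy0 : y ≠ 0) : ∃ g ∈ siegelGroup Q, ∃ c : F, c ≠ 0 ∧ g • x = c • y := by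
  have step : ∀ a b z : V, Q a = 0 → Q b = 0 → Q z = 0 → bil Q a z ≠ 0 → bil Q b z ≠ 0 →
      ∃ g ∈ siegelGroup Q, ∃ c : F, c ≠ 0 ∧ g • a = c • b := by
    intro a b z ha hb hz haz hbz
    obtain ⟨g, hg, hga, -⟩ := exists_siegel_map hN (u := z) (v := (bil Q a z)⁻¹ • a)
      (v' := (bil Q b z)⁻¹ • b) hz (by rw [quad_smul_vec, ha, mul_zero])
      (by rw [quad_smul_vec, hb, mul_zero])
      (by rw [map_smul, LinearMap.smul_apply, smul_eq_mul, inv_mul_cancel₀ haz])
      (by rw [map_smul, LinearMap.smul_apply, smul_eq_mul, inv_mul_cancel₀ hbz])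
    refine ⟨g, hg, bil Q a z * (bil Q b z)⁻¹, mul_ne_zero haz (inv_ne_zero hbz), ?_⟩
    have : g • a = bil Q a z • (g • ((bil Q a z)⁻¹ • a)) := by
      rw [smul_comm g, smul_smul, mul_inv_cancel₀ haz, one_smul]
    rw [this, hga, smul_smul]
  by_cases hxy : bil Q x y = 0
  · by_cases hli : LinearIndependent F ![x, y]
    · obtain ⟨z, h1, h2⟩ := exists_bil_pair hN hli 1 1
      refine step x y (z - Q z • x) hx hy ?_ ?_ ?_
      · rw [quad_sub, quad_smul_vec, hx, map_smul, bil_comm z x, h1, smul_eq_mul]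
        ring
      · simp [h1, bil_self_of_singular hx]
      · simp [h2, (bil_comm y x).trans hxy]
    · rw [LinearIndependent.pair_iff] at hli
      push Not at hli
      obtain ⟨s, t, hst, hne⟩ := hli
      have hs : s ≠ 0 := fun h => by
        subst h
        simp [hy0] at hst
        exact (hne rfl) hst
      refine ⟨1, one_mem _, -(t / s), ?_, ?_⟩
      · have ht : t ≠ 0 := fun h => by
          subst h
          simp [hs, hx0] at hst
        simp [ht, hs]
      · rw [one_smul, neg_smul, eq_neg_iff_add_eq_zero, div_eq_inv_mul, mul_smul]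
        calc x + s⁻¹ • t • y = s⁻¹ • (s • x + t • y) := by rw [smul_add, inv_smul_smul₀ hs]
          _ = 0 := by rw [hst, smul_zero]
  · have P : HP Q x ((bil Q x y)⁻¹ • y) :=
      ⟨hx, by rw [quad_smul_vec, hy, mul_zero],
        by rw [map_smul, smul_eq_mul, inv_mul_cancel₀ hxy]⟩
    obtain ⟨m, hm, m', hm', hmm⟩ := exists_ne_zero_Wsub hN P h3
    obtain ⟨w, hw, hQw⟩ : ∃ w ∈ Wsub Q x ((bil Q x y)⁻¹ • y), Q w ≠ 0 := by
      by_contra hc
      push Not at hc
      refine hmm ?_
      have := hc _ (add_mem hm hm')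
      rwa [quad_add, hc m hm, hc m' hm', zero_add, zero_add] at this
    obtain ⟨w1, w2⟩ := mem_Wsub.1 hw
    have w2' : bil Q y w = 0 := by
      rw [map_smul, LinearMap.smul_apply, smul_eq_mul, mul_eq_zero] at w2
      exact w2.resolve_left (inv_ne_zero hxy)
    refine step x y (x + (-Q w / bil Q x y) • y + w) hx hy ?_ ?_ ?_
    · simp [quad_add, quad_smul_vec, hx, hy, w1, w2']
      field_simp
      ring
    · simp [bil_self_of_singular hx, w1, hxy, hQw]
    · simp [bil_self_of_singular hy, w2', bil_comm y x, hxy]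

/-- Orbits of the Siegel group on non-zero vectors have at least `q^(n-2) + 1` elements. -/
theorem card_orbit_ge (h3 : 3 ≤ Module.finrank F V) {s : V} (hs : Q s = 0) (hs0 : s ≠ 0)
    {χ : V} (hχ : χ ≠ 0) (S : Finset V) (hS : ∀ g ∈ siegelGroup Q, g • χ ∈ S) :
    Nat.card F ^ (Module.finrank F V - 2) + 1 ≤ S.card := by
  classical
  have : Finite V := Module.finite_of_finite F
  obtain ⟨a₀, ha₀, hχa⟩ := exists_singular_nonorth hN hs hs0 hχ
  obtain ⟨a, ha, hβ, a', P⟩ : ∃ a, Q a = 0 ∧ bil Q a χ ≠ 0 ∧ ∃ a', HP Q a a' := by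
    refine ⟨a₀, ha₀, by rwa [bil_comm], exists_HP hN ha₀ ?_⟩
    rintro rfl; simp at hχa
  obtain ⟨m, hm, m₂, hm₂, hmm⟩ := exists_ne_zero_Wsub hN P h3
  obtain ⟨hm1, hm2⟩ := mem_Wsub.1 hm
  -- an element of the orbit with non-zero component in the complement, and the same pairing
  obtain ⟨χ', ⟨h, hh, rfl⟩, hβ', hcomp⟩ : ∃ χ', (∃ h ∈ siegelGroup Q, h • χ = χ') ∧
      bil Q a χ' = bil Q a χ ∧ ∃ w ∈ Wsub Q a a', bil Q χ' w ≠ 0 := by
    by_cases hc : ∃ w ∈ Wsub Q a a', bil Q χ w ≠ 0
    · exact ⟨χ, ⟨1, one_mem _, one_smul _ _⟩, rfl, hc⟩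
    push Not at hc
    refine ⟨sg Q a m • χ, ⟨sg Q a m, Subtype.prop _, rfl⟩, ?_, m₂, hm₂, ?_⟩
    · rw [sg_act P.sing hm1]
      simp [hm1, bil_self_of_singular P.sing]
    · obtain ⟨h1, h2⟩ := mem_Wsub.1 hm₂
      rw [sg_act P.sing hm1]
      simp [hc m₂ hm₂, h1, bil_comm χ a, hβ, hmm]
  set β := bil Q a χ with hβdef
  set χ' := h • χ
  have hin : ∀ g : siegelGroup Q, g • χ' ∈ S := fun g => by
    have := hS _ (mul_mem g.2 hh)
    rwa [mul_smul] at this
  clear_value χ'
  -- an element with a different pairing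
  obtain ⟨z, hz, hzβ⟩ : ∃ z ∈ S, bil Q a z ≠ β := by
    by_contra hall
    push Not at hall
    have hf : ∀ w ∈ Wsub Q a a', bil Q χ' w + Q w * bil Q χ' a' = 0 := by
      intro w hw
      obtain ⟨h1, h2⟩ := mem_Wsub.1 hw
      have := hall _ (hin (sg Q a' w))
      rw [sg_act P.sing₁ h2] at this
      simp [h1, P.one, hβ'] at this
      exact this
    by_cases hγ : bil Q χ' a' = 0
    · obtain ⟨w, hw, hne⟩ := hcomp
      exact hne (by simpa [hγ] using hf w hw)
    · refine hmm ?_
      have e := hf _ (add_mem hm hm₂)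
      simp [quad_add] at e
      have := hf m hm
      have := hf m₂ hm₂
      exact (mul_eq_zero.1 (by linear_combination e - hf m hm - hf m₂ hm₂ :
        bil Q m m₂ * bil Q χ' a' = 0)).resolve_right hγ
  have hinj : Set.InjOn (fun w : V => sg Q a w • χ') (Wsub Q a a' : Set V) := by
    intro w hw w' hw' e
    obtain ⟨h1, h2⟩ := mem_Wsub.1 hw
    obtain ⟨h1', h2'⟩ := mem_Wsub.1 hw'
    simp only [sg_act P.sing h1, sg_act P.sing h1', bil_comm χ' a, hβ'] at e
    have e' := congrArg (fun x => proj Q a a' x) e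
    simp [proj, h1, h2, h1', h2', bil_self_of_singular P.sing, P.symm.one] at e'
    refine smul_right_injective V hβ ?_
    show β • w = β • w'
    linear_combination (norm := module) e'
  have hnot : z ∉ (Set.toFinite (Wsub Q a a' : Set V)).toFinset.image
      (fun w : V => sg Q a w • χ') := by
    intro hmem
    obtain ⟨w, hw, rfl⟩ := Finset.mem_image.1 hmem
    rw [Set.Finite.mem_toFinset] at hw
    obtain ⟨h1, h2⟩ := mem_Wsub.1 hw
    refine hzβ ?_
    rw [sg_act P.sing h1]
    simp [hβ', h1, bil_self_of_singular P.sing]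
  have hsub : insert z ((Set.toFinite (Wsub Q a a' : Set V)).toFinset.image
      (fun w : V => sg Q a w • χ')) ⊆ S := by
    intro x hx
    rcases Finset.mem_insert.1 hx with rfl | hx
    · exact hz
    · obtain ⟨w, -, rfl⟩ := Finset.mem_image.1 hx
      exact hin _
  refine le_trans (le_of_eq ?_) (Finset.card_le_card hsub)
  rw [Finset.card_insert_of_notMem hnot, Finset.card_image_of_injOn (by
    intro x hx y hy; exact hinj (by simpa using hx) (by simpa using hy)),
    ← Nat.card_eq_card_finite_toFinset]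
  congr 1
  show _ = Nat.card (Wsub Q a a')
  have := P.finrank_W
  rw [Module.natCard_eq_pow_finrank (K := F) (V := Wsub Q a a')]
  congr 1
  omega

omit [Finite F] [FiniteDimensional F V] in
/-- A vector killed by everything killing `φ` is a multiple of `φ`. -/
theorem exists_smul_of_perp {φ y : V} (hφ : φ ≠ 0)
    (h : ∀ x, bil Q φ x = 0 → bil Q y x = 0) : ∃ c : F, c • φ = y := by
  obtain ⟨x₀, hx₀⟩ := orth_exists_ne_zero hN hφ
  refine ⟨bil Q y x₀ / bil Q φ x₀, sub_eq_zero.1 (hN.1 _ fun x => ?_)⟩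
  have := h (x - (bil Q φ x / bil Q φ x₀) • x₀) (by simp [hx₀])
  simp only [map_sub, map_smul, smul_eq_mul] at this
  simp only [map_sub, map_smul, LinearMap.sub_apply, LinearMap.smul_apply, smul_eq_mul]
  rw [sub_eq_zero.1 this]
  field_simp
  ring

/-- The complement of a hyperbolic pair inside `φ^⊥` is not totally orthogonal and contains a
non-degenerate plane. -/
theorem exists_plane {φ a a' : V} (P : HP Q a a') (hφa : bil Q φ a = 0) (hφa' : bil Q φ a' = 0)
    (hQ : Q φ ≠ 0) (h5 : 5 ≤ Module.finrank F V) :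
    ∃ e f, e ∈ Wsub Q a a' ⊓ LinearMap.ker (bil Q φ) ∧
      f ∈ Wsub Q a a' ⊓ LinearMap.ker (bil Q φ) ∧
      (bil Q e f) ^ 2 - 4 * Q e * Q f ≠ 0 := by
  set M := Wsub Q a a' ⊓ LinearMap.ker (bil Q φ) with hM
  have memM : ∀ {x}, x ∈ M ↔ (bil Q a x = 0 ∧ bil Q a' x = 0) ∧ bil Q φ x = 0 := by
    intro x; simp [hM, mem_Wsub]
  have hφ0 : φ ≠ 0 := by rintro rfl; simp at hQ
  -- vectors of `M` orthogonal to `M` are multiples of `φ`
  have hrad : ∀ m ∈ M, (∀ x ∈ M, bil Q m x = 0) → ∃ c : F, c • φ = m := by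
    intro m hm h
    obtain ⟨⟨m1, m2⟩, m3⟩ := memM.1 hm
    refine exists_smul_of_perp hN hφ0 fun x hx => ?_
    have hp : proj Q a a' x ∈ M := by
      obtain ⟨h1, h2⟩ := mem_Wsub.1 (P.proj_mem x)
      exact memM.2 ⟨⟨h1, h2⟩, by simp [proj, hx, hφa, hφa']⟩
    have := h _ hp
    simpa [proj, bil_comm m a, bil_comm m a', m1, m2] using this
  have hdim : 2 ≤ Module.finrank F M := by
    have h1 := P.finrank_W
    let f := (bil Q φ).domRestrict (Wsub Q a a')
    have h2 := LinearMap.finrank_range_add_finrank_ker f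
    have h3 : Module.finrank F (LinearMap.range f) ≤ 1 :=
      (Submodule.finrank_le _).trans (by rw [Module.finrank_self])
    have h4 : (LinearMap.ker f).map (Wsub Q a a').subtype ≤ M := by
      rintro _ ⟨x, hx, rfl⟩
      exact ⟨x.2, hx⟩
    have h5' := Submodule.finrank_mono h4
    rw [Submodule.finrank_map_subtype_eq] at h5'
    omega
  by_contra hcon
  push Not at hcon
  by_cases h2 : (2 : F) = 0
  · -- every pair is orthogonal
    have hz : ∀ e ∈ M, ∀ f ∈ M, bil Q e f = 0 := by
      intro e he f hf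
      have := hcon e f he hf
      have h4 : (4 : F) = 0 := by
        rw [show (4 : F) = 2 * 2 by norm_num, h2, zero_mul]
      rw [h4] at this
      simpa using this
    have hle : M ≤ Submodule.span F {φ} := fun m hm =>
      Submodule.mem_span_singleton.2 (hrad m hm (hz m hm))
    have := Submodule.finrank_mono hle
    rw [finrank_span_singleton hφ0] at this
    omega
  · have hφM : ∀ m ∈ M, (∀ x ∈ M, bil Q m x = 0) → m = 0 := by
      intro m hm h
      obtain ⟨c, rfl⟩ := hrad m hm h
      have := (memM.1 hm).2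
      simp [bil_self, h2, hQ] at this
      simp [this]
    have hM0 : M ≠ ⊥ := fun h => by
      rw [h, finrank_bot] at hdim
      omega
    obtain ⟨m, hm, hm0⟩ := Submodule.exists_mem_ne_zero_of_ne_bot hM0
    obtain ⟨e, he, hQe⟩ : ∃ e ∈ M, Q e ≠ 0 := by
      by_contra hc
      push Not at hc
      refine hm0 (hφM m hm fun x hx => ?_)
      simpa [quad_add, hc m hm, hc x hx] using hc _ (add_mem hm hx)
    have hk : ∀ x ∈ M, bil Q e x = 0 → x = 0 := by
      intro x hx hex
      have hQx : Q x = 0 := by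
        have := hcon e x he hx
        have h4 : (4 : F) ≠ 0 := by
          rw [show (4 : F) = 2 * 2 by norm_num]; exact mul_ne_zero h2 h2
        simpa [hex, h4, hQe] using this
      refine hφM x hx fun y hy => ?_
      have hy' : y - (bil Q e y / (2 * Q e)) • e ∈ M := sub_mem hy (M.smul_mem _ he)
      have hz : bil Q e (y - (bil Q e y / (2 * Q e)) • e) = 0 := by
        simp [bil_self]; field_simp; ring
      have hQz : Q (y - (bil Q e y / (2 * Q e)) • e) = 0 := by
        have := hcon e _ he hy'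
        have h4 : (4 : F) ≠ 0 := by
          rw [show (4 : F) = 2 * 2 by norm_num]; exact mul_ne_zero h2 h2
        simpa [hz, h4, hQe] using this
      have hQs := hcon e _ he (add_mem hx hy')
      rw [map_add, hex, hz, quad_add, hQx, hQz] at hQs
      have h4 : (4 : F) ≠ 0 := by
        rw [show (4 : F) = 2 * 2 by norm_num]; exact mul_ne_zero h2 h2
      simp [h4, hQe, bil_comm x e, hex] at hQs
      exact hQs
    have hle : M ≤ Submodule.span F {e} := fun x hx => by
      have := hk (x - (bil Q e x / (2 * Q e)) • e) (sub_mem hx (M.smul_mem _ he))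
        (by simp [bil_self]; field_simp; ring)
      exact Submodule.mem_span_singleton.2 ⟨_, (sub_eq_zero.1 this).symm⟩
    have := Submodule.finrank_mono hle
    rw [finrank_span_singleton (by rintro rfl; simp at hQe)] at this
    omega

/-- The stabiliser of a non-singular `φ` moves every vector outside `F φ` to many places. -/
theorem card_stab_orbit_ge (h5 : 5 ≤ Module.finrank F V) {φ y : V} (hφ : Q φ ≠ 0)
    (hy : ∀ c : F, c • φ ≠ y) (S : Finset V)
    (hS : ∀ g : siegelGroup Q, g • φ = φ → g • y ∈ S) :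
    (Nat.card F - 1) * Nat.card F ^ (Module.finrank F V - 3) + 1 ≤ S.card := by
  classical
  have : Finite V := Module.finite_of_finite F
  have := Fintype.ofFinite F
  have hφ0 : φ ≠ 0 := by rintro rfl; simp at hφ
  -- a hyperbolic pair in `φ^⊥` with `B(a, y) ≠ 0`
  obtain ⟨a, a', P, ha, ha', hβ⟩ : ∃ a a', HP Q a a' ∧ bil Q φ a = 0 ∧ bil Q φ a' = 0 ∧
      bil Q a y ≠ 0 := by
    obtain ⟨a, ha0, ha, hφa⟩ := exists_singular (Q := Q) ![bil Q φ]
      (by simp only [Fintype.card_fin]; omega)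
    have hφa : bil Q φ a = 0 := hφa 0
    have hi : LinearIndependent F ![a, φ] := by
      rw [LinearIndependent.pair_iff' ha0]
      intro c hc
      exact hφ (by rw [← hc, quad_smul_vec, ha, mul_zero])
    obtain ⟨a', P, hφa'⟩ := exists_HP_perp hN ha ((bil_comm a φ).trans hφa) hi
    by_cases h1 : bil Q a y = 0
    swap
    · exact ⟨a, a', P, hφa, hφa', h1⟩
    by_cases h2 : bil Q a' y = 0
    swap
    · exact ⟨a', a, P.symm, hφa', hφa, h2⟩
    -- `y` has a component in `M`
    obtain ⟨m, hm, hmy⟩ : ∃ m ∈ Wsub Q a a' ⊓ LinearMap.ker (bil Q φ), bil Q m y ≠ 0 := by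
      by_contra hc
      push Not at hc
      obtain ⟨c, hc'⟩ := exists_smul_of_perp hN hφ0 (y := y) fun x hx => by
        obtain ⟨x1, x2⟩ := mem_Wsub.1 (P.proj_mem x)
        have := hc (proj Q a a' x) ⟨P.proj_mem x, by simp [proj, hx, hφa, hφa']⟩
        rw [bil_comm]
        simpa [proj, h1, h2, bil_comm _ y] using this
      exact hy c hc'
    obtain ⟨hm', hmφ⟩ := hm
    obtain ⟨m1, m2⟩ := mem_Wsub.1 hm'
    have hmφ : bil Q φ m = 0 := hmφ
    refine ⟨a + m - Q m • a', a', ⟨?_, P.sing₁, ?_⟩, ?_, hφa', ?_⟩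
    · simp [quad_sub, quad_add, quad_smul_vec, P.sing, P.sing₁, m1, P.one, bil_comm m a', m2]
    · simp [P.one, bil_self_of_singular P.sing₁, bil_comm m a', m2]
    · simp [hφa, hmφ, hφa']
    · simpa [h1, h2] using hmy
  set M := Wsub Q a a' ⊓ LinearMap.ker (bil Q φ) with hM
  have memM : ∀ {x}, x ∈ M ↔ (bil Q a x = 0 ∧ bil Q a' x = 0) ∧ bil Q φ x = 0 := by
    intro x; simp [hM, mem_Wsub]
  obtain ⟨e, f, he, hf, hD⟩ := exists_plane hN P ha ha' hφ h5
  -- elements of the orbit
  let T := fun z : V => ∃ g : siegelGroup Q, g • φ = φ ∧ g • y = z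
  have hTS : ∀ z, T z → z ∈ S := fun z ⟨g, h1, h2⟩ => h2 ▸ hS g h1
  have hT : ∀ z, T z → ∀ u w, Q u = 0 → bil Q u w = 0 → bil Q φ u = 0 → bil Q φ w = 0 →
      T (sg Q u w • z) := by
    rintro z ⟨g, h1, rfl⟩ u w hu hw h3 h4
    exact ⟨sg Q u w * g, by rw [mul_smul, h1, sg_fix hu hw h3 h4], by rw [mul_smul]⟩
  -- a starting vector from which every pairing with `a` is reached
  obtain ⟨y', hy', hβ', hval⟩ : ∃ y', T y' ∧ bil Q a y' ≠ 0 ∧
      ∀ t : F, ∃ w ∈ M, bil Q y' w + bil Q a' y' * Q w = t := by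
    have hgood : ∀ z : V, (bil Q a' z = 0 → ∃ w ∈ M, bil Q z w ≠ 0) →
        ∀ t : F, ∃ w ∈ M, bil Q z w + bil Q a' z * Q w = t := by
      intro z hz t
      by_cases hγ : bil Q a' z = 0
      · obtain ⟨w, hw, hne⟩ := hz hγ
        exact ⟨(t / bil Q z w) • w, M.smul_mem _ hw, by simp [hγ, hne]⟩
      · obtain ⟨s, r, h⟩ := binary_surjective (A := bil Q a' z * Q e)
          (B := bil Q a' z * bil Q e f) (C := bil Q a' z * Q f)
          (by
            intro h0
            refine hD ((mul_eq_zero.1 (?_ : bil Q a' z ^ 2 * _ = 0)).resolve_left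
              (pow_ne_zero 2 hγ))
            linear_combination h0)
          (bil Q z e) (bil Q z f) t
        refine ⟨s • e + r • f, add_mem (M.smul_mem _ he) (M.smul_mem _ hf), ?_⟩
        simp [quad_add, quad_smul_vec]
        linear_combination h
    by_cases hc : bil Q a' y = 0 → ∃ w ∈ M, bil Q y w ≠ 0
    · exact ⟨y, ⟨1, one_smul _ _, one_smul _ _⟩, hβ, hgood y hc⟩
    push Not at hc
    obtain ⟨hγ, hc⟩ := hc
    have hef : ∃ u ∈ M, ∃ w ∈ M, bil Q u w ≠ 0 := by
      by_cases h : bil Q e f = 0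
      · refine ⟨e, he, e, he, ?_⟩
        rw [bil_self]
        intro h'
        refine hD ?_
        rw [h]
        linear_combination (-2 * Q f) * h'
      · exact ⟨e, he, f, hf, h⟩
    obtain ⟨m, hm, m', hm', hmm⟩ := hef
    obtain ⟨⟨m1, m2⟩, m3⟩ := memM.1 hm
    obtain ⟨⟨n1, n2⟩, n3⟩ := memM.1 hm'
    refine ⟨sg Q a m • y, hT _ ⟨1, one_smul _ _, one_smul _ _⟩ _ _ P.sing m1 ha m3, ?_,
      hgood _ fun _ => ⟨m', hm', ?_⟩⟩
    · rw [sg_act P.sing m1]
      simp [m1, bil_self_of_singular P.sing, hβ]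
    · rw [sg_act P.sing m1]
      simp [hc m' hm', n1, bil_comm y a, hβ, hmm]
  set β := bil Q a y'
  set γ := bil Q a' y'
  choose w hwM hwv using hval
  have hz : ∀ t, T (sg Q a' (w t) • y') ∧ bil Q a (sg Q a' (w t) • y') = β - t := by
    intro t
    obtain ⟨⟨w1, w2⟩, w3⟩ := memM.1 (hwM t)
    refine ⟨hT _ hy' _ _ P.sing₁ w2 ha' w3, ?_⟩
    rw [sg_act P.sing₁ w2]
    simp [w1, P.one, bil_comm y' a']
    linear_combination -(hwv t)
  let img := ((Finset.univ.erase β) ×ˢ (Set.toFinite (M : Set V)).toFinset).image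
    fun p : F × V => sg Q a p.2 • (sg Q a' (w p.1) • y')
  have hB : ∀ p ∈ (Finset.univ.erase β) ×ˢ (Set.toFinite (M : Set V)).toFinset,
      bil Q a (sg Q a p.2 • (sg Q a' (w p.1) • y')) = β - p.1 ∧
        (bil Q a p.2 = 0 ∧ bil Q a' p.2 = 0) ∧ bil Q φ p.2 = 0 := by
    intro p hp
    obtain ⟨-, hp2⟩ := Finset.mem_product.1 hp
    rw [Set.Finite.mem_toFinset] at hp2
    obtain ⟨⟨h1, h2⟩, h3⟩ := memM.1 hp2
    refine ⟨?_, ⟨h1, h2⟩, h3⟩
    rw [sg_act P.sing h1]
    simp [h1, bil_self_of_singular P.sing, (hz p.1).2]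
  have hinj : Set.InjOn (fun p : F × V => sg Q a p.2 • (sg Q a' (w p.1) • y'))
      ((Finset.univ.erase β) ×ˢ (Set.toFinite (M : Set V)).toFinset : Finset (F × V)) := by
    intro p hp p' hp' e'
    obtain ⟨hp1, -⟩ := Finset.mem_product.1 (Finset.mem_coe.1 hp)
    obtain ⟨b1, ⟨h1, h2⟩, -⟩ := hB p hp
    obtain ⟨b1', ⟨h1', h2'⟩, -⟩ := hB p' hp'
    have e1 : p.1 = p'.1 := by
      have := congrArg (bil Q a) e'
      simp only at this
      rw [b1, b1'] at this
      linear_combination -this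
    obtain ⟨t, m⟩ := p
    obtain ⟨t', m'⟩ := p'
    simp only at e1 h1 h2 h1' h2' e' hp1
    subst e1
    have hne : β - t ≠ 0 := sub_ne_zero.2 (Finset.mem_erase.1 hp1).1.symm
    have hzb := (hz t).2
    generalize sg Q a' (w t) • y' = z at e' hzb
    simp only [sg_act P.sing h1, sg_act P.sing h1', bil_comm z a, hzb] at e'
    have e2 := congrArg (fun x => proj Q a a' x) e'
    simp [proj, h1, h2, h1', h2', bil_self_of_singular P.sing, P.symm.one] at e2
    refine Prod.ext rfl (smul_right_injective V hne ?_)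
    show (β - t) • m = (β - t) • m'
    linear_combination (norm := module) e2
  have hnot : sg Q a' (w β) • y' ∉ img := by
    intro hmem
    obtain ⟨p, hp, e'⟩ := Finset.mem_image.1 hmem
    have := congrArg (bil Q a) e'
    rw [(hB p hp).1, (hz β).2, sub_self, sub_eq_zero] at this
    exact (Finset.mem_erase.1 (Finset.mem_product.1 hp).1).1 this.symm
  have hsub : insert (sg Q a' (w β) • y') img ⊆ S := by
    intro x hx
    rcases Finset.mem_insert.1 hx with rfl | hx
    · exact hTS _ (hz β).1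
    · obtain ⟨p, hp, rfl⟩ := Finset.mem_image.1 hx
      obtain ⟨-, ⟨h1, -⟩, h3⟩ := hB p hp
      exact hTS _ (hT _ (hz p.1).1 _ _ P.sing h1 ha h3)
  refine le_trans ?_ (Finset.card_le_card hsub)
  rw [Finset.card_insert_of_notMem hnot, Finset.card_image_of_injOn hinj, Finset.card_product,
    Finset.card_erase_of_mem (Finset.mem_univ _), Finset.card_univ, Nat.card_eq_fintype_card,
    ← Nat.card_eq_card_finite_toFinset]
  refine Nat.add_le_add_right (Nat.mul_le_mul_left _ ?_) 1
  show _ ≤ Nat.card M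
  rw [Module.natCard_eq_pow_finrank (K := F) (V := M), Nat.card_eq_fintype_card]
  refine Nat.pow_le_pow_right Fintype.card_pos ?_
  have h1 := P.finrank_W
  let g := (bil Q φ).domRestrict (Wsub Q a a')
  have h2 := LinearMap.finrank_range_add_finrank_ker g
  have h3 : Module.finrank F (LinearMap.range g) ≤ 1 :=
    (Submodule.finrank_le _).trans (by rw [Module.finrank_self])
  have h4 : (LinearMap.ker g).map (Wsub Q a a').subtype ≤ M := by
    rintro _ ⟨x, hx, rfl⟩
    exact ⟨x.2, hx⟩
  have h5' := Submodule.finrank_mono h4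
  rw [Submodule.finrank_map_subtype_eq] at h5'
  omega

end Cfsg.Agent.MinDeg.Orth
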