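import Cfsg.Agent.Lib.MinDeg.OrthRegular

/-!
No small transitive action has a point with trivial stabiliser in some radical (unless other
annihilators are totally singular subspaces).
-/

set_option autoImplicit false

namespace Cfsg.Agent.MinDeg.Orth

open Cfsg.Agent.ClassicalSimple

variable {F V : Type*} [Field F] [AddCommGroup V] [Module F V] {Q : QuadraticForm F V}
  [Fintype F] [FiniteDimensional F V] {Ω : Type*} [Fintype Ω]
  {ρ : siegelGroup Q →* Equiv.Perm Ω} {k n0 n00 C J cC cC' : ℕ}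

theorem coe_sg_smul {v v₁ : V} {e m x : Wsub Q v v₁} (he : QW Q v v₁ e = 0)
    (hem : bil (QW Q v v₁) e m = 0) :
    ((sg (QW Q v v₁) e m • x : Wsub Q v v₁) : V) = sg Q (e : V) (m : V) • (x : V) := by
  rw [sg_act he hem, sg_act (Q := Q) (v := (e : V)) he hem]
  rfl

theorem coe_orefl_smul {v v₁ : V} {e x : Wsub Q v v₁} (he : QW Q v v₁ e ≠ 0) :
    ((orefl he • x : Wsub Q v v₁) : V) = orefl (show Q (e : V) ≠ 0 from he) • (x : V) := rfl

namespace Ctx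

variable {v v₁ : V} (h : Ctx ρ v v₁ k n0 n00 C J cC cC')
include h

/-- Some `sg v x * sg A B` fixes a point, and `x` is almost invariant under the centraliser. -/
theorem exists_twist (hfree : ∀ ω, Free ρ v ω) (hd : Fintype.card Ω = Fintype.card F ^ k)
    {A B : V} (qA : Q A = 0) (qB : Q B = 0) (ab : bil Q A B = 0) (va : bil Q v A = 0)
    (v₁a : bil Q v₁ A = 0) (vb : bil Q v B = 0) (v₁b : bil Q v₁ B = 0) (ω₀ : Ω) :
    ∃ x : Wsub Q v v₁, ρ (sg Q v (x : V) * sg Q A B) ω₀ = ω₀ ∧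
      ∀ l : siegelGroup Q, l • v = v → l • v₁ = v₁ → l • A = A → l • B = B →
        ∃ s r : F, l • (x : V) - (x : V) = s • A + r • B := by
  have hv := h.pair.sing
  set g := sg Q A B
  have hg : Scales g v v₁ 1 :=
    ⟨one_ne_zero, by rw [one_smul]; exact sg_fix qA ab va vb,
      by rw [inv_one, one_smul]; exact sg_fix qA ab v₁a v₁b⟩
  obtain ⟨x, hx⟩ := h.exists_tau hfree hd (ρ g ω₀) ω₀
  refine ⟨x, by rw [map_mul, Equiv.Perm.mul_apply]; exact hx, fun l l1 l2 l3 l4 => ?_⟩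
  have hls : Scales l v v₁ 1 :=
    ⟨one_ne_zero, by rw [one_smul, l1], by rw [inv_one, one_smul, l2]⟩
  obtain ⟨y, hy⟩ := h.exists_tau hfree hd ω₀ (ρ l ω₀)
  have hcomm : l * g = g * l := sg_fix_comm l3 l4
  have t1 := tau_scales (ρ := ρ) h.pair hls x
  have t2 := tau_scales (ρ := ρ) h.pair hg y
  rw [one_smul] at t1 t2
  have e1 : ρ l ω₀ = tau ρ v ((hls.mapW x + hg.mapW y : Wsub Q v v₁) : V) (ρ g ω₀) := by
    nth_rw 1 [← hx]
    rw [← Equiv.Perm.mul_apply (ρ l), ← t1, Equiv.Perm.mul_apply, ← Equiv.Perm.mul_apply (ρ l),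
      ← map_mul, hcomm, map_mul, Equiv.Perm.mul_apply, ← hy, ← Equiv.Perm.mul_apply (ρ g),
      ← t2, Equiv.Perm.mul_apply, Submodule.coe_add,
      tau_add ρ hv (mem_Wsub.1 (hls.mapW x).2).1 (mem_Wsub.1 (hg.mapW y).2).1,
      Equiv.Perm.mul_apply]
  have e2 : ρ l ω₀ = tau ρ v ((y + x : Wsub Q v v₁) : V) (ρ g ω₀) := by
    rw [Submodule.coe_add, tau_add ρ hv (mem_Wsub.1 y.2).1 (mem_Wsub.1 x.2).1,
      Equiv.Perm.mul_apply, hx, hy]
  have e3 := congrArg Subtype.val (h.unique_tau hfree (e1.symm.trans e2))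
  simp only [Submodule.coe_add, Scales.coe_mapW] at e3
  refine ⟨bil Q (y : V) B, -bil Q (y : V) A, ?_⟩
  rw [sg_act qA ab, qB, zero_mul, add_zero] at e3
  generalize l • (x : V) = lx at e3 ⊢
  linear_combination (norm := module) e3

omit h in
/-- The product of the twist is a Siegel element, which cannot fix a point. -/
theorem false_of_twist (hall : ∀ u : V, Q u = 0 → u ≠ 0 → ∀ ω, Free ρ u ω) (hv : Q v = 0)
    {A A₁ B B₁ : V} (qA : Q A = 0) (qB : Q B = 0) (ab : bil Q A B = 0) (va : bil Q v A = 0)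
    (vb : bil Q v B = 0) (va₁ : bil Q v A₁ = 0) (vb₁ : bil Q v B₁ = 0) (aa₁ : bil Q A A₁ = 1)
    (bb₁ : bil Q B B₁ = 1) (a₁b : bil Q A₁ B = 0) {α β : F} {ω : Ω}
    (hx : ρ (sg Q v (β • B + α • A) * sg Q A B) ω = ω) : False := by
  set B' := B - α • v with hB'
  have qB' : Q B' = 0 := by
    rw [hB', quad_sub, quad_smul_vec, qB, hv, map_smul, bil_comm B v, vb]; simp
  have AB' : bil Q A B' = 0 := by simp [hB', ab, bil_comm A v, va]
  have hβ : bil Q v (β • B) = 0 := by simp [vb]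
  have hα : bil Q v (α • A) = 0 := by simp [va]
  have e1 : sg Q v (α • A) * sg Q A B = sg Q A B' := by
    rw [sg_swap hv (by rw [quad_smul_vec, qA, mul_zero]) hα,
      sg_smul_left qA (by simp [bil_comm A v, va]),
      sg_mul qA (by simp [bil_comm A v, va]) ab]
    congr 1
    simp [hB']; abel
  have e2 : sg Q v (β • B) = sg Q (β • v) B' := by
    rw [sg_smul_left hv (by simp [hB', vb, bil_self_of_singular hv]),
      ← sg_add_self hv hβ (-(β * α))]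
    congr 1
    simp [hB', smul_sub, smul_smul]; abel
  have hvB' : bil Q (β • v) B' = 0 := by simp [hB', vb, bil_self_of_singular hv]
  have e3 : sg Q v (β • B + α • A) * sg Q A B = sg Q B' (-(β • v) + -A) := by
    rw [← sg_mul hv hβ hα, mul_assoc, e1, e2,
      sg_swap (by rw [quad_smul_vec, hv, mul_zero]) qB' hvB', sg_swap qA qB' AB',
      sg_mul qB' (by rw [map_neg, bil_comm B', hvB', neg_zero])
        (by rw [map_neg, bil_comm B', AB', neg_zero])]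
  have hB'0 : B' ≠ 0 := by
    intro e
    have := congrArg (bil Q B₁) e
    simp [hB', bil_comm B₁ B, bb₁, bil_comm B₁ v, vb₁] at this
  obtain ⟨s, hs⟩ := hall B' qB' hB'0 ω (-(β • v) + -A)
    (by rw [map_add, map_neg, map_neg, bil_comm B' (β • v), hvB', bil_comm B' A, AB']; simp)
    (e3 ▸ hx)
  have := congrArg (bil Q A₁) hs
  simp [hB', a₁b, bil_comm A₁ v, va₁, bil_comm A₁ A, aa₁] at this

omit h in
theorem hmem_double {a a₁ : Wsub Q v v₁} {b b₁ : Wsub (QW Q v v₁) a a₁}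
    (m : Wsub (QW (QW Q v v₁) a a₁) b b₁) :
    bil Q v (((m : Wsub (QW Q v v₁) a a₁) : Wsub Q v v₁) : V) = 0 ∧
    bil Q v₁ (((m : Wsub (QW Q v v₁) a a₁) : Wsub Q v v₁) : V) = 0 ∧
    bil Q (a : V) (((m : Wsub (QW Q v v₁) a a₁) : Wsub Q v v₁) : V) = 0 ∧
    bil Q (a₁ : V) (((m : Wsub (QW Q v v₁) a a₁) : Wsub Q v v₁) : V) = 0 ∧
    bil Q ((b : Wsub Q v v₁) : V) (((m : Wsub (QW Q v v₁) a a₁) : Wsub Q v v₁) : V) = 0 ∧
    bil Q ((b₁ : Wsub Q v v₁) : V) (((m : Wsub (QW Q v v₁) a a₁) : Wsub Q v v₁) : V) = 0 :=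
  ⟨(mem_Wsub.1 ((m : Wsub (QW Q v v₁) a a₁) : Wsub Q v v₁).2).1,
    (mem_Wsub.1 ((m : Wsub (QW Q v v₁) a a₁) : Wsub Q v v₁).2).2,
    (mem_Wsub.1 (m : Wsub (QW Q v v₁) a a₁).2).1, (mem_Wsub.1 (m : Wsub (QW Q v v₁) a a₁).2).2,
    (mem_Wsub.1 m.2).1, (mem_Wsub.1 m.2).2⟩

/-- In dimension six the double complement has no singular vectors. -/
theorem double_aniso {a a₁ : Wsub Q v v₁} (Pa : HP (QW Q v v₁) a a₁)
    {b b₁ : Wsub (QW Q v v₁) a a₁} (Pb : HP (QW (QW Q v v₁) a a₁) b b₁) (hJ : J < 3)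
    (s : Wsub (QW (QW Q v v₁) a a₁) b b₁) (hs : QW (QW (QW Q v v₁) a a₁) b b₁ s = 0) :
    s = 0 := by
  by_contra hs0
  obtain ⟨-, -, s3, s4, s5, s6⟩ := hmem_double s
  have ab : bil Q (a : V) ((b : Wsub Q v v₁) : V) = 0 := (mem_Wsub.1 b.2).1
  have a₁b : bil Q (a₁ : V) ((b : Wsub Q v v₁) : V) = 0 := (mem_Wsub.1 b.2).2
  have ab₁ : bil Q (a : V) ((b₁ : Wsub Q v v₁) : V) = 0 := (mem_Wsub.1 b₁.2).1
  let S : Wsub Q v v₁ := ((s : Wsub (QW Q v v₁) a a₁) : Wsub Q v v₁)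
  have qA : Q (a : V) = 0 := Pa.sing
  have qB : Q ((b : Wsub Q v v₁) : V) = 0 := Pb.sing
  have qS : Q (S : V) = 0 := hs
  have hTS : ∀ w ∈ Submodule.span F {a, (b : Wsub Q v v₁), S}, Q (w : V) = 0 := by
    intro w hw
    refine quad_span_eq_zero (Q := QW Q v v₁) ?_ ?_ hw
    · rintro z (rfl | rfl | rfl)
      exacts [qA, qB, qS]
    · rintro z (rfl | rfl | rfl) z' (rfl | rfl | rfl) <;> rw [bil_QW]
      exacts [bil_self_of_singular qA, ab, s3, (bil_comm _ _).trans ab,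
        bil_self_of_singular qB, s5, (bil_comm _ _).trans s3, (bil_comm _ _).trans s5,
        bil_self_of_singular qS]
  have hi : LinearIndependent F ![a, (b : Wsub Q v v₁), S] := by
    rw [Fintype.linearIndependent_iff]
    intro d hd
    simp only [Fin.sum_univ_three, Matrix.cons_val_zero, Matrix.cons_val_one,
      Matrix.cons_val] at hd
    have s4' : bil Q (a₁ : V) S = 0 := s4
    have s6' : bil Q ((b₁ : Wsub Q v v₁) : V) S = 0 := s6
    have aa : bil Q (a₁ : V) a = 1 := Pa.symm.one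
    have bb : bil Q ((b₁ : Wsub Q v v₁) : V) (b : Wsub Q v v₁) = 1 := Pb.symm.one
    have b₁a : bil Q ((b₁ : Wsub Q v v₁) : V) a = 0 := by rw [bil_comm]; exact ab₁
    have d0 : d 0 = 0 := by
      have e := congrArg (fun z : Wsub Q v v₁ => bil Q (a₁ : V) z) hd
      simpa [aa, a₁b, s4'] using e
    have d1 : d 1 = 0 := by
      have e := congrArg (fun z : Wsub Q v v₁ => bil Q ((b₁ : Wsub Q v v₁) : V) z) hd
      simpa [bb, b₁a, s6'] using e
    have hS0 : S ≠ 0 := fun e => hs0 (Subtype.ext (Subtype.ext e))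
    rw [d0, d1, zero_smul, zero_smul, zero_add, zero_add, smul_eq_zero] at hd
    intro i
    fin_cases i
    exacts [d0, d1, hd.resolve_right hS0]
  have h1 := finrank_span_eq_card hi
  rw [Matrix.range_cons, Matrix.range_cons, Matrix.range_cons, Matrix.range_empty,
    Set.union_empty, Set.singleton_union, Set.singleton_union, Fintype.card_fin] at h1
  have h2 := h.geo.ts_dim h.pair _ hTS
  omega

omit h in
theorem coe_sg_smul₃ {a a₁ : Wsub Q v v₁} {b b₁ : Wsub (QW Q v v₁) a a₁}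
    {e m x : Wsub (QW (QW Q v v₁) a a₁) b b₁} (he : QW (QW (QW Q v v₁) a a₁) b b₁ e = 0)
    (hem : bil (QW (QW (QW Q v v₁) a a₁) b b₁) e m = 0) :
    ((((sg (QW (QW (QW Q v v₁) a a₁) b b₁) e m • x : Wsub (QW (QW Q v v₁) a a₁) b b₁) :
      Wsub (QW Q v v₁) a a₁) : Wsub Q v v₁) : V) =
      sg Q (((e : Wsub (QW Q v v₁) a a₁) : Wsub Q v v₁) : V)
        (((m : Wsub (QW Q v v₁) a a₁) : Wsub Q v v₁) : V) •
        (((x : Wsub (QW Q v v₁) a a₁) : Wsub Q v v₁) : V) := by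
  have h1 := coe_sg_smul (x := x) he hem
  have h2 := coe_sg_smul (Q := QW Q v v₁) (e := (e : Wsub (QW Q v v₁) a a₁))
    (m := (m : Wsub (QW Q v v₁) a a₁)) (x := (x : Wsub (QW Q v v₁) a a₁)) he hem
  have h3 := coe_sg_smul (Q := Q) (e := ((e : Wsub (QW Q v v₁) a a₁) : Wsub Q v v₁))
    (m := ((m : Wsub (QW Q v v₁) a a₁) : Wsub Q v v₁))
    (x := ((x : Wsub (QW Q v v₁) a a₁) : Wsub Q v v₁)) he hem
  exact ((congrArg (fun z : Wsub (QW Q v v₁) a a₁ => ((z : Wsub Q v v₁) : V)) h1).trans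
    (congrArg (fun z : Wsub Q v v₁ => (z : V)) h2)).trans h3

set_option maxHeartbeats 1000000 in
/-- The component of an invariant vector in the double complement vanishes. -/
theorem component_zero (hq : Fintype.card F < 4) {a a₁ : Wsub Q v v₁}
    (Pa : HP (QW Q v v₁) a a₁) {b b₁ : Wsub (QW Q v v₁) a a₁}
    (Pb : HP (QW (QW Q v v₁) a a₁) b b₁) {c : Wsub (QW (QW Q v v₁) a a₁) b b₁}
    (hfixC : ∀ l : siegelGroup Q, l • v = v → l • v₁ = v₁ → l • (a : V) = a →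
      l • ((b : Wsub Q v v₁) : V) = (b : Wsub Q v v₁) → l • (a₁ : V) = a₁ →
      l • ((b₁ : Wsub Q v v₁) : V) = (b₁ : Wsub Q v v₁) →
      l • (((c : Wsub (QW Q v v₁) a a₁) : Wsub Q v v₁) : V) =
        (((c : Wsub (QW Q v v₁) a a₁) : Wsub Q v v₁) : V)) : c = 0 := by
  have hNM := Pb.nondegenerate_QW (Pa.nondegenerate_QW h.nondegW)
  have hk := h.num.k_small hq
  have hM : Module.finrank F (Wsub (QW (QW Q v v₁) a a₁) b b₁) + 4 = k := by
    have := Pa.finrank_W; have := Pb.finrank_W; have := h.finrank_W; omega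
  by_cases h3 : 3 ≤ Module.finrank F (Wsub (QW (QW Q v v₁) a a₁) b b₁)
  · refine eq_zero_of_singular_fixed hNM h3 fun e m he hem => ?_
    obtain ⟨e1, e2, e3, e4, e5, e6⟩ := hmem_double e
    obtain ⟨n1, n2, n3, n4, n5, n6⟩ := hmem_double m
    have he' : Q (((e : Wsub (QW Q v v₁) a a₁) : Wsub Q v v₁) : V) = 0 := he
    have hem' : bil Q (((e : Wsub (QW Q v v₁) a a₁) : Wsub Q v v₁) : V)
        (((m : Wsub (QW Q v v₁) a a₁) : Wsub Q v v₁) : V) = 0 := hem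
    have e7 := hfixC (sg Q _ _) (sg_fix he' hem' e1 n1) (sg_fix he' hem' e2 n2)
      (sg_fix he' hem' e3 n3) (sg_fix he' hem' e5 n5) (sg_fix he' hem' e4 n4)
      (sg_fix he' hem' e6 n6)
    refine Subtype.ext (Subtype.ext (Subtype.ext ?_))
    rw [coe_sg_smul₃ he hem]
    exact e7
  · have hJ := h.num.small_J hq
    refine eq_zero_of_refl_fixed hNM (by omega)
      (h.double_aniso Pa Pb (by omega)) fun c' h1 h2 e => ?_
    obtain ⟨z1, z2, z3, z4, z5, z6⟩ := hmem_double c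
    obtain ⟨n1, n2, n3, n4, n5, n6⟩ := hmem_double c'
    set Cv : V := (((c : Wsub (QW Q v v₁) a a₁) : Wsub Q v v₁) : V)
    set C' : V := (((c' : Wsub (QW Q v v₁) a a₁) : Wsub Q v v₁) : V)
    have q1 : Q Cv ≠ 0 := h1
    have q2 : Q C' ≠ 0 := h2
    have qe : Q C' = Q Cv := e
    have hl' := orefl_mul_mem h.geo.hN h.five_le q1 q2 qe.symm
    have hfix : ∀ z : V, bil Q z Cv = 0 → bil Q z C' = 0 →
        (⟨orefl q1 * orefl q2, hl'⟩ : siegelGroup Q) • z = z := by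
      intro z hz hz'
      rw [← smul_coe, mul_smul, orefl_smul, orefl_smul, hz', mul_zero, zero_smul, sub_zero,
        hz, mul_zero, zero_smul, sub_zero]
    have e7 := hfixC ⟨orefl q1 * orefl q2, hl'⟩ (hfix _ z1 n1) (hfix _ z2 n2)
      (hfix _ z3 n3) (hfix _ z5 n5) (hfix _ z4 n4) (hfix _ z6 n6)
    rw [← smul_coe, mul_smul] at e7
    refine Subtype.ext (Subtype.ext (Subtype.ext ?_))
    rw [coe_orefl_smul, coe_orefl_smul, coe_orefl_smul, coe_orefl_smul, coe_orefl_smul,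
      coe_orefl_smul]
    exact e7

/-- For `q < 4` a product of a radical element and a long root element fixes a point. -/
theorem no_regular_small (hq : Fintype.card F < 4) (hd : Fintype.card Ω = Fintype.card F ^ k)
    (hall : ∀ u : V, Q u = 0 → u ≠ 0 → ∀ ω, Free ρ u ω) (ω₀ : Ω) : False := by
  have hfree := hall v h.pair.sing h.pair.ne_zero
  have hk := h.num.k_small hq
  obtain ⟨a, ha0, ha, -⟩ := exists_singular (Q := QW Q v v₁) (![] : Fin 0 → Module.Dual F _)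
    (by have := h.five_le_W; simp only [Fintype.card_fin]; omega)
  obtain ⟨a₁, Pa⟩ := exists_HP h.nondegW ha ha0
  have hNa := Pa.nondegenerate_QW h.nondegW
  obtain ⟨b, hb0, hb, -⟩ := exists_singular (Q := QW (QW Q v v₁) a a₁)
    (![] : Fin 0 → Module.Dual F _)
    (by have := Pa.finrank_W; have := h.finrank_W; simp only [Fintype.card_fin]; omega)
  obtain ⟨b₁, Pb⟩ := exists_HP hNa hb hb0
  have hNM := Pb.nondegenerate_QW hNa
  obtain ⟨A, hA⟩ : ∃ A : V, A = (a : V) := ⟨_, rfl⟩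
  obtain ⟨A₁, hA₁⟩ : ∃ A : V, A = (a₁ : V) := ⟨_, rfl⟩
  obtain ⟨B, hB⟩ : ∃ A : V, A = ((b : Wsub Q v v₁) : V) := ⟨_, rfl⟩
  obtain ⟨B₁, hB₁⟩ : ∃ A : V, A = ((b₁ : Wsub Q v v₁) : V) := ⟨_, rfl⟩
  have qA : Q A = 0 := hA ▸ ha
  have qB : Q B = 0 := hB ▸ hb
  have aa₁ : bil Q A A₁ = 1 := hA ▸ hA₁ ▸ Pa.one
  have bb₁ : bil Q B B₁ = 1 := hB ▸ hB₁ ▸ Pb.one
  have va : bil Q v A = 0 := hA ▸ (mem_Wsub.1 a.2).1
  have v₁a : bil Q v₁ A = 0 := hA ▸ (mem_Wsub.1 a.2).2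
  have va₁ : bil Q v A₁ = 0 := hA₁ ▸ (mem_Wsub.1 a₁.2).1
  have vb : bil Q v B = 0 := hB ▸ (mem_Wsub.1 (b : Wsub Q v v₁).2).1
  have v₁b : bil Q v₁ B = 0 := hB ▸ (mem_Wsub.1 (b : Wsub Q v v₁).2).2
  have vb₁ : bil Q v B₁ = 0 := hB₁ ▸ (mem_Wsub.1 (b₁ : Wsub Q v v₁).2).1
  have ab : bil Q A B = 0 := hA ▸ hB ▸ (mem_Wsub.1 b.2).1
  have a₁b : bil Q A₁ B = 0 := hA₁ ▸ hB ▸ (mem_Wsub.1 b.2).2
  have ab₁ : bil Q A B₁ = 0 := hA ▸ hB₁ ▸ (mem_Wsub.1 b₁.2).1
  obtain ⟨x, hx, hl⟩ := h.exists_twist hfree hd qA qB ab va v₁a vb v₁b ω₀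
  obtain ⟨m₀, hm₀⟩ : ∃ m : Wsub (QW (QW Q v v₁) a a₁) b b₁, m ≠ 0 := by
    by_contra hc
    push Not at hc
    have : Module.finrank F (Wsub (QW (QW Q v v₁) a a₁) b b₁) = 0 :=
      Module.finrank_zero_iff.2 ⟨fun x y => by rw [hc x, hc y]⟩
    have := Pa.finrank_W; have := Pb.finrank_W; have := h.finrank_W; omega
  obtain ⟨m₁, hm₁⟩ := orth_exists_ne_zero hNM hm₀
  obtain ⟨p1, p2, p3, -, p5, -⟩ := hmem_double m₀
  obtain ⟨-, -, r3, -, r5, -⟩ := hmem_double m₁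
  rw [← hA] at p3 r3
  rw [← hB] at p5 r5
  obtain ⟨M₀, hM₀⟩ : ∃ A : V, A = (((m₀ : Wsub (QW Q v v₁) a a₁) : Wsub Q v v₁) : V) := ⟨_, rfl⟩
  obtain ⟨M₁, hM₁⟩ : ∃ A : V, A = (((m₁ : Wsub (QW Q v v₁) a a₁) : Wsub Q v v₁) : V) := ⟨_, rfl⟩
  have hmm : bil Q M₀ M₁ ≠ 0 := hM₀ ▸ hM₁ ▸ hm₁
  rw [← hM₀] at p1 p2 p3 p5
  rw [← hM₁] at r3 r5
  have xA : bil Q (x : V) A = 0 := by
    obtain ⟨s, r, e⟩ := hl (sg Q A M₀) (sg_fix qA p3 va p1) (sg_fix qA p3 v₁a p2)
      (sg_fix qA p3 (bil_self_of_singular qA) p3) (sg_fix qA p3 ((bil_comm B A).trans ab) p5)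
    rw [sg_act qA p3] at e
    have e' := congrArg (bil Q M₁) e
    simpa [bil_comm M₁ A, bil_comm M₁ B, bil_comm M₁ M₀, r3, r5, hmm] using e'
  have xB : bil Q (x : V) B = 0 := by
    obtain ⟨s, r, e⟩ := hl (sg Q B M₀) (sg_fix qB p5 vb p1) (sg_fix qB p5 v₁b p2)
      (sg_fix qB p5 ab p3) (sg_fix qB p5 (bil_self_of_singular qB) p5)
    rw [sg_act qB p5] at e
    have e' := congrArg (bil Q M₁) e
    simpa [bil_comm M₁ A, bil_comm M₁ B, bil_comm M₁ M₀, r3, r5, hmm] using e'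
  -- the component in the double complement
  let c₁ : Wsub (QW Q v v₁) a a₁ := ⟨proj (QW Q v v₁) a a₁ x, Pa.proj_mem x⟩
  have hc₁ : ((c₁ : Wsub Q v v₁) : V) = (x : V) - bil Q A₁ (x : V) • A := by
    show ((proj (QW Q v v₁) a a₁ x : Wsub Q v v₁) : V) = _
    rw [proj, show bil (QW Q v v₁) a x = 0 by rw [bil_QW, ← hA, bil_comm]; exact xA,
      zero_smul, sub_zero, hA, hA₁]
    rfl
  have c₁B : bil (QW (QW Q v v₁) a a₁) b c₁ = 0 := by
    rw [bil_QW, bil_QW, hc₁, ← hB]; simp [bil_comm B (x : V), xB, bil_comm B A, ab]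
  let c : Wsub (QW (QW Q v v₁) a a₁) b b₁ := ⟨proj (QW (QW Q v v₁) a a₁) b b₁ c₁, Pb.proj_mem c₁⟩
  have hC : (x : V) = (((c : Wsub (QW Q v v₁) a a₁) : Wsub Q v v₁) : V) +
      (bil Q B₁ (x : V) • B + bil Q A₁ (x : V) • A) := by
    have e : bil (QW (QW Q v v₁) a a₁) b₁ c₁ = bil Q B₁ (x : V) := by
      rw [bil_QW, bil_QW, hc₁, ← hB₁]; simp [bil_comm B₁ A, ab₁]
    show (x : V) = ((((proj (QW (QW Q v v₁) a a₁) b b₁ c₁ : Wsub (QW Q v v₁) a a₁)) :
      Wsub Q v v₁) : V) + _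
    rw [proj, e, c₁B, zero_smul, sub_zero, hB]
    show (x : V) = ((c₁ : Wsub Q v v₁) : V) - bil Q B₁ (x : V) • ((b : Wsub Q v v₁) : V) + _
    rw [hc₁]; module
  have hc0 : c = 0 := by
    refine h.component_zero hq Pa Pb fun l l1 l2 l3 l4 l5 l6 => ?_
    rw [← hA] at l3
    rw [← hB] at l4
    rw [← hA₁] at l5
    rw [← hB₁] at l6
    generalize hCv : (((c : Wsub (QW Q v v₁) a a₁) : Wsub Q v v₁) : V) = Cv at hC ⊢
    obtain ⟨s, r, e⟩ := hl l l1 l2 l3 l4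
    rw [hC, smul_add, smul_add, smul_comm l, l4, smul_comm l, l3] at e
    have f1 : bil Q A₁ (l • Cv - Cv) = 0 := by
      rw [map_sub]; nth_rw 1 [← l5]; rw [bil_smul', sub_self]
    have f2 : bil Q B₁ (l • Cv - Cv) = 0 := by
      rw [map_sub]; nth_rw 1 [← l6]; rw [bil_smul', sub_self]
    generalize l • Cv = lC at e f1 f2 ⊢
    have e' : lC - Cv = s • A + r • B := by linear_combination (norm := module) e
    rw [e'] at f1 f2
    simp [bil_comm A₁ A, aa₁, a₁b] at f1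
    simp [bil_comm B₁ B, bb₁, bil_comm B₁ A, ab₁] at f2
    rw [f1, f2, zero_smul, zero_smul, add_zero, sub_eq_zero] at e'
    exact e'
  have hx' : (x : V) = bil Q B₁ (x : V) • B + bil Q A₁ (x : V) • A := by
    conv_lhs => rw [hC, hc0]
    simp
  rw [hx'] at hx
  exact false_of_twist hall h.pair.sing qA qB ab va vb va₁ vb₁ aa₁ bb₁ a₁b hx

end Ctx

/-- No point has a trivial stabiliser in a radical, when there are no large totally singular
annihilators. -/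
theorem Hyp.no_free (H : Hyp ρ k n0 n00 C J cC cC') {v v₁ : V} (P : HP Q v v₁) {ω₁ : Ω}
    (htop : ann ρ v v₁ ω₁ = ⊤)
    (hline : ∀ {u u₁ : V}, HP Q u u₁ → ∀ ω, ann ρ u u₁ ω ≠ ⊤ →
      ∃ s : Wsub Q u u₁, ∀ z ∈ ann ρ u u₁ ω, ∃ c : F, c • s = z) : False := by
  classical
  have hN := H.geo.hN
  have : Finite V := Module.finite_of_finite F
  have := Fintype.ofFinite V
  have hcases := (H.ctx P).free_dichotomy htop (H.ann_ne_bot P) (hline P)
  have hev : ∀ u : {u : V // u ≠ 0 ∧ Q u = 0},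
      Nat.card {ω // Free ρ (u : V) ω} = Fintype.card F ^ k := by
    rintro ⟨u, hu0, hu⟩
    obtain ⟨u₁, P'⟩ := exists_HP hN hu hu0
    obtain ⟨g, e1, e2⟩ := H.exists_pair_map P P'
    refine ((H.ctx P').free_dichotomy (ω₁ := ρ g ω₁) ?_ (H.ann_ne_bot P') (hline P')).1
    exact (ann_eq_top_iff P' hN).2 (e1 ▸ ((ann_eq_top_iff P hN).1 htop).map g)
  rcases hcases.2 with hd | hd
  · have hall : ∀ u : V, Q u = 0 → u ≠ 0 → ∀ ω, Free ρ u ω := by
      intro u hu hu0 ω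
      by_contra hf
      have h1 := hev ⟨u, hu0, hu⟩
      have h2 := Fintype.card_subtype_lt (p := fun ω => Free ρ u ω) hf
      rw [Nat.card_eq_fintype_card] at h1
      simp only at h1
      omega
    by_cases hq : 4 ≤ Fintype.card F
    · exact (H.ctx P).no_regular_large hq hd hall ω₁
    · exact (H.ctx P).no_regular_small (by omega) hd hall ω₁
  · refine no_second_degree H.num hd ?_
    let t : Ω → ℕ := fun ω => Nat.card {u : {u : V // u ≠ 0 ∧ Q u = 0} // Free ρ (u : V) ω}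
    have ht : ∀ ω, t ω = t ω₁ := by
      intro ω
      obtain ⟨g, rfl⟩ := H.trans ω₁ ω
      refine (Nat.card_congr (Equiv.subtypeEquiv
        ⟨fun u => ⟨g • (u : V), fun e => u.2.1 ((smul_eq_zero_iff_eq g).1 e),
            (quad_smul' g _).trans u.2.2⟩,
          fun u => ⟨g⁻¹ • (u : V), fun e => u.2.1 ((smul_eq_zero_iff_eq g⁻¹).1 e),
            (quad_smul' g⁻¹ _).trans u.2.2⟩,
          fun u => Subtype.ext (inv_smul_smul g (u : V)),
          fun u => Subtype.ext (smul_inv_smul g (u : V))⟩ fun u => ?_)).symm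
      refine ⟨fun hu => hu.map g, fun hu => ?_⟩
      have h2 := hu.map g⁻¹
      rw [map_inv, Equiv.Perm.inv_def, Equiv.symm_apply_apply] at h2
      exact (inv_smul_smul g (u : V)) ▸ h2
    have h1 : ∑ u : {u : V // u ≠ 0 ∧ Q u = 0}, Nat.card {ω // Free ρ (u : V) ω} =
        ∑ ω, t ω := by
      simp only [t, Nat.card_eq_fintype_card, Fintype.card_subtype]
      exact Finset.sum_card_bipartiteAbove_eq_sum_card_bipartiteBelow
        (s := Finset.univ) (t := Finset.univ)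
        (fun (u : {u : V // u ≠ 0 ∧ Q u = 0}) ω => Free ρ (u : V) ω)
    rw [Finset.sum_congr rfl fun u _ => hev u, Finset.sum_congr rfl fun ω _ => ht ω,
      Finset.sum_const, Finset.sum_const, smul_eq_mul, smul_eq_mul, Finset.card_univ,
      Finset.card_univ, ← Nat.card_eq_fintype_card,
      card_sing_eq hN P H.geo.dim (H.geo.sing_count P)] at h1
    exact ⟨t ω₁, h1⟩

end Cfsg.Agent.MinDeg.Orth
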