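import Cfsg.Agent.Lib.MinDeg.OrthHyp

/-!
No small transitive action has totally singular annihilators of dimension at least two.
-/

set_option autoImplicit false

namespace Cfsg.Agent.MinDeg.Orth

open Cfsg.Agent.ClassicalSimple

variable {F V : Type*} [Field F] [AddCommGroup V] [Module F V] {Q : QuadraticForm F V}

theorem exists_mem_ker [FiniteDimensional F V] (S : Submodule F V) {r : ℕ}
    (f : Fin r → Module.Dual F V) (h : r < Module.finrank F S) :
    ∃ x ∈ S, x ≠ 0 ∧ ∀ i, f i x = 0 := by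
  let g : S →ₗ[F] (Fin r → F) := LinearMap.pi fun i => f i ∘ₗ S.subtype
  obtain ⟨x, hx, hx0⟩ := Submodule.exists_mem_ne_zero_of_ne_bot
    (LinearMap.ker_ne_bot_of_finrank_lt (f := g) (by rwa [Module.finrank_fin_fun]))
  exact ⟨x, x.2, fun e => hx0 (Subtype.ext e), fun i => congrFun hx i⟩

variable [Fintype F] [FiniteDimensional F V] {Ω : Type*} [Fintype Ω]
  {ρ : siegelGroup Q →* Equiv.Perm Ω} {k n0 n00 C J cC cC' : ℕ}

/-- All annihilators are maximal totally singular subspaces, one orbit for each. -/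
structure AllTS (ρ : siegelGroup Q →* Equiv.Perm Ω) (J : ℕ) : Prop where
  q_four : 4 ≤ Fintype.card F
  two : 2 ≤ J
  sub : ∀ {v v₁ : V}, HP Q v v₁ → ∀ ω, ∃ U : Submodule F (Wsub Q v v₁),
    (∀ w, w ∈ U ↔ w ∈ ann ρ v v₁ ω) ∧ (∀ w ∈ U, Q (w : V) = 0) ∧ Module.finrank F U = J
  uniq : ∀ {v v₁ : V}, HP Q v v₁ → ∀ ω ω', ann ρ v v₁ ω' = ann ρ v v₁ ω →
    orb ρ v v₁ ω' = orb ρ v v₁ ω

namespace Hyp

variable (H : Hyp ρ k n0 n00 C J cC cC')
include H

theorem allTS {v v₁ : V} (P : HP Q v v₁) {ω₀ : Ω} {U : Submodule F (Wsub Q v v₁)}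
    (hU : ∀ w, w ∈ U ↔ w ∈ ann ρ v v₁ ω₀) (hUs : ∀ w ∈ U, Q (w : V) = 0)
    (hU2 : 2 ≤ Module.finrank F U) : AllTS ρ J := by
  have key : ∀ {u u₁ : V}, HP Q u u₁ → 4 ≤ Fintype.card F ∧ ∀ ω, ann ρ u u₁ ω ≠ ⊥ →
      (∃ U : Submodule F (Wsub Q u u₁), (∀ w, w ∈ U ↔ w ∈ ann ρ u u₁ ω) ∧
        (∀ w ∈ U, Q (w : V) = 0) ∧ Module.finrank F U = J) ∧
      ∀ ω', ann ρ u u₁ ω' = ann ρ u u₁ ω → orb ρ u u₁ ω' = orb ρ u u₁ ω := by
    intro u u₁ P'
    obtain ⟨g, e, e₁⟩ := H.exists_pair_map P P'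
    have hinj : Function.Injective (pairMap g e e₁) := fun a b h =>
      Subtype.ext (MulAction.injective g (congrArg Subtype.val h :))
    refine (H.ctx P').survivor (ω₀ := ρ g ω₀) (U := U.map (pairMap g e e₁)) (fun w => ?_)
      (fun w hw => ?_) ?_
    · obtain ⟨z, rfl⟩ : ∃ z, w = pairMap g e e₁ z :=
        ⟨pairMap g⁻¹ (inv_smul_eq_iff.2 e.symm) (inv_smul_eq_iff.2 e₁.symm) w,
          Subtype.ext (smul_inv_smul g (w : V)).symm⟩
      rw [mem_ann_map_iff P, ← hU]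
      exact ⟨fun ⟨y, hy, h⟩ => hinj h ▸ hy, fun hz => ⟨z, hz, rfl⟩⟩
    · obtain ⟨z, hz, rfl⟩ := hw
      rw [coe_pairMap, quad_smul']
      exact hUs z hz
    · rwa [← (Submodule.equivMapOfInjective _ hinj U).finrank_eq]
  exact ⟨(key P).1, le_trans hU2 (H.geo.ts_dim P U hUs),
    fun P' ω => ((key P').2 ω (H.ann_ne_bot P' ω)).1,
    fun P' ω ω' e => ((key P').2 ω (H.ann_ne_bot P' ω)).2 ω' e⟩

variable (hT : AllTS ρ J)
include hT

/-- Each point is fixed by a torus of a pair through each singular vector. -/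
theorem exists_torus_fix {v : V} (hv : Q v = 0) (hv0 : v ≠ 0) (ω : Ω) :
    ∃ v₁, HP Q v v₁ ∧ ∃ t : siegelGroup Q, ∃ c : F, c ^ 2 ≠ 1 ∧ Scales t v v₁ (c ^ 2) ∧
      (∀ w ∈ Wsub Q v v₁, t • w = w) ∧ ρ t ω = ω := by
  classical
  obtain ⟨v₁, P⟩ := exists_HP H.geo.hN hv hv0
  obtain ⟨c, hc⟩ : ∃ c : F, c ∉ ({0, 1, -1} : Finset F) := by
    by_contra hc
    push Not at hc
    have : Fintype.card F ≤ 3 := by
      rw [← Finset.card_univ]
      exact (Finset.card_le_card fun x _ => hc x).trans Finset.card_le_three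
    have := hT.q_four
    omega
  simp only [Finset.mem_insert, Finset.mem_singleton, not_or] at hc
  obtain ⟨hc0, hc1, hc1'⟩ := hc
  have hc2 : c ^ 2 ≠ 1 := by
    rw [ne_eq, sq_eq_one_iff]; tauto
  obtain ⟨t, t1, t2, t3⟩ := exists_torus H.geo.hN H.five_le P hc0
  have ht : Scales t v v₁ (c ^ 2) := ⟨pow_ne_zero 2 hc0, t1, t2⟩
  have hmap : ∀ w, ht.mapW w = w := fun w => Subtype.ext (t3 _ w.2)
  obtain ⟨U, hU, hUs, hUJ⟩ := hT.sub P ω
  obtain ⟨U', hU', hU's, hU'J⟩ := hT.sub P (ρ t ω)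
  have hle : U ≤ U' := fun w hw => by
    have h1 := ann_scales P ht ((hU _).1 (U.smul_mem (c ^ 2) hw))
    rw [hmap, inv_smul_smul₀ ht.ne] at h1
    exact (hU' _).2 h1
  have heq : U = U' := Submodule.eq_of_le_of_finrank_eq hle (hUJ.trans hU'J.symm)
  have horb := hT.uniq P ω (ρ t ω) (AddSubgroup.ext fun w => by rw [← hU', ← heq, hU])
  obtain ⟨w₀, hw₀⟩ := (mem_orb ρ v v₁).1 (horb ▸ self_mem_orb ρ v v₁ (ρ t ω))
  set x : Wsub Q v v₁ := (c ^ 2 - 1)⁻¹ • w₀
  set h := sg Q v (x : V)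
  obtain ⟨x1, x2⟩ := mem_Wsub.1 x.2
  have hv' : h • v = v := sg_fix hv x1 (bil_self_of_singular hv) x1
  have P' : HP Q v (h • v₁) := by
    have := P.map h
    rwa [hv'] at this
  refine ⟨h • v₁, P', h * t * h⁻¹, c, hc2, ⟨ht.ne, ?_, ?_⟩, fun w hw => ?_, ?_⟩
  · rw [mul_smul, mul_smul, inv_smul_eq_iff.2 hv'.symm, t1, smul_comm h, hv']
  · rw [mul_smul, mul_smul, inv_smul_smul, t2, smul_comm h]
  · have hw' : h⁻¹ • w ∈ Wsub Q v v₁ :=
      mem_W_of_map (inv_smul_eq_iff.2 hv'.symm) (inv_smul_smul h v₁) hw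
    rw [mul_smul, mul_smul, t3 _ hw', smul_inv_smul]
  · have e : ρ t (tau ρ v ((-x : Wsub Q v v₁) : V) ω) =
        tau ρ v ((c ^ 2 • (-x) + w₀ : Wsub Q v v₁) : V) ω := by
      rw [← Equiv.Perm.mul_apply, ← tau_scales P ht, hmap, Equiv.Perm.mul_apply, ← hw₀,
        ← Equiv.Perm.mul_apply, ← tau_add ρ hv (mem_Wsub.1 (c ^ 2 • -x).2).1 (mem_Wsub.1 w₀.2).1,
        ← Submodule.coe_add]
    have hx0 : x + (c ^ 2 • (-x) + w₀) = 0 := by
      have h1 : (c ^ 2 - 1) • x = w₀ := smul_inv_smul₀ (sub_ne_zero.2 hc2) w₀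
      linear_combination (norm := module) -h1
    rw [map_mul, map_mul, Equiv.Perm.mul_apply, Equiv.Perm.mul_apply, ← sg_neg hv x1]
    show tau ρ v (x : V) (ρ t (tau ρ v (-(x : V)) ω)) = ω
    rw [show (-(x : V)) = ((-x : Wsub Q v v₁) : V) from rfl, e, ← Equiv.Perm.mul_apply,
      ← tau_add ρ hv x1 (mem_Wsub.1 (c ^ 2 • (-x) + w₀).2).1, ← Submodule.coe_add, hx0,
      Submodule.coe_zero, tau_zero]
    rfl

/-- The totally singular subspace of a vector at a point: its root elements fix the point. -/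
theorem exists_space {v : V} (hv : Q v = 0) (hv0 : v ≠ 0) (ω : Ω) :
    ∃ S : Submodule F V, v ∈ S ∧ (∀ x ∈ S, Q x = 0) ∧ Module.finrank F S = J + 1 ∧
      (∀ a ∈ S, ∀ b ∈ S, ρ (sg Q a b) ω = ω) ∧
      ∀ b, Q b = 0 → bil Q v b = 0 → (∀ t : F, ρ (sg Q v (t • b)) ω = ω) → b ∈ S := by
  obtain ⟨v₁, P, t, c, hc2, ht, t3, htω⟩ := exists_torus_fix H hT hv hv0 ω
  obtain ⟨U, hU, hUs, hUJ⟩ := hT.sub P ω
  have hmap : ∀ w, ht.mapW w = w := fun w => Subtype.ext (t3 _ w.2)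
  have hN := H.geo.hN
  have hUorth : ∀ a ∈ U, ∀ b ∈ U, bil Q (a : V) b = 0 := fun a ha b hb => by
    have := hUs _ (add_mem ha hb)
    rwa [Submodule.coe_add, quad_add, hUs a ha, hUs b hb, zero_add, zero_add] at this
  have hperp : ∀ {w : Wsub Q v v₁}, (∀ u ∈ U, bil Q (u : V) w = 0) → tau ρ v w ω = ω :=
    fun {w} h => (mem_stabW ρ P.sing).1
      (mem_stabW_of_perp P hN fun φ hφ => h φ ((hU φ).2 hφ))
  have hperp' : ∀ {w : Wsub Q v v₁}, tau ρ v w ω = ω →
      ∀ u ∈ U, ∀ s : F, psi F (s * bil Q (u : V) w) = 1 := fun {w} h u hu s => by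
    have := (mem_stabW_iff P hN).1 ((mem_stabW ρ P.sing).2 h) _ ((hU _).1 (U.smul_mem s hu))
    simpa using this
  let S : Submodule F V := Submodule.span F {v} ⊔ U.map (Wsub Q v v₁).subtype
  have hmem : ∀ x, x ∈ S ↔ ∃ α : F, ∃ u ∈ U, x = α • v + (u : V) := by
    intro x
    simp only [S, Submodule.mem_sup, Submodule.mem_span_singleton, Submodule.mem_map]
    constructor
    · rintro ⟨_, ⟨α, rfl⟩, _, ⟨u, hu, rfl⟩, rfl⟩
      exact ⟨α, u, hu, rfl⟩
    · rintro ⟨α, u, hu, rfl⟩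
      exact ⟨_, ⟨α, rfl⟩, _, ⟨u, hu, rfl⟩, rfl⟩
  have hvS : v ∈ S := (hmem v).2 ⟨1, 0, zero_mem _, by simp⟩
  have hsing : ∀ x ∈ S, Q x = 0 := by
    intro x hx
    obtain ⟨α, u, hu, rfl⟩ := (hmem x).1 hx
    simp [quad_add, quad_smul_vec, hv, hUs u hu, (mem_Wsub.1 u.2).1]
  have horth : ∀ x ∈ S, ∀ y ∈ S, bil Q x y = 0 := fun x hx y hy => by
    have := hsing _ (add_mem hx hy)
    rwa [quad_add, hsing x hx, hsing y hy, zero_add, zero_add] at this
  have hcomap : S.comap (Wsub Q v v₁).subtype = U := by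
    ext w
    constructor
    · intro hw
      obtain ⟨α, u, hu, e⟩ := (hmem _).1 hw
      have h2 := congrArg (bil Q v₁) e
      simp [(mem_Wsub.1 w.2).2, (mem_Wsub.1 u.2).2, P.symm.one] at h2
      rw [← h2, zero_smul, zero_add] at e
      exact (Subtype.ext e : w = u) ▸ hu
    · exact fun hw => (hmem _).2 ⟨0, w, hw, by simp⟩
  have hdim : Module.finrank F S = J + 1 := by
    have := (finrank_comap_Wsub hN P hvS hsing).1
    rw [hcomap, hUJ] at this
    omega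
  -- the root elements at `v` fix `ω`
  have hv_fix : ∀ b ∈ S, ρ (sg Q v b) ω = ω := by
    intro b hb
    obtain ⟨β, u, hu, rfl⟩ := (hmem b).1 hb
    rw [add_comm, sg_add_self hv (mem_Wsub.1 u.2).1]
    exact hperp fun z hz => hUorth z hz u hu
  -- so do the ones inside `U`
  have hU_fix : ∀ a ∈ U, ∀ b ∈ U, ρ (sg Q (a : V) (b : V)) ω = ω := by
    intro a ha b hb
    have qa := hUs a ha
    have hab := hUorth a ha b hb
    set g := sg Q (a : V) (b : V)
    have hg : Scales g v v₁ 1 :=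
      ⟨one_ne_zero, by rw [one_smul]; exact sg_fix qa hab (mem_Wsub.1 a.2).1 (mem_Wsub.1 b.2).1,
        by rw [inv_one, one_smul]; exact sg_fix qa hab (mem_Wsub.1 a.2).2 (mem_Wsub.1 b.2).2⟩
    have hgU : ∀ z ∈ U, hg.mapW z = z := fun z hz =>
      Subtype.ext (sg_fix qa hab (hUorth z hz a ha) (hUorth z hz b hb))
    obtain ⟨U', hU', hU's, hU'J⟩ := hT.sub P (ρ g ω)
    have hle : U ≤ U' := fun z hz => by
      have h1 := ann_scales P hg ((hU _).1 hz)
      rw [hgU z hz, inv_one, one_smul] at h1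
      exact (hU' _).2 h1
    have heq : U = U' := Submodule.eq_of_le_of_finrank_eq hle (hUJ.trans hU'J.symm)
    have horb := hT.uniq P ω (ρ g ω) (AddSubgroup.ext fun w => by rw [← hU', ← heq, hU])
    obtain ⟨w, hw⟩ := (mem_orb ρ v v₁).1 (horb ▸ self_mem_orb ρ v v₁ (ρ g ω))
    have hcomm : t * g = g * t := by
      have h := sg_smul_self t (a : V) (b : V)
      rw [t3 _ a.2, t3 _ b.2] at h
      exact h.symm
    have e : tau ρ v ((c ^ 2 • w : Wsub Q v v₁) : V) ω = tau ρ v (w : V) ω := by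
      have h1 : ρ t (ρ g ω) = ρ g ω := by
        rw [← Equiv.Perm.mul_apply, ← map_mul, hcomm, map_mul, Equiv.Perm.mul_apply, htω]
      rw [← hw, ← Equiv.Perm.mul_apply, ← tau_scales P ht, hmap, Equiv.Perm.mul_apply, htω] at h1
      exact h1
    rw [← hw]
    refine hperp fun u hu => eq_zero_of_psi fun s => ?_
    have h2 : tau ρ v ((c ^ 2 • w - w : Wsub Q v v₁) : V) ω = ω := by
      rw [sub_eq_add_neg, add_comm, Submodule.coe_add,
        tau_add ρ hv (mem_Wsub.1 (-w).2).1 (mem_Wsub.1 (c ^ 2 • w).2).1, Equiv.Perm.mul_apply, e,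
        ← Equiv.Perm.mul_apply, ← tau_add ρ hv (mem_Wsub.1 (-w).2).1 (mem_Wsub.1 w.2).1,
        ← Submodule.coe_add, neg_add_cancel, Submodule.coe_zero, tau_zero]
      rfl
    have h3 := hperp' h2 u hu (s / (c ^ 2 - 1))
    rw [Submodule.coe_sub, Submodule.coe_smul, map_sub, map_smul, smul_eq_mul] at h3
    convert h3 using 2
    field_simp [sub_ne_zero.2 hc2]
  refine ⟨S, hvS, hsing, hdim, fun a ha b hb => ?_, fun b hb hvb hfix => ?_⟩
  · have qb := hsing b hb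
    have hab := horth a ha b hb
    rw [sg_swap (hsing a ha) qb hab]
    obtain ⟨α, u, hu, rfl⟩ := (hmem a).1 ha
    obtain ⟨u1, u2⟩ := mem_Wsub.1 u.2
    have qu := hUs u hu
    have hbv : bil Q b v = 0 := horth b hb v hvS
    have hbu : bil Q b (u : V) = 0 := horth b hb u ((hmem _).2 ⟨0, u, hu, by simp⟩)
    rw [neg_add, ← sg_mul qb (by simp [hbv]) (by simp [hbu]), map_mul, Equiv.Perm.mul_apply]
    have e2 : ρ (sg Q b (-(u : V))) ω = ω := by
      obtain ⟨β, u', hu', rfl⟩ := (hmem b).1 hb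
      obtain ⟨u1', u2'⟩ := mem_Wsub.1 u'.2
      rw [sg_swap qb (by simp [qu]) (by rw [map_neg, hbu, neg_zero]),
        show -(u : V) = (-1 : F) • (u : V) by simp,
        sg_smul_left qu (by simp [bil_comm (u : V) v, u1, hUorth u hu u' hu']),
        show (-1 : F) • -(β • v + (u' : V)) = β • v + (u' : V) by
          rw [neg_smul, one_smul, neg_neg],
        ← sg_mul qu (by simp [bil_comm (u : V) v, u1]) (hUorth u hu u' hu'), map_mul,
        Equiv.Perm.mul_apply, hU_fix u hu u' hu']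
      rw [sg_swap qu (by simp [quad_smul_vec, hv]) (by simp [bil_comm (u : V) v, u1]),
        sg_smul_left hv (by simp [u1])]
      exact hv_fix _ (S.smul_mem _ (neg_mem ((hmem _).2 ⟨0, u, hu, by simp⟩)))
    rw [e2, show -(α • v) = (-α) • v from (neg_smul _ _).symm,
      sg_swap qb (by simp [quad_smul_vec, hv]) (by simp [hbv]),
      sg_smul_left hv (by simp [hvb_aux hbv])]
    exact hv_fix _ (S.smul_mem _ (neg_mem hb))
  · -- membership
    have hp : (⟨proj Q v v₁ b, P.proj_mem b⟩ : Wsub Q v v₁) ∈ U := by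
      by_contra hnot
      set w : Wsub Q v v₁ := ⟨proj Q v v₁ b, P.proj_mem b⟩ with hw
      have hQw : Q (w : V) = 0 := by
        show Q (proj Q v v₁ b) = 0
        rw [proj, hvb, zero_smul, sub_zero, quad_sub, quad_smul_vec, hv, hb, map_smul,
          bil_comm b v, hvb]
        simp
      have horw : ∀ u ∈ U, bil Q (u : V) w = 0 := fun u hu => eq_zero_of_psi fun s => by
        refine hperp' ?_ u hu s
        have := hfix 1
        rw [one_smul, sg_proj P hvb] at this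
        exact this
      let U₂ := U ⊔ Submodule.span F {w}
      have hU₂ : ∀ z ∈ U₂, Q (z : V) = 0 := by
        intro z hz
        obtain ⟨u, hu, y, hy, rfl⟩ := Submodule.mem_sup.1 hz
        obtain ⟨a, rfl⟩ := Submodule.mem_span_singleton.1 hy
        simp [quad_add, quad_smul_vec, hUs u hu, hQw, horw u hu]
      have hlt : U < U₂ := by
        refine lt_of_le_of_ne le_sup_left fun e => hnot ?_
        rw [e]
        exact Submodule.mem_sup_right (Submodule.mem_span_singleton_self w)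
      have := Submodule.finrank_lt_finrank_of_lt hlt
      have := H.geo.ts_dim P U₂ hU₂
      omega
    refine (hmem b).2 ⟨bil Q v₁ b, _, hp, ?_⟩
    show b = bil Q v₁ b • v + proj Q v v₁ b
    rw [proj, hvb]; module
where
  hvb_aux {b v : V} (h : bil Q b v = 0) : bil Q v b = 0 := (bil_comm _ _).trans h

/-- There are no totally singular annihilators. -/
theorem no_TS [Nonempty Ω] : False := by
  obtain ⟨ω⟩ := ‹Nonempty Ω›
  obtain ⟨v, hv0, hv⟩ := exists_singular' H.geo.hN H.five_le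
  obtain ⟨v₁, P⟩ := exists_HP H.geo.hN hv hv0
  have horth : ∀ {S : Submodule F V}, (∀ x ∈ S, Q x = 0) → ∀ x ∈ S, ∀ y ∈ S, bil Q x y = 0 :=
    fun {S} hs x hx y hy => by
      have := hs _ (add_mem hx hy)
      rwa [quad_add, hs x hx, hs y hy, zero_add, zero_add] at this
  -- the space of a vector is the space of each of its non-zero vectors
  have key : ∀ {S : Submodule F V}, (∀ x ∈ S, Q x = 0) → Module.finrank F S = J + 1 →
      (∀ a ∈ S, ∀ b ∈ S, ρ (sg Q a b) ω = ω) → ∀ {a}, a ∈ S → a ≠ 0 → ∀ {b}, Q b = 0 →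
      bil Q a b = 0 → (∀ t : F, ρ (sg Q a (t • b)) ω = ω) → b ∈ S := by
    intro S hs hdim hfix a ha ha0 b hb hab hb'
    obtain ⟨S', -, hs', hdim', -, hmax'⟩ := exists_space H hT (hs a ha) ha0 ω
    have hle : S ≤ S' := fun x hx => hmax' x (hs x hx) (horth hs a ha x hx)
      fun t => hfix a ha _ (S.smul_mem t hx)
    rw [Submodule.eq_of_le_of_finrank_eq hle (hdim.trans hdim'.symm)]
    exact hmax' b hb hab hb'
  obtain ⟨S, hvS, hs, hdim, hfix, -⟩ := exists_space H hT hv hv0 ω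
  obtain ⟨S₂, hvS₂, hs₂, hdim₂, hfix₂, -⟩ :=
    exists_space H hT P.sing₁ P.symm.ne_zero ω
  have hJ := hT.two
  obtain ⟨a, haS, ha0, ha⟩ := exists_mem_ker S ![bil Q v₁] (by omega)
  have hav₁ : bil Q a v₁ = 0 := by rw [bil_comm]; exact ha 0
  obtain ⟨b, hbS, hb0, hb⟩ := exists_mem_ker S₂ ![bil Q v, bil Q a] (by omega)
  have hvb : bil Q v b = 0 := hb 0
  have hab : bil Q a b = 0 := hb 1
  have hSb : a ∈ S₂ := by
    refine key hs₂ hdim₂ hfix₂ hbS hb0 (hs a haS) ((bil_comm _ _).trans hab) fun t => ?_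
    have hab0 := horth hs a haS v hvS
    have hbv₁ := horth hs₂ b hbS v₁ hvS₂
    have e1 : ρ (sg Q a (-t • v)) ω = ω := hfix a haS _ (S.smul_mem _ hvS)
    have e2 : ρ (sg Q b v₁) ω = ω := hfix₂ b hbS v₁ hvS₂
    have hk := sg_commutator (w := -t • v) (w' := v₁) (hs a haS) (hs₂ b hbS) hab
      (by simp [hab0]) hbv₁ (by simp [bil_comm b v, hvb]) hav₁
    rw [map_smul, smul_eq_mul, P.symm.one, mul_one, neg_neg] at hk
    have h := congrArg (fun g => ρ g ω) hk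
    simp only [map_mul, map_inv, Equiv.Perm.mul_apply] at h
    rw [Equiv.Perm.inv_eq_iff_eq.2 e1.symm, e2, e1] at h
    have h2 : ρ (sg Q b v₁) (ρ (sg Q b (t • a)) ω) = ρ (sg Q b v₁) ω := by rw [← h, e2]
    exact (ρ (sg Q b v₁)).injective h2
  have hvmem : v ∈ S₂ := key hs₂ hdim₂ hfix₂ hSb ha0 hv (horth hs a haS v hvS)
    fun t => hfix a haS _ (S.smul_mem t hvS)
  have := horth hs₂ v hvmem v₁ hvS₂
  rw [P.one] at this
  exact one_ne_zero this

end Hyp

end Cfsg.Agent.MinDeg.Orth
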