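import Cfsg.Agent.Lib.MinDeg.SympGeom
import Mathlib.LinearAlgebra.Matrix.BilinearForm

/-!
Quadratic forms over the field with two elements polarising to an alternating form: existence,
the square of the Gauss sum, and the effect of a symplectic transvection.
-/

set_option autoImplicit false

namespace Cfsg.Agent.MinDeg.SympF2

open Cfsg.Agent.ClassicalSimple

variable {F : Type*} [Field F] [Fintype F]

theorem two_cases (hF : Fintype.card F = 2) (a : F) : a = 0 ∨ a = 1 := by
  classical
  have h : ({0, 1} : Finset F) = Finset.univ :=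
    Finset.eq_univ_of_card _ (by rw [Finset.card_pair zero_ne_one, hF])
  have ha : a ∈ ({0, 1} : Finset F) := h ▸ Finset.mem_univ a
  simpa using ha

theorem add_self (hF : Fintype.card F = 2) (a : F) : a + a = 0 := by
  have h : (1 : F) + 1 = 0 :=
    (two_cases hF _).resolve_right fun e => one_ne_zero (add_eq_left.1 e)
  linear_combination a * h

theorem neg_eq (hF : Fintype.card F = 2) (a : F) : -a = a :=
  neg_eq_of_add_eq_zero_left (add_self hF a)

theorem eq_one_of_ne_zero (hF : Fintype.card F = 2) {a : F} (h : a ≠ 0) : a = 1 :=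
  (two_cases hF a).resolve_left h

variable {W : Type*} [AddCommGroup W] [Module F W]

theorem vec_add_self (hF : Fintype.card F = 2) (x : W) : x + x = 0 := by
  rw [← two_smul F x, ← one_add_one_eq_two, add_self hF, zero_smul]

theorem vec_neg_eq (hF : Fintype.card F = 2) (x : W) : -x = x :=
  neg_eq_of_add_eq_zero_left (vec_add_self hF x)

theorem smul_mem_of_two (hF : Fintype.card F = 2) (S : AddSubgroup W) (a : F) {x : W}
    (hx : x ∈ S) : a • x ∈ S := by
  rcases two_cases hF a with rfl | rfl
  · rw [zero_smul]; exact S.zero_mem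
  · rwa [one_smul]

variable (B : LinearMap.BilinForm F W)

/-- `q` polarises to `B`. -/
def QF (q : W → F) : Prop := ∀ u v, q (u + v) = q u + q v + B u v

variable {B}

omit [Fintype F] in
theorem QF.zero {q : W → F} (hq : QF B q) : q 0 = 0 := by
  have h := hq 0 0
  simp only [add_zero, map_zero] at h
  exact left_eq_add.1 h

omit [Fintype F] in
theorem QF.add_linear {q : W → F} (hq : QF B q) (u : W) : QF B fun x => q x + B x u := by
  intro x y
  show q (x + y) + B (x + y) u = q x + B x u + (q y + B y u) + B x y
  rw [hq, map_add, LinearMap.add_apply]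
  ring

variable (hF : Fintype.card F = 2) (hA : LinearMap.IsAlt B)
include hF hA

theorem symm (x y : W) : B x y = B y x := by
  rw [← LinearMap.IsAlt.neg hA y x, neg_eq hF]

/-- There is a quadratic form polarising to an alternating form. -/
theorem exists_QF [FiniteDimensional F W] : ∃ q : W → F, QF B q := by
  classical
  let b := Module.finBasis F W
  let M : Matrix (Fin (Module.finrank F W)) (Fin (Module.finrank F W)) F :=
    fun i j => if i < j then B (b i) (b j) else 0
  let C : LinearMap.BilinForm F W := Matrix.toBilin b M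
  have hC : C + LinearMap.BilinForm.flip C = B := by
    refine LinearMap.BilinForm.ext_basis b fun i j => ?_
    have hb : ∀ i j, C (b i) (b j) = M i j := fun i j => by
      rw [← LinearMap.BilinForm.toMatrix_apply, LinearMap.BilinForm.toMatrix_toBilin]
    rw [LinearMap.add_apply, LinearMap.add_apply, LinearMap.BilinForm.flip_apply, hb, hb]
    rcases lt_trichotomy i j with h | h | h
    · simp [M, h, h.not_gt]
    · simp [M, h, hA.self_eq_zero]
    · simp [M, h, h.not_gt, symm hF hA (b i) (b j)]
  refine ⟨fun x => C x x, fun u v => ?_⟩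
  rw [← hC]
  simp only [map_add, LinearMap.add_apply, LinearMap.BilinForm.flip_apply]
  ring

omit hA in
/-- A transvection changes a form by a multiple of the square of the pairing. -/
theorem QF.transv {q : W → F} (hq : QF B q) (x s : W) :
    q (x + B x s • s) = q x + B x s * (q s + 1) := by
  rcases two_cases hF (B x s) with h | h <;> rw [h]
  · simp
  · rw [one_smul, hq, h]; ring

variable [Fintype W]

open Classical in
/-- The zeros of a function. -/
noncomputable def zeros (q : W → F) : Finset W := Finset.univ.filter fun x => q x = 0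

omit hF hA [Fintype F] [AddCommGroup W] [Module F W] in
theorem mem_zeros {q : W → F} {x : W} : x ∈ zeros q ↔ q x = 0 := by simp [zeros]

open Classical in
/-- The sign `(-1) ^ a`. -/
noncomputable def sg (a : F) : ℤ := if a = 0 then 1 else -1

omit hA in
theorem sg_add (a b : F) : sg (a + b) = sg a * sg b := by
  rcases two_cases hF a with rfl | rfl <;> rcases two_cases hF b with rfl | rfl <;>
    simp [sg, add_self hF]

/-- The number of zeros of a non-degenerate form. -/
theorem zeros_sq {q : W → F} (hq : QF B q) (hN : B.Nondegenerate) :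
    (2 * ((zeros q).card : ℤ) - Fintype.card W) ^ 2 = Fintype.card W := by
  classical
  have hS : ∑ x, sg (q x) = 2 * ((zeros q).card : ℤ) - Fintype.card W := by
    have : ∀ x, sg (q x) = 2 * (if q x = 0 then (1 : ℤ) else 0) - 1 := fun x => by
      by_cases h : q x = 0 <;> simp [sg, h]
    simp only [this, Finset.sum_sub_distrib, ← Finset.mul_sum, Finset.sum_boole, Finset.sum_const,
      Finset.card_univ, nsmul_eq_mul, mul_one, zeros]
  have hin : ∀ h : W, ∑ x, sg (B x h) = if h = 0 then (Fintype.card W : ℤ) else 0 := by
    intro h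
    split_ifs with h0
    · simp [h0, sg]
    · obtain ⟨y, hy⟩ : ∃ y, B y h ≠ 0 := by
        by_contra hc
        push Not at hc
        exact h0 (hN.2 h hc)
      have e : ∑ x, sg (B x h) = ∑ x, sg (B (x + y) h) :=
        (Equiv.sum_comp (Equiv.addRight y) fun x => sg (B x h)).symm
      simp only [map_add, LinearMap.add_apply, sg_add hF, ← Finset.sum_mul] at e
      rw [eq_one_of_ne_zero hF hy, show sg (1 : F) = -1 by simp [sg]] at e
      omega
  rw [← hS, sq]
  calc (∑ x, sg (q x)) * ∑ x, sg (q x) = ∑ x, ∑ h, sg (q x) * sg (q (x + h)) := by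
        rw [Finset.sum_mul_sum]
        exact Finset.sum_congr rfl fun x _ =>
          (Equiv.sum_comp (Equiv.addLeft x) fun y => sg (q x) * sg (q y)).symm
    _ = ∑ h, sg (q h) * ∑ x, sg (B x h) := by
        rw [Finset.sum_comm]
        refine Finset.sum_congr rfl fun h _ => ?_
        rw [Finset.mul_sum]
        refine Finset.sum_congr rfl fun x _ => ?_
        rw [← sg_add hF, ← sg_add hF, hq]
        congr 1
        linear_combination add_self hF (q x)
    _ = Fintype.card W := by
        simp only [hin, mul_ite, mul_zero, Finset.sum_ite_eq', Finset.mem_univ, if_true, hq.zero]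
        simp [sg]

/-- The zeros number `(4 ^ k ± 2 ^ k) / 2`. -/
theorem zeros_card {q : W → F} (hq : QF B q) (hN : B.Nondegenerate) {k : ℕ}
    (hk : Fintype.card W = 2 ^ k * 2 ^ k) :
    2 * (zeros q).card = 2 ^ k * 2 ^ k + 2 ^ k ∨ 2 * (zeros q).card + 2 ^ k = 2 ^ k * 2 ^ k := by
  have h := zeros_sq hF hA hq hN
  rw [hk, sq] at h
  push_cast at h
  rcases mul_self_eq_mul_self_iff.1 h with h | h
  · refine Or.inl ?_
    zify
    linear_combination h
  · refine Or.inr ?_
    zify
    linear_combination h

theorem zeros_lb {q : W → F} (hq : QF B q) (hN : B.Nondegenerate) {k : ℕ}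
    (hk : Fintype.card W = 2 ^ k * 2 ^ k) :
    2 ^ k * 2 ^ k ≤ 2 * (zeros q).card + 2 ^ k := by
  have h := zeros_card hF hA hq hN hk
  generalize 2 ^ k = a at h ⊢
  omega

/-- The zeros do not form a subgroup. -/
theorem zeros_not_subgroup {q : W → F} (hq : QF B q) (hN : B.Nondegenerate) {k : ℕ} (hk2 : 2 ≤ k)
    (hk : Fintype.card W = 2 ^ k * 2 ^ k) (S : AddSubgroup W) (hS : ∀ x, x ∈ S ↔ q x = 0) :
    False := by
  classical
  have hc : Nat.card S = (zeros q).card := by
    rw [Nat.card_eq_fintype_card, ← Fintype.card_coe (zeros q)]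
    exact Fintype.card_congr (Equiv.subtypeEquivRight fun x => by rw [mem_zeros, hS])
  have hd : (zeros q).card ∣ 2 ^ (k + k) := by
    rw [← hc, pow_add, ← hk, ← Nat.card_eq_fintype_card]
    exact S.card_addSubgroup_dvd_card
  obtain ⟨j, hj, e⟩ := (Nat.dvd_prime_pow Nat.prime_two).1 hd
  have h4 : 4 ≤ 2 ^ k := le_trans (by norm_num) (Nat.pow_le_pow_right two_pos hk2)
  have h := zeros_card hF hA hq hN hk
  rw [e, ← pow_succ', ← pow_add] at h
  have h4' : 2 ^ k < 2 ^ (k + k) / 2 := by
    rw [pow_add]
    have : 2 ^ k * 4 ≤ 2 ^ k * 2 ^ k := Nat.mul_le_mul_left _ h4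
    omega
  rcases h with h | h
  · rcases le_or_gt (j + 1) (k + k) with hle | hle
    · have := Nat.pow_le_pow_right two_pos hle
      omega
    · have := Nat.pow_le_pow_right two_pos (show k + k + 1 ≤ j + 1 from hle)
      rw [pow_succ] at this
      omega
  · rcases le_or_gt (k + k) (j + 1) with hle | hle
    · have := Nat.pow_le_pow_right two_pos hle
      omega
    · have := Nat.pow_le_pow_right two_pos (show j + 1 + 1 ≤ k + k from hle)
      rw [pow_succ] at this
      omega

end Cfsg.Agent.MinDeg.SympF2
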