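import Cfsg.Agent.Lib.MinDeg.OrthStructure

/-!
The numerical conditions `Num`: from general bounds for `q ≥ 4`, and the minus type for `q = 2, 3`.
-/

set_option autoImplicit false

namespace Cfsg.Agent.MinDeg.Orth

theorem Z1_le {q k n0 X : ℕ} (h : q * n0 + (q - 1) * q ^ k ≤ (q - 1) * X) :
    Z1 q k n0 ≤ (q - 1) * (X + 1) := by
  rw [Z1, mul_add, mul_one]
  omega

/-- `Num` for `q ≥ 4` from bounds on `n00` and `C`. -/
theorem num_large {q k n0 n00 C J : ℕ} (hq : 4 ≤ q) (hk : 5 ≤ k) (hJ1 : 1 ≤ J) (hJ : 2 * J ≤ k)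
    (hn0 : n0 = q - 1 + q * n00 + (q - 1) * q ^ (k - 2))
    (hL : (q - 1) * q ^ (k - 4) ≤ n00) (hU : n00 < (q - 1) * q ^ (k - 3)) (hd : q - 1 ∣ n00)
    (hC : q / 2 * ((q ^ 2 - 1) * q ^ (k - 3)) ≤ C)
    (hspan : ∀ j, 3 ≤ j → j ≤ J + 1 →
      (q ^ j - 1) * ((q ^ (j - 1) - 1) * (q ^ (j - 2) - 1)) ≤ (q - 1) * (n0 * n00))
    (hts : ∀ j, 2 ≤ j → j ≤ J → cb q * (q ^ (j - 1) - 1) < n00 ∨
      (j = J ∧ q * (q ^ (j - 1) - 1) < n00)) :
    Num q k n0 n00 C J 3 3 := by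
  have hn0d : q - 1 ∣ n0 := by
    rw [hn0]
    exact dvd_add (dvd_add dvd_rfl (hd.mul_left q)) (dvd_mul_right _ _)
  have hn0' := hn0
  obtain ⟨i, rfl⟩ : ∃ i, k = i + 4 := ⟨k - 4, by omega⟩
  obtain ⟨p, rfl⟩ : ∃ p, q = p + 1 := ⟨q - 1, by omega⟩
  have e2 : (p + 1) ^ 2 - 1 = p * (p + 2) := by
    rw [show (p + 1) ^ 2 = p * (p + 2) + 1 by ring]; omega
  simp only [Nat.add_sub_cancel, show i + 4 - 3 = i + 1 by omega, show i + 4 - 2 = i + 2 by omega,
    e2, pow_add, pow_one] at hn0 hL hU hC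
  have hP : 1 ≤ (p + 1) ^ i := Nat.one_le_pow _ _ (by omega)
  have hs : p ≤ 2 * ((p + 1) / 2) := by omega
  have hp : 3 ≤ p := by omega
  generalize hPdef : (p + 1) ^ i = P at hn0 hL hU hC hP
  generalize (p + 1) / 2 = s at hC hs
  -- bounds
  have hLn : p * ((p + 1) * (p + 2)) * P ≤ n0 := by
    rw [hn0]
    have := Nat.mul_le_mul_left (p + 1) hL
    linarith only [this, hp, show p * ((p + 1) * (p + 2)) * P =
      (p + 1) * (p * P) + p * (P * (p + 1) ^ 2) by ring]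
  have hUn : n0 + 1 ≤ 2 * p * (p + 1) ^ 2 * P := by
    rw [hn0]
    have := Nat.mul_le_mul_left (p + 1) (Nat.succ_le_of_lt hU)
    linarith only [this, hp, show (p + 1) * (n00.succ) = (p + 1) * n00 + p + 1 by
      rw [Nat.succ_eq_add_one]; ring, show 2 * p * (p + 1) ^ 2 * P =
      (p + 1) * (p * (P * (p + 1))) + p * (P * (p + 1) ^ 2) by ring]
  have hCs : p ^ 2 * (p + 1) * (p + 2) * P ≤ 2 * C := by
    have := Nat.mul_le_mul_right (p * (p + 2) * (P * (p + 1))) hs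
    linarith only [this, hC, show p * (p * (p + 2) * (P * (p + 1))) =
      p ^ 2 * (p + 1) * (p + 2) * P by ring,
      show 2 * s * (p * (p + 2) * (P * (p + 1))) = 2 * (s * (p * (p + 2) * (P * (p + 1)))) by ring]
  have hC2 : 2 * (p * (p + 2) * (P * (p + 1))) ≤ C :=
    le_trans (Nat.mul_le_mul_right _ (by omega)) hC
  have hpow4 : (p + 1) ^ (i + 4) = (p + 1) ^ 4 * P := by rw [pow_add, hPdef, mul_comm]
  refine ⟨by omega, hk, fun h => absurd h (by omega), ?_, ?_, hn0', hn0d, hJ1, ?_, ?_, ?_, ?_, ?_,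
    ?_, fun h => absurd h (by omega), hspan, fun j hj hjJ => ?_⟩
  · rw [hn0]; omega
  · rw [show i + 4 - 1 = i + 3 by omega, pow_add, hPdef, Nat.add_sub_cancel]
    nlinarith only [hUn, hp, hP, show 0 ≤ p * (p + 1) ^ 2 * P * (p - 1) from Nat.zero_le _,
      Nat.mul_le_mul_left (p * (p + 1) ^ 2 * P) (show 2 ≤ p + 1 by omega)]
  · rw [cb, if_pos (by omega)]
    refine Z1_le ?_
    rw [Nat.add_sub_cancel, hpow4]
    obtain ⟨K, hK⟩ : ∃ K, p * (p + 3) = K + (p + 1) := ⟨p * (p + 3) - (p + 1), by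
      have := Nat.mul_le_mul_right (p + 3) hp; omega⟩
    have a1 := Nat.mul_le_mul_left K hLn
    have a3 := Nat.mul_le_mul_left (p * (p + 1) * P) (show (p + 1) ^ 3 ≤ (p + 2) * K by
      nlinarith only [hK, hp])
    rw [show p * ((p + 1 + 1 + 1) * n0) = (K + (p + 1)) * n0 by rw [← hK]; ring]
    linarith only [a1, a3]
  · have := Nat.mul_le_mul_left (2 * p * (p + 1) * P) (show p + 1 ≤ p + 2 by omega)
    linarith only [this, hUn, hC2]
  · refine Z1_le ?_
    rw [Nat.add_sub_cancel, hpow4]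
    have a1 := Nat.mul_le_mul_left (p + 1) hUn
    by_cases h3 : p = 3
    · subst h3
      omega
    · have a2 := Nat.mul_le_mul_left (2 * p) hCs
      have a3 := Nat.mul_le_mul_left (p * (p + 1) * P)
        (show (p + 3) * (p + 1) ^ 2 ≤ 2 * p ^ 2 * (p + 2) by
          obtain ⟨r, rfl⟩ : ∃ r, p = r + 4 := ⟨p - 4, by omega⟩
          nlinarith)
      linarith only [a1, a2, a3]
  · rw [Nat.add_sub_cancel, show i + 4 - 3 = i + 1 by omega, pow_add, hPdef, pow_one]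
    have : (p + 1) ^ 1 ≤ (p + 1) ^ i := Nat.pow_le_pow_right (by omega) (by omega)
    rw [hPdef, pow_one] at this
    have h9 := Nat.mul_le_mul hp (Nat.mul_le_mul_right (p + 1) this)
    have e9 : (p + 1) ^ 2 = (p + 1) * (p + 1) := sq _
    omega
  · rw [show (3 + 1) * C + n0 + 1 = ((3 + 1) * C + n0) + 1 from rfl]
    refine Z1_le ?_
    rw [Nat.add_sub_cancel, hpow4]
    have a1 := Nat.mul_le_mul_left (p + 1) hUn
    by_cases h3 : p = 3
    · subst h3
      omega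
    · have a2 := Nat.mul_le_mul_left (2 * p) hCs
      have a3 := Nat.mul_le_mul_left (p * (p + 1) * P)
        (show (p + 3) * (p + 1) ^ 2 ≤ 2 * p ^ 2 * (p + 2) by
          obtain ⟨r, rfl⟩ : ∃ r, p = r + 4 := ⟨p - 4, by omega⟩
          nlinarith)
      linarith only [a1, a2, a3, Nat.zero_le (p * n0)]
  · rw [Nat.add_sub_cancel, show i + 4 - 3 = i + 1 by omega]
    calc 3 * ((p + 1) ^ J - 1) ≤ 3 * (p + 1) ^ J := Nat.mul_le_mul_left 3 (Nat.sub_le _ _)
      _ ≤ p * (p + 1) ^ (i + 1) :=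
        Nat.mul_le_mul hp (Nat.pow_le_pow_right (by omega) (by omega))
  · rcases hts j hj hjJ with h | ⟨h1, h2⟩
    · exact Or.inl h
    refine Or.inr ⟨hq, h1, h2, ?_⟩
    rw [show (p + 1 + 1) * n0 + C + 1 = ((p + 1 + 1) * n0 + C) + 1 from rfl]
    refine Z1_le ?_
    rw [Nat.add_sub_cancel, hpow4]
    obtain ⟨K, hK⟩ : ∃ K, p * (p + 2) = K + (p + 1) := ⟨p * (p + 2) - (p + 1), by
      have := Nat.mul_le_mul_right (p + 2) hp; omega⟩
    have a1 := Nat.mul_le_mul_left K hLn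
    have a2 := Nat.mul_le_mul_left p hCs
    have a3 := Nat.mul_le_mul_left (p * (p + 1) * P)
      (show 2 * (p + 1) ^ 3 ≤ (2 * K + p ^ 2) * (p + 2) by nlinarith only [hK, hp])
    rw [show p * ((p + 1 + 1) * n0 + C) = (K + (p + 1)) * n0 + p * C by rw [← hK]; ring]
    linarith only [a1, a2, a3]

/-- `Num` for the minus type with `q = 2, 3`. -/
theorem num_minus_small {q t : ℕ} (hq : q = 2 ∨ q = 3) (ht : 2 ≤ t)
    (hts : ∀ j, 2 ≤ j → j ≤ t → cb q * (q ^ (j - 1) - 1) < (q ^ t + 1) * (q ^ (t - 1) - 1))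
    (hspan : ∀ j, 3 ≤ j → j ≤ t + 1 → (q ^ j - 1) * ((q ^ (j - 1) - 1) * (q ^ (j - 2) - 1)) ≤
      (q - 1) * ((q ^ (t + 1) + 1) * (q ^ t - 1) * ((q ^ t + 1) * (q ^ (t - 1) - 1)))) :
    Num q (2 * t + 2) ((q ^ (t + 1) + 1) * (q ^ t - 1)) ((q ^ t + 1) * (q ^ (t - 1) - 1))
      (q ^ (2 * t + 1) + q ^ t) t (if q = 2 then 3 else 4) (if q = 2 then 2 else 4) := by
  obtain ⟨r, rfl⟩ : ∃ r, t = r + 2 := ⟨t - 2, by omega⟩
  have hA : 1 ≤ q ^ r := Nat.one_le_pow _ _ (by rcases hq with rfl | rfl <;> omega)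
  obtain ⟨A, hA'⟩ : ∃ A, q ^ r = A + 1 := ⟨q ^ r - 1, by omega⟩
  have e1 : q ^ (r + 2) - 1 = q ^ 2 * A + (q ^ 2 - 1) := by
    rw [pow_add, hA', add_mul, one_mul, mul_comm A]
    have : 1 ≤ q ^ 2 := Nat.one_le_pow _ _ (by rcases hq with rfl | rfl <;> omega)
    omega
  have e2 : q ^ (r + 2 - 1) - 1 = q * A + (q - 1) := by
    rw [show r + 2 - 1 = r + 1 by omega, pow_succ, hA', add_mul, one_mul, mul_comm A]
    rcases hq with rfl | rfl <;> omega
  rcases hq with rfl | rfl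
  all_goals
    refine ⟨by omega, by omega, fun _ => by omega, ?_, ?_, ?_, ?_, by omega, ?_, ?_, ?_, ?_, ?_,
      ?_, fun _ => by omega, hspan, fun j hj hjJ => Or.inl (hts j hj hjJ)⟩
    · rw [e1]
      exact Nat.mul_pos (by omega) (by omega)
    · rw [e1, show 2 * (r + 2) + 2 - 1 = (r + 2) + (r + 2) + 1 by omega]
      simp only [pow_add, hA', pow_one]
      norm_num
      nlinarith only [Nat.zero_le A]
    · rw [e1, e2, show 2 * (r + 2) + 2 - 2 = (r + 2) + (r + 2) by omega]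
      simp only [pow_add, hA', pow_one]
      ring
    · norm_num
      try exact dvd_mul_of_dvd_left (by rw [Nat.dvd_iff_mod_eq_zero, Nat.add_mod, Nat.pow_mod]; norm_num) _
    · norm_num [Z1, cb]
      rw [show 2 * (r + 2) + 2 = (r + 2) + (r + 2) + 2 by omega, e1]
      simp only [pow_add, hA', pow_one]
      norm_num
      nlinarith only [Nat.zero_le A]
    · rw [e1, show 2 * (r + 2) + 1 = (r + 2) + (r + 2) + 1 by omega]
      simp only [pow_add, hA', pow_one]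
      norm_num
      nlinarith only [Nat.zero_le A]
    · norm_num [Z1]
      rw [show 2 * (r + 2) + 2 = (r + 2) + (r + 2) + 2 by omega,
        show 2 * (r + 2) + 1 = (r + 2) + (r + 2) + 1 by omega, e1]
      simp only [pow_add, hA', pow_one]
      norm_num
      nlinarith only [Nat.zero_le A]
    · norm_num
      rw [show 2 * (r + 2) + 2 - 3 = (r + 2) + r + 1 by omega]
      simp only [pow_add, hA', pow_one]
      norm_num
      nlinarith only [Nat.zero_le A]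
    · norm_num [Z1]
      rw [show 2 * (r + 2) + 2 = (r + 2) + (r + 2) + 2 by omega,
        show 2 * (r + 2) + 1 = (r + 2) + (r + 2) + 1 by omega, e1]
      simp only [pow_add, hA', pow_one]
      norm_num
      nlinarith only [Nat.zero_le A]
    · norm_num
      rw [e1, show 2 * (r + 2) + 2 - 3 = (r + 2) + r + 1 by omega]
      simp only [pow_add, hA', pow_one]
      norm_num
      nlinarith only [Nat.zero_le A]

end Cfsg.Agent.MinDeg.Orth
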