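import Cfsg.Agent.Lib.MinDeg.OrthMain
import Cfsg.Agent.Lib.ClassicalSimple.OrthMatrix

/-!
The minimal index of a proper subgroup of `POmega`: the number of singular points.
-/

set_option autoImplicit false

namespace Cfsg.Agent.MinDeg.Orth

open Cfsg.Agent.ClassicalSimple

variable {F : Type*} [Field F] {V : Type*} [AddCommGroup V] [Module F V] {Q : QuadraticForm F V}

/-- The stabiliser of the line of `v`. -/
def lineStab (Q : QuadraticForm F V) (v : V) : Subgroup (siegelGroup Q) where
  carrier := {g | ∃ c : F, c ≠ 0 ∧ g • v = c • v}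
  one_mem' := ⟨1, one_ne_zero, by rw [one_smul, one_smul]⟩
  mul_mem' := by
    rintro g h ⟨c, hc, e⟩ ⟨d, hd, e'⟩
    exact ⟨d * c, mul_ne_zero hd hc, by rw [mul_smul, e', smul_comm g, e, smul_smul]⟩
  inv_mem' := by
    rintro g ⟨c, hc, e⟩
    refine ⟨c⁻¹, inv_ne_zero hc, inv_smul_eq_iff.2 ?_⟩
    rw [smul_comm g, e, inv_smul_smul₀ hc]

variable [Fintype F] [FiniteDimensional F V]

/-- The index of the stabiliser of a singular point times `q - 1` is the number of non-zero
singular vectors. -/
theorem lineStab_index (hN : (bil Q).Nondegenerate) (h5 : 5 ≤ Module.finrank F V) {v v₁ : V}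
    (P : HP Q v v₁) :
    (lineStab Q v).index * (Fintype.card F - 1) = Nat.card {x : V // x ≠ 0 ∧ Q x = 0} := by
  classical
  let χ : lineStab Q v →* Fˣ :=
    MonoidHom.toHomUnits
      { toFun := fun g => bil Q v₁ ((g : siegelGroup Q) • v)
        map_one' := by rw [OneMemClass.coe_one, one_smul]; exact P.symm.one
        map_mul' := fun g h => by
          obtain ⟨c, -, hc⟩ := g.2
          obtain ⟨d, -, hd⟩ := h.2
          rw [Subgroup.coe_mul, mul_smul, hd, smul_comm (g : siegelGroup Q), hc, smul_smul,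
            map_smul, map_smul, map_smul, P.symm.one]
          simp [mul_comm] }
  have hχ : ∀ g : lineStab Q v, (χ g : F) = bil Q v₁ ((g : siegelGroup Q) • v) := fun g => rfl
  have hrange : χ.range = ⊤ := by
    rw [eq_top_iff]
    rintro u -
    obtain ⟨g, g1, -⟩ := exists_scale hN h5 P u.ne_zero
    refine ⟨⟨g, u, u.ne_zero, g1⟩, Units.ext ?_⟩
    rw [hχ]
    show bil Q v₁ (g • v) = u
    rw [g1, map_smul, P.symm.one, smul_eq_mul, mul_one]
  have hker : χ.ker = (MulAction.stabilizer (siegelGroup Q) v).subgroupOf (lineStab Q v) := by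
    ext g
    rw [MonoidHom.mem_ker, Subgroup.mem_subgroupOf, MulAction.mem_stabilizer_iff]
    obtain ⟨c, -, hc⟩ := g.2
    constructor
    · intro h
      have h1 : (χ g : F) = 1 := by rw [h]; rfl
      rw [hχ, hc, map_smul, P.symm.one, smul_eq_mul, mul_one] at h1
      rw [hc, h1, one_smul]
    · intro h
      refine Units.ext ?_
      rw [hχ, h, Units.val_one]
      exact P.symm.one
  have h1 : χ.ker.index = Fintype.card F - 1 := by
    rw [Subgroup.index_ker, hrange, Subgroup.card_top, Nat.card_units, Nat.card_eq_fintype_card]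
  have hle : MulAction.stabilizer (siegelGroup Q) v ≤ lineStab Q v := fun g hg =>
    ⟨1, one_ne_zero, by rw [one_smul]; exact hg⟩
  have h2 := Subgroup.relIndex_mul_index hle
  rw [Subgroup.relIndex, ← hker, h1] at h2
  rw [mul_comm, h2, MulAction.index_stabilizer]
  rw [← Nat.card_coe_set_eq]
  refine Nat.card_congr (Equiv.setCongr (t := {x : V | x ≠ 0 ∧ Q x = 0}) (Set.ext fun x => ?_))
  constructor
  · rintro ⟨g, rfl⟩
    exact ⟨fun e => P.ne_zero ((smul_eq_zero_iff_eq g).1 e), (quad_smul' g v).trans P.sing⟩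
  · rintro ⟨hx0, hx⟩
    obtain ⟨g, hg, e⟩ := siegel_trans hN h5 P.ne_zero hx0 P.sing hx
    exact ⟨⟨g, hg⟩, e⟩

variable {ι : Type} [Fintype ι] [DecidableEq ι] {Q' : QuadraticForm F (ι → F)}

/-- The minimal index of a proper subgroup of `POmega`. -/
theorem min_index {k n0 n00 C J cC cC' : ℕ} (geo : Geo Q' k n0 n00 C J)
    (num : Num (Fintype.card F) k n0 n00 C J cC cC') {Z : ℕ}
    (hZ : Nat.card {x : ι → F // Q' x = 0} = Z + 1) :
    (∀ H : Subgroup (Cfsg.POmega F ⇑Q'), H ≠ ⊤ → Z / (Fintype.card F - 1) ≤ H.index) ∧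
      ∃ H : Subgroup (Cfsg.POmega F ⇑Q'), H.index = Z / (Fintype.card F - 1) := by
  classical
  have hN := geo.hN
  have h5 : 5 ≤ Module.finrank F (ι → F) := by have := geo.dim; have := num.k_five; omega
  have : Finite (ι → F) := inferInstance
  have : Finite (OQ Q') :=
    Finite.of_injective (fun g x => g • x) fun g h e => OQ.ext' fun x => congrFun e x
  obtain ⟨v, hv0, hv⟩ := exists_singular' hN h5
  obtain ⟨v₁, P⟩ := exists_HP hN hv hv0
  have hS := lineStab_index hN h5 P
  have hZ1 : Nat.card {x : ι → F // x ≠ 0 ∧ Q' x = 0} = Z := by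
    refine Nat.add_right_cancel (m := 1) ?_
    rw [← hZ, Nat.card_eq_fintype_card, Nat.card_eq_fintype_card, Fintype.card_subtype,
      Fintype.card_subtype, ← Finset.card_erase_add_one
        (s := Finset.univ.filter fun x : ι → F => Q' x = 0) (a := 0) (by simp)]
    congr 2
    ext x
    simp
  rw [hZ1] at hS
  have hq := num.q_two
  have hdiv : Z / (Fintype.card F - 1) = (lineStab Q' v).index := by
    rw [← hS, Nat.mul_div_cancel _ (by omega)]
  let e : Cfsg.Omega F ⇑Q' ≃* siegelGroup Q' :=
    ((isometryEquiv Q').subgroupMap _).trans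
      (MulEquiv.subgroupCongr ((map_commutator_top (isometryEquiv Q')).trans
        (commutator_eq_siegelGroup hN h5)))
  let π : siegelGroup Q' →* Cfsg.POmega F ⇑Q' :=
    (QuotientGroup.mk' (Subgroup.center (Cfsg.Omega F ⇑Q'))).comp e.symm.toMonoidHom
  have hπ : Function.Surjective π := (QuotientGroup.mk'_surjective _).comp e.symm.surjective
  refine ⟨fun H hH => ?_, ⟨(lineStab Q' v).map π, ?_⟩⟩
  · rw [hdiv, ← Subgroup.index_comap_of_surjective H hπ]
    set H' := H.comap π
    have hne : H'.index ≠ 1 := by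
      rw [Subgroup.index_comap_of_surjective H hπ, Ne, Subgroup.index_eq_one]
      exact hH
    have := Fintype.ofFinite (siegelGroup Q' ⧸ H')
    have : Nontrivial (siegelGroup Q' ⧸ H') := by
      rw [← Fintype.one_lt_card_iff_nontrivial, ← Nat.card_eq_fintype_card]
      have : Nat.card (siegelGroup Q' ⧸ H') = H'.index := rfl
      have := Subgroup.index_ne_zero_of_finite (H := H')
      omega
    have hb := degree_bound geo num (MulAction.toPermHom (siegelGroup Q') (siegelGroup Q' ⧸ H'))
      (fun a b => MulAction.exists_smul_eq (siegelGroup Q') a b)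
    rw [← Nat.card_eq_fintype_card (α := siegelGroup Q' ⧸ H'),
      ← card_sing_eq hN P geo.dim (geo.sing_count P), hZ1,
      ← hS] at hb
    exact Nat.le_of_mul_le_mul_right hb (by omega)
  · rw [hdiv, Subgroup.index_map_eq _ hπ]
    intro g hg
    have hc : g ∈ Subgroup.center (siegelGroup Q') := by
      have h1 : e.symm g ∈ Subgroup.center (Cfsg.Omega F ⇑Q') :=
        (QuotientGroup.eq_one_iff _).1 hg
      rw [← center_map_equiv e]
      exact ⟨_, h1, e.apply_symm_apply g⟩
    obtain ⟨a, ha, hga⟩ := (siegel_mem_center_iff hN h5 g).1 hc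
    exact ⟨a, fun h => by simp [h] at ha, hga v⟩

end Cfsg.Agent.MinDeg.Orth
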