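import Cfsg.Agent.Lib.MinDeg.OrthStd
import Cfsg.Agent.Lib.MinDeg.OrthNum
import Cfsg.Agent.Lib.MinDeg.OrthPOmega

/-!
The minimal index of a proper subgroup for the three standard families.
-/

set_option autoImplicit false

namespace Cfsg.Agent.MinDeg.Orth

open Cfsg.Agent.ClassicalSimple
open Cfsg.Agent

variable {F : Type*} [Field F] [Fintype F]

theorem fibre_ge {A₁ A₂ : Type*} [AddCommGroup A₁] [Module F A₁] [FiniteDimensional F A₁]
    [AddCommGroup A₂] [Module F A₂] [FiniteDimensional F A₂] {R : QuadraticForm F A₁}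
    {R' : QuadraticForm F A₂} (e : A₁ ≃ₗ[F] (F × F) × A₂)
    (he : ∀ x, Forms.hypExt R' (e x) = R x) (r : F) :
    Nat.card {c // R c = r} = Fintype.card F * Nat.card {c // R' c = r}
      + (Fintype.card F - 1) * Fintype.card F ^ Module.finrank F A₂ := by
  have : Finite A₂ := Module.finite_of_finite F
  rw [Nat.card_congr (Equiv.subtypeEquiv e.toEquiv (q := fun p => Forms.hypExt R' p = r)
    fun x => by simp [he]), card_fibre_hypExt, Module.natCard_eq_pow_finrank (K := F) (V := A₂),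
    Nat.card_eq_fintype_card (α := F)]

theorem finrank_split {A₁ A₂ : Type*} [AddCommGroup A₁] [Module F A₁]
    [AddCommGroup A₂] [Module F A₂] [FiniteDimensional F A₂] (e : A₁ ≃ₗ[F] (F × F) × A₂) :
    Module.finrank F A₁ = Module.finrank F A₂ + 2 := by
  rw [e.finrank_eq, Module.finrank_prod, Module.finrank_prod, Module.finrank_self, add_comm]

section Chain

variable {V A B D : Type*} [AddCommGroup V] [Module F V] [FiniteDimensional F V]
  [AddCommGroup A] [Module F A] [FiniteDimensional F A]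
  [AddCommGroup B] [Module F B] [FiniteDimensional F B]
  [AddCommGroup D] [Module F D] [FiniteDimensional F D]
  {Q : QuadraticForm F V} {R : QuadraticForm F A} {R' : QuadraticForm F B}
  {R'' : QuadraticForm F D}

/-- `Geo` and `Num` for a thrice split form and `q ≥ 4`. -/
theorem geo_num_large (hN : (bil Q).Nondegenerate)
    (e : V ≃ₗ[F] (F × F) × A) (he : ∀ x, Forms.hypExt R (e x) = Q x)
    (e' : A ≃ₗ[F] (F × F) × B) (he' : ∀ x, Forms.hypExt R' (e' x) = R x)
    (e'' : B ≃ₗ[F] (F × F) × D) (he'' : ∀ x, Forms.hypExt R'' (e'' x) = R' x)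
    {k n0 n00 J : ℕ} (hk : Module.finrank F A = k) (hk5 : 5 ≤ k)
    (hn0 : Nat.card {c // R c = 0} = n0 + 1) (hn00 : Nat.card {c // R' c = 0} = n00 + 1)
    (hq : 4 ≤ Fintype.card F) (hd : Fintype.card F - 1 ∣ n00) (hJ1 : 1 ≤ J) (hJ : 2 * J ≤ k)
    (hts : TSLe R J)
    (hspan : ∀ j, 3 ≤ j → j ≤ J + 1 → (Fintype.card F ^ j - 1) *
      ((Fintype.card F ^ (j - 1) - 1) * (Fintype.card F ^ (j - 2) - 1)) ≤
        (Fintype.card F - 1) * (n0 * n00))
    (hts' : ∀ j, 2 ≤ j → j ≤ J → cb (Fintype.card F) * (Fintype.card F ^ (j - 1) - 1) < n00 ∨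
      (j = J ∧ Fintype.card F * (Fintype.card F ^ (j - 1) - 1) < n00)) :
    ∃ C, Geo Q k n0 n00 C J ∧ Num (Fintype.card F) k n0 n00 C J 3 3 := by
  have : Finite D := Module.finite_of_finite F
  have : Finite B := Module.finite_of_finite F
  have h1 := finrank_split e'
  have h2 := finrank_split e''
  set q := Fintype.card F with hqdef
  have hB : Module.finrank F B = k - 2 := by omega
  have hD : Module.finrank F D = k - 4 := by omega
  refine ⟨q / 2 * ((q ^ 2 - 1) * q ^ (k - 3)), geo_of_split hN e he e' he' hk hk5 hn0 hn00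
    (N := (q ^ 2 - 1) * q ^ (k - 3)) (fun r _ => ?_) le_rfl hts, ?_⟩
  · rw [fibre_ge e' he', fibre_ge e'' he'', hB, hD, ← hqdef]
    have h3 : q ^ (k - 2) = q * q ^ (k - 3) := by rw [← pow_succ', show k - 3 + 1 = k - 2 by omega]
    have h4 : q ^ (k - 3) = q * q ^ (k - 4) := by rw [← pow_succ', show k - 4 + 1 = k - 3 by omega]
    have h5 : q ^ 2 - 1 = (q - 1) * (q + 1) := by
      rw [show q ^ 2 = q * q from sq q, mul_comm (q - 1)]
      simpa using Nat.mul_self_sub_mul_self_eq q 1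
    rw [h5, h3, h4]
    nlinarith only [Nat.zero_le (q * (q * Nat.card {c // R'' c = r}))]
  have hz : n0 + 1 = q * (n00 + 1) + (q - 1) * q ^ (k - 2) := by
    rw [← hn0, Forms.card_zeros_congr e' he', Forms.card_zeros_hypExt, hn00,
      Module.natCard_eq_pow_finrank (K := F) (V := B), hB, Nat.card_eq_fintype_card (α := F)]
  have hz' : n00 + 1 = q * Nat.card {c // R'' c = 0} + (q - 1) * q ^ (k - 4) := by
    rw [← hn00, Forms.card_zeros_congr e'' he'', Forms.card_zeros_hypExt,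
      Module.natCard_eq_pow_finrank (K := F) (V := D), hD, Nat.card_eq_fintype_card (α := F)]
  have : Nonempty {c // R'' c = 0} := ⟨⟨0, QuadraticMap.map_zero _⟩⟩
  have hzlo : 1 ≤ Nat.card {c // R'' c = 0} := Nat.card_pos
  have hzhi : Nat.card {c // R'' c = 0} ≤ q ^ (k - 4) := by
    rw [← hD, hqdef, ← Nat.card_eq_fintype_card, ← Module.natCard_eq_pow_finrank]
    exact Finite.card_subtype_le _
  refine num_large hq hk5 hJ1 hJ ?_ ?_ ?_ hd le_rfl hspan hts'
  · rw [mul_add, mul_one] at hz; omega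
  · have := Nat.mul_le_mul hq hzlo
    omega
  · have h4 : q ^ (k - 3) = q * q ^ (k - 4) := by rw [← pow_succ', show k - 4 + 1 = k - 3 by omega]
    have h6 := Nat.mul_le_mul_left q hzhi
    have h7 : q * q ^ (k - 4) + (q - 1) * q ^ (k - 4) ≤ (q - 1) * (q * q ^ (k - 4)) := by
      rw [← add_mul, ← mul_assoc]
      refine Nat.mul_le_mul_right _ ?_
      have := Nat.mul_le_mul_left (q - 1) hq
      omega
    rw [h4]
    omega

end Chain

theorem span_mono {q n0 n00 J : ℕ} (hq : 1 ≤ q)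
    (h : (q ^ (J + 1) - 1) * ((q ^ J - 1) * (q ^ (J - 1) - 1)) ≤ (q - 1) * (n0 * n00)) :
    ∀ j, 3 ≤ j → j ≤ J + 1 →
      (q ^ j - 1) * ((q ^ (j - 1) - 1) * (q ^ (j - 2) - 1)) ≤ (q - 1) * (n0 * n00) := by
  intro j _ hj
  refine le_trans (Nat.mul_le_mul ?_ (Nat.mul_le_mul ?_ ?_)) h <;>
    exact Nat.sub_le_sub_right (Nat.pow_le_pow_right hq (by omega)) 1

/-- The odd-dimensional groups. -/
theorem min_index_odd (hodd : Odd (Fintype.card F)) (h5 : 5 ≤ Fintype.card F) (s : ℕ) :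
    (∀ H : Subgroup (Cfsg.POmega F (Cfsg.quadFormOdd (s + 3) F)), H ≠ ⊤ →
      (Fintype.card F ^ (2 * (s + 3)) - 1) / (Fintype.card F - 1) ≤ H.index) ∧
    ∃ H : Subgroup (Cfsg.POmega F (Cfsg.quadFormOdd (s + 3) F)),
      H.index = (Fintype.card F ^ (2 * (s + 3)) - 1) / (Fintype.card F - 1) := by
  rw [show Cfsg.quadFormOdd (s + 3) F = ⇑(Forms.quadOdd (s + 3) F) from
    funext fun v => (Forms.quadOdd_apply v).symm]
  have h2 := Forms.two_ne_zero_of_odd_card hodd
  set q := Fintype.card F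
  have hz : ∀ n, Nat.card {v // Forms.quadOdd n F v = 0} = (q ^ (2 * n) - 1) + 1 := fun n => by
    rw [Forms.card_quadOdd_zeros, Nat.sub_add_cancel (Nat.one_le_pow _ _ (by omega))]
  have hts : ∀ n, TSLe (Forms.quadOdd n F) n := by
    intro n
    induction n with
    | zero =>
      refine TSLe.of_aniso fun x hx => ?_
      funext i
      rcases i with ⟨⟩ | i | i
      · simpa [Forms.quadOdd] using hx
      · exact i.elim0
      · exact i.elim0
    | succ n ih => exact ih.hypExt.of_equiv (Forms.splitOdd n F) Forms.quadOdd_succ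
  refine Exists.elim (geo_num_large (k := 2 * (s + 2) + 1) (J := s + 2)
    (bil_nondegenerate _ (Forms.quadOdd_nondegenerate h2 (s + 3)))
    (Forms.splitOdd (s + 2) F) Forms.quadOdd_succ (Forms.splitOdd (s + 1) F) Forms.quadOdd_succ
    (Forms.splitOdd s F) Forms.quadOdd_succ (by simp; ring) (by omega) (hz _) (hz _) (by omega)
    (Nat.sub_one_dvd_pow_sub_one _ _) (by omega) (by omega) (hts _) ?_ ?_)
    fun C h => min_index h.1 h.2 (hz _)
  · refine span_mono (by omega) ?_
    have ea : q ^ (2 * (s + 2)) - 1 = (q ^ (s + 2) + 1) * (q ^ (s + 2) - 1) := by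
      rw [← Nat.sq_sub_sq, one_pow, ← pow_mul, mul_comm 2]
    have eb : q ^ (2 * (s + 1)) - 1 = (q ^ (s + 1) + 1) * (q ^ (s + 1) - 1) := by
      rw [← Nat.sq_sub_sq, one_pow, ← pow_mul, mul_comm 2]
    rw [ea, eb, show s + 2 - 1 = s + 1 by omega]
    have h : q ^ (s + 2 + 1) - 1 ≤ (q - 1) * ((q ^ (s + 2) + 1) * (q ^ (s + 1) + 1)) := by
      have e : q ^ (s + 2 + 1) = q * q ^ (s + 2) := pow_succ' _ _
      have f := Nat.mul_le_mul (show q ≤ q ^ (s + 1) + 1 by
        have := Nat.pow_le_pow_right (show 0 < q by omega) (show 1 ≤ s + 1 by omega)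
        rw [pow_one] at this; omega) (show q ^ (s + 2) ≤ q ^ (s + 2) + 1 by omega)
      have g := Nat.le_mul_of_pos_left ((q ^ (s + 2) + 1) * (q ^ (s + 1) + 1))
        (show 0 < q - 1 by omega)
      rw [mul_comm (q ^ (s + 1) + 1)] at f
      omega
    calc (q ^ (s + 2 + 1) - 1) * ((q ^ (s + 2) - 1) * (q ^ (s + 1) - 1))
        ≤ (q - 1) * ((q ^ (s + 2) + 1) * (q ^ (s + 1) + 1)) *
            ((q ^ (s + 2) - 1) * (q ^ (s + 1) - 1)) := Nat.mul_le_mul_right _ h
      _ = (q - 1) * ((q ^ (s + 2) + 1) * (q ^ (s + 2) - 1) *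
            ((q ^ (s + 1) + 1) * (q ^ (s + 1) - 1))) := by ring
  · intro j hj hjJ
    have eb : q ^ (2 * (s + 1)) - 1 = (q ^ (s + 1) + 1) * (q ^ (s + 1) - 1) := by
      rw [← Nat.sq_sub_sq, one_pow, ← pow_mul, mul_comm 2]
    rw [cb, if_pos (by omega), eb]
    have hle : q ^ (j - 1) - 1 ≤ q ^ (s + 1) - 1 :=
      Nat.sub_le_sub_right (Nat.pow_le_pow_right (by omega) (by omega)) 1
    have hpos : q ≤ q ^ (s + 1) := Nat.le_self_pow (by omega) q
    rcases Nat.eq_zero_or_pos s with rfl | hs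
    · exact Or.inr ⟨by omega, Nat.lt_of_le_of_lt (Nat.mul_le_mul_left q hle)
        (Nat.mul_lt_mul_of_pos_right (by omega) (by omega))⟩
    · refine Or.inl (Nat.lt_of_le_of_lt (Nat.mul_le_mul_left _ hle)
        (Nat.mul_lt_mul_of_pos_right ?_ (by omega)))
      have h7 : q * 1 < q * q := by
        exact Nat.mul_lt_mul_of_pos_left (by omega) (by omega)
      have h8 : q ^ 2 ≤ q ^ (s + 1) := Nat.pow_le_pow_right (by omega) (by omega)
      rw [sq] at h8
      omega

/-- The plus type. -/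
theorem min_index_plus (hq : 4 ≤ Fintype.card F) (s : ℕ) :
    (∀ H : Subgroup (Cfsg.POmega F (Cfsg.quadFormPlus (s + 4) F)), H ≠ ⊤ →
      (Fintype.card F ^ (s + 4) - 1) * (Fintype.card F ^ (s + 3) + 1) / (Fintype.card F - 1)
        ≤ H.index) ∧
    ∃ H : Subgroup (Cfsg.POmega F (Cfsg.quadFormPlus (s + 4) F)), H.index =
      (Fintype.card F ^ (s + 4) - 1) * (Fintype.card F ^ (s + 3) + 1) / (Fintype.card F - 1) := by
  rw [show Cfsg.quadFormPlus (s + 4) F = ⇑(Forms.quadPlus (s + 4) F) from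
    funext fun v => (Forms.quadPlus_apply v).symm]
  set q := Fintype.card F
  have hts : ∀ n, TSLe (Forms.quadPlus n F) n := by
    intro n
    induction n with
    | zero => exact TSLe.of_aniso fun x _ => Subsingleton.elim _ _
    | succ n ih => exact ih.hypExt.of_equiv (Forms.splitPair n F) Forms.quadPlus_succ
  refine Exists.elim (geo_num_large (k := 2 * (s + 3)) (J := s + 3)
    (bil_nondegenerate _ (Forms.quadPlus_nondegenerate (s + 4)))
    (Forms.splitPair (s + 3) F) Forms.quadPlus_succ (Forms.splitPair (s + 2) F) Forms.quadPlus_succ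
    (Forms.splitPair (s + 1) F) Forms.quadPlus_succ (by simp; ring) (by omega)
    (Forms.card_quadPlus_zeros (s + 2)) (Forms.card_quadPlus_zeros (s + 1)) hq
    ((Nat.sub_one_dvd_pow_sub_one _ _).mul_right _) (by omega) le_rfl (hts _) ?_ ?_)
    fun C h => min_index h.1 h.2 (Forms.card_quadPlus_zeros (s + 3))
  · refine span_mono (by omega) ?_
    rw [show s + 3 - 1 = s + 2 by omega, show s + 2 + 1 = s + 3 from rfl,
      show s + 1 + 1 = s + 2 from rfl]
    have h : q ^ (s + 3 + 1) - 1 ≤ (q - 1) * ((q ^ (s + 2) + 1) * (q ^ (s + 1) + 1)) := by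
      obtain ⟨p, hp⟩ : ∃ p, q = p + 1 := ⟨q - 1, by omega⟩
      rw [hp, Nat.add_sub_cancel, Nat.sub_le_iff_le_add]
      have hA : 1 ≤ (p + 1) ^ s := Nat.one_le_pow _ _ (by omega)
      simp only [pow_add, pow_one]
      obtain ⟨A, hA'⟩ : ∃ A, (p + 1) ^ s = A + 1 := ⟨(p + 1) ^ s - 1, by omega⟩
      rw [hA']
      linarith only [show 0 ≤ A * A * p * (p + 1) ^ 3 from Nat.zero_le _,
        Nat.mul_le_mul_left (A * (p + 1) ^ 3) (show p + 1 ≤ 2 * p by omega),
        show 0 ≤ A * p * (p + 1) ^ 2 from Nat.zero_le _,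
        show 0 ≤ A * p * (p + 1) from Nat.zero_le _, Nat.zero_le p]
    calc (q ^ (s + 3 + 1) - 1) * ((q ^ (s + 3) - 1) * (q ^ (s + 2) - 1))
        ≤ (q - 1) * ((q ^ (s + 2) + 1) * (q ^ (s + 1) + 1)) *
            ((q ^ (s + 3) - 1) * (q ^ (s + 2) - 1)) := Nat.mul_le_mul_right _ h
      _ = (q - 1) * ((q ^ (s + 3) - 1) * (q ^ (s + 2) + 1) *
            ((q ^ (s + 2) - 1) * (q ^ (s + 1) + 1))) := by ring
  · intro j hj hjJ
    rw [show Fintype.card F = q from rfl]
    clear_value q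
    rw [show s + 1 + 1 = s + 2 from rfl, cb, if_pos hq]
    have hpos : q ≤ q ^ (s + 1) := Nat.le_self_pow (by omega) q
    have hlt : q ^ (s + 1) < q ^ (s + 2) := Nat.pow_lt_pow_right (by omega) (by omega)
    rcases Nat.lt_or_eq_of_le hjJ with hlt' | rfl
    · refine Or.inl (Nat.lt_of_le_of_lt (Nat.mul_le_mul_left _ (Nat.sub_le_sub_right
        (Nat.pow_le_pow_right (by omega) (show j - 1 ≤ s + 1 by omega)) 1)) ?_)
      rw [mul_comm]
      calc (q ^ (s + 1) - 1) * (q + 1) < (q ^ (s + 2) - 1) * (q + 1) :=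
            Nat.mul_lt_mul_of_pos_right (by omega) (by omega)
        _ ≤ _ := Nat.mul_le_mul_left _ (by omega)
    · refine Or.inr ⟨rfl, ?_⟩
      rw [show s + 3 - 1 = s + 2 by omega, mul_comm]
      exact Nat.mul_lt_mul_of_pos_left (by omega) (by omega)

/-- The minus type. -/
theorem min_index_minus (s : ℕ) {a b : F}
    (hab : ∀ z₁ z₂ : F, z₁ ^ 2 + a * z₁ * z₂ + b * z₂ ^ 2 = 0 → z₁ = 0 ∧ z₂ = 0) :
    (∀ H : Subgroup (Cfsg.POmega F (Cfsg.quadFormMinus (s + 3) F a b)), H ≠ ⊤ →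
      (Fintype.card F ^ (s + 4) + 1) * (Fintype.card F ^ (s + 3) - 1) / (Fintype.card F - 1)
        ≤ H.index) ∧
    ∃ H : Subgroup (Cfsg.POmega F (Cfsg.quadFormMinus (s + 3) F a b)), H.index =
      (Fintype.card F ^ (s + 4) + 1) * (Fintype.card F ^ (s + 3) - 1) / (Fintype.card F - 1) := by
  rw [show Cfsg.quadFormMinus (s + 3) F a b = ⇑(Forms.quadMinus (s + 3) F a b) from
    funext fun v => (Forms.quadMinus_apply v).symm]
  set q := Fintype.card F with hqdef
  have hq2 : 2 ≤ q := Fintype.one_lt_card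
  have hts : ∀ n, TSLe (Forms.quadMinus n F a b) n := by
    intro n
    induction n with
    | zero =>
      exact (TSLe.of_aniso fun x hx => Forms.binQ_eq_zero hab hx).of_equiv (Forms.binCoord F)
        (Forms.binQ_binCoord a b)
    | succ n ih => exact ih.hypExt.of_equiv (Forms.splitMinus n F) Forms.quadMinus_succ
  have hN := bil_nondegenerate _ (Forms.quadMinus_nondegenerate (s + 3) hab)
  have hspan : ∀ j, 3 ≤ j → j ≤ s + 2 + 1 → (q ^ j - 1) * ((q ^ (j - 1) - 1) * (q ^ (j - 2) - 1)) ≤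
      (q - 1) * ((q ^ (s + 3) + 1) * (q ^ (s + 2) - 1) * ((q ^ (s + 2) + 1) * (q ^ (s + 1) - 1))) := by
    refine span_mono (by omega) ?_
    rw [show s + 2 - 1 = s + 1 by omega, show s + 2 + 1 = s + 3 from rfl]
    have h : q ^ (s + 3) - 1 ≤ (q - 1) * ((q ^ (s + 3) + 1) * (q ^ (s + 2) + 1)) := by
      have h1 := Nat.le_mul_of_pos_left ((q ^ (s + 3) + 1) * (q ^ (s + 2) + 1))
        (show 0 < q - 1 by omega)
      have h2 := Nat.le_mul_of_pos_right (q ^ (s + 3) + 1) (show 0 < q ^ (s + 2) + 1 by omega)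
      omega
    calc (q ^ (s + 3) - 1) * ((q ^ (s + 2) - 1) * (q ^ (s + 1) - 1))
        ≤ (q - 1) * ((q ^ (s + 3) + 1) * (q ^ (s + 2) + 1)) *
            ((q ^ (s + 2) - 1) * (q ^ (s + 1) - 1)) := Nat.mul_le_mul_right _ h
      _ = (q - 1) * ((q ^ (s + 3) + 1) * (q ^ (s + 2) - 1) *
            ((q ^ (s + 2) + 1) * (q ^ (s + 1) - 1))) := by ring
  have hts' : ∀ j, 2 ≤ j → j ≤ s + 2 →
      cb q * (q ^ (j - 1) - 1) < (q ^ (s + 2) + 1) * (q ^ (s + 1) - 1) := by
    intro j hj hjJ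
    have hpos : q ^ 1 ≤ q ^ (s + 1) := Nat.pow_le_pow_right (by omega) (by omega)
    have hbig : q ^ 2 ≤ q ^ (s + 2) := Nat.pow_le_pow_right (by omega) (by omega)
    have hcb : cb q ≤ q ^ 2 := by
      have := Nat.mul_le_mul hq2 (le_refl q)
      rw [sq]; unfold cb; split_ifs <;> omega
    rw [pow_one] at hpos
    refine Nat.lt_of_le_of_lt (Nat.mul_le_mul_left _ (Nat.sub_le_sub_right
      (Nat.pow_le_pow_right (by omega) (show j - 1 ≤ s + 1 by omega)) 1))
      (Nat.mul_lt_mul_of_pos_right (by omega) (by omega))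
  by_cases hq : 4 ≤ q
  · obtain ⟨C, geo, num⟩ := geo_num_large (k := 2 * (s + 2) + 2) (J := s + 2) hN
      (Forms.splitMinus (s + 2) F) Forms.quadMinus_succ (Forms.splitMinus (s + 1) F)
      Forms.quadMinus_succ (Forms.splitMinus s F) Forms.quadMinus_succ (by simp; ring) (by omega)
      (Forms.card_quadMinus_zeros (s + 2) hab) (Forms.card_quadMinus_zeros (s + 1) hab) hq
      ((Nat.sub_one_dvd_pow_sub_one _ _).mul_left _) (by omega) (by omega) (hts _) hspan
      fun j hj hjJ => Or.inl (hts' j hj hjJ)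
    exact min_index geo num (Forms.card_quadMinus_zeros (s + 3) hab)
  · have hfib : ∀ n, ∀ r : F, r ≠ 0 →
        Nat.card {c // Forms.quadMinus n F a b c = r} = q ^ (2 * n + 1) + q ^ n := by
      intro n
      induction n with
      | zero =>
        intro r hr
        rw [Nat.card_congr (Equiv.subtypeEquiv (Forms.binCoord F).toEquiv
          (q := fun z => Forms.binQ a b z = r) fun x => by simp [Forms.binQ_binCoord]),
          Forms.card_binQ_fibre hab hr]
        simp [← hqdef]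
      | succ n ih =>
        intro r hr
        rw [fibre_ge (Forms.splitMinus n F) Forms.quadMinus_succ, ih r hr,
          show Module.finrank F ((Fin n ⊕ Fin n) ⊕ Fin 2 → F) = 2 * n + 2 by simp; ring,
          ← hqdef]
        obtain ⟨p, hp⟩ : ∃ p, q = p + 1 := ⟨q - 1, by omega⟩
        rw [hp, Nat.add_sub_cancel]
        ring
    have h23 : q = 2 ∨ q = 3 := by omega
    have geo : Geo (Forms.quadMinus (s + 3) F a b) (2 * (s + 2) + 2)
        ((q ^ (s + 2 + 1) + 1) * (q ^ (s + 2) - 1)) ((q ^ (s + 1 + 1) + 1) * (q ^ (s + 1) - 1))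
        (q ^ (2 * (s + 2) + 1) + q ^ (s + 2)) (s + 2) :=
      geo_of_split hN (Forms.splitMinus (s + 2) F) Forms.quadMinus_succ
        (Forms.splitMinus (s + 1) F) Forms.quadMinus_succ (by simp; ring) (by omega)
        (Forms.card_quadMinus_zeros (s + 2) hab) (Forms.card_quadMinus_zeros (s + 1) hab)
        (fun r hr => (hfib _ r hr).ge) (by rcases h23 with h | h <;> rw [← hqdef, h] <;> simp)
        (hts _)
    exact min_index geo (num_minus_small h23 (by omega) hts' hspan)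
      (Forms.card_quadMinus_zeros (s + 3) hab)

end Cfsg.Agent.MinDeg.Orth
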