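import Cfsg.Agent.Lib.MinDeg.OrthF2Cases
import Cfsg.Agent.Lib.MinDeg.OrthF2Regular
import Cfsg.Agent.Lib.MinDeg.OrthLines
import Cfsg.Agent.Lib.MinDeg.OrthFamilies

/-!
The minimal index of a proper subgroup of the plus type group over two elements.
-/

set_option autoImplicit false

namespace Cfsg.Agent.MinDeg.OrthF2

open Cfsg.Agent.ClassicalSimple Cfsg.Agent.MinDeg.Orth
open Cfsg.Agent
open Cfsg.Agent.MinDeg.SympF2 (two_cases vec_neg_eq eq_one_of_ne_zero)

section Degree

variable {F V : Type*} [Field F] [Fintype F] [AddCommGroup V] [Module F V]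
  [FiniteDimensional F V] {Q : QuadraticForm F V} {s : ℕ} (D : Data Q s)
  {Ω : Type*} [Fintype Ω] {ρ : siegelGroup Q →* Equiv.Perm Ω}
include D

/-- A pair somewhere with a regular orbit gives one everywhere. -/
theorem top_transfer {v v₁ v' v₁' : V} (P : HP Q v v₁) (P' : HP Q v' v₁') {ω : Ω}
    (h : ann ρ v v₁ ω = ⊤) : ∃ ω', ann ρ v' v₁' ω' = ⊤ := by
  obtain ⟨g, hg, h1, h2⟩ := siegel_trans_pair D.hN (by have := D.dim; omega) P.sing P.sing₁
    P'.sing P'.sing₁ P.one P'.one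
  refine ⟨ρ ⟨g, hg⟩ ω, (AddSubgroup.eq_top_iff' _).2 fun z => ?_⟩
  have hz : pairMap ⟨g, hg⟩ h1 h2
      (pairMap (⟨g, hg⟩ : siegelGroup Q)⁻¹ (inv_smul_eq_iff.2 h1.symm) (inv_smul_eq_iff.2 h2.symm) z)
        = z := Subtype.ext (by rw [coe_pairMap, coe_pairMap, smul_inv_smul])
  rw [← hz]
  exact (mem_ann_map_iff P h1 h2).2 (h ▸ AddSubgroup.mem_top _)

/-- A root element at `v` moves exactly the regular points. -/
theorem moved_iff {v v₁ u : V} (P : HP Q v v₁) (hu : bil Q v u = 0) (hu0 : u ≠ 0)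
    (huv : v ≠ u) {ω : Ω} (hω : ann ρ v v₁ ω = ⊤ ∨ ann ρ v v₁ ω = ⊥) :
    ρ (sg Q v u) ω ≠ ω ↔ ann ρ v v₁ ω = ⊤ := by
  constructor
  · intro h
    refine hω.resolve_right fun e => h ?_
    rw [sg_proj P hu]
    refine (mem_stabW ρ P.sing (w := ⟨_, P.proj_mem u⟩)).1
      (mem_stabW_of_perp P D.hN fun φ hφ => ?_)
    rw [e, AddSubgroup.mem_bot] at hφ
    rw [hφ]; simp
  · intro h e
    obtain ⟨a, ha⟩ := (ann_eq_top_iff P D.hN).1 h u hu e
    exact huv (eq_of_smul D.two ha hu0)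

/-- A non-trivial transitive action has at least `32 H² - 4 H` points, `H = 2 ^ (s + 1)`. -/
theorem degree_bound (ρ : siegelGroup Q →* Equiv.Perm Ω) (htrans : ∀ a b : Ω, ∃ g, ρ g a = b)
    [Nontrivial Ω] : 32 * (2 ^ (s + 1)) ^ 2 - 4 * 2 ^ (s + 1) ≤ Fintype.card Ω := by
  classical
  by_contra hlt
  have hsmall := Nat.lt_of_not_le hlt
  have hdim := D.dim
  have hN := D.hN
  have h5 : 5 ≤ Module.finrank F V := by omega
  have hfix : ∀ ω : Ω, ¬ ∀ g, ρ g ω = ω := by
    intro ω h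
    obtain ⟨ω', hω'⟩ := exists_ne ω
    obtain ⟨g, rfl⟩ := htrans ω ω'
    exact hω' (h g)
  obtain ⟨v, hv0, hv⟩ := exists_singular' (Q := Q) hN h5
  obtain ⟨v₁, P⟩ := exists_HP hN hv hv0
  by_cases htop : ∃ ω, ann ρ v v₁ ω = ⊤
  · obtain ⟨ωt, ht⟩ := htop
    have hdich : ∀ {u u₁ : V}, HP Q u u₁ → ∀ ω, ann ρ u u₁ ω = ⊤ ∨ ann ρ u u₁ ω = ⊥ :=
      fun P' => (shapes P' D hsmall).1 (top_transfer D P P' ht)
    have step : ∀ {a a₁ b b₁ : V}, HP Q a a₁ → HP Q b b₁ → bil Q a b = 0 → a ≠ b → ∀ ω,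
        (ann ρ a a₁ ω = ⊤ ↔ ann ρ b b₁ ω = ⊤) := by
      intro a a₁ b b₁ Pa Pb hab hne ω
      have hba : bil Q b a = 0 := (bil_comm _ _).trans hab
      rw [← moved_iff D Pa hab Pb.ne_zero hne (hdich Pa ω),
        ← moved_iff D Pb hba Pa.ne_zero hne.symm (hdich Pb ω),
        sg_swap Pa.sing Pb.sing hab, vec_neg_eq D.two]
    have conn : ∀ {a a₁ b b₁ : V}, HP Q a a₁ → HP Q b b₁ → ∀ ω,
        (ann ρ a a₁ ω = ⊤ ↔ ann ρ b b₁ ω = ⊤) := by
      intro a a₁ b b₁ Pa Pb ω
      by_cases h : bil Q a b = 0 ∧ a ≠ b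
      · exact step Pa Pb h.1 h.2 ω
      obtain ⟨w, hw0, qw, hw⟩ := exists_singular (Q := Q) ![bil Q a, bil Q b, bil Q a₁]
        (by simp only [Fintype.card_fin]; omega)
      rw [forall_vec3 (P := fun φ : Module.Dual F _ => φ w = 0)] at hw
      obtain ⟨h1, h2, h3⟩ := hw
      obtain ⟨w₁, Pw⟩ := exists_HP hN qw hw0
      have hwa : a ≠ w := fun e => by
        rw [← e, Pa.symm.one] at h3
        exact one_ne_zero h3
      refine (step Pa Pw h1 hwa ω).trans (step Pb Pw h2 (fun e => ?_) ω).symm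
      subst e
      exact h ⟨h1, hwa⟩
    by_cases hall : ∀ ω, ann ρ v v₁ ω = ⊤
    · -- all orbits of the radical are regular
      have hlow : low ρ v v₁ = ∅ := Finset.eq_empty_of_forall_notMem fun O hO => by
        obtain ⟨hO, hO'⟩ := Finset.mem_filter.1 hO
        obtain ⟨ω, -, rfl⟩ := Finset.mem_image.1 hO
        exact hO' ω rfl (hall ω)
      have hsplit := degree_split (ρ := ρ) P D
      rw [hlow, Finset.sum_empty, zero_add, Finset.sdiff_empty] at hsplit
      have hr : (orbs ρ v v₁).card = 1 := by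
        have h1 : 1 ≤ (orbs ρ v v₁).card :=
          Finset.card_pos.2 ⟨_, Finset.mem_image_of_mem _ (Finset.mem_univ ωt)⟩
        by_contra hne
        have := Nat.mul_le_mul_right (16 * (2 ^ (s + 1)) ^ 2)
          (show 2 ≤ (orbs ρ v v₁).card by omega)
        rw [← hsplit] at this
        omega
      rw [hr, one_mul] at hsplit
      exact no_regular P D (hsplit.trans (card_W P D).symm)
        (fun P' ω => (conn P P' ω).1 (hall ω)) ωt
    · push Not at hall
      obtain ⟨ω, hω⟩ := hall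
      refine hfix ω (fixed_all_of_long hN h5 fun u x hu hx hux => ?_)
      by_cases hu0 : u = 0
      · rw [hu0, sg_zero_left, map_one]; rfl
      by_cases hx0 : x = 0
      · rw [hx0, sg_zero, map_one]; rfl
      by_cases hne : u = x
      · rw [← hne, ← one_smul F u, one_smul F u]
        rw [show sg Q u u = sg Q u ((1 : F) • u) by rw [one_smul], sg_smul_eq_one hu, map_one]
        rfl
      obtain ⟨u₁, Pu⟩ := exists_HP hN hu hu0
      by_contra hmv
      exact hω ((conn Pu P ω).1 ((moved_iff D Pu hux hx0 hne (hdich Pu ω)).1 hmv))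
  · -- no regular orbit anywhere
    have hlines : ∀ {u u₁ : V}, HP Q u u₁ → ∀ ω, ∃ x : Wsub Q u u₁,
        ∀ z ∈ ann ρ u u₁ ω, ∃ c : F, c • x = z := by
      intro u u₁ P' ω
      have hline := (shapes P' D hsmall).2
        (fun ω' h => htop (top_transfer D P' P h)) ω
      by_cases he : ∃ z ∈ ann ρ u u₁ ω, z ≠ 0
      · obtain ⟨x, hx, hx0⟩ := he
        refine ⟨x, fun z hz => ?_⟩
        by_cases hz0 : z = 0
        · exact ⟨0, by rw [hz0, zero_smul]⟩
        · exact ⟨1, by rw [one_smul, hline x hx z hz hx0 hz0]⟩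
      · push Not at he
        exact ⟨0, fun z hz => ⟨0, by rw [he z hz, zero_smul]⟩⟩
    obtain ⟨ω⟩ : Nonempty Ω := inferInstance
    exact hfix ω (fixed_all_of_long hN h5 fun u x hu hx hux =>
      long_fixed_lines hN (by omega) hlines hx hu (by rw [bil_comm]; exact hux) ω)

end Degree

variable {F : Type*} [Field F] [Fintype F]

/-- The data of the standard form. -/
theorem data_plus (hF : Fintype.card F = 2) (s : ℕ) : Data (Forms.quadPlus (s + 4) F) s := by
  have hts : ∀ n, TSLe (Forms.quadPlus n F) n := by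
    intro n
    induction n with
    | zero => exact TSLe.of_aniso fun x _ => Subsingleton.elim _ _
    | succ n ih => exact ih.hypExt.of_equiv (Forms.splitPair n F) Forms.quadPlus_succ
  have geo := geo_of_split (C := 0) (N := 0) (k := 2 * (s + 3)) (J := s + 3)
    (bil_nondegenerate _ (Forms.quadPlus_nondegenerate (s + 4)))
    (Forms.splitPair (s + 3) F) Forms.quadPlus_succ (Forms.splitPair (s + 2) F) Forms.quadPlus_succ
    (by simp; ring) (by omega) (Forms.card_quadPlus_zeros (s + 2))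
    (Forms.card_quadPlus_zeros (s + 1)) (fun _ _ => Nat.zero_le _) (Nat.zero_le _) (hts _)
  refine ⟨hF, geo.hN, by rw [geo.dim]; ring, fun P => (geo.sing_count P).trans ?_,
    fun P _ _ P' => (geo.sing_count₂ P P').trans ?_, geo.ts_dim⟩
  · rw [hF, show s + 2 + 1 = s + 1 + 2 from rfl, show s + 2 = s + 1 + 1 from rfl, pow_add _ _ 2,
      pow_add _ (s + 1) 1]
    generalize 2 ^ (s + 1) = H
    rcases H with _ | h
    · rfl
    rw [Nat.sub_mul, one_mul]
    ring_nf
    omega
  · rw [hF, show s + 1 + 1 = s + 1 + 1 from rfl, pow_add _ (s + 1) 1]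
    generalize 2 ^ (s + 1) = H
    rcases H with _ | h
    · rfl
    rw [Nat.sub_mul, one_mul]
    ring_nf
    omega

/-- The minimal index for the plus type over two elements. -/
theorem min_index_plus_two (hF : Fintype.card F = 2) (s : ℕ) :
    (∀ H : Subgroup (Cfsg.POmega F (Cfsg.quadFormPlus (s + 4) F)), H ≠ ⊤ →
      2 ^ (s + 3) * (2 ^ (s + 4) - 1) ≤ H.index) ∧
    ∃ H : Subgroup (Cfsg.POmega F (Cfsg.quadFormPlus (s + 4) F)),
      H.index = 2 ^ (s + 3) * (2 ^ (s + 4) - 1) := by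
  classical
  rw [show Cfsg.quadFormPlus (s + 4) F = ⇑(Forms.quadPlus (s + 4) F) from
    funext fun v => (Forms.quadPlus_apply v).symm]
  have D := data_plus hF s
  set Q' := Forms.quadPlus (s + 4) F
  have hN := D.hN
  have hdim := D.dim
  have h5 : 5 ≤ Module.finrank F ((Fin (s + 4) ⊕ Fin (s + 4)) → F) := by omega
  obtain ⟨v, hv0, hv⟩ := exists_singular' (Q := Q') hN h5
  obtain ⟨v₁, P⟩ := exists_HP hN hv hv0
  have qb : Q' (v + v₁) = 1 := by rw [quad_add, P.sing, P.sing₁, P.one]; ring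
  have htarget : 2 ^ (s + 3) * (2 ^ (s + 4) - 1) =
      32 * (2 ^ (s + 1)) ^ 2 - 4 * 2 ^ (s + 1) := by
    rw [show s + 3 = s + 1 + 2 from rfl, show s + 4 = s + 1 + 3 from rfl, pow_add _ _ 2,
      pow_add _ _ 3, Nat.mul_sub_one]
    ring_nf
  rw [htarget]
  refine pomega_min_index hN h5 (fun S _ _ => degree_bound D
    (MulAction.toPermHom (siegelGroup Q') (siegelGroup Q' ⧸ S))
    fun a b => MulAction.exists_smul_eq (siegelGroup Q') a b)
    (S₀ := MulAction.stabilizer (siegelGroup Q') (v + v₁)) ?_ ?_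
  · rw [MulAction.index_stabilizer, ← Nat.card_coe_set_eq,
      Nat.card_congr (Equiv.setCongr (t := {x | Q' x = 1}) (Set.ext fun x => ⟨?_, ?_⟩))]
    · have hz := Forms.card_quadPlus_zeros (F := F) (s + 3)
      rw [hF, Nat.card_eq_fintype_card, Fintype.card_subtype] at hz
      have hall := Finset.card_filter_add_card_filter_not
        (s := (Finset.univ : Finset ((Fin (s + 4) ⊕ Fin (s + 4)) → F))) (fun x => Q' x = 0)
      have e : (Finset.univ.filter fun x => ¬ Q' x = 0) = Finset.univ.filter fun x => Q' x = 1 :=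
        Finset.filter_congr fun x _ => ⟨eq_one_of_ne_zero hF, fun h => h ▸ one_ne_zero⟩
      have hc : (Finset.univ : Finset ((Fin (s + 4) ⊕ Fin (s + 4)) → F)).card = 2 ^ (2 * (s + 4)) := by
        rw [Finset.card_univ, Fintype.card_fun, hF, Fintype.card_sum, Fintype.card_fin, two_mul]
      rw [e, hc, hz] at hall
      rw [Nat.card_eq_fintype_card, Fintype.card_ofFinset]
      rw [show 2 ^ (s + 3 + 1) = 2 ^ (s + 1) * 8 by ring, show 2 ^ (s + 3) = 2 ^ (s + 1) * 4 by ring,
        show 2 ^ (2 * (s + 4)) = (2 ^ (s + 1)) ^ 2 * 64 by ring, Nat.sub_mul, one_mul] at hall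
      rw [show ∀ S : Finset ((Fin (s + 4) ⊕ Fin (s + 4)) → F), (∀ x, x ∈ S ↔ Q' x = 1) →
          S.card = (Finset.univ.filter fun x => Q' x = 1).card from fun S h => by
            congr 1; ext x; simp [h]]
      swap
      · simp
      ring_nf at hall ⊢
      omega
    · rintro ⟨g, rfl⟩
      exact (quad_smul' g _).trans qb
    · intro hx
      obtain ⟨g, hg, e⟩ := siegel_trans_norm hN h5 (b := v + v₁) (b' := x)
        (by rw [qb]; exact one_ne_zero) (qb.trans (Eq.symm hx))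
      exact ⟨⟨g, hg⟩, e⟩
  · intro g a ha hga
    obtain rfl : a = 1 := eq_one_of_ne_zero hF fun h => by rw [h, mul_zero] at ha; exact zero_ne_one ha
    rw [MulAction.mem_stabilizer_iff, hga, one_smul]

end Cfsg.Agent.MinDeg.OrthF2
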