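import Cfsg.Agent.Lib.MinDeg.OrthHyp

/-!
The case of a point with trivial stabiliser in some radical: the degree is then `q^k` and every
radical acts regularly, which is impossible.
-/

set_option autoImplicit false

namespace Cfsg.Agent.MinDeg.Orth

open Cfsg.Agent.ClassicalSimple

variable {F V : Type*} [Field F] [AddCommGroup V] [Module F V] {Q : QuadraticForm F V}
  {Ω : Type*} (ρ : siegelGroup Q →* Equiv.Perm Ω)

/-- Only the trivial Siegel elements at `v` fix `ω`. -/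
def Free (v : V) (ω : Ω) : Prop :=
  ∀ w, bil Q v w = 0 → ρ (sg Q v w) ω = ω → ∃ a : F, a • v = w

variable {ρ}

theorem Free.map {v : V} {ω : Ω} (h : Free ρ v ω) (g : siegelGroup Q) :
    Free ρ (g • v) (ρ g ω) := by
  intro w hw e
  obtain ⟨w, rfl⟩ : ∃ z, w = g • z := ⟨g⁻¹ • w, (smul_inv_smul g w).symm⟩
  rw [← Equiv.Perm.mul_apply, ← map_mul, sg_smul_self, map_mul, Equiv.Perm.mul_apply,
    EmbeddingLike.apply_eq_iff_eq] at e
  obtain ⟨a, rfl⟩ := h w (by rwa [bil_smul'] at hw) e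
  exact ⟨a, (smul_comm g a v).symm⟩

variable [Fintype F] [FiniteDimensional F V] [Fintype Ω]

theorem card_ann_line_le {v v₁ : V} {ω : Ω} {s : Wsub Q v v₁}
    (hs : ∀ z ∈ ann ρ v v₁ ω, ∃ c : F, c • s = z) :
    Nat.card (ann ρ v v₁ ω) ≤ Fintype.card F := by
  choose f hf using hs
  rw [← Nat.card_eq_fintype_card]
  exact Nat.card_le_card_of_injective (fun z : ann ρ v v₁ ω => f z.1 z.2) fun a b e =>
    Subtype.ext (by rw [← hf a.1 a.2, ← hf b.1 b.2]; exact congrArg (· • s) e)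

theorem ann_eq_top_iff {v v₁ : V} (P : HP Q v v₁) (hN : (bil Q).Nondegenerate) {ω : Ω} :
    ann ρ v v₁ ω = ⊤ ↔ Free ρ v ω := by
  constructor
  · intro h w hw e
    refine ⟨bil Q v₁ w, ?_⟩
    rw [sg_proj P hw] at e
    have hp : (⟨proj Q v v₁ w, P.proj_mem w⟩ : Wsub Q v v₁) = 0 := by
      have h1 := (mem_stabW_iff P hN).1 ((mem_stabW ρ P.sing (v₁ := v₁)).2 e :
        (⟨proj Q v v₁ w, P.proj_mem w⟩ : Wsub Q v v₁) ∈ stabW ρ v v₁ ω)
      refine (P.nondegenerate_QW hN).1 _ fun y => eq_zero_of_psi fun c => ?_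
      have := h1 (c • y) (h ▸ AddSubgroup.mem_top _)
      rw [bil_QW, bil_comm]
      simpa using this
    have := congrArg Subtype.val hp
    simp only [proj, hw, zero_smul, sub_zero, Submodule.coe_zero] at this
    exact (sub_eq_zero.1 this).symm
  · intro h
    refine (AddSubgroup.eq_top_iff' _).2 fun φ => ?_
    rw [ann, mem_annOf]
    intro w hw
    obtain ⟨a, ha⟩ := h (w : V) (mem_Wsub.1 w.2).1 ((mem_stabW ρ P.sing).1 hw)
    have h2 := (mem_Wsub.1 w.2).2
    rw [← ha, map_smul, P.symm.one, smul_eq_mul, mul_one] at h2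
    have hw0 : w = 0 := Subtype.ext (by rw [← ha, h2, zero_smul]; rfl)
    rw [hw0]; simp

/-- The number `q^(k-1)`-part of a degree coprime to `q`. -/
theorem no_second_degree {q k n0 n00 C J cC cC' d : ℕ} (num : Num q k n0 n00 C J cC cC')
    (hd : (q - 1) * d = q * n0 + (q - 1) * q ^ k) (hdvd : d ∣ Z1 q k n0 * q ^ k) : False := by
  obtain ⟨n1, hn1⟩ := num.n0_dvd
  have hq := num.q_two
  have hk := num.k_five
  obtain ⟨k', rfl⟩ : ∃ k', k = k' + 1 := ⟨k - 1, by omega⟩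
  have e1 : d = q * (n1 + q ^ k') := by
    refine Nat.eq_of_mul_eq_mul_left (show 0 < q - 1 by omega) (hd.trans ?_)
    rw [hn1, pow_succ]
    ring
  have hZ : Z1 q (k' + 1) n0 = (q - 1) * (d + 1) := by
    rw [Z1, mul_add, mul_one, hd]
    ring
  rw [hZ] at hdvd
  have hd1 : Nat.Coprime d (d + 1) := by simp
  have h2 : d ∣ (q - 1) * q ^ (k' + 1) :=
    hd1.dvd_of_dvd_mul_right (by convert hdvd using 1; ring)
  have hn : n0 = q - 1 + q * n00 + (q - 1) * q ^ (k' + 1 - 2) := num.n0_eq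
  set a := n1 + q ^ k'
  have hco : Nat.Coprime a q := by
    refine Nat.coprime_of_dvd' fun p hp ha hpq => ?_
    have h3 : p ∣ q - 1 := by
      have h4 : p ∣ (q - 1) * a := ha.mul_left _
      have h5 : (q - 1) * a =
          (q * n00 + (q - 1) * q ^ (k' + 1 - 2) + (q - 1) * q ^ k') + (q - 1) := by
        rw [mul_add, ← hn1, hn]
        ring
      rw [h5] at h4
      refine (Nat.dvd_add_right (Dvd.dvd.add (Dvd.dvd.add (hpq.mul_right _) ?_) ?_)).1 h4
      · exact (hpq.trans (dvd_pow_self _ (by omega))).mul_left _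
      · exact (hpq.trans (dvd_pow_self _ (by omega))).mul_left _
    have := Nat.dvd_sub hpq h3
    rwa [show q - (q - 1) = 1 by omega] at this
  have h3 : a ∣ q - 1 := by
    refine (hco.pow_right k').dvd_of_dvd_mul_right ?_
    rw [e1, pow_succ, show (q - 1) * (q ^ k' * q) = q * ((q - 1) * q ^ k') by ring] at h2
    exact Nat.dvd_of_mul_dvd_mul_left (by omega) h2
  have h4 := Nat.le_of_dvd (by omega) h3
  have h5 : q ^ 1 ≤ q ^ k' := Nat.pow_le_pow_right (by omega) (by omega)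
  rw [pow_one] at h5
  omega

theorem rest_eq {q k n0 R : ℕ} (hq : 2 ≤ q) (hdvd : q - 1 ∣ n0)
    (hs : (q ^ k + R) * (q - 1) < Z1 q k n0) (hR : q * n0 ≤ (q - 1) * R) :
    (q - 1) * R = q * n0 := by
  obtain ⟨n1, rfl⟩ := hdvd
  have h1 : (q - 1) * R < (q - 1) * (1 + q * n1) := by
    unfold Z1 at hs
    rw [add_mul, mul_comm (q ^ k)] at hs
    rw [mul_add, mul_one, mul_left_comm (q - 1) q n1, mul_comm (q - 1) R]
    omega
  have h2 : R < 1 + q * n1 := Nat.lt_of_mul_lt_mul_left h1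
  rw [mul_left_comm] at hR ⊢
  have h3 : q * n1 ≤ R := Nat.le_of_mul_le_mul_left hR (by omega)
  rw [show R = q * n1 by omega]

namespace Ctx

variable {v v₁ : V} {k n0 n00 C J cC cC' : ℕ} (h : Ctx ρ v v₁ k n0 n00 C J cC cC')
include h

/-- Being in a set invariant under the elements scaling the pair is constant on a class. -/
theorem class_closed (Pr : Wsub Q v v₁ → Prop)
    (hinv : ∀ g c (hg : Scales g v v₁ c) φ, Pr φ → Pr (c⁻¹ • hg.mapW φ))
    {φ ψ' : Wsub Q v v₁} (hφ : Q (φ : V) ≠ 0) {a : F} (ha : a ≠ 0)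
    (e : Q (ψ' : V) = a * a * Q (φ : V)) (hp : Pr φ) : Pr ψ' := by
  obtain ⟨g₀, g1, g2⟩ := exists_scale h.geo.hN h.five_le h.pair (inv_ne_zero ha)
  have hs : Scales g₀ v v₁ a⁻¹ := ⟨inv_ne_zero ha, g1, g2⟩
  have h1 := hinv g₀ _ hs φ hp
  have hQ : Q ((a⁻¹⁻¹ • hs.mapW φ : Wsub Q v v₁) : V) = Q (ψ' : V) := by
    rw [Submodule.coe_smul, Scales.coe_mapW, quad_smul_vec, quad_smul', inv_inv, e]
  obtain ⟨g, hg, e'⟩ := siegel_trans_norm h.nondegW h.five_le_W
    (b := a⁻¹⁻¹ • hs.mapW φ) (b' := ψ') (by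
      rw [QW_apply, hQ, e]; exact mul_ne_zero (mul_ne_zero ha ha) hφ) hQ
  obtain ⟨G, hG, hG'⟩ := exists_scales_lift hg
  have h2 := hinv G _ hG _ h1
  rwa [inv_one, one_smul, hG', e'] at h2

theorem sing_closed (Pr : Wsub Q v v₁ → Prop)
    (hinv : ∀ g c (hg : Scales g v v₁ c) φ, Pr φ → Pr (c⁻¹ • hg.mapW φ))
    {φ ψ' : Wsub Q v v₁} (h1 : φ ≠ 0) (h2 : Q (φ : V) = 0) (h1' : ψ' ≠ 0)
    (h2' : Q (ψ' : V) = 0) (hp : Pr φ) : Pr ψ' := by
  obtain ⟨g, hg, e⟩ := siegel_trans h.nondegW h.five_le_W h1 h1' h2 h2'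
  obtain ⟨G, hG, hG'⟩ := exists_scales_lift hg
  have h3 := hinv G _ hG φ hp
  rwa [inv_one, one_smul, hG', e] at h3

theorem card_W : Nat.card (Wsub Q v v₁) = Fintype.card F ^ k := by
  rw [Module.natCard_eq_pow_finrank (K := F) (V := Wsub Q v v₁), h.finrank_W,
    Nat.card_eq_fintype_card]

/-- With a universal orbit and otherwise only lines. -/
theorem free_dichotomy {ω₁ : Ω} (htop : ann ρ v v₁ ω₁ = ⊤)
    (hne : ∀ ω, ann ρ v v₁ ω ≠ ⊥)
    (hline : ∀ ω, ann ρ v v₁ ω ≠ ⊤ → ∃ s : Wsub Q v v₁, ∀ z ∈ ann ρ v v₁ ω, ∃ c : F, c • s = z) :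
    Nat.card {ω // Free ρ v ω} = Fintype.card F ^ k ∧
      (Fintype.card Ω = Fintype.card F ^ k ∨ (Fintype.card F - 1) * Fintype.card Ω =
        Fintype.card F * n0 + (Fintype.card F - 1) * Fintype.card F ^ k) := by
  classical
  have := h.finiteV
  have := Fintype.ofFinite (Wsub Q v v₁)
  have hN := h.geo.hN
  set q := Fintype.card F with hqdef
  set d := Fintype.card Ω with hddef
  have hq := h.num.q_two
  set O₁ := orb ρ v v₁ ω₁ with hO₁
  have hcard : ∀ ω, ann ρ v v₁ ω = ⊤ → (orb ρ v v₁ ω).card = q ^ k := fun ω e => by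
    rw [card_orb h.pair hN, e, AddSubgroup.card_top, h.card_W]
  have hsmall : d * (q - 1) < Z1 q k n0 := h.small
  have hd2 : d < 2 * q ^ k := by
    refine Nat.lt_of_mul_lt_mul_right (a := q - 1) (lt_of_lt_of_le hsmall ?_)
    have hkk : q * q ^ (k - 1) = q ^ k := by
      rw [← pow_succ', Nat.sub_add_cancel (by have := h.num.k_five; omega)]
    have h1 := Nat.mul_le_mul_left q (Nat.succ_le_of_lt h.num.n0_lt)
    rw [show q * ((q - 1) * q ^ (k - 1)) = (q - 1) * q ^ k by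
      rw [← hkk]; ring, Nat.succ_eq_add_one, mul_add, mul_one] at h1
    unfold Z1
    rw [mul_comm _ (q - 1), two_mul, mul_add]
    omega
  have huniq : ∀ ω, ann ρ v v₁ ω = ⊤ → orb ρ v v₁ ω = O₁ := by
    intro ω e
    by_contra hne'
    have hd : Disjoint (orb ρ v v₁ ω) O₁ := Finset.disjoint_left.2 fun x hx hx' =>
      hne' ((orb_eq_of_mem h.pair hx).symm.trans (orb_eq_of_mem h.pair hx'))
    have h1 := Finset.card_le_univ ((orb ρ v v₁ ω) ∪ O₁)
    rw [Finset.card_union_of_disjoint hd, hcard ω e, hO₁, hcard ω₁ htop] at h1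
    omega
  have hfree : Nat.card {ω // Free ρ v ω} = q ^ k := by
    rw [Nat.card_eq_fintype_card, Fintype.card_of_subtype O₁, hO₁, hcard ω₁ htop]
    intro ω
    rw [← ann_eq_top_iff h.pair hN]
    exact ⟨fun hω => (ann_eq_of_orb h.pair (orb_eq_of_mem h.pair hω)).trans htop,
      fun e => huniq ω e ▸ self_mem_orb ρ v v₁ ω⟩
  refine ⟨hfree, ?_⟩
  set T := (orbs ρ v v₁).erase O₁
  set R := ∑ O ∈ T, O.card
  have hdR : d = q ^ k + R := by
    rw [hddef, ← card_eq_sum_orbs h.pair, ← hcard ω₁ htop]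
    exact (Finset.add_sum_erase _ _ (Finset.mem_image_of_mem _ (Finset.mem_univ ω₁))).symm
  let Pr : Wsub Q v v₁ → Prop := fun φ => φ ≠ 0 ∧ ∃ ω, ann ρ v v₁ ω ≠ ⊤ ∧ φ ∈ ann ρ v v₁ ω
  have hinv : ∀ g c (hg : Scales g v v₁ c) φ, Pr φ → Pr (c⁻¹ • hg.mapW φ) := by
    rintro g c hg φ ⟨h0, ω, hω, hφ⟩
    refine ⟨fun e => h0 ?_, ρ g ω, fun e => hω ?_, ann_scales h.pair hg hφ⟩
    · have := congrArg Subtype.val e
      rw [Submodule.coe_smul, Scales.coe_mapW, Submodule.coe_zero,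
        smul_eq_zero_iff_right (inv_ne_zero hg.ne), smul_eq_zero_iff_eq] at this
      exact Subtype.ext this
    · refine (AddSubgroup.eq_top_iff' _).2 fun x => ?_
      have h2 := ann_scales h.pair hg.inv
        (show c⁻¹ • hg.mapW x ∈ ann ρ v v₁ (ρ g ω) from e ▸ AddSubgroup.mem_top _)
      rw [map_inv, Equiv.Perm.inv_def, Equiv.symm_apply_apply] at h2
      convert h2 using 1
      refine Subtype.ext ?_
      rw [Submodule.coe_smul, Scales.coe_mapW, Submodule.coe_smul, Scales.coe_mapW, inv_inv,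
        smul_comm g⁻¹, inv_smul_smul, smul_smul, mul_inv_cancel₀ hg.ne, one_smul]
  set S := Finset.univ.filter Pr
  -- the covered vectors
  have hcount : q * S.card ≤ (q - 1) * R := by
    let B : Finset Ω → Finset (Wsub Q v v₁) := fun O =>
      Finset.univ.filter fun φ => φ ≠ 0 ∧ ∃ ω, orb ρ v v₁ ω = O ∧ φ ∈ ann ρ v v₁ ω
    have hsub : S ⊆ T.biUnion B := by
      intro φ hφ
      obtain ⟨-, h0, ω, hω, hφω⟩ := Finset.mem_filter.1 hφ
      exact Finset.mem_biUnion.2 ⟨orb ρ v v₁ ω, Finset.mem_erase.2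
        ⟨fun e => hω ((ann_eq_of_orb h.pair (e.trans hO₁)).trans htop),
          Finset.mem_image_of_mem _ (Finset.mem_univ _)⟩,
        Finset.mem_filter.2 ⟨Finset.mem_univ _, h0, ω, rfl, hφω⟩⟩
    refine (Nat.mul_le_mul_left q ((Finset.card_le_card hsub).trans Finset.card_biUnion_le)).trans ?_
    rw [Finset.mul_sum, Finset.mul_sum]
    refine Finset.sum_le_sum fun O hO => ?_
    obtain ⟨hne', hO'⟩ := Finset.mem_erase.1 hO
    obtain ⟨ω, -, rfl⟩ := Finset.mem_image.1 hO'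
    obtain ⟨s, hs⟩ := hline ω fun e => hne' (huniq ω e)
    have hle := card_ann_line_le hs
    rw [← card_orb h.pair hN] at hle
    have hB : (B (orb ρ v v₁ ω)).card + 1 ≤ (orb ρ v v₁ ω).card := by
      rw [card_orb h.pair hN, Nat.card_eq_fintype_card, Fintype.card_of_subtype
        (Finset.univ.filter fun φ => φ ∈ ann ρ v v₁ ω) (by simp)]
      refine Nat.succ_le_iff.2 (Finset.card_lt_card (Finset.ssubset_iff.2 ⟨0, by simp [B], ?_⟩))
      intro φ hφ
      rcases Finset.mem_insert.1 hφ with rfl | hφ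
      · simp
      · obtain ⟨-, -, x, hx, hx'⟩ := Finset.mem_filter.1 hφ
        simp [← ann_eq_of_orb h.pair hx, hx']
    calc q * (B (orb ρ v v₁ ω)).card ≤ q * ((orb ρ v v₁ ω).card - 1) :=
          Nat.mul_le_mul_left q (by omega)
      _ = q * (orb ρ v v₁ ω).card - q := by rw [Nat.mul_sub, mul_one]
      _ ≤ (q - 1) * (orb ρ v v₁ ω).card := by
          rw [Nat.sub_mul, one_mul]
          exact Nat.sub_le_sub_left hle _
  have hsmall' : (q - 1) * R < q - 1 + q * n0 := by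
    have := hsmall
    rw [hdR, add_mul, Z1, mul_comm R, mul_comm (q ^ k)] at this
    omega
  by_cases hR : R = 0
  · left; omega
  right
  have hsingS : ∀ φ ∈ S, Q (φ : V) = 0 := by
    intro φ hφ
    by_contra hQ
    have hsub : (Finset.univ.filter fun w : Wsub Q v v₁ =>
        ∃ a : F, a ≠ 0 ∧ Q (w : V) = a * a * Q (φ : V)) ⊆ S := fun w hw => by
      obtain ⟨-, a, ha, e⟩ := Finset.mem_filter.1 hw
      exact Finset.mem_filter.2 ⟨Finset.mem_univ _,
        h.class_closed Pr hinv hQ ha e (Finset.mem_filter.1 hφ).2⟩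
    have h1 := h.geo.class_count h.pair _ hQ
    rw [Nat.card_eq_fintype_card, Fintype.card_subtype] at h1
    have h2 := Nat.mul_le_mul_left q (h.num.C_big.trans_le (h1.trans (Finset.card_le_card hsub)))
    rw [Nat.mul_succ] at h2
    omega
  obtain ⟨O, hO⟩ : T.Nonempty := Finset.nonempty_iff_ne_empty.2 fun e => hR (by simp [R, e])
  obtain ⟨hne', hO'⟩ := Finset.mem_erase.1 hO
  obtain ⟨ω, -, rfl⟩ := Finset.mem_image.1 hO'
  obtain ⟨φ, hφ, hφ0⟩ := (AddSubgroup.bot_or_exists_ne_zero _).resolve_left (hne ω)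
  have hφS : Pr φ := ⟨hφ0, ω, fun e => hne' (huniq ω e), hφ⟩
  have hφs := hsingS φ (Finset.mem_filter.2 ⟨Finset.mem_univ _, hφS⟩)
  have hsub : (Finset.univ.filter fun w : Wsub Q v v₁ => w ≠ 0 ∧ Q (w : V) = 0) ⊆ S := fun w hw => by
    obtain ⟨-, w0, w1⟩ := Finset.mem_filter.1 hw
    exact Finset.mem_filter.2 ⟨Finset.mem_univ _, h.sing_closed Pr hinv hφ0 hφs w0 w1 hφS⟩
  have hn := Finset.card_le_card hsub
  rw [← Fintype.card_subtype, ← Nat.card_eq_fintype_card, h.geo.sing_count h.pair] at hn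
  have hfin : (q - 1) * R = q * n0 := rest_eq hq h.num.n0_dvd (k := k) (R := R) (hdR ▸ hsmall)
    ((Nat.mul_le_mul_left q hn).trans hcount)
  rw [hdR, mul_add, hfin, add_comm]

end Ctx

end Cfsg.Agent.MinDeg.Orth
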