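import Cfsg.Agent.Lib.MinDeg.OrthStructure
import Cfsg.Agent.Lib.Forms.Quad

/-!
A small transitive action in which the whole radical of a singular point fixes something is
trivial: the points with this property at a given `ω` span a totally singular subspace, and these
have too many images.
-/

set_option autoImplicit false

namespace Cfsg.Agent.MinDeg.Orth

open Cfsg.Agent.ClassicalSimple

variable {F V : Type*} [Field F] [AddCommGroup V] [Module F V] {Q : QuadraticForm F V}
  {Ω : Type*} (ρ : siegelGroup Q →* Equiv.Perm Ω)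

/-- All Siegel elements at `v` fix `ω`. -/
structure Full (v : V) (ω : Ω) : Prop where
  sing : Q v = 0
  fixed : ∀ w, bil Q v w = 0 → ρ (sg Q v w) ω = ω

variable {ρ}

theorem sg_smul_self (g : siegelGroup Q) (v w : V) :
    sg Q (g • v) (g • w) * g = g * sg Q v w := by
  rw [← sg_conj, inv_mul_cancel_right]

theorem Full.map {v : V} {ω : Ω} (h : Full ρ v ω) (g : siegelGroup Q) :
    Full ρ (g • v) (ρ g ω) := by
  refine ⟨by rw [quad_smul', h.sing], fun w hw => ?_⟩
  obtain ⟨w, rfl⟩ : ∃ z, w = g • z := ⟨g⁻¹ • w, (smul_inv_smul g w).symm⟩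
  rw [← Equiv.Perm.mul_apply, ← map_mul, sg_smul_self, map_mul, Equiv.Perm.mul_apply,
    h.fixed w (by rwa [bil_smul'] at hw)]

theorem Full.zero (ω : Ω) : Full ρ (0 : V) ω := by
  refine ⟨QuadraticMap.map_zero _, fun w _ => ?_⟩
  have e : sg Q (0 : V) w = 1 := ext_act fun x => by
    rw [sg_act (QuadraticMap.map_zero _) (by simp), one_smul]
    simp
  rw [e, map_one]; rfl

theorem Full.scale {v : V} {ω : Ω} (h : Full ρ v ω) (a : F) : Full ρ (a • v) ω := by
  rcases eq_or_ne a 0 with rfl | ha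
  · rw [zero_smul]; exact Full.zero ω
  refine ⟨by rw [quad_smul_vec, h.sing, mul_zero], fun w hw => ?_⟩
  rw [map_smul, LinearMap.smul_apply, smul_eq_mul, mul_eq_zero] at hw
  rw [sg_smul_left h.sing (hw.resolve_left ha)]
  exact h.fixed _ (by rw [map_smul, hw.resolve_left ha, smul_zero])

theorem full_star {u v z : V} {ω : Ω} (hu : Full ρ u ω) (hv : Full ρ v ω)
    (huv : bil Q u v ≠ 0) (hz : Q z = 0) (hzv : bil Q z v ≠ 0) : Full ρ z ω := by
  set z' := (bil Q u v / bil Q z v) • z with hz'
  set w := (bil Q u v)⁻¹ • (z' - u) with hw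
  have hz'v : bil Q z' v = bil Q u v := by
    rw [hz', map_smul, LinearMap.smul_apply, smul_eq_mul, div_mul_cancel₀ _ hzv]
  have hQz' : Q z' = 0 := by rw [hz', quad_smul_vec, hz, mul_zero]
  have hvw : bil Q v w = 0 := by
    rw [hw, map_smul, map_sub, bil_comm v z', bil_comm v u, hz'v, sub_self, smul_zero]
  have e : sg Q v w • u = z' := by
    rw [sg_act hv.sing hvw]
    have : bil Q u w + Q w * bil Q u v = 0 := by
      rw [hw, map_smul, quad_smul_vec, quad_sub, hQz', hu.sing, map_sub,
        bil_self_of_singular hu.sing, bil_comm z' u, smul_eq_mul]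
      field_simp
      ring
    rw [this, zero_smul, sub_zero, hw, smul_smul, mul_inv_cancel₀ huv, one_smul]
    abel
  have hz'F := (hu.map (sg Q v w))
  rw [e, hv.fixed w hvw] at hz'F
  have := hz'F.scale (bil Q u v / bil Q z v)⁻¹
  rwa [hz', smul_smul, inv_mul_cancel₀ (div_ne_zero huv hzv), one_smul] at this

variable (Q) in
/-- The Siegel group is generated by the elements `sg v w`. -/
theorem closure_sg_eq_top : Subgroup.closure {g | ∃ v w, g = sg Q v w} = ⊤ := by
  refine Subgroup.map_injective (siegelGroup Q).subtype_injective ?_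
  rw [MonoidHom.map_closure, ← MonoidHom.range_eq_map, Subgroup.range_subtype]
  refine le_antisymm ?_ ?_
  · rw [Subgroup.closure_le]
    rintro _ ⟨g, -, rfl⟩
    exact g.2
  · unfold siegelGroup
    rw [Subgroup.closure_le]
    rintro _ ⟨u, w, hu, hw, rfl⟩
    exact Subgroup.subset_closure ⟨sg Q u w, ⟨u, w, rfl⟩, sg_coe hu hw⟩

theorem fixed_of_sg {ω : Ω} (h : ∀ v w, Q v = 0 → bil Q v w = 0 → ρ (sg Q v w) ω = ω)
    (g : siegelGroup Q) : ρ g ω = ω := by
  have hg : g ∈ Subgroup.closure {g | ∃ v w, g = sg Q v w} := by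
    rw [closure_sg_eq_top Q]; trivial
  induction hg using Subgroup.closure_induction with
  | mem x hx =>
    obtain ⟨v, w, rfl⟩ := hx
    by_cases hh : Q v = 0 ∧ bil Q v w = 0
    · exact h v w hh.1 hh.2
    · rw [sg_of_not hh, map_one]; rfl
  | one => rw [map_one]; rfl
  | mul x y _ _ hx hy => rw [map_mul, Equiv.Perm.mul_apply, hy, hx]
  | inv x _ hx => rw [map_inv, Equiv.Perm.inv_eq_iff_eq]; exact hx.symm

variable (hN : (bil Q).Nondegenerate)
include hN

theorem eq_fixed_of_full_pair {x y : V} {ω : Ω} (fx : Full ρ x ω) (fy : Full ρ y ω)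
    (hxy : bil Q x y ≠ 0) (g : siegelGroup Q) : ρ g ω = ω := by
  refine fixed_of_sg (fun z w hz hw => ?_) g
  suffices Full ρ z ω from this.fixed w hw
  by_cases h1 : bil Q z y ≠ 0
  · exact full_star fx fy hxy hz h1
  by_cases h2 : bil Q z x ≠ 0
  · exact full_star fy fx (by rwa [bil_comm]) hz h2
  push Not at h1 h2
  rcases eq_or_ne z 0 with rfl | hz0
  · exact Full.zero ω
  have hyx : bil Q y x ≠ 0 := by rwa [bil_comm]
  have hi : LinearIndependent F ![x, y, z] := by
    rw [Fintype.linearIndependent_iff]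
    intro c hc
    have e1 := congrArg (bil Q x) hc
    have e2 := congrArg (bil Q y) hc
    simp [Fin.sum_univ_three, bil_self_of_singular fx.sing, bil_self_of_singular fy.sing,
      bil_comm x z, bil_comm y z, h1, h2, hxy, hyx] at e1 e2 hc
    simp [e1, e2, hz0] at hc
    simp [Fin.forall_fin_succ, e1, e2, hc]
  obtain ⟨t, ht⟩ := exists_eval_eq _ (linearIndependent_bil hN hi) ![0, 0, 1]
  have t0 : bil Q x t = 0 := ht 0
  have t1 : bil Q y t = 0 := ht 1
  have t2 : bil Q z t = 1 := ht 2
  set z' := t - Q t • z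
  have hz' : Q z' = 0 := by
    simp only [z', quad_sub, quad_smul_vec, map_smul, hz, bil_comm t z, t2, smul_eq_mul]
    ring
  have hyz' : bil Q y z' = 0 := by simp [z', t1, bil_comm y z, h1]
  have hxz' : bil Q x z' = 0 := by simp [z', t0, bil_comm x z, h2]
  have hQw : Q (y + z') = 0 := by rw [quad_add, fy.sing, hz', hyz']; ring
  have hwx : bil Q (y + z') x ≠ 0 := by
    simp [bil_comm z' x, hxz', bil_comm y x, hxy]
  have fw := full_star fy fx hyx hQw hwx
  refine full_star fx fw (by rwa [bil_comm]) hz ?_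
  simp [z', h1, t2, bil_self_of_singular hz]

omit hN in
/-- The image of a subspace. -/
def imgSub (g : siegelGroup Q) (U : Submodule F V) : Submodule F V :=
  U.map ((((g : OQ Q) : V ≃ₗ[F] V)) : V →ₗ[F] V)

omit hN in
theorem smul_mem_imgSub {g : siegelGroup Q} {U : Submodule F V} {x : V} :
    g • x ∈ imgSub g U ↔ x ∈ U := by
  constructor
  · rintro ⟨y, hy, e⟩
    exact (MulAction.injective g e : y = x) ▸ hy
  · exact fun hx => ⟨x, hx, rfl⟩

omit hN in
theorem imgSub_mul (g h : siegelGroup Q) (U : Submodule F V) :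
    imgSub (g * h) U = imgSub g (imgSub h U) := by
  ext x
  obtain ⟨y, rfl⟩ : ∃ y, x = (g * h) • y := ⟨(g * h)⁻¹ • x, (smul_inv_smul _ x).symm⟩
  rw [smul_mem_imgSub, mul_smul, smul_mem_imgSub, smul_mem_imgSub]

omit hN in
/-- The images of a subspace. -/
def Img (U : Submodule F V) : Set (Submodule F V) :=
  {U' | ∃ g : siegelGroup Q, U' = imgSub g U}

variable [Fintype F] [FiniteDimensional F V]

omit hN in
theorem finite_submodules : Finite (Submodule F V) := by
  have : Finite V := Module.finite_of_finite F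
  exact Finite.of_injective (fun U : Submodule F V => (U : Set V)) SetLike.coe_injective

omit hN in
theorem card_nonzero_le {W : Submodule F V} {j : ℕ} (hj : Module.finrank F W ≤ j) :
    Nat.card {x : W // x ≠ 0} ≤ Fintype.card F ^ j - 1 := by
  classical
  have : Finite V := Module.finite_of_finite F
  have := Fintype.ofFinite W
  rw [Nat.card_eq_fintype_card, Fintype.card_subtype_compl, Fintype.card_subtype_eq,
    Module.card_eq_pow_finrank (K := F) (V := W)]
  exact Nat.sub_le_sub_right (Nat.pow_le_pow_right Fintype.card_pos hj) 1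

omit hN in
/-- Double counting of vectors in subspaces. -/
theorem incidence_le {S : Finset V} {T : Finset (Submodule F V)} {c b : ℕ}
    (hc : ∀ x ∈ S, c ≤ Nat.card {U : T // x ∈ (U : Submodule F V)})
    (hb : ∀ U ∈ T, Nat.card {x : S // (x : V) ∈ U} ≤ b) : S.card * c ≤ T.card * b := by
  classical
  refine le_trans ?_ (le_of_le_of_eq (Finset.sum_le_card_nsmul T
    (fun U => (S.filter fun x => x ∈ U).card) b fun U hU => ?_) (smul_eq_mul _ _))
  · refine le_trans (Finset.card_nsmul_le_sum S (fun x => (T.filter fun U => x ∈ U).card) c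
      fun x hx => ?_) ?_
    · refine (hc x hx).trans ?_
      rw [Nat.card_eq_fintype_card, ← Fintype.card_coe]
      exact Fintype.card_le_of_injective (fun U => ⟨U.1.1, Finset.mem_filter.2 ⟨U.1.2, U.2⟩⟩)
        fun a b e => Subtype.ext (Subtype.ext (congrArg Subtype.val e :))
    · exact le_of_eq (Finset.sum_card_bipartiteAbove_eq_sum_card_bipartiteBelow
        (s := S) (t := T) (fun x U => x ∈ U))
  · refine le_trans ?_ (hb U hU)
    rw [Nat.card_eq_fintype_card, ← Fintype.card_coe]
    exact Fintype.card_le_of_injective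
      (fun x => ⟨⟨x.1, (Finset.mem_filter.1 x.2).1⟩, (Finset.mem_filter.1 x.2).2⟩)
      fun a b e => Subtype.ext (congrArg (fun z => ((z.1 : S) : V)) e :)

/-- Images of a totally singular subspace: incidences with the singular vectors. -/
theorem card_sing_mul_le (h5 : 5 ≤ Module.finrank F V) {U : Submodule F V}
    (hU : ∀ x ∈ U, Q x = 0) {v : V} (hvU : v ∈ U) (hv0 : v ≠ 0) :
    Nat.card {x : V // x ≠ 0 ∧ Q x = 0} * Nat.card {U' : Img (Q := Q) U // v ∈ (U' : Submodule F V)}
      ≤ Nat.card (Img (Q := Q) U) * (Fintype.card F ^ Module.finrank F U - 1) := by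
  classical
  have : Finite V := Module.finite_of_finite F
  have := finite_submodules (F := F) (V := V)
  have := Fintype.ofFinite V
  set S := Finset.univ.filter fun x : V => x ≠ 0 ∧ Q x = 0
  set T := (Set.toFinite (Img (Q := Q) U)).toFinset
  have h := incidence_le (S := S) (T := T)
    (c := Nat.card {U' : Img (Q := Q) U // v ∈ (U' : Submodule F V)})
    (b := Fintype.card F ^ Module.finrank F U - 1) (fun x hx => ?_) fun U' hU' => ?_
  · rw [← Nat.card_eq_card_finite_toFinset] at h
    rwa [Nat.card_eq_fintype_card (α := {x : V // x ≠ 0 ∧ Q x = 0}), Fintype.card_subtype]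
  · obtain ⟨-, hx0, hxs⟩ := Finset.mem_filter.1 hx
    obtain ⟨g, hg, e⟩ := siegel_trans hN h5 hv0 hx0 (hU v hvU) hxs
    refine Nat.card_le_card_of_injective
      (fun W => ⟨⟨imgSub ⟨g, hg⟩ W.1.1, ?_⟩, (show (⟨g, hg⟩ : siegelGroup Q) • v = x from e) ▸ smul_mem_imgSub.2 W.2⟩) ?_
    · obtain ⟨g', hg'⟩ := W.1.2
      rw [Set.Finite.mem_toFinset]
      exact ⟨⟨g, hg⟩ * g', by rw [imgSub_mul, ← hg']⟩
    · intro a b e'
      refine Subtype.ext (Subtype.ext ?_)
      have := congrArg (fun z : {U' : T // x ∈ (U' : Submodule F V)} => (z.1.1 : Submodule F V)) e'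
      exact Submodule.map_injective_of_injective (LinearEquiv.injective _) this
  · rw [Set.Finite.mem_toFinset] at hU'
    obtain ⟨g, rfl⟩ := hU'
    refine le_trans (Nat.card_le_card_of_injective
      (fun x => (⟨⟨x.1.1, x.2⟩, fun e => (Finset.mem_filter.1 x.1.2).2.1
        (congrArg Subtype.val e)⟩ : {y : imgSub g U // y ≠ 0}))
      fun a b e => Subtype.ext (Subtype.ext (congrArg (fun z => ((z.1 : imgSub g U) : V)) e :))) ?_
    exact card_nonzero_le (LinearEquiv.finrank_map_eq _ U).le

/-- The part in the complement of a pair of a totally singular subspace containing `v`. -/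
theorem finrank_comap_Wsub {v v₁ : V} (P : HP Q v v₁) {U : Submodule F V} (hvU : v ∈ U)
    (hU : ∀ x ∈ U, Q x = 0) :
    Module.finrank F (U.comap (Wsub Q v v₁).subtype) + 1 = Module.finrank F U ∧
      ∀ x ∈ U, proj Q v v₁ x ∈ U ∧ bil Q v x = 0 := by
  have horth : ∀ x ∈ U, bil Q v x = 0 := fun x hx => by
    have := hU _ (add_mem hvU hx)
    rwa [quad_add, hU v hvU, hU x hx, zero_add, zero_add] at this
  have hproj : ∀ x ∈ U, proj Q v v₁ x ∈ U := fun x hx => by
    rw [proj, horth x hx, zero_smul, sub_zero]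
    exact sub_mem hx (U.smul_mem _ hvU)
  refine ⟨?_, fun x hx => ⟨hproj x hx, horth x hx⟩⟩
  let e : U ≃ₗ[F] F × U.comap (Wsub Q v v₁).subtype :=
    { toFun := fun x => (bil Q v₁ (x : V), ⟨⟨proj Q v v₁ x, P.proj_mem _⟩, hproj _ x.2⟩)
      invFun := fun p => ⟨p.1 • v + ((p.2 : Wsub Q v v₁) : V),
        add_mem (U.smul_mem _ hvU) p.2.2⟩
      map_add' := fun x y => Prod.ext (by simp) (Subtype.ext (Subtype.ext (by
        show proj Q v v₁ ((x : V) + y) = proj Q v v₁ x + proj Q v v₁ y
        simp [proj, add_smul]; module)))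
      map_smul' := fun c x => Prod.ext (by simp) (Subtype.ext (Subtype.ext (by
        show proj Q v v₁ (c • (x : V)) = c • proj Q v v₁ x
        simp [proj, mul_smul]; module)))
      left_inv := fun x => Subtype.ext (by
        show bil Q v₁ (x : V) • v + proj Q v v₁ x = x
        rw [proj, horth _ x.2]; module)
      right_inv := fun p => by
        obtain ⟨h1, h2⟩ := mem_Wsub.1 (p.2 : Wsub Q v v₁).2
        have e2 : bil Q v₁ (p.1 • v + ((p.2 : Wsub Q v v₁) : V)) = p.1 := by
          simp [h2, P.symm.one]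
        refine Prod.ext e2 (Subtype.ext (Subtype.ext ?_))
        show proj Q v v₁ (p.1 • v + ((p.2 : Wsub Q v v₁) : V)) = _
        rw [proj, e2]
        simp [h1, bil_self_of_singular P.sing] }
  rw [e.finrank_eq, Module.finrank_prod, Module.finrank_self, add_comm]

theorem card_sing_eq {v v₁ : V} (P : HP Q v v₁) {k n0 : ℕ}
    (hk : Module.finrank F V = k + 2)
    (hn : Nat.card {w : Wsub Q v v₁ // w ≠ 0 ∧ Q (w : V) = 0} = n0) :
    Nat.card {x : V // x ≠ 0 ∧ Q x = 0} = Z1 (Fintype.card F) k n0 := by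
  classical
  have : Finite V := Module.finite_of_finite F
  have := Fintype.ofFinite V
  have := Fintype.ofFinite (Wsub Q v v₁)
  have h1 := Forms.card_zeros_congr P.splitEquiv (Q := Forms.hypExt (QW Q v v₁)) (Q' := Q)
    fun p => by rw [Forms.hypExt_apply]; exact P.quad_split p
  rw [Forms.card_zeros_hypExt] at h1
  have hW : Nat.card {w : Wsub Q v v₁ // QW Q v v₁ w = 0} = n0 + 1 := by
    rw [← hn, Nat.card_eq_fintype_card, Nat.card_eq_fintype_card, Fintype.card_subtype,
      Fintype.card_subtype,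
      ← Finset.card_erase_add_one (s := Finset.univ.filter fun w : Wsub Q v v₁ => QW Q v v₁ w = 0)
        (a := 0) (by simp)]
    congr 2
    ext w
    simp only [Finset.mem_erase, Finset.mem_filter, Finset.mem_univ, true_and, QW_apply, ne_eq]
    exact and_congr_right fun _ => Finset.mem_filter.trans (and_iff_right (Finset.mem_univ w))
  have hV : Nat.card {x : V // Q x = 0} = Nat.card {x : V // x ≠ 0 ∧ Q x = 0} + 1 := by
    rw [Nat.card_eq_fintype_card, Nat.card_eq_fintype_card, Fintype.card_subtype,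
      Fintype.card_subtype,
      ← Finset.card_erase_add_one (s := Finset.univ.filter fun x : V => Q x = 0)
        (a := 0) (by simp)]
    congr 2
    ext x
    simp
  have hcard : Nat.card (Wsub Q v v₁) = Fintype.card F ^ k := by
    rw [Module.natCard_eq_pow_finrank (K := F) (V := Wsub Q v v₁), Nat.card_eq_fintype_card]
    congr 1
    have := P.finrank_W
    omega
  rw [hW, hV, hcard, mul_add, mul_one] at h1
  have := Fintype.one_lt_card (α := F)
  unfold Z1
  omega

/-- Images of a totally singular subspace through a fixed vector of it, in the whole space and in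
the complement. -/
theorem card_img_comap_le {v v₁ : V} (P : HP Q v v₁) {U : Submodule F V} (hvU : v ∈ U)
    (hU : ∀ x ∈ U, Q x = 0) :
    Nat.card (Img (Q := QW Q v v₁) (U.comap (Wsub Q v v₁).subtype)) ≤
      Nat.card {U' : Img (Q := Q) U // v ∈ (U' : Submodule F V)} := by
  classical
  have := finite_submodules (F := F) (V := V)
  set Ub := U.comap (Wsub Q v v₁).subtype
  have hmk : ∀ A : Img (Q := QW Q v v₁) Ub, ∃ U' : {U' : Img (Q := Q) U // v ∈ (U' : Submodule F V)},
      (U'.1 : Submodule F V).comap (Wsub Q v v₁).subtype = A := by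
    rintro ⟨A, g, rfl⟩
    obtain ⟨G, hG⟩ := exists_scales_lift g.2
    obtain ⟨hG, hG'⟩ := hG
    have hGv : G • v = v := by rw [hG.left, one_smul]
    refine ⟨⟨⟨imgSub G U, G, rfl⟩, hGv ▸ smul_mem_imgSub.2 hvU⟩, ?_⟩
    ext w
    obtain ⟨z, rfl⟩ : ∃ z, w = g • z := ⟨g⁻¹ • w, (smul_inv_smul g w).symm⟩
    show ((g • z : Wsub Q v v₁) : V) ∈ imgSub G U ↔ g • z ∈ imgSub g Ub
    have e : ((g • z : Wsub Q v v₁) : V) = G • (z : V) := by rw [← hG.coe_mapW, hG']; rfl
    rw [e, smul_mem_imgSub, smul_mem_imgSub]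
    rfl
  choose f hf using hmk
  exact Nat.card_le_card_of_injective f fun a b e => Subtype.ext (by rw [← hf a, ← hf b, e])

variable [Fintype Ω]

/-- In a small transitive action no radical fixes a point. -/
theorem no_full {k n0 n00 C J cC cC' : ℕ} (geo : Geo Q k n0 n00 C J)
    (num : Num (Fintype.card F) k n0 n00 C J cC cC') (htrans : ∀ a b : Ω, ∃ g, ρ g a = b)
    [Nontrivial Ω] (hsmall : Fintype.card Ω * (Fintype.card F - 1) < Z1 (Fintype.card F) k n0)
    {v : V} (hv0 : v ≠ 0) {ω : Ω} (hF : Full ρ v ω) : False := by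
  classical
  have h5 : 5 ≤ Module.finrank F V := by have := geo.dim; have := num.k_five; omega
  have := finite_submodules (F := F) (V := V)
  by_cases horth : ∀ x y, Full ρ x ω → Full ρ y ω → bil Q x y = 0
  swap
  · push Not at horth
    obtain ⟨x, y, fx, fy, hxy⟩ := horth
    obtain ⟨ω', hω'⟩ := exists_ne ω
    obtain ⟨g, hg⟩ := htrans ω ω'
    exact hω' (hg.symm.trans (eq_fixed_of_full_pair hN fx fy hxy g))
  let US : Ω → Submodule F V := fun ω' => Submodule.span F {x | Full ρ x ω'}
  have hUS : ∀ g : siegelGroup Q, US (ρ g ω) = imgSub g (US ω) := by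
    intro g
    show Submodule.span F _ = Submodule.map _ (Submodule.span F _)
    rw [Submodule.map_span]
    congr 1
    ext x
    constructor
    · intro hx
      have := hx.map g⁻¹
      rw [map_inv, Equiv.Perm.inv_def, Equiv.symm_apply_apply] at this
      exact ⟨g⁻¹ • x, this, smul_inv_smul g x⟩
    · rintro ⟨y, hy, rfl⟩
      exact hy.map g
  have hsing : ∀ x ∈ US ω, Q x = 0 := fun x hx =>
    quad_span_sing (fun z hz => hz.sing) (fun z hz z' hz' => horth z z' hz hz') hx
  have hvU : v ∈ US ω := Submodule.subset_span hF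
  have hN' : Nat.card (Img (Q := Q) (US ω)) ≤ Fintype.card Ω := by
    rw [← Nat.card_eq_fintype_card]
    refine Nat.card_le_card_of_surjective (fun ω' => ⟨US ω', ?_⟩) ?_
    · obtain ⟨g, rfl⟩ := htrans ω ω'
      exact ⟨g, hUS g⟩
    · rintro ⟨U', g, rfl⟩
      exact ⟨ρ g ω, Subtype.ext (hUS g)⟩
  obtain ⟨v₁, P⟩ := exists_HP hN hF.sing hv0
  set U := US ω
  set Ub := U.comap (Wsub Q v v₁).subtype
  set j := Module.finrank F U
  obtain ⟨hj, -⟩ := finrank_comap_Wsub hN P hvU hsing
  have hj : Module.finrank F Ub + 1 = j := hj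
  have hjJ : Module.finrank F Ub ≤ J := geo.ts_dim P Ub fun w hw => hsing _ hw
  have hmain := card_sing_mul_le hN h5 hsing hvU hv0
  rw [card_sing_eq hN P geo.dim (geo.sing_count P)] at hmain
  have hc := card_img_comap_le hN P hvU hsing
  set q := Fintype.card F
  have hq := num.q_two
  suffices hkey : q ^ j - 1 ≤
      (q - 1) * Nat.card (Img (Q := QW Q v v₁) Ub) by
    have hj1 : 1 ≤ q ^ j - 1 := by
      have : q ^ 1 ≤ q ^ j := Nat.pow_le_pow_right (by omega) (by omega)
      rw [pow_one] at this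
      omega
    have h1 : Z1 q k n0 * (q ^ j - 1) ≤ Fintype.card Ω * (q - 1) * (q ^ j - 1) := by
      calc Z1 q k n0 * (q ^ j - 1)
          ≤ Z1 q k n0 * ((q - 1) * Nat.card {U' : Img (Q := Q) U // v ∈ (U' : Submodule F V)}) :=
            Nat.mul_le_mul_left _ (hkey.trans (Nat.mul_le_mul_left _ hc))
        _ = (q - 1) * (Z1 q k n0 * Nat.card {U' : Img (Q := Q) U // v ∈ (U' : Submodule F V)}) := by
            ring
        _ ≤ (q - 1) * (Fintype.card Ω * (q ^ j - 1)) :=
            Nat.mul_le_mul_left _ (hmain.trans (Nat.mul_le_mul_right _ hN'))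
        _ = Fintype.card Ω * (q - 1) * (q ^ j - 1) := by ring
    have := Nat.le_of_mul_le_mul_right h1 hj1
    omega
  have hne : 1 ≤ Nat.card (Img (Q := QW Q v v₁) Ub) :=
    have := finite_submodules (F := F) (V := Wsub Q v v₁)
    have : Nonempty (Img (Q := QW Q v v₁) Ub) := ⟨⟨_, 1, rfl⟩⟩
    Nat.card_pos
  by_cases hj1 : j = 1
  · rw [hj1, pow_one]; exact Nat.le_mul_of_pos_right _ hne
  obtain ⟨φ, hφU, hφ0⟩ := Submodule.exists_mem_ne_zero_of_ne_bot (p := Ub) (by
    intro e; rw [e, finrank_bot] at hj; omega)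
  have hW5 : 5 ≤ Module.finrank F (Wsub Q v v₁) := by
    have := P.finrank_W; have := geo.dim; have := num.k_five; omega
  have hsingW : ∀ x ∈ Ub, QW Q v v₁ x = 0 := fun x hx => hsing _ hx
  have hmain2 := card_sing_mul_le (P.nondegenerate_QW hN) hW5 hsingW hφU hφ0
  simp only [QW_apply] at hmain2
  rw [geo.sing_count P, show Module.finrank F Ub = j - 1 by omega] at hmain2
  obtain ⟨φ₁, P'⟩ := exists_HP (P.nondegenerate_QW hN) (hsingW φ hφU) hφ0
  have hc2pos : 1 ≤ Nat.card {U' : Img (Q := QW Q v v₁) Ub // φ ∈ (U' : Submodule F _)} := by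
    have := finite_submodules (F := F) (V := Wsub Q v v₁)
    have : Nonempty {U' : Img (Q := QW Q v v₁) Ub // φ ∈ (U' : Submodule F _)} :=
      ⟨⟨⟨Ub, 1, by ext x; exact ⟨fun hx => ⟨x, hx, rfl⟩, fun ⟨y, hy, e⟩ => e ▸ hy⟩⟩, hφU⟩⟩
    exact Nat.card_pos
  set A := Nat.card (Img (Q := QW Q v v₁) Ub)
  by_cases hj2 : j = 2
  · rw [hj2, show (2 - 1 : ℕ) = 1 from rfl, pow_one] at hmain2
    rw [hj2, mul_comm]
    refine le_trans ?_ hmain2
    refine le_trans ?_ (Nat.le_mul_of_pos_right _ hc2pos)
    rw [num.n0_eq]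
    have h1 : q ^ 3 ≤ q ^ (k - 2) :=
      Nat.pow_le_pow_right (by omega) (by have := num.k_five; omega)
    have h2 : q + 1 ≤ q ^ 3 := by
      have := Nat.mul_le_mul (Nat.mul_le_mul hq hq) (le_refl q)
      rw [pow_succ, pow_two]
      omega
    have h3 := Nat.mul_le_mul_left (q - 1) (h2.trans h1)
    have h4 : q ^ 2 - 1 = (q - 1) * (q + 1) := by
      rw [show q ^ 2 = q * q from sq q, mul_comm (q - 1)]
      simpa using Nat.mul_self_sub_mul_self_eq q 1
    omega
  have hcov := card_images_through (P.nondegenerate_QW hN) P' hW5 hsingW hφU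
    (by omega : 2 ≤ Module.finrank F Ub)
  simp only [QW_apply] at hcov
  rw [geo.sing_count₂ P P', show Module.finrank F Ub - 1 = j - 2 by omega] at hcov
  have hsb := num.span_bound j (by omega) (by omega)
  have hpos : 0 < (q ^ (j - 1) - 1) * (q ^ (j - 2) - 1) := by
    have h1 : q ^ 1 ≤ q ^ (j - 1) := Nat.pow_le_pow_right (by omega) (by omega)
    have h2 : q ^ 1 ≤ q ^ (j - 2) := Nat.pow_le_pow_right (by omega) (by omega)
    rw [pow_one] at h1 h2
    exact Nat.mul_pos (by omega) (by omega)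
  refine Nat.le_of_mul_le_mul_right (hsb.trans ?_) hpos
  calc (q - 1) * (n0 * n00)
      ≤ (q - 1) * (n0 * (Nat.card {U' : Img (Q := QW Q v v₁) Ub // φ ∈ (U' : Submodule F _)} *
          (q ^ (j - 2) - 1))) := Nat.mul_le_mul_left _ (Nat.mul_le_mul_left _ hcov)
    _ = (q - 1) * (n0 * Nat.card {U' : Img (Q := QW Q v v₁) Ub // φ ∈ (U' : Submodule F _)}) *
          (q ^ (j - 2) - 1) := by ring
    _ ≤ (q - 1) * (A * (q ^ (j - 1) - 1)) * (q ^ (j - 2) - 1) :=
          Nat.mul_le_mul_right _ (Nat.mul_le_mul_left _ hmain2)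
    _ = (q - 1) * A * ((q ^ (j - 1) - 1) * (q ^ (j - 2) - 1)) := by ring
where
  quad_span_sing {Z : Set V} (h0 : ∀ z ∈ Z, Q z = 0)
      (horth : ∀ z ∈ Z, ∀ z' ∈ Z, bil Q z z' = 0) {x : V} (hx : x ∈ Submodule.span F Z) :
      Q x = 0 := by
    have hb : ∀ a ∈ Submodule.span F Z, ∀ z ∈ Z, bil Q z a = 0 := fun a ha z hz =>
      (Submodule.span_le.2 fun z' hz' => horth z hz z' hz' :
        Submodule.span F Z ≤ LinearMap.ker (bil Q z)) ha
    have hb' : ∀ a ∈ Submodule.span F Z, ∀ b ∈ Submodule.span F Z, bil Q a b = 0 :=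
      fun a ha b hb₂ => (Submodule.span_le.2 fun z hz => by
        show bil Q a z = 0
        rw [bil_comm]; exact hb a ha z hz : Submodule.span F Z ≤ LinearMap.ker (bil Q a)) hb₂
    induction hx using Submodule.span_induction with
    | mem z hz => exact h0 z hz
    | zero => exact QuadraticMap.map_zero _
    | add a b ha hb₂ ea eb => rw [quad_add, ea, eb, hb' a ha b hb₂]; simp
    | smul c a _ ea => rw [quad_smul_vec, ea, mul_zero]
  card_images_through {E : Type _} [AddCommGroup E] [Module F E] [FiniteDimensional F E]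
      {R : QuadraticForm F E} (hR : (bil R).Nondegenerate) {φ φ₁ : E} (P' : HP R φ φ₁)
      (h5 : 5 ≤ Module.finrank F E) {U : Submodule F E} (hU : ∀ x ∈ U, R x = 0) (hφ : φ ∈ U)
      (h2 : 2 ≤ Module.finrank F U) :
      Nat.card {w : Wsub R φ φ₁ // w ≠ 0 ∧ R (w : E) = 0} ≤
        Nat.card {U' : Img (Q := R) U // φ ∈ (U' : Submodule F E)} *
          (Fintype.card F ^ (Module.finrank F U - 1) - 1) := by
    classical
    have : Finite E := Module.finite_of_finite F
    have := Fintype.ofFinite (Wsub R φ φ₁)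
    have := finite_submodules (F := F) (V := E)
    have := Fintype.ofFinite {U' : Img (Q := R) U // φ ∈ (U' : Submodule F E)}
    obtain ⟨hr, hproj⟩ := finrank_comap_Wsub hR P' hφ hU
    have hN' := P'.nondegenerate_QW hR
    have h3 : 3 ≤ Module.finrank F (Wsub R φ φ₁) := by
      have := P'.finrank_W; omega
    obtain ⟨y, hyU, hy0⟩ := Submodule.exists_mem_ne_zero_of_ne_bot
      (p := U.comap (Wsub R φ φ₁).subtype) (by intro e; rw [e, finrank_bot] at hr; omega)
    rw [Nat.card_eq_fintype_card, Fintype.card_subtype, Nat.card_eq_fintype_card,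
      ← Finset.card_univ]
    refine le_trans (Finset.card_le_card (t := Finset.univ.biUnion
      fun U' : {U' : Img (Q := R) U // φ ∈ (U' : Submodule F E)} =>
        Finset.univ.filter fun w : Wsub R φ φ₁ =>
          (w ≠ 0 ∧ R (w : E) = 0) ∧ (w : E) ∈ (U'.1 : Submodule F E)) ?_)
      (Finset.card_biUnion_le_card_mul _ _ _ fun U' _ => ?_)
    · intro x hx
      obtain ⟨-, hx0, hxs⟩ := Finset.mem_filter.1 hx
      obtain ⟨g, hg, c, hc, hgx⟩ := exists_siegel_line hN' h3 (x := y) (y := x)
        (hU _ hyU) hxs hy0 hx0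
      obtain ⟨G, hG⟩ := exists_scales_lift hg
      obtain ⟨hG, hG'⟩ := hG
      have hGφ : G • φ = φ := by rw [hG.left, one_smul]
      refine Finset.mem_biUnion.2 ⟨⟨⟨imgSub G U, G, rfl⟩, hGφ ▸ smul_mem_imgSub.2 hφ⟩,
        Finset.mem_univ _, Finset.mem_filter.2 ⟨Finset.mem_univ _, ⟨hx0, hxs⟩, ?_⟩⟩
      have h1 : G • (y : E) = c • (x : E) := by
        rw [← hG.coe_mapW, hG', hgx]; rfl
      have h2 : c • (x : E) ∈ imgSub G U := h1 ▸ smul_mem_imgSub.2 hyU
      simpa [smul_smul, hc] using (imgSub G U).smul_mem c⁻¹ h2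
    · obtain ⟨⟨A, g, rfl⟩, hφA⟩ := U'
      have hA : ∀ x ∈ imgSub g U, R x = 0 := by
        rintro x ⟨z, hz, rfl⟩
        exact (quad_smul (g : OQ R) z).trans (hU z hz)
      obtain ⟨hrA, -⟩ := finrank_comap_Wsub hR P' hφA hA
      have hrA : Module.finrank F ((imgSub g U).comap (Wsub R φ φ₁).subtype) + 1 =
          Module.finrank F (imgSub g U) := hrA
      have hfr : Module.finrank F (imgSub g U) = Module.finrank F U :=
        LinearEquiv.finrank_map_eq _ U
      refine le_trans ?_ (card_nonzero_le (W := (imgSub g U).comap (Wsub R φ φ₁).subtype)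
        (j := Module.finrank F U - 1) (by omega))
      rw [Nat.card_eq_fintype_card, ← Fintype.card_coe]
      exact Fintype.card_le_of_injective (fun w => ⟨⟨w.1, (Finset.mem_filter.1 w.2).2.2⟩,
          fun e => (Finset.mem_filter.1 w.2).2.1.1 (congrArg Subtype.val e)⟩)
        fun a b e => Subtype.ext (congrArg (fun z => (z.1 : (imgSub g U).comap
          (Wsub R φ φ₁).subtype).1) e :)

end Cfsg.Agent.MinDeg.Orth
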