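import Cfsg.Agent.Lib.ClassicalSimple.OrthSimple

/-!
Geometry for the minimal degree of the orthogonal groups: Siegel elements as a total map into the
Siegel group, hyperbolic pairs and their complements, the elements scaling such a pair, and lower
bounds for orbits of the Siegel group.
-/

set_option autoImplicit false

namespace Cfsg.Agent.MinDeg.Orth

open Cfsg.Agent.ClassicalSimple

variable {F V : Type*} [Field F] [AddCommGroup V] [Module F V] {Q : QuadraticForm F V}

/-! ### Siegel elements -/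

theorem smul_coe (g : siegelGroup Q) (x : V) : (g : OQ Q) • x = g • x := rfl

theorem quad_smul' (g : siegelGroup Q) (x : V) : Q (g • x) = Q x := quad_smul (g : OQ Q) x

theorem bil_smul' (g : siegelGroup Q) (x y : V) : bil Q (g • x) (g • y) = bil Q x y :=
  bil_smul_smul (g : OQ Q) x y

open Classical in
/-- The Siegel element of `(v, w)`; the identity unless `v` is singular and orthogonal to `w`. -/
noncomputable def sg (Q : QuadraticForm F V) (v w : V) : siegelGroup Q :=
  if h : Q v = 0 ∧ bil Q v w = 0 then ⟨siegel h.1 h.2, siegel_mem _ _⟩ else 1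

theorem sg_coe {v w : V} (hv : Q v = 0) (hw : bil Q v w = 0) :
    (sg Q v w : OQ Q) = siegel hv hw := by
  rw [sg, dif_pos ⟨hv, hw⟩]

theorem sg_of_not {v w : V} (h : ¬ (Q v = 0 ∧ bil Q v w = 0)) : sg Q v w = 1 := by
  rw [sg, dif_neg h]

theorem sg_act {v w : V} (hv : Q v = 0) (hw : bil Q v w = 0) (x : V) :
    sg Q v w • x = x + bil Q x v • w - (bil Q x w + Q w * bil Q x v) • v := by
  rw [← smul_coe, sg_coe hv hw, siegel_smul]

theorem sg_fix {v w x : V} (hv : Q v = 0) (hw : bil Q v w = 0) (h1 : bil Q x v = 0)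
    (h2 : bil Q x w = 0) : sg Q v w • x = x := by
  simp [sg_act hv hw, h1, h2]

theorem ext_act {g h : siegelGroup Q} (e : ∀ x : V, g • x = h • x) : g = h :=
  Subtype.ext (OQ.ext' e)

theorem sg_mul {v w w' : V} (hv : Q v = 0) (hw : bil Q v w = 0) (hw' : bil Q v w' = 0) :
    sg Q v w * sg Q v w' = sg Q v (w + w') := by
  refine Subtype.ext ?_
  rw [Subgroup.coe_mul, sg_coe hv hw, sg_coe hv hw', siegel_mul hv hw hw',
    sg_coe hv (w := w + w') (by simp [hw, hw'])]

theorem sg_zero (v : V) : sg Q v 0 = 1 := by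
  by_cases h : Q v = 0
  · exact Subtype.ext (by rw [sg_coe h (map_zero _), siegel_zero]; rfl)
  · exact sg_of_not fun h' => h h'.1

theorem sg_neg {v w : V} (hv : Q v = 0) (hw : bil Q v w = 0) : sg Q v (-w) = (sg Q v w)⁻¹ :=
  eq_inv_of_mul_eq_one_right (by
    rw [sg_mul hv hw (by simp [hw]), add_neg_cancel, sg_zero])

theorem sg_add_self {v w : V} (hv : Q v = 0) (hw : bil Q v w = 0) (a : F) :
    sg Q v (w + a • v) = sg Q v w := by
  rw [← sg_mul hv hw (by simp [bil_self_of_singular hv])]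
  convert mul_one (sg Q v w) using 2
  refine ext_act fun x => ?_
  rw [sg_act hv (by simp [bil_self_of_singular hv]), one_smul, map_smul, quad_smul_vec, hv,
    smul_eq_mul, mul_zero, zero_mul, add_zero, smul_smul, mul_comm a, add_sub_cancel_right]

theorem sg_smul_left {v w : V} {a : F} (hv : Q v = 0) (hw : bil Q v w = 0) :
    sg Q (a • v) w = sg Q v (a • w) := by
  refine ext_act fun x => ?_
  rw [sg_act (by rw [quad_smul_vec, hv, mul_zero]) (by simp [hw]), sg_act hv (by simp [hw])]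
  simp only [map_smul, quad_smul_vec, smul_eq_mul]
  module

theorem sg_conj (g : siegelGroup Q) (v w : V) :
    g * sg Q v w * g⁻¹ = sg Q (g • v) (g • w) := by
  by_cases h : Q v = 0 ∧ bil Q v w = 0
  · refine Subtype.ext ?_
    rw [Subgroup.coe_mul, Subgroup.coe_mul, sg_coe h.1 h.2, Subgroup.coe_inv, siegel_conj,
      sg_coe (by rw [quad_smul', h.1]) (by rw [bil_smul', h.2])]
  · rw [sg_of_not h, sg_of_not (by rwa [quad_smul', bil_smul']), mul_one, mul_inv_cancel]

/-- Long root elements are alternating in their two vectors. -/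
theorem sg_swap {a b : V} (ha : Q a = 0) (hb : Q b = 0) (hab : bil Q a b = 0) :
    sg Q a b = sg Q b (-a) := by
  refine ext_act fun x => ?_
  rw [sg_act ha hab, sg_act hb (by simp [(bil_comm b a).trans hab]), hb, QuadraticMap.map_neg, ha]
  simp
  module

/-- The commutator of two commuting-type Siegel elements is a long root element. -/
theorem sg_commutator {v v' w w' : V} (hv : Q v = 0) (hv' : Q v' = 0) (hvv : bil Q v v' = 0)
    (hw : bil Q v w = 0) (hw' : bil Q v' w' = 0) (h1 : bil Q v' w = 0) (h2 : bil Q v w' = 0) :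
    sg Q v w * sg Q v' w' * (sg Q v w)⁻¹ = sg Q v' w' * sg Q v' ((-bil Q w' w) • v) := by
  have e1 : sg Q v w • v' = v' := sg_fix hv hw ((bil_comm v' v).trans hvv) h1
  have e2 : sg Q v w • w' = w' + (-bil Q w' w) • v := by
    rw [sg_act hv hw, (bil_comm w' v).trans h2]
    simp [sub_eq_add_neg]
  rw [sg_conj, e1, e2, sg_mul hv' hw' (by simp [(bil_comm v' v).trans hvv])]

theorem sg_ne_one (hN : (bil Q).Nondegenerate) {v w : V} (hv : Q v = 0) (hw : bil Q v w = 0)
    (hv0 : v ≠ 0) (hwv : ∀ a : F, a • v ≠ w) : sg Q v w ≠ 1 := by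
  intro e
  obtain ⟨y, hy⟩ := orth_exists_ne_zero hN hv0
  have h := congrArg (fun g : siegelGroup Q => g • y) e
  simp only [one_smul, sg_act hv hw] at h
  have h' : bil Q y v • w = (bil Q y w + Q w * bil Q y v) • v := by
    rwa [add_sub_assoc, add_eq_left, sub_eq_zero] at h
  refine hwv ((bil Q y v)⁻¹ * (bil Q y w + Q w * bil Q y v)) ?_
  rw [mul_smul, ← h', inv_smul_smul₀ (by rwa [bil_comm])]

/-! ### Hyperbolic pairs -/

/-- A hyperbolic pair. -/
structure HP (Q : QuadraticForm F V) (v v₁ : V) : Prop where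
  sing : Q v = 0
  sing₁ : Q v₁ = 0
  one : bil Q v v₁ = 1

namespace HP

variable {v v₁ : V} (P : HP Q v v₁)
include P

theorem ne_zero : v ≠ 0 := by
  rintro rfl; simpa using P.one

theorem symm : HP Q v₁ v := ⟨P.sing₁, P.sing, (bil_comm _ _).trans P.one⟩

theorem map (g : siegelGroup Q) : HP Q (g • v) (g • v₁) :=
  ⟨by rw [quad_smul', P.sing], by rw [quad_smul', P.sing₁], by rw [bil_smul', P.one]⟩

end HP

/-- The orthogonal complement of a pair of vectors. -/
def Wsub (Q : QuadraticForm F V) (v v₁ : V) : Submodule F V :=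
  LinearMap.ker (bil Q v) ⊓ LinearMap.ker (bil Q v₁)

theorem mem_Wsub {v v₁ w : V} : w ∈ Wsub Q v v₁ ↔ bil Q v w = 0 ∧ bil Q v₁ w = 0 := by
  simp [Wsub]

/-- The form on the complement of a pair. -/
def QW (Q : QuadraticForm F V) (v v₁ : V) : QuadraticForm F (Wsub Q v v₁) :=
  Q.comp (Wsub Q v v₁).subtype

theorem QW_apply {v v₁ : V} (x : Wsub Q v v₁) : QW Q v v₁ x = Q x := rfl

theorem bil_QW {v v₁ : V} (x y : Wsub Q v v₁) : bil (QW Q v v₁) x y = bil Q x y := rfl

/-- The component in the complement of a pair. -/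
def proj (Q : QuadraticForm F V) (v v₁ x : V) : V := x - bil Q v₁ x • v - bil Q v x • v₁

namespace HP

variable {v v₁ : V} (P : HP Q v v₁)
include P

theorem proj_mem (x : V) : proj Q v v₁ x ∈ Wsub Q v v₁ :=
  mem_Wsub.2 ⟨by simp [proj, P.one, bil_self_of_singular P.sing],
    by simp [proj, P.symm.one, bil_self_of_singular P.sing₁]⟩

/-- The decomposition `V ≅ (F × F) × W` at a hyperbolic pair. -/
noncomputable def splitEquiv : ((F × F) × Wsub Q v v₁) ≃ₗ[F] V where
  toFun p := p.1.1 • v + p.1.2 • v₁ + (p.2 : V)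
  invFun x := ((bil Q v₁ x, bil Q v x), ⟨proj Q v v₁ x, P.proj_mem x⟩)
  map_add' p p' := by simp [add_smul]; abel
  map_smul' c p := by simp [mul_smul]
  left_inv p := by
    obtain ⟨h1, h2⟩ := mem_Wsub.1 p.2.2
    have e1 : bil Q v (p.1.1 • v + p.1.2 • v₁ + (p.2 : V)) = p.1.2 := by
      simp [h1, P.one, bil_self_of_singular P.sing]
    have e2 : bil Q v₁ (p.1.1 • v + p.1.2 • v₁ + (p.2 : V)) = p.1.1 := by
      simp [h2, P.symm.one, bil_self_of_singular P.sing₁]
    refine Prod.ext (Prod.ext e2 e1) (Subtype.ext ?_)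
    show proj Q v v₁ _ = (p.2 : V)
    rw [proj, e1, e2]
    module
  right_inv x := by
    show bil Q v₁ x • v + bil Q v x • v₁ + proj Q v v₁ x = x
    rw [proj]
    module

theorem quad_split (p : (F × F) × Wsub Q v v₁) :
    Q (P.splitEquiv p) = p.1.1 * p.1.2 + Q (p.2 : V) := by
  obtain ⟨h1, h2⟩ := mem_Wsub.1 p.2.2
  show Q (p.1.1 • v + p.1.2 • v₁ + (p.2 : V)) = _
  simp [quad_add, quad_smul_vec, P.sing, P.sing₁, P.one, h1, h2]
  ring

theorem finrank_W [FiniteDimensional F V] :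
    Module.finrank F (Wsub Q v v₁) + 2 = Module.finrank F V := by
  rw [← P.splitEquiv.finrank_eq, Module.finrank_prod, Module.finrank_prod, Module.finrank_self]
  omega

theorem nondegenerate_QW (hN : (bil Q).Nondegenerate) :
    (bil (QW Q v v₁)).Nondegenerate := by
  have key : ∀ w : Wsub Q v v₁, (∀ y, bil (QW Q v v₁) w y = 0) → w = 0 := by
    intro w hw
    refine Subtype.ext (hN.1 _ fun x => ?_)
    obtain ⟨p, rfl⟩ := P.splitEquiv.surjective x
    obtain ⟨h1, h2⟩ := mem_Wsub.1 w.2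
    show bil Q (w : V) (p.1.1 • v + p.1.2 • v₁ + (p.2 : V)) = 0
    have := hw p.2
    rw [bil_QW] at this
    simp [bil_comm (w : V) v, bil_comm (w : V) v₁, h1, h2, this]
  exact ⟨key, fun w hw => key w fun y => (bil_comm _ _).trans (hw y)⟩

omit P in
/-- Elements of the Siegel group of the complement extend to the whole space. -/
theorem exists_lift {g : OQ (QW Q v v₁)} (hg : g ∈ siegelGroup (QW Q v v₁)) :
    ∃ G : siegelGroup Q, G • v = v ∧ G • v₁ = v₁ ∧
      ∀ w : Wsub Q v v₁, G • (w : V) = ((g • w : Wsub Q v v₁) : V) := by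
  induction hg using Subgroup.closure_induction with
  | mem x hx =>
    obtain ⟨u, w, hu, hw, rfl⟩ := hx
    obtain ⟨u1, u2⟩ := mem_Wsub.1 u.2
    obtain ⟨w1, w2⟩ := mem_Wsub.1 w.2
    have hu' : Q (u : V) = 0 := hu
    have hw' : bil Q (u : V) (w : V) = 0 := hw
    refine ⟨sg Q u w, sg_fix hu' hw' u1 w1, sg_fix hu' hw' u2 w2, fun z => ?_⟩
    rw [sg_act hu' hw', siegel_smul]
    rfl
  | one => exact ⟨1, one_smul _ _, one_smul _ _, fun w => by simp⟩
  | mul x y _ _ hx hy =>
    obtain ⟨G, g1, g2, g3⟩ := hx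
    obtain ⟨G', g1', g2', g3'⟩ := hy
    exact ⟨G * G', by rw [mul_smul, g1', g1], by rw [mul_smul, g2', g2],
      fun w => by rw [mul_smul, g3', g3, mul_smul]⟩
  | inv x _ hx =>
    obtain ⟨G, g1, g2, g3⟩ := hx
    refine ⟨G⁻¹, inv_smul_eq_iff.2 g1.symm, inv_smul_eq_iff.2 g2.symm, fun w => ?_⟩
    rw [inv_smul_eq_iff, g3, smul_inv_smul]

end HP

variable (hN : (bil Q).Nondegenerate)
include hN

theorem exists_HP {v : V} (hv : Q v = 0) (hv0 : v ≠ 0) : ∃ v₁, HP Q v v₁ := by
  obtain ⟨y, hy⟩ := orth_exists_ne_zero hN hv0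
  obtain ⟨y1, h1⟩ : ∃ y1, bil Q v y1 = 1 :=
    ⟨(bil Q v y)⁻¹ • y, by rw [map_smul, smul_eq_mul, inv_mul_cancel₀ hy]⟩
  refine ⟨y1 - Q y1 • v, hv, ?_, by simp [h1, bil_self_of_singular hv]⟩
  rw [quad_sub, quad_smul_vec, hv, map_smul, bil_comm y1 v, h1, smul_eq_mul]
  ring

/-- A partner of `v` orthogonal to an independent vector of `v^⊥`. -/
theorem exists_HP_perp {v x : V} (hv : Q v = 0) (hvx : bil Q v x = 0)
    (hi : LinearIndependent F ![v, x]) : ∃ v₁, HP Q v v₁ ∧ bil Q x v₁ = 0 := by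
  obtain ⟨y, h1, h2⟩ := exists_bil_pair hN hi 1 0
  refine ⟨y - Q y • v, ⟨hv, ?_, by simp [h1, bil_self_of_singular hv]⟩, ?_⟩
  · rw [quad_sub, quad_smul_vec, hv, map_smul, bil_comm y v, h1, smul_eq_mul]
    ring
  · simp [h2, (bil_comm x v).trans hvx]

/-! ### Reflections -/

omit hN in
theorem orefl_inv {a : V} (ha : Q a ≠ 0) : (orefl ha)⁻¹ = orefl ha := by
  refine inv_eq_of_mul_eq_one_right (OQ.ext' fun x => ?_)
  rw [mul_smul, one_smul, orefl_smul, orefl_smul]
  simp only [map_sub, map_smul, LinearMap.sub_apply, LinearMap.smul_apply, smul_eq_mul, bil_self]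
  match_scalars <;> field_simp <;> ring

omit hN in
theorem orefl_scale {a : V} {c : F} (ha : Q a ≠ 0) (hc : Q (c • a) ≠ 0) :
    orefl hc = orefl ha := by
  refine OQ.ext' fun x => ?_
  have hc0 : c ≠ 0 := by rintro rfl; simp at hc
  rw [orefl_smul, orefl_smul, quad_smul_vec, map_smul, smul_eq_mul, smul_smul]
  congr 2
  field_simp

variable [Finite F] [FiniteDimensional F V] (h5 : 5 ≤ Module.finrank F V)
include h5

/-- The product of two reflections of equal norm is in the Siegel group. -/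
theorem orefl_mul_mem {a b : V} (ha : Q a ≠ 0) (hb : Q b ≠ 0) (e : Q a = Q b) :
    orefl ha * orefl hb ∈ siegelGroup Q := by
  obtain ⟨g, hg, hgab⟩ := siegel_trans_norm hN h5 ha e
  have e' : g * orefl ha * g⁻¹ = orefl hb := by
    rw [orefl_conj]
    congr 1
  rw [← e', ← mul_assoc, ← mul_assoc]
  refine mul_mem ?_ (inv_mem hg)
  nth_rw 2 [← orefl_inv ha]
  exact siegelGroup_normal.conj_mem g hg (orefl ha)

omit h5 [Finite F] [FiniteDimensional F V] hN in
theorem orefl_pair_smul {v v₁ : V} (P : HP Q v v₁) {c : F} (hc : c ≠ 0)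
    (h : Q (v - c • v₁) ≠ 0) :
    orefl h • v = c • v₁ ∧ orefl h • v₁ = c⁻¹ • v := by
  have hQ : Q (v - c • v₁) = -c := by
    simp [quad_sub, quad_smul_vec, P.sing, P.sing₁, P.one]
  constructor
  · rw [orefl_smul, hQ]
    simp [P.one, bil_self_of_singular P.sing, hc]
  · rw [orefl_smul, hQ]
    simp [P.symm.one, bil_self_of_singular P.sing₁]
    match_scalars <;> field_simp <;> ring

/-- An element of the Siegel group scaling a hyperbolic pair by `c` and `c⁻¹`. -/
theorem exists_scale {v v₁ : V} (P : HP Q v v₁) {c : F} (hc : c ≠ 0) :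
    ∃ g : siegelGroup Q, g • v = c • v ∧ g • v₁ = c⁻¹ • v₁ := by
  have hQ : ∀ d : F, Q (v - d • v₁) = -d := fun d => by
    simp [quad_sub, quad_smul_vec, P.sing, P.sing₁, P.one]
  have hb : bil Q v v₁ ≠ 0 := by rw [P.one]; exact one_ne_zero
  obtain ⟨a, a1, a2, a3⟩ := exists_orth_value hN h5 P.sing P.sing₁ hb (-c⁻¹)
  obtain ⟨b, b1, b2, b3⟩ := exists_orth_value hN h5 P.sing P.sing₁ hb (-1)
  have h1 : Q (v - c⁻¹ • v₁) ≠ 0 := by simp [hQ, hc]
  have h2 : Q (v - (1 : F) • v₁) ≠ 0 := by rw [hQ]; simp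
  have ha : Q a ≠ 0 := by simp [a3, hc]
  have hb' : Q b ≠ 0 := by simp [b3]
  have hfix : ∀ x : V, bil Q x a = 0 → orefl ha • x = x := fun x hx => by simp [orefl_smul, hx]
  have hfix' : ∀ x : V, bil Q x b = 0 → orefl hb' • x = x := fun x hx => by simp [orefl_smul, hx]
  refine ⟨⟨orefl h1 * orefl ha * (orefl h2 * orefl hb'),
    mul_mem (orefl_mul_mem hN h5 h1 ha (by rw [hQ, a3]))
      (orefl_mul_mem hN h5 h2 hb' (by rw [hQ, b3]))⟩, ?_, ?_⟩
  · rw [← smul_coe]
    simp only [mul_smul]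
    rw [hfix' v b1, (orefl_pair_smul P one_ne_zero h2).1, one_smul, hfix v₁ a2,
      (orefl_pair_smul P (inv_ne_zero hc) h1).2, inv_inv]
  · rw [← smul_coe]
    simp only [mul_smul]
    rw [hfix' v₁ b2, (orefl_pair_smul P one_ne_zero h2).2, inv_one, one_smul, hfix v a1,
      (orefl_pair_smul P (inv_ne_zero hc) h1).1]

/-- An element scaling a pair by squares and fixing its complement. -/
theorem exists_torus {v v₁ : V} (P : HP Q v v₁) {c : F} (hc : c ≠ 0) :
    ∃ g : siegelGroup Q, g • v = c ^ 2 • v ∧ g • v₁ = (c ^ 2)⁻¹ • v₁ ∧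
      ∀ w ∈ Wsub Q v v₁, g • w = w := by
  have hQ : ∀ d : F, Q (v - d • v₁) = -d := fun d => by
    simp [quad_sub, quad_smul_vec, P.sing, P.sing₁, P.one]
  have h1 : Q (v - (c ^ 2)⁻¹ • v₁) ≠ 0 := by simp [hQ, hc]
  have h2 : Q (v - (1 : F) • v₁) ≠ 0 := by rw [hQ]; simp
  have h3 : Q (c⁻¹ • (v - (1 : F) • v₁)) ≠ 0 := by
    rw [quad_smul_vec]; exact mul_ne_zero (by simp [hc]) h2
  refine ⟨⟨orefl h1 * orefl h2, ?_⟩, ?_, ?_, fun w hw => ?_⟩
  · rw [← orefl_scale h2 h3]
    refine orefl_mul_mem hN h5 h1 h3 ?_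
    rw [quad_smul_vec, hQ, hQ, sq, mul_inv]
    ring
  · rw [← smul_coe, mul_smul, (orefl_pair_smul P one_ne_zero h2).1, one_smul,
      (orefl_pair_smul P (inv_ne_zero (pow_ne_zero 2 hc)) h1).2, inv_inv]
  · rw [← smul_coe, mul_smul, (orefl_pair_smul P one_ne_zero h2).2, inv_one, one_smul,
      (orefl_pair_smul P (inv_ne_zero (pow_ne_zero 2 hc)) h1).1]
  · obtain ⟨w1, w2⟩ := mem_Wsub.1 hw
    rw [← smul_coe, mul_smul]
    simp [orefl_smul, bil_comm w v, bil_comm w v₁, w1, w2]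

end Cfsg.Agent.MinDeg.Orth
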