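import Cfsg.Agent.Lib.MinDeg.OrthTrichotomy
import Cfsg.Agent.Lib.MinDeg.OrthFull

/-!
The standing hypotheses for the minimal degree, moving the data of one pair to another, and the
case of all annihilators lying in lines.
-/

set_option autoImplicit false

namespace Cfsg.Agent.MinDeg.Orth

open Cfsg.Agent.ClassicalSimple

variable {F V : Type*} [Field F] [AddCommGroup V] [Module F V] {Q : QuadraticForm F V}

theorem sg_zero_left (w : V) : sg Q (0 : V) w = 1 := ext_act fun x => by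
  rw [sg_act (QuadraticMap.map_zero _) (by simp), one_smul]
  simp

theorem sg_smul_eq_one {v : V} (hv : Q v = 0) (a : F) : sg Q v (a • v) = 1 := by
  have h := sg_add_self hv (w := (0 : V)) (map_zero _) a
  rwa [zero_add, sg_zero] at h

/-- An element moving one pair to another moves the complements. -/
theorem mem_W_of_map {g : siegelGroup Q} {v v₁ v' v₁' : V} (e : g • v = v') (e₁ : g • v₁ = v₁')
    {x : V} (hx : x ∈ Wsub Q v v₁) : g • x ∈ Wsub Q v' v₁' := by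
  obtain ⟨h1, h2⟩ := mem_Wsub.1 hx
  subst e e₁
  exact mem_Wsub.2 ⟨by rw [bil_smul', h1], by rw [bil_smul', h2]⟩

/-- The induced map of the complements. -/
def pairMap (g : siegelGroup Q) {v v₁ v' v₁' : V} (e : g • v = v') (e₁ : g • v₁ = v₁') :
    Wsub Q v v₁ →ₗ[F] Wsub Q v' v₁' where
  toFun w := ⟨g • (w : V), mem_W_of_map e e₁ w.2⟩
  map_add' a b := Subtype.ext (smul_add g (a : V) b)
  map_smul' c a := Subtype.ext (smul_comm g c (a : V))

theorem coe_pairMap {g : siegelGroup Q} {v v₁ v' v₁' : V} (e : g • v = v') (e₁ : g • v₁ = v₁')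
    (w : Wsub Q v v₁) : (pairMap g e e₁ w : V) = g • (w : V) := rfl

variable [Fintype F] [FiniteDimensional F V] {Ω : Type*} [Fintype Ω]
  {ρ : siegelGroup Q →* Equiv.Perm Ω}

theorem mem_ann_map {g : siegelGroup Q} {v v₁ v' v₁' : V} (P : HP Q v v₁) (e : g • v = v')
    (e₁ : g • v₁ = v₁') {ω : Ω} {φ : Wsub Q v v₁} (hφ : φ ∈ ann ρ v v₁ ω) :
    pairMap g e e₁ φ ∈ ann ρ v' v₁' (ρ g ω) := by
  rw [ann, mem_annOf] at hφ ⊢
  intro z hz
  have P' : HP Q v' v₁' := e ▸ e₁ ▸ P.map g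
  have e' : g⁻¹ • v' = v := inv_smul_eq_iff.2 e.symm
  have e₁' : g⁻¹ • v₁' = v₁ := inv_smul_eq_iff.2 e₁.symm
  rw [mem_stabW ρ P'.sing, tau] at hz
  have hw : pairMap g⁻¹ e' e₁' z ∈ stabW ρ v v₁ ω := by
    rw [mem_stabW ρ P.sing, tau, coe_pairMap, ← e', ← sg_conj, inv_inv, map_mul, map_mul,
      Equiv.Perm.mul_apply, Equiv.Perm.mul_apply, hz, map_inv, Equiv.Perm.inv_def,
      Equiv.symm_apply_apply]
  have := hφ _ hw
  rw [bil_QW, coe_pairMap, ← bil_smul' g, smul_inv_smul] at this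
  exact this

theorem mem_ann_map_iff {g : siegelGroup Q} {v v₁ v' v₁' : V} (P : HP Q v v₁) (e : g • v = v')
    (e₁ : g • v₁ = v₁') {ω : Ω} {φ : Wsub Q v v₁} :
    pairMap g e e₁ φ ∈ ann ρ v' v₁' (ρ g ω) ↔ φ ∈ ann ρ v v₁ ω := by
  refine ⟨fun h => ?_, mem_ann_map P e e₁⟩
  have P' : HP Q v' v₁' := e ▸ e₁ ▸ P.map g
  have h2 := mem_ann_map P' (inv_smul_eq_iff.2 e.symm) (inv_smul_eq_iff.2 e₁.symm) h
  rw [map_inv, Equiv.Perm.inv_def, Equiv.symm_apply_apply] at h2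
  convert h2 using 1
  exact Subtype.ext (by rw [coe_pairMap, coe_pairMap, inv_smul_smul])

theorem mem_stabW_of_perp {v v₁ : V} (P : HP Q v v₁) (hN : (bil Q).Nondegenerate) {ω : Ω}
    {w : Wsub Q v v₁} (h : ∀ φ ∈ ann ρ v v₁ ω, bil Q (φ : V) w = 0) : w ∈ stabW ρ v v₁ ω :=
  (mem_stabW_iff P hN).2 fun φ hφ => by rw [h φ hφ, AddChar.map_zero_eq_one]

theorem sg_proj {v v₁ w : V} (P : HP Q v v₁) (hw : bil Q v w = 0) :
    sg Q v w = sg Q v (proj Q v v₁ w) := by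
  conv_lhs => rw [show w = proj Q v v₁ w + bil Q v₁ w • v by rw [proj, hw]; module]
  rw [sg_add_self P.sing (mem_Wsub.1 (P.proj_mem w)).1]

/-- The standing hypotheses: a small non-trivial transitive action. -/
structure Hyp (ρ : siegelGroup Q →* Equiv.Perm Ω) (k n0 n00 C J cC cC' : ℕ) : Prop where
  geo : Geo Q k n0 n00 C J
  num : Num (Fintype.card F) k n0 n00 C J cC cC'
  trans : ∀ a b : Ω, ∃ g, ρ g a = b
  nontriv : Nontrivial Ω
  small : Fintype.card Ω * (Fintype.card F - 1) < Z1 (Fintype.card F) k n0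

namespace Hyp

variable {k n0 n00 C J cC cC' : ℕ} (H : Hyp ρ k n0 n00 C J cC cC')
include H

theorem ctx {v v₁ : V} (P : HP Q v v₁) : Ctx ρ v v₁ k n0 n00 C J cC cC' :=
  ⟨H.geo, H.num, P, H.small⟩

theorem five_le : 5 ≤ Module.finrank F V := by
  have := H.geo.dim; have := H.num.k_five; omega

theorem not_fixed (ω : Ω) : ¬ ∀ g : siegelGroup Q, ρ g ω = ω := by
  intro h
  have := H.nontriv
  obtain ⟨ω', hω'⟩ := exists_ne ω
  obtain ⟨g, rfl⟩ := H.trans ω ω'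
  exact hω' (h g)

theorem ann_ne_bot {v v₁ : V} (P : HP Q v v₁) (ω : Ω) : ann ρ v v₁ ω ≠ ⊥ := by
  intro e
  have := H.nontriv
  refine no_full H.geo.hN H.geo H.num H.trans H.small P.ne_zero (ω := ω) ⟨P.sing, fun w hw => ?_⟩
  rw [sg_proj P hw]
  refine (mem_stabW ρ P.sing (w := ⟨_, P.proj_mem w⟩)).1
    (mem_stabW_of_perp P H.geo.hN fun φ hφ => ?_)
  rw [e, AddSubgroup.mem_bot] at hφ
  rw [hφ]; simp

theorem exists_pair_map {v v₁ v' v₁' : V} (P : HP Q v v₁) (P' : HP Q v' v₁') :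
    ∃ g : siegelGroup Q, g • v = v' ∧ g • v₁ = v₁' := by
  obtain ⟨g, hg, h1, h2⟩ := siegel_trans_pair H.geo.hN H.five_le P.sing P.sing₁ P'.sing P'.sing₁
    P.one P'.one
  exact ⟨⟨g, hg⟩, h1, h2⟩

/-- Two orthogonal singular vectors: if all annihilators lie in lines, their root element fixes
everything. -/
theorem long_fixed_of_lines
    (hA : ∀ {v v₁ : V}, HP Q v v₁ → ∀ ω, ∃ s : Wsub Q v v₁,
      ∀ z ∈ ann ρ v v₁ ω, ∃ c : F, c • s = z)
    {v v' : V} (hv : Q v = 0) (hv' : Q v' = 0) (hvv : bil Q v v' = 0) (ω : Ω) :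
    ρ (sg Q v' v) ω = ω := by
  have hN := H.geo.hN
  by_cases hv'0 : v' = 0
  · rw [hv'0, sg_zero_left, map_one]; rfl
  by_cases hi : LinearIndependent F ![v', v]
  swap
  · rw [LinearIndependent.pair_iff' hv'0] at hi
    push Not at hi
    obtain ⟨a, rfl⟩ := hi
    rw [sg_smul_eq_one hv', map_one]; rfl
  have hi' : LinearIndependent F ![v, v'] := by
    rw [LinearIndependent.pair_iff] at hi ⊢
    exact fun s t e => (hi t s (by rw [add_comm, e])).symm
  obtain ⟨v₁, P, hp⟩ := exists_HP_perp hN hv hvv hi'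
  let a : Wsub Q v v₁ := ⟨v', mem_Wsub.2 ⟨hvv, by rw [bil_comm]; exact hp⟩⟩
  obtain ⟨a₁, Pa⟩ := exists_HP (P.nondegenerate_QW hN) (v := a) hv'
    (fun e => hv'0 (congrArg Subtype.val e))
  have P' : HP Q v' (a₁ : V) := ⟨hv', Pa.sing₁, Pa.one⟩
  obtain ⟨s, hs⟩ := hA P ω
  obtain ⟨s', hs'⟩ := hA P' ω
  have hNM := Pa.nondegenerate_QW (P.nondegenerate_QW hN)
  have hM3 : 3 ≤ Module.finrank F (Wsub (QW Q v v₁) a a₁) := by
    have := Pa.finrank_W; have := P.finrank_W; have := H.geo.dim; have := H.num.k_five; omega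
  -- the functionals of the two lines on the common complement
  let ι : Wsub (QW Q v v₁) a a₁ →ₗ[F] V :=
    (Wsub Q v v₁).subtype ∘ₗ (Wsub (QW Q v v₁) a a₁).subtype
  let f : Wsub (QW Q v v₁) a a₁ →ₗ[F] F := bil Q (s : V) ∘ₗ ι
  let f' : Wsub (QW Q v v₁) a a₁ →ₗ[F] F := bil Q (s' : V) ∘ₗ ι
  let σ : Wsub (QW Q v v₁) a a₁ := ⟨proj (QW Q v v₁) a a₁ s, Pa.proj_mem s⟩
  have hσ : ∀ m, bil (QW (QW Q v v₁) a a₁) σ m = f m := by
    intro m
    obtain ⟨m1, m2⟩ := mem_Wsub.1 m.2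
    show bil (QW Q v v₁) (proj (QW Q v v₁) a a₁ s) (m : Wsub Q v v₁) = _
    simp [proj, m1, m2]
    rfl
  obtain ⟨m, hm, m', hm', hne⟩ : ∃ m, f m = 0 ∧ ∃ m', f' m' = 0 ∧ bil Q (ι m') (ι m) ≠ 0 := by
    by_contra hc
    push Not at hc
    have hsub : LinearMap.ker f' ≤ Submodule.span F {σ} := by
      intro m' hm'
      by_cases hσ0 : σ = 0
      · have h0 : m' = 0 := hNM.1 m' fun m => hc m
          (by rw [← hσ, hσ0]; simp) m' hm'
        rw [h0]; exact zero_mem _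
      · refine Submodule.mem_span_singleton.2
          (exists_smul_of_perp hNM hσ0 fun m hm => hc m ((hσ m).symm.trans hm) m' hm')
    have h1 := LinearMap.finrank_range_add_finrank_ker f'
    have h2 : Module.finrank F (LinearMap.range f') ≤ 1 :=
      (Submodule.finrank_le _).trans (by rw [Module.finrank_self])
    have h3 := (Submodule.finrank_mono hsub).trans (finrank_span_le_card ({σ} : Set _))
    simp at h3
    omega
  obtain ⟨⟨mv, mv₁⟩, mv'⟩ := And.intro (mem_Wsub.1 (m : Wsub Q v v₁).2) (mem_Wsub.1 m.2).1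
  obtain ⟨⟨m'v, m'v₁⟩, m'v'⟩ := And.intro (mem_Wsub.1 (m' : Wsub Q v v₁).2) (mem_Wsub.1 m'.2).1
  have mv' : bil Q v' (ι m) = 0 := mv'
  have m'v' : bil Q v' (ι m') = 0 := m'v'
  set t := -(bil Q (ι m') (ι m))⁻¹
  have e1 : ρ (sg Q v (t • ι m)) ω = ω := by
    refine (mem_stabW ρ P.sing (w := ⟨_, Submodule.smul_mem _ t (m : Wsub Q v v₁).2⟩)).1
      (mem_stabW_of_perp P hN fun z hz => ?_)
    obtain ⟨c, rfl⟩ := hs z hz
    show bil Q ((c • s : Wsub Q v v₁) : V) (t • ι m) = 0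
    have : bil Q (s : V) (ι m) = 0 := hm
    simp [this]
  have e2 : ρ (sg Q v' (ι m')) ω = ω := by
    refine (mem_stabW ρ P'.sing (w := ⟨ι m', mem_Wsub.2 ⟨m'v', (mem_Wsub.1 m'.2).2⟩⟩)).1
      (mem_stabW_of_perp P' hN fun z hz => ?_)
    obtain ⟨c, rfl⟩ := hs' z hz
    show bil Q ((c • s' : Wsub Q v' a₁) : V) (ι m') = 0
    have : bil Q (s' : V) (ι m') = 0 := hm'
    simp [this]
  have key := sg_commutator (w := t • ι m) (w' := ι m') hv hv' hvv
    (by show bil Q v (t • ((m : Wsub Q v v₁) : V)) = 0; simp [mv]) m'v'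
    (by simp [mv']) m'v
  rw [map_smul, smul_eq_mul, show -(t * bil Q (ι m') (ι m)) = 1 by
    simp [t, hne], one_smul] at key
  have h := congrArg (fun g => ρ g ω) key
  simp only [map_mul, map_inv, Equiv.Perm.mul_apply] at h
  rw [Equiv.Perm.inv_eq_iff_eq.2 e1.symm, e2, e1] at h
  -- `sg v' v` fixes `ω`
  have h2 : ρ (sg Q v' (ι m')) (ρ (sg Q v' v) ω) = ρ (sg Q v' (ι m')) ω := by rw [← h, e2]
  exact (ρ (sg Q v' (ι m'))).injective h2

/-- Not all annihilators lie in lines. -/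
theorem no_lines
    (hA : ∀ {v v₁ : V}, HP Q v v₁ → ∀ ω, ∃ s : Wsub Q v v₁,
      ∀ z ∈ ann ρ v v₁ ω, ∃ c : F, c • s = z) : False := by
  obtain ⟨ω⟩ : Nonempty Ω := have := H.nontriv; inferInstance
  have key : ∀ g ∈ Subgroup.closure (longRootSet Q), ∃ h : g ∈ siegelGroup Q,
      ρ ⟨g, h⟩ ω = ω := by
    intro g hg
    induction hg using Subgroup.closure_induction with
    | mem x hx =>
      obtain ⟨u, s, hu, hs, hus, rfl⟩ := hx
      refine ⟨siegel_mem _ _, ?_⟩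
      rw [show (⟨siegel hu hus, siegel_mem hu hus⟩ : siegelGroup Q) = sg Q u s from
        Subtype.ext (sg_coe hu hus).symm]
      exact H.long_fixed_of_lines hA hs hu (by rw [bil_comm]; exact hus) ω
    | one => exact ⟨one_mem _, by rw [show (⟨1, one_mem _⟩ : siegelGroup Q) = 1 from rfl, map_one]; rfl⟩
    | mul x y _ _ hx hy =>
      obtain ⟨h1, h1'⟩ := hx
      obtain ⟨h2, h2'⟩ := hy
      refine ⟨mul_mem h1 h2, ?_⟩
      rw [show (⟨x * y, mul_mem h1 h2⟩ : siegelGroup Q) = ⟨x, h1⟩ * ⟨y, h2⟩ from rfl, map_mul,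
        Equiv.Perm.mul_apply, h2', h1']
    | inv x _ hx =>
      obtain ⟨h1, h1'⟩ := hx
      refine ⟨inv_mem h1, ?_⟩
      rw [show (⟨x⁻¹, inv_mem h1⟩ : siegelGroup Q) = ⟨x, h1⟩⁻¹ from rfl, map_inv,
        Equiv.Perm.inv_eq_iff_eq]
      exact h1'.symm
  refine H.not_fixed ω fun g => ?_
  obtain ⟨h, hh⟩ := key g.1 (siegelGroup_eq_long H.geo.hN H.five_le ▸ g.2)
  exact hh

end Hyp

end Cfsg.Agent.MinDeg.Orth
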