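import Cfsg.Agent.Lib.MinDeg.OrthCaseB
import Cfsg.Agent.Lib.MinDeg.OrthCaseS

/-!
The minimal degree: a non-trivial transitive action of the Siegel group has at least as many
points as there are singular points of the space.
-/

set_option autoImplicit false

namespace Cfsg.Agent.MinDeg.Orth

open Cfsg.Agent.ClassicalSimple

variable {F V : Type*} [Field F] [AddCommGroup V] [Module F V] {Q : QuadraticForm F V}
  [Fintype F] [FiniteDimensional F V] {Ω : Type*} [Fintype Ω]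

/-- A non-trivial transitive action of the Siegel group has at least `Z1 / (q - 1)` points. -/
theorem degree_bound {k n0 n00 C J cC cC' : ℕ} (geo : Geo Q k n0 n00 C J)
    (num : Num (Fintype.card F) k n0 n00 C J cC cC') (ρ : siegelGroup Q →* Equiv.Perm Ω)
    (htrans : ∀ a b : Ω, ∃ g, ρ g a = b) [Nontrivial Ω] :
    Z1 (Fintype.card F) k n0 ≤ Fintype.card Ω * (Fintype.card F - 1) := by
  by_contra hlt
  have H : Hyp ρ k n0 n00 C J cC cC' := ⟨geo, num, htrans, inferInstance, Nat.lt_of_not_le hlt⟩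
  by_cases hTS : ∃ (v v₁ : V) (_ : HP Q v v₁) (ω : Ω) (U : Submodule F (Wsub Q v v₁)),
      (∀ w, w ∈ U ↔ w ∈ ann ρ v v₁ ω) ∧ (∀ w ∈ U, Q (w : V) = 0) ∧ 2 ≤ Module.finrank F U
  · obtain ⟨v, v₁, P, ω, U, h1, h2, h3⟩ := hTS
    exact H.no_TS (H.allTS P h1 h2 h3)
  have hline : ∀ {u u₁ : V}, HP Q u u₁ → ∀ ω, ann ρ u u₁ ω ≠ ⊤ →
      ∃ s : Wsub Q u u₁, ∀ z ∈ ann ρ u u₁ ω, ∃ c : F, c • s = z := by
    intro u u₁ P ω hne
    rcases (H.ctx P).trichotomy ω with h | h | ⟨U, h1, h2, h3⟩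
    · exact absurd h hne
    · exact h
    · exact absurd ⟨u, u₁, P, ω, U, h1, h2, h3⟩ hTS
  by_cases htop : ∃ (v v₁ : V) (_ : HP Q v v₁) (ω : Ω), ann ρ v v₁ ω = ⊤
  · obtain ⟨v, v₁, P, ω, h⟩ := htop
    exact H.no_free P h hline
  push Not at htop
  exact H.no_lines fun {u u₁} P ω => hline P ω (htop u u₁ P ω)

end Cfsg.Agent.MinDeg.Orth
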