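import Cfsg.Agent.Lib.MinDeg.OrthBounds
import Cfsg.Agent.Lib.MinDeg.Orbit

/-!
A permutation representation of the Siegel group restricted to the abelian group of all Siegel
elements `sg v w`, `w ∈ W`, at a hyperbolic pair `(v, v₁)` with complement `W`: point stabilisers
`K`, their annihilators `ann`, orbits, and the number `cnt φ` of orbits whose annihilator
contains `φ`.
-/

set_option autoImplicit false

namespace Cfsg.Agent.MinDeg.Orth

open Cfsg.Agent.ClassicalSimple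

variable {F V : Type*} [Field F] [AddCommGroup V] [Module F V] {Q : QuadraticForm F V}

section Char

variable (F) [Fintype F]

/-- A primitive additive character. -/
noncomputable def psi : AddChar F ℂ :=
  Classical.choose (show ∃ ψ : AddChar F ℂ, ψ.IsPrimitive from
    ⟨_, AddChar.FiniteField.primitiveChar_to_Complex_isPrimitive F⟩)

theorem psi_primitive : (psi F).IsPrimitive :=
  Classical.choose_spec (show ∃ ψ : AddChar F ℂ, ψ.IsPrimitive from
    ⟨_, AddChar.FiniteField.primitiveChar_to_Complex_isPrimitive F⟩)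

variable {F}

theorem eq_zero_of_psi {x : F} (h : ∀ c : F, psi F (c * x) = 1) : x = 0 := by
  by_contra hx
  obtain ⟨a, ha⟩ := AddChar.ne_one_iff.1 (psi_primitive F hx)
  exact ha (by rw [AddChar.mulShift_apply, mul_comm]; exact h a)

end Char

section Duality

variable [Fintype F] (Q)

/-- The annihilator of an additive subgroup under the character of the polar form. -/
def annOf (K : AddSubgroup V) : AddSubgroup V where
  carrier := {φ | ∀ w ∈ K, psi F (bil Q φ w) = 1}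
  zero_mem' := fun w _ => by simp
  add_mem' {a b} ha hb := fun w hw => by
    rw [map_add, LinearMap.add_apply, AddChar.map_add_eq_mul, ha w hw, hb w hw, one_mul]
  neg_mem' {a} ha := fun w hw => by
    rw [map_neg, LinearMap.neg_apply, AddChar.map_neg_eq_inv, ha w hw, inv_one]

theorem mem_annOf {K : AddSubgroup V} {φ : V} :
    φ ∈ annOf Q K ↔ ∀ w ∈ K, psi F (bil Q φ w) = 1 := Iff.rfl

variable {Q}

theorem card_annOf [Finite V] (hN : (bil Q).Nondegenerate) (K : AddSubgroup V) :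
    Nat.card (annOf Q K) * Nat.card K = Nat.card V := by
  classical
  have := Fintype.ofFinite V
  let χ : V → V → ℂ := fun φ w => psi F (bil Q φ w)
  have hl : ∀ a b w, χ (a + b) w = χ a w * χ b w := fun a b w => by
    simp [χ, AddChar.map_add_eq_mul]
  have hr : ∀ φ a b, χ φ (a + b) = χ φ a * χ φ b := fun φ a b => by
    simp [χ, AddChar.map_add_eq_mul]
  have h1 : ∀ φ : V, ∑ w : K, χ φ w = if φ ∈ annOf Q K then (Nat.card K : ℂ) else 0 := by
    intro φ
    split_ifs with h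
    · rw [Finset.sum_congr rfl (g := fun _ => (1 : ℂ)) fun w _ => h w.1 w.2]
      simp [Nat.card_eq_fintype_card]
    · rw [mem_annOf] at h
      push Not at h
      obtain ⟨w, hw, hne⟩ := h
      exact MinDeg.sum_char_addSubgroup (χ := fun w : K => χ φ w)
        (fun a b => hr φ a b) (b := ⟨w, hw⟩) hne
  have h2 : ∀ w : K, ∑ φ : V, χ φ w = if w = 0 then (Nat.card V : ℂ) else 0 := by
    intro w
    split_ifs with h
    · subst h; simp [χ, Nat.card_eq_fintype_card]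
    · obtain ⟨y, hy⟩ := orth_exists_ne_zero hN (v := (w : V)) fun e => h (Subtype.ext e)
      obtain ⟨c, hc⟩ : ∃ c : F, psi F (c * bil Q (w : V) y) ≠ 1 := by
        by_contra hcon
        push Not at hcon
        exact hy (eq_zero_of_psi hcon)
      exact MinDeg.sum_char_addSubgroup (χ := fun φ : V => χ φ w)
        (fun a b => hl a b w) (b := c • y) (by simpa [χ, bil_comm y] using hc)
  have h3 : ∑ φ : V, ∑ w : K, χ φ w = ∑ w : K, ∑ φ : V, χ φ w := Finset.sum_comm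
  simp_rw [h1, h2] at h3
  rw [← Finset.sum_filter, Finset.sum_const, nsmul_eq_mul, Finset.sum_ite_eq',
    if_pos (Finset.mem_univ _)] at h3
  rw [Nat.card_eq_fintype_card, Fintype.card_of_subtype
    (Finset.univ.filter fun φ => φ ∈ annOf Q K) (by simp)]
  exact_mod_cast h3

end Duality

variable [Fintype F] [FiniteDimensional F V] {Ω : Type*} [Fintype Ω]
  (ρ : siegelGroup Q →* Equiv.Perm Ω) (v v₁ : V)

/-- The action of the Siegel element of `(v, w)`. -/
noncomputable def tau (w : V) : Equiv.Perm Ω := ρ (sg Q v w)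

theorem tau_add {v w w' : V} (hv : Q v = 0) (hw : bil Q v w = 0) (hw' : bil Q v w' = 0) :
    tau ρ v (w + w') = tau ρ v w * tau ρ v w' := by
  rw [tau, ← sg_mul hv hw hw', map_mul, tau, tau]

theorem tau_zero (v : V) : tau ρ v 0 = 1 := by rw [tau, sg_zero, map_one]

theorem tau_smul_comm {v : V} (hv : Q v = 0) (w w' : Wsub Q v v₁) (ω : Ω) :
    tau ρ v w (tau ρ v w' ω) = tau ρ v w' (tau ρ v w ω) := by
  rw [← Equiv.Perm.mul_apply, ← tau_add ρ hv (mem_Wsub.1 w.2).1 (mem_Wsub.1 w'.2).1, add_comm,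
    tau_add ρ hv (mem_Wsub.1 w'.2).1 (mem_Wsub.1 w.2).1, Equiv.Perm.mul_apply]

open Classical in
/-- The stabiliser of `ω` in `W` (the trivial group unless `v` is singular). -/
noncomputable def stabW (ω : Ω) : AddSubgroup (Wsub Q v v₁) :=
  if hv : Q v = 0 then
    { carrier := {w | tau ρ v w ω = ω}
      zero_mem' := by simp [tau_zero]
      add_mem' := fun {a b} ha hb => by
        show tau ρ v ((a : V) + b) ω = ω
        rw [tau_add ρ hv (mem_Wsub.1 a.2).1 (mem_Wsub.1 b.2).1, Equiv.Perm.mul_apply, hb, ha]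
      neg_mem' := fun {a} ha => by
        show tau ρ v (-(a : V)) ω = ω
        rw [tau, sg_neg hv (mem_Wsub.1 a.2).1, map_inv, Equiv.Perm.inv_eq_iff_eq]
        exact ha.symm }
  else ⊥

theorem mem_stabW {v v₁ : V} (hv : Q v = 0) {ω : Ω} {w : Wsub Q v v₁} :
    w ∈ stabW ρ v v₁ ω ↔ tau ρ v w ω = ω := by
  rw [stabW, dif_pos hv]; rfl

/-- The annihilator in `W` of the stabiliser of `ω`. -/
noncomputable def ann (ω : Ω) : AddSubgroup (Wsub Q v v₁) :=
  annOf (QW Q v v₁) (stabW ρ v v₁ ω)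

open Classical in
/-- The orbit of `ω` under `W`. -/
noncomputable def orb (ω : Ω) : Finset Ω :=
  (Set.toFinite (Set.range fun w : Wsub Q v v₁ => tau ρ v w ω)).toFinset

theorem mem_orb {ω x : Ω} : x ∈ orb ρ v v₁ ω ↔ ∃ w : Wsub Q v v₁, tau ρ v w ω = x := by
  simp [orb]

theorem self_mem_orb (ω : Ω) : ω ∈ orb ρ v v₁ ω :=
  (mem_orb ρ v v₁).2 ⟨0, by simp [tau_zero]⟩

open Classical in
/-- All orbits of `W`. -/
noncomputable def orbs : Finset (Finset Ω) := Finset.univ.image (orb ρ v v₁)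

open Classical in
/-- The number of orbits whose annihilator contains `φ`. -/
noncomputable def cnt (φ : Wsub Q v v₁) : ℕ :=
  ((orbs ρ v v₁).filter fun O => ∃ ω, orb ρ v v₁ ω = O ∧ φ ∈ ann ρ v v₁ ω).card

/-- `g` acts on the data of the pair `(v, v₁)`, scaling it by `c`. -/
structure Scales (g : siegelGroup Q) (v v₁ : V) (c : F) : Prop where
  ne : c ≠ 0
  left : g • v = c • v
  right : g • v₁ = c⁻¹ • v₁

variable {ρ v v₁}

namespace Scales

variable {g : siegelGroup Q} {c : F} (hg : Scales g v v₁ c)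
include hg

theorem inv : Scales g⁻¹ v v₁ c⁻¹ := by
  refine ⟨inv_ne_zero hg.ne, inv_smul_eq_iff.2 ?_, inv_smul_eq_iff.2 ?_⟩
  · rw [smul_comm, hg.left, inv_smul_smul₀ hg.ne]
  · rw [inv_inv, smul_comm, hg.right, smul_inv_smul₀ hg.ne]

theorem mem_W {x : V} (hx : x ∈ Wsub Q v v₁) : g • x ∈ Wsub Q v v₁ := by
  obtain ⟨h1, h2⟩ := mem_Wsub.1 hx
  constructor
  · show bil Q v (g • x) = 0
    have := bil_smul' g v x
    rw [hg.left, h1, (bil Q).map_smul, LinearMap.smul_apply, smul_eq_mul, mul_eq_zero] at this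
    exact this.resolve_left hg.ne
  · show bil Q v₁ (g • x) = 0
    have := bil_smul' g v₁ x
    rw [hg.right, h2, (bil Q).map_smul, LinearMap.smul_apply, smul_eq_mul, mul_eq_zero] at this
    exact this.resolve_left (inv_ne_zero hg.ne)

/-- The induced map of `W`. -/
def mapW (φ : Wsub Q v v₁) : Wsub Q v v₁ := ⟨g • (φ : V), hg.mem_W φ.2⟩

theorem coe_mapW (φ : Wsub Q v v₁) : (hg.mapW φ : V) = g • (φ : V) := rfl

end Scales

/-- Elements of the Siegel group of `W` give elements fixing the pair. -/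
theorem exists_scales_lift {g : OQ (QW Q v v₁)} (hg : g ∈ siegelGroup (QW Q v v₁)) :
    ∃ (G : siegelGroup Q) (hG : Scales G v v₁ 1), ∀ w, hG.mapW w = g • w := by
  obtain ⟨G, h1, h2, h3⟩ := HP.exists_lift hg
  exact ⟨G, ⟨one_ne_zero, by rw [h1, one_smul], by rw [h2, inv_one, one_smul]⟩,
    fun w => Subtype.ext (h3 w)⟩

variable (P : HP Q v v₁)
include P

theorem tau_scales {g : siegelGroup Q} {c : F} (hg : Scales g v v₁ c) (w : Wsub Q v v₁) :
    tau ρ v ((c • hg.mapW w : Wsub Q v v₁) : V) * ρ g = ρ g * tau ρ v w := by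
  have h := mem_Wsub.1 (hg.mem_W w.2)
  rw [tau, tau, ← map_mul, ← map_mul, Submodule.coe_smul, hg.coe_mapW,
    ← sg_smul_left P.sing h.1, ← hg.left, ← sg_conj, inv_mul_cancel_right]

theorem orb_eq_of_mem {ω x : Ω} (h : x ∈ orb ρ v v₁ ω) : orb ρ v v₁ x = orb ρ v v₁ ω := by
  obtain ⟨w₀, rfl⟩ := (mem_orb ρ v v₁).1 h
  ext y
  simp only [mem_orb]
  constructor
  · rintro ⟨w, rfl⟩
    exact ⟨w + w₀, by
      rw [Submodule.coe_add, tau_add ρ P.sing (mem_Wsub.1 w.2).1 (mem_Wsub.1 w₀.2).1,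
        Equiv.Perm.mul_apply]⟩
  · rintro ⟨w, rfl⟩
    exact ⟨w - w₀, by
      rw [← Equiv.Perm.mul_apply, ← tau_add ρ P.sing (mem_Wsub.1 (w - w₀).2).1
        (mem_Wsub.1 w₀.2).1, ← Submodule.coe_add, sub_add_cancel]⟩

theorem stabW_tau (w : Wsub Q v v₁) (ω : Ω) :
    stabW ρ v v₁ (tau ρ v w ω) = stabW ρ v v₁ ω := by
  ext z
  rw [mem_stabW ρ P.sing, mem_stabW ρ P.sing, tau_smul_comm ρ v₁ P.sing,
    EmbeddingLike.apply_eq_iff_eq]

theorem ann_eq_of_orb {ω x : Ω} (h : orb ρ v v₁ x = orb ρ v v₁ ω) :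
    ann ρ v v₁ x = ann ρ v v₁ ω := by
  obtain ⟨w, rfl⟩ := (mem_orb ρ v v₁).1 (h ▸ self_mem_orb ρ v v₁ x)
  rw [ann, stabW_tau P, ann]

theorem mem_stabW_scales {g : siegelGroup Q} {c : F} (hg : Scales g v v₁ c) {ω : Ω}
    {w : Wsub Q v v₁} :
    c • hg.mapW w ∈ stabW ρ v v₁ (ρ g ω) ↔ w ∈ stabW ρ v v₁ ω := by
  rw [mem_stabW ρ P.sing, mem_stabW ρ P.sing, ← Equiv.Perm.mul_apply, tau_scales P hg,
    Equiv.Perm.mul_apply, EmbeddingLike.apply_eq_iff_eq]

theorem orb_scales {g : siegelGroup Q} {c : F} (hg : Scales g v v₁ c) {ω x : Ω}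
    (h : orb ρ v v₁ ω = orb ρ v v₁ x) : orb ρ v v₁ (ρ g ω) = orb ρ v v₁ (ρ g x) := by
  refine (orb_eq_of_mem P ?_).symm
  obtain ⟨w, rfl⟩ := (mem_orb ρ v v₁).1 (h ▸ self_mem_orb ρ v v₁ x)
  exact (mem_orb ρ v v₁).2 ⟨c • hg.mapW w, by
    rw [← Equiv.Perm.mul_apply, tau_scales P hg, Equiv.Perm.mul_apply]⟩

/-- How annihilators move. -/
theorem ann_scales {g : siegelGroup Q} {c : F} (hg : Scales g v v₁ c) {ω : Ω}
    {φ : Wsub Q v v₁} (hφ : φ ∈ ann ρ v v₁ ω) :
    c⁻¹ • hg.mapW φ ∈ ann ρ v v₁ (ρ g ω) := by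
  rw [ann, mem_annOf] at hφ ⊢
  intro z hz
  obtain ⟨w, rfl⟩ : ∃ w, z = c • hg.mapW w := by
    refine ⟨c⁻¹ • hg.inv.mapW z, Subtype.ext ?_⟩
    simp only [Submodule.coe_smul, Scales.coe_mapW]
    rw [smul_comm g, smul_smul, mul_inv_cancel₀ hg.ne, one_smul, smul_inv_smul]
  have := hφ w ((mem_stabW_scales P hg).1 hz)
  convert this using 2
  simp only [bil_QW, Submodule.coe_smul, Scales.coe_mapW, map_smul, LinearMap.smul_apply,
    bil_smul', smul_eq_mul]
  field_simp [hg.ne]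

theorem cnt_le_scales {g : siegelGroup Q} {c : F} (hg : Scales g v v₁ c) (φ : Wsub Q v v₁) :
    cnt ρ v v₁ φ ≤ cnt ρ v v₁ (c⁻¹ • hg.mapW φ) := by
  classical
  unfold cnt
  refine Finset.card_le_card_of_injOn (fun O => O.image (ρ g)) ?_ ?_
  · intro O hO
    obtain ⟨-, ω, rfl, hω⟩ := Finset.mem_filter.1 hO
    have e : (orb ρ v v₁ ω).image (ρ g) = orb ρ v v₁ (ρ g ω) := by
      ext y
      simp only [Finset.mem_image, mem_orb]
      constructor
      · rintro ⟨x, ⟨w, rfl⟩, rfl⟩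
        exact ⟨c • hg.mapW w, by
          rw [← Equiv.Perm.mul_apply, tau_scales P hg, Equiv.Perm.mul_apply]⟩
      · rintro ⟨w, rfl⟩
        obtain ⟨x, hx⟩ := (ρ g).surjective (tau ρ v w (ρ g ω))
        have : orb ρ v v₁ (ρ g ω) = orb ρ v v₁ (ρ g x) := by
          rw [hx]; exact (orb_eq_of_mem P ((mem_orb ρ v v₁).2 ⟨w, rfl⟩)).symm
        have h2 := orb_scales P hg.inv this
        simp only [map_inv, Equiv.Perm.inv_def,
          Equiv.symm_apply_apply] at h2
        exact ⟨x, (mem_orb ρ v v₁).1 (h2 ▸ self_mem_orb ρ v v₁ x), hx⟩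
    simp only [e]
    exact Finset.mem_filter.2 ⟨Finset.mem_image_of_mem _ (Finset.mem_univ _),
      ρ g ω, rfl, ann_scales P hg hω⟩
  · intro A _ B _ h
    exact Finset.image_injective (ρ g).injective h

theorem cnt_scales {g : siegelGroup Q} {c : F} (hg : Scales g v v₁ c) (φ : Wsub Q v v₁) :
    cnt ρ v v₁ (c⁻¹ • hg.mapW φ) = cnt ρ v v₁ φ := by
  refine le_antisymm ?_ (cnt_le_scales P hg φ)
  refine (cnt_le_scales P hg.inv _).trans_eq (congrArg _ (Subtype.ext ?_))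
  simp only [Submodule.coe_smul, Scales.coe_mapW, inv_inv]
  rw [smul_comm g⁻¹, inv_smul_smul, smul_smul, mul_inv_cancel₀ hg.ne, one_smul]

variable (hN : (bil Q).Nondegenerate)
include hN

theorem card_orb (ω : Ω) : (orb ρ v v₁ ω).card = Nat.card (ann ρ v v₁ ω) := by
  classical
  have : Finite V := Module.finite_of_finite F
  have := Fintype.ofFinite (Wsub Q v v₁)
  have h1 := card_annOf (P.nondegenerate_QW hN) (stabW ρ v v₁ ω)
  refine Nat.eq_of_mul_eq_mul_right (m := Nat.card (stabW ρ v v₁ ω)) Nat.card_pos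
    (Eq.trans ?_ h1.symm)
  have e : orb ρ v v₁ ω = Finset.univ.image fun w : Wsub Q v v₁ => tau ρ v w ω := by
    ext x; simp [mem_orb]
  rw [e]
  have h := Finset.card_eq_sum_card_image (fun w : Wsub Q v v₁ => tau ρ v w ω) Finset.univ
  rw [Finset.card_univ] at h
  rw [Nat.card_eq_fintype_card (α := Wsub Q v v₁), h,
    Finset.sum_congr rfl (g := fun _ => Nat.card (stabW ρ v v₁ ω)), Finset.sum_const, smul_eq_mul]
  intro x hx
  obtain ⟨w₀, -, rfl⟩ := Finset.mem_image.1 hx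
  rw [← Finset.card_map ⟨fun w => -w₀ + w, add_right_injective (-w₀)⟩,
    Nat.card_eq_fintype_card, Fintype.card_of_subtype]
  intro z
  simp only [Finset.mem_map, Finset.mem_filter, Finset.mem_univ, true_and,
    Function.Embedding.coeFn_mk]
  constructor
  · rintro ⟨w, hw, rfl⟩
    rw [mem_stabW ρ P.sing, Submodule.coe_add,
      tau_add ρ P.sing (mem_Wsub.1 (-w₀).2).1 (mem_Wsub.1 w.2).1, Equiv.Perm.mul_apply, hw,
      ← Equiv.Perm.mul_apply, ← tau_add ρ P.sing (mem_Wsub.1 (-w₀).2).1 (mem_Wsub.1 w₀.2).1,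
      ← Submodule.coe_add, neg_add_cancel, Submodule.coe_zero, tau_zero]
    rfl
  · intro hz
    refine ⟨w₀ + z, ?_, neg_add_cancel_left w₀ z⟩
    rw [mem_stabW ρ P.sing] at hz
    rw [Submodule.coe_add, tau_add ρ P.sing (mem_Wsub.1 w₀.2).1 (mem_Wsub.1 z.2).1,
      Equiv.Perm.mul_apply, hz]

/-- A point is fixed by everything orthogonal to its annihilator. -/
theorem mem_stabW_iff {ω : Ω} {w : Wsub Q v v₁} :
    w ∈ stabW ρ v v₁ ω ↔ ∀ φ ∈ ann ρ v v₁ ω, psi F (bil Q (φ : V) w) = 1 := by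
  classical
  refine ⟨fun hw φ hφ => by rw [← bil_QW]; exact (mem_annOf _).1 hφ w hw, fun h => ?_⟩
  have : Finite V := Module.finite_of_finite F
  have hN' := P.nondegenerate_QW hN
  have h1 := card_annOf hN' (stabW ρ v v₁ ω)
  have h2 := card_annOf hN' (ann ρ v v₁ ω)
  have hle : stabW ρ v v₁ ω ≤ annOf (QW Q v v₁) (ann ρ v v₁ ω) := fun z hz => by
    rw [mem_annOf]
    intro φ hφ
    rw [bil_comm]
    exact (mem_annOf _).1 hφ z hz
  have heq : stabW ρ v v₁ ω = annOf (QW Q v v₁) (ann ρ v v₁ ω) := by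
    refine AddSubgroup.eq_of_le_of_card_ge hle (le_of_eq ?_)
    refine Nat.eq_of_mul_eq_mul_right (m := Nat.card (ann ρ v v₁ ω)) Nat.card_pos (h2.trans ?_)
    rw [← h1, mul_comm]
    rfl
  rw [heq, mem_annOf]
  intro φ hφ
  rw [bil_QW, bil_comm]
  exact h φ hφ

omit hN in
theorem card_eq_sum_orbs : ∑ O ∈ orbs ρ v v₁, O.card = Fintype.card Ω := by
  classical
  rw [← Finset.card_biUnion]
  · rw [← Finset.card_univ]
    congr 1
    refine Finset.eq_univ_iff_forall.2 fun ω => Finset.mem_biUnion.2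
      ⟨orb ρ v v₁ ω, Finset.mem_image_of_mem _ (Finset.mem_univ _), self_mem_orb ρ v v₁ ω⟩
  · intro A hA B hB hAB
    obtain ⟨a, -, rfl⟩ := Finset.mem_image.1 hA
    obtain ⟨b, -, rfl⟩ := Finset.mem_image.1 hB
    rw [Function.onFun, Finset.disjoint_left]
    intro x hx hx'
    exact hAB ((orb_eq_of_mem P hx).symm.trans (orb_eq_of_mem P hx'))

/-- Counting incidences of non-zero vectors and annihilators. -/
theorem sum_cnt_le (S : Finset (Wsub Q v v₁)) (hS : ∀ φ ∈ S, φ ≠ 0)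
    (T : Finset (Finset Ω)) (hT : T ⊆ orbs ρ v v₁)
    (hST : ∀ φ ∈ S, ∀ ω, φ ∈ ann ρ v v₁ ω → orb ρ v v₁ ω ∈ T) :
    ∑ φ ∈ S, cnt ρ v v₁ φ + T.card ≤ ∑ O ∈ T, O.card := by
  classical
  have hswap : ∑ φ ∈ S, cnt ρ v v₁ φ =
      ∑ O ∈ T, (S.filter fun φ => ∃ ω, orb ρ v v₁ ω = O ∧ φ ∈ ann ρ v v₁ ω).card := by
    refine Eq.trans ?_ (Finset.sum_card_bipartiteAbove_eq_sum_card_bipartiteBelow
      (s := S) (t := T) (fun φ O => ∃ ω, orb ρ v v₁ ω = O ∧ φ ∈ ann ρ v v₁ ω))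
    refine Finset.sum_congr rfl fun φ hφ => ?_
    unfold cnt
    congr 1
    ext O
    simp only [Finset.mem_bipartiteAbove, Finset.mem_filter]
    exact ⟨fun ⟨_, ω, h1, h2⟩ => ⟨h1 ▸ hST φ hφ ω h2, ω, h1, h2⟩,
      fun ⟨h, h'⟩ => ⟨hT h, h'⟩⟩
  rw [hswap, Finset.card_eq_sum_ones T, ← Finset.sum_add_distrib]
  refine Finset.sum_le_sum fun O hO => ?_
  obtain ⟨ω, -, rfl⟩ := Finset.mem_image.1 (hT hO)
  have : Finite V := Module.finite_of_finite F
  have := Fintype.ofFinite (Wsub Q v v₁)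
  rw [card_orb P hN, Nat.card_eq_fintype_card, Fintype.card_of_subtype
    (Finset.univ.filter fun φ => φ ∈ ann ρ v v₁ ω) (by simp)]
  refine Nat.succ_le_iff.2 (Finset.card_lt_card (Finset.ssubset_iff.2 ⟨0, ?_, ?_⟩))
  · intro h0
    exact hS 0 (Finset.mem_filter.1 h0).1 rfl
  · intro φ hφ
    rcases Finset.mem_insert.1 hφ with rfl | hφ
    · simp
    · obtain ⟨-, x, hx, hx'⟩ := Finset.mem_filter.1 hφ
      simp [← ann_eq_of_orb P hx, hx']

/-- A class of vectors with constant count. -/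
theorem cnt_mul_card_le (S : Finset (Wsub Q v v₁)) (hS : ∀ φ ∈ S, φ ≠ 0) {c : ℕ}
    (hc : ∀ φ ∈ S, cnt ρ v v₁ φ = c) : c * S.card + (orbs ρ v v₁).card ≤ Fintype.card Ω := by
  have h := sum_cnt_le P hN S hS (orbs ρ v v₁) subset_rfl
    fun _ _ ω _ => by classical exact Finset.mem_image_of_mem _ (Finset.mem_univ ω)
  rw [Finset.sum_congr rfl hc, Finset.sum_const, smul_eq_mul, card_eq_sum_orbs P, mul_comm] at h
  exact h

end Cfsg.Agent.MinDeg.Orth
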