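import Cfsg.Agent.Lib.MinDeg.OrthFree

/-!
No small transitive action has all radicals of singular points acting regularly.
-/

set_option autoImplicit false

namespace Cfsg.Agent.MinDeg.Orth

open Cfsg.Agent.ClassicalSimple

variable {F V : Type*} [Field F] [AddCommGroup V] [Module F V] {Q : QuadraticForm F V}

theorem sg_fix_comm {g : siegelGroup Q} {a b : V} (ha : g • a = a) (hb : g • b = b) :
    g * sg Q a b = sg Q a b * g := by
  have h := sg_smul_self g a b
  rw [ha, hb] at h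
  exact h.symm

variable [Fintype F] [FiniteDimensional F V] {Ω : Type*} [Fintype Ω]
  {ρ : siegelGroup Q →* Equiv.Perm Ω} {k n0 n00 C J cC cC' : ℕ}

namespace Ctx

variable {v v₁ : V} (h : Ctx ρ v v₁ k n0 n00 C J cC cC')
include h

theorem unique_tau (hfree : ∀ ω, Free ρ v ω) {ω : Ω} {x y : Wsub Q v v₁}
    (e : tau ρ v x ω = tau ρ v y ω) : x = y := by
  have h1 : ann ρ v v₁ ω = ⊤ := (ann_eq_top_iff h.pair h.geo.hN).2 (hfree ω)
  have h2 : x - y ∈ stabW ρ v v₁ ω := by
    rw [mem_stabW ρ h.pair.sing]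
    have e' := congrArg (tau ρ v ((-y : Wsub Q v v₁) : V)) e
    rwa [← Equiv.Perm.mul_apply, ← tau_add ρ h.pair.sing (mem_Wsub.1 (-y).2).1 (mem_Wsub.1 x.2).1,
      ← Equiv.Perm.mul_apply, ← tau_add ρ h.pair.sing (mem_Wsub.1 (-y).2).1 (mem_Wsub.1 y.2).1,
      ← Submodule.coe_add, ← Submodule.coe_add, neg_add_cancel, Submodule.coe_zero, tau_zero,
      Equiv.Perm.one_apply, neg_add_eq_sub] at e'
  obtain ⟨a, ha⟩ := hfree ω _ (mem_Wsub.1 (x - y).2).1 ((mem_stabW ρ h.pair.sing).1 h2)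
  have h3 := (mem_Wsub.1 (x - y).2).2
  rw [← ha, map_smul, h.pair.symm.one, smul_eq_mul, mul_one] at h3
  exact sub_eq_zero.1 (Subtype.ext (by rw [← ha, h3, zero_smul]; rfl))

theorem exists_tau (hfree : ∀ ω, Free ρ v ω) (hd : Fintype.card Ω = Fintype.card F ^ k)
    (ω ω' : Ω) : ∃ x : Wsub Q v v₁, tau ρ v x ω = ω' := by
  have h1 : orb ρ v v₁ ω = Finset.univ := by
    apply Finset.eq_univ_of_card
    rw [card_orb h.pair h.geo.hN, (ann_eq_top_iff h.pair h.geo.hN).2 (hfree ω),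
      AddSubgroup.card_top, h.card_W, hd]
  exact (mem_orb ρ v v₁).1 (h1 ▸ Finset.mem_univ ω')

/-- For `q ≥ 4` a torus has a single fixed point, which long root elements then fix. -/
theorem no_regular_large (hq : 4 ≤ Fintype.card F) (hd : Fintype.card Ω = Fintype.card F ^ k)
    (hall : ∀ u : V, Q u = 0 → u ≠ 0 → ∀ ω, Free ρ u ω) (ω₀ : Ω) : False := by
  classical
  have hfree := hall v h.pair.sing h.pair.ne_zero
  obtain ⟨c, hc⟩ : ∃ c : F, c ∉ ({0, 1, -1} : Finset F) := by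
    by_contra hc
    push Not at hc
    have : Fintype.card F ≤ 3 := by
      rw [← Finset.card_univ]
      exact (Finset.card_le_card fun x _ => hc x).trans Finset.card_le_three
    omega
  simp only [Finset.mem_insert, Finset.mem_singleton, not_or] at hc
  obtain ⟨hc0, hc1, hc1'⟩ := hc
  have hc2 : c ^ 2 ≠ 1 := by
    rw [ne_eq, sq_eq_one_iff]; tauto
  obtain ⟨t, t1, t2, t3⟩ := exists_torus h.geo.hN h.five_le h.pair hc0
  have ht : Scales t v v₁ (c ^ 2) := ⟨pow_ne_zero 2 hc0, t1, t2⟩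
  obtain ⟨w₀, hw₀⟩ := h.exists_tau hfree hd ω₀ (ρ t ω₀)
  have hfix : ∀ x : Wsub Q v v₁, ρ t (tau ρ v x ω₀) = tau ρ v x ω₀ ↔ c ^ 2 • x + w₀ = x := by
    intro x
    have e : ρ t (tau ρ v x ω₀) = tau ρ v ((c ^ 2 • x + w₀ : Wsub Q v v₁) : V) ω₀ := by
      rw [Submodule.coe_add,
        tau_add ρ h.pair.sing (mem_Wsub.1 (c ^ 2 • x).2).1 (mem_Wsub.1 w₀.2).1,
        Equiv.Perm.mul_apply, hw₀, ← Equiv.Perm.mul_apply, ← Equiv.Perm.mul_apply,
        ← tau_scales h.pair ht x]
      congr 4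
      exact Subtype.ext (by rw [Submodule.coe_smul, Submodule.coe_smul, ht.coe_mapW, t3 _ x.2])
    rw [e]
    exact ⟨h.unique_tau hfree, fun e => by rw [e]⟩
  set x₁ : Wsub Q v v₁ := (1 - c ^ 2)⁻¹ • w₀
  have hne : (1 : F) - c ^ 2 ≠ 0 := sub_ne_zero.2 hc2.symm
  have hx₁ : ρ t (tau ρ v x₁ ω₀) = tau ρ v x₁ ω₀ := (hfix x₁).2 (by
    simp only [x₁, smul_smul]
    nth_rw 2 [← one_smul F w₀]
    rw [← add_smul]
    congr 1
    field_simp
    ring)
  obtain ⟨a, ha0, ha, -⟩ := exists_singular (Q := QW Q v v₁) (![] : Fin 0 → Module.Dual F _)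
    (by have := h.five_le_W; simp only [Fintype.card_fin]; omega)
  obtain ⟨a₁, Pa⟩ := exists_HP h.nondegW ha ha0
  obtain ⟨b, hb0, hb, -⟩ := exists_singular (Q := QW (QW Q v v₁) a a₁)
    (![] : Fin 0 → Module.Dual F _)
    (by have := Pa.finrank_W; have := h.finrank_W; have := h.num.k_five
        simp only [Fintype.card_fin]; omega)
  obtain ⟨hab, hab₁⟩ := mem_Wsub.1 b.2
  have ha' : Q (a : V) = 0 := ha
  have hab' : bil Q (a : V) ((b : Wsub Q v v₁) : V) = 0 := hab
  set g := sg Q (a : V) ((b : Wsub Q v v₁) : V)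
  have hcomm : t * g = g * t := sg_fix_comm (t3 _ a.2) (t3 _ (b : Wsub Q v v₁).2)
  obtain ⟨y, hy⟩ := h.exists_tau hfree hd ω₀ (ρ g (tau ρ v x₁ ω₀))
  have h2 : ρ t (ρ g (tau ρ v x₁ ω₀)) = ρ g (tau ρ v x₁ ω₀) := by
    rw [← Equiv.Perm.mul_apply, ← map_mul, hcomm, map_mul, Equiv.Perm.mul_apply, hx₁]
  have h3 : y = x₁ := by
    have e1 := (hfix y).1 (by rw [hy, h2])
    have e2 := (hfix x₁).1 hx₁
    refine smul_right_injective _ hne ?_
    show ((1 : F) - c ^ 2) • y = ((1 : F) - c ^ 2) • x₁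
    linear_combination (norm := module) e2 - e1
  rw [h3] at hy
  obtain ⟨s, hs⟩ := hall (a : V) ha' (fun e => ha0 (Subtype.ext e)) (tau ρ v x₁ ω₀) _ hab' hy.symm
  have h4 : s • a = (b : Wsub Q v v₁) := Subtype.ext hs
  rw [← h4, map_smul, Pa.symm.one, smul_eq_mul, mul_one] at hab₁
  exact hb0 (Subtype.ext (by rw [← h4, hab₁, zero_smul]; rfl))

omit h in
/-- A vector fixed by the small elements of a non-degenerate `M` vanishes. -/
theorem eq_zero_of_singular_fixed {M : Type*} [AddCommGroup M] [Module F M] [FiniteDimensional F M]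
    {R : QuadraticForm F M} (hR : (bil R).Nondegenerate) (h3 : 3 ≤ Module.finrank F M) {c : M}
    (hc : ∀ e m : M, R e = 0 → bil R e m = 0 → sg R e m • c = c) : c = 0 := by
  by_contra hc0
  obtain ⟨e₀, he₀0, he₀, -⟩ := exists_singular (Q := R) (![] : Fin 0 → Module.Dual F _)
    (by simp only [Fintype.card_fin]; omega)
  obtain ⟨e, he, hce⟩ := exists_singular_nonorth hR he₀ he₀0 hc0
  obtain ⟨e₁, Pe⟩ := exists_HP hR he (by rintro rfl; simp at hce)
  obtain ⟨m, hm, m', hm', hmm⟩ := exists_ne_zero_Wsub hR Pe h3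
  have h1 := hc e m he (mem_Wsub.1 hm).1
  rw [sg_act he (mem_Wsub.1 hm).1, add_sub_assoc, add_eq_left, sub_eq_zero] at h1
  have h2 := congrArg (bil R m') h1
  simp only [map_smul, smul_eq_mul, bil_comm m' m, bil_comm m' e, (mem_Wsub.1 hm').1, mul_zero,
    mul_eq_zero, hmm, or_false] at h2
  exact hce h2

omit h in
/-- In an anisotropic `M` the same for products of two reflections of equal norm. -/
theorem eq_zero_of_refl_fixed {M : Type*} [AddCommGroup M] [Module F M] [FiniteDimensional F M]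
    {R : QuadraticForm F M} (hR : (bil R).Nondegenerate) (hM : Module.finrank F M = 2)
    (hani : ∀ x : M, R x = 0 → x = 0) {c : M}
    (hc : ∀ c' : M, ∀ (h1 : R c ≠ 0) (h2 : R c' ≠ 0), R c' = R c →
      orefl h1 • orefl h2 • c = c) : c = 0 := by
  by_contra hc0
  have hQc : R c ≠ 0 := fun e => hc0 (hani c e)
  obtain ⟨f, hf, hfc⟩ : ∃ f : M, bil R c f ≠ 0 ∧ ∀ a : F, a • c ≠ f := by
    obtain ⟨y, hy⟩ := orth_exists_ne_zero hR hc0
    by_cases hyc : ∀ a : F, a • c ≠ y
    · exact ⟨y, hy, hyc⟩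
    push Not at hyc
    obtain ⟨a, rfl⟩ := hyc
    obtain ⟨f, hf⟩ : ∃ f : M, ∀ a : F, a • c ≠ f := by
      by_contra hcon
      push Not at hcon
      have hle : (⊤ : Submodule F M) ≤ Submodule.span F {c} := fun x _ =>
        Submodule.mem_span_singleton.2 (hcon x)
      have := Submodule.finrank_mono hle
      rw [finrank_top, finrank_span_singleton hc0] at this
      omega
    by_cases hb : bil R c f = 0
    · refine ⟨f + a • c, by rw [map_add, hb, zero_add]; exact hy, fun b e => hf (b - a) ?_⟩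
      rw [sub_smul, e, add_sub_cancel_right]
    · exact ⟨f, hb, hf⟩
  have hf0 : f ≠ 0 := fun e => hfc 0 (by rw [zero_smul, e])
  have hQf : R f ≠ 0 := fun e => hf0 (hani f e)
  set c' := orefl hQf • c with hc'def
  have hQc' : R c' = R c := quad_smul _ _
  have hind : ∀ a : F, a • c ≠ c' := by
    intro a e
    rw [hc'def, orefl_smul] at e
    have : ((R f)⁻¹ * bil R c f) • f = (1 - a) • c := by
      rw [sub_smul, one_smul, e]; abel
    refine hfc (((R f)⁻¹ * bil R c f)⁻¹ * (1 - a)) ?_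
    rw [mul_smul, ← this, inv_smul_smul₀ (mul_ne_zero (inv_ne_zero hQf) hf)]
  have h := hc c' hQc (hQc' ▸ hQc) hQc'
  have h' : orefl (hQc' ▸ hQc : R c' ≠ 0) • c = orefl hQc • c := by
    have h1 := congrArg ((orefl hQc)⁻¹ • ·) h
    simp only [inv_smul_smul] at h1
    rwa [orefl_inv] at h1
  rw [orefl_smul, orefl_smul, sub_right_inj, hQc', bil_self] at h'
  by_cases h2 : (2 : F) = 0
  · rw [h2, zero_mul, mul_zero, zero_smul, smul_eq_zero, mul_eq_zero] at h'
    have hb : bil R c c' = 0 := by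
      rcases h' with (h' | h') | h'
      · exact absurd h' (inv_ne_zero hQc)
      · exact h'
      · exact absurd (by rw [h', QuadraticMap.map_zero] : R c' = 0) (hQc' ▸ hQc)
    have hi : LinearIndependent F ![c, c'] := (LinearIndependent.pair_iff' hc0).2 hind
    obtain ⟨y, hy1, -⟩ := exists_bil_pair hR hi 1 0
    have hy : y ∈ Submodule.span F (Set.range ![c, c']) := by
      rw [hi.span_eq_top_of_card_eq_finrank (by simp [hM])]; trivial
    rw [Matrix.range_cons, Matrix.range_cons, Matrix.range_empty, Set.union_empty,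
      Set.singleton_union, Submodule.mem_span_pair] at hy
    obtain ⟨s, r, rfl⟩ := hy
    simp [hb, bil_self, h2] at hy1
  · refine hind ((R c)⁻¹ * bil R c c' / 2)⁻¹ ?_
    have hb : (R c)⁻¹ * bil R c c' ≠ 0 := by
      intro e
      rw [e, zero_smul, eq_comm, smul_eq_zero] at h'
      simp [hQc, hc0, h2] at h'
    rw [mul_comm (2 : F), ← mul_assoc, inv_mul_cancel₀ hQc, one_mul] at h'
    rw [inv_div, div_eq_inv_mul, mul_smul, ← h', inv_smul_smul₀ hb]

end Ctx

end Cfsg.Agent.MinDeg.Orth
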