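import Cfsg.Agent.Lib.MinDeg.OrthStructure
import Cfsg.Agent.Lib.Forms.QuadOrder

/-!
The geometric data `Geo` for a form split off twice as hyperbolic plane plus rest: the complement
of any hyperbolic pair is isometric to the rest; fibres and totally singular subspaces of such
extensions.
-/

set_option autoImplicit false

namespace Cfsg.Agent.MinDeg.Orth

open Cfsg.Agent.ClassicalSimple

variable {F : Type*} [Field F] {V : Type*} [AddCommGroup V] [Module F V] {Q : QuadraticForm F V}
  {C₁ : Type*} [AddCommGroup C₁] [Module F C₁] {R : QuadraticForm F C₁}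

theorem bil_congr {W : Type*} [AddCommGroup W] [Module F W] {R' : QuadraticForm F W}
    (e : V ≃ₗ[F] W) (he : ∀ x, R' (e x) = Q x) (x y : V) : bil R' (e x) (e y) = bil Q x y := by
  rw [bil_apply, bil_apply, QuadraticMap.polar, QuadraticMap.polar, ← map_add, he, he, he]

theorem bil_hypExt (p p' : (F × F) × C₁) :
    bil (Forms.hypExt R) p p' = p.1.1 * p'.1.2 + p.1.2 * p'.1.1 + bil R p.2 p'.2 :=
  Forms.hypExt_polar R p p'

theorem card_nonzero_sing [Finite V] (Q : QuadraticForm F V) :
    Nat.card {x : V // x ≠ 0 ∧ Q x = 0} + 1 = Nat.card {x : V // Q x = 0} := by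
  classical
  have := Fintype.ofFinite V
  rw [Nat.card_eq_fintype_card, Nat.card_eq_fintype_card, Fintype.card_subtype, Fintype.card_subtype,
    ← Finset.card_erase_add_one (s := Finset.univ.filter fun x : V => Q x = 0) (a := 0) (by simp)]
  congr 2
  ext x
  simp

/-- Totally singular subspaces have dimension at most `J`. -/
def TSLe (R : QuadraticForm F C₁) (J : ℕ) : Prop :=
  ∀ U : Submodule F C₁, (∀ x ∈ U, R x = 0) → Module.finrank F U ≤ J

theorem TSLe.of_equiv [FiniteDimensional F V] {J : ℕ} (h : TSLe R J) (e : V ≃ₗ[F] C₁)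
    (he : ∀ x, R (e x) = Q x) : TSLe Q J := by
  intro U hU
  rw [← LinearEquiv.finrank_map_eq e U]
  exact h _ fun y ⟨x, hx, hxy⟩ => hxy ▸ (he x).trans (hU x hx)

theorem TSLe.hypExt [FiniteDimensional F C₁] {J : ℕ} (h : TSLe R J) :
    TSLe (Forms.hypExt R) (J + 1) := by
  intro U hU
  let b : U →ₗ[F] F := (LinearMap.snd F F F ∘ₗ LinearMap.fst F (F × F) C₁) ∘ₗ U.subtype
  let c : U →ₗ[F] C₁ := LinearMap.snd F (F × F) C₁ ∘ₗ U.subtype
  have hlim : ∀ U₀ : Submodule F U, (∀ u ∈ U₀, b u = 0) → Module.finrank F (U₀.map c) ≤ J := by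
    intro U₀ hU₀
    refine h _ ?_
    rintro _ ⟨u, hu, rfl⟩
    have h1 := hU _ u.2
    rw [Forms.hypExt_apply] at h1
    have h2 : (u : (F × F) × C₁).1.2 = 0 := hU₀ u hu
    rw [h2, mul_zero, zero_add] at h1
    exact h1
  by_cases h10 : (((1, 0), 0) : (F × F) × C₁) ∈ U
  · -- then `b` vanishes on `U`
    have hb : ∀ u : U, b u = 0 := by
      intro u
      have h1 := hU _ (add_mem h10 u.2)
      have h2 := hU _ u.2
      have h3 := hU _ h10
      rw [quad_add, h2, h3, zero_add, zero_add, bil_hypExt] at h1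
      simpa [b] using h1
    have h1 := hlim ⊤ fun u _ => hb u
    rw [Submodule.map_top] at h1
    have h2 := LinearMap.finrank_range_add_finrank_ker c
    have h3 : Module.finrank F (LinearMap.ker c) ≤ 1 := by
      let a : LinearMap.ker c →ₗ[F] F :=
        (LinearMap.fst F F F ∘ₗ LinearMap.fst F (F × F) C₁) ∘ₗ U.subtype ∘ₗ (LinearMap.ker c).subtype
      refine (LinearMap.finrank_le_finrank_of_injective (f := a) ?_).trans
        (Module.finrank_self F).le
      rw [injective_iff_map_eq_zero]
      intro u hu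
      exact Subtype.ext (Subtype.ext (Prod.ext (Prod.ext hu (hb u.1)) u.2))
    omega
  · have h1 := hlim (LinearMap.ker b) fun u hu => hu
    have h2 := LinearMap.finrank_range_add_finrank_ker b
    have h3 : Module.finrank F (LinearMap.range b) ≤ 1 :=
      (Submodule.finrank_le _).trans (by rw [Module.finrank_self])
    have h4 : Module.finrank F ((LinearMap.ker b).map c) = Module.finrank F (LinearMap.ker b) := by
      have hinj : Function.Injective (c ∘ₗ (LinearMap.ker b).subtype) := by
        rw [injective_iff_map_eq_zero]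
        intro u hu
        by_contra h0
        refine h10 ?_
        have hb : (u.1 : (F × F) × C₁).1.2 = 0 := u.2
        have hc : (u.1 : (F × F) × C₁).2 = 0 := hu
        have ha : (u.1 : (F × F) × C₁).1.1 ≠ 0 := fun ha =>
          h0 (Subtype.ext (Subtype.ext (Prod.ext (Prod.ext ha hb) hc)))
        have := U.smul_mem ((u.1 : (F × F) × C₁).1.1)⁻¹ u.1.2
        convert this using 1
        exact Prod.ext (Prod.ext (by simp [ha]) (by simp [hb])) (by simp [hc])
      have h5 := LinearMap.finrank_range_of_inj hinj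
      rwa [LinearMap.range_comp, Submodule.range_subtype] at h5
    omega

theorem TSLe.of_aniso (h : ∀ x, R x = 0 → x = 0) : TSLe R 0 := by
  intro U hU
  rw [show U = ⊥ from (Submodule.eq_bot_iff U).2 fun x hx => h x (hU x hx), finrank_bot]

variable [Fintype F]

/-- The fibre of a hyperbolic extension over `r`. -/
theorem card_fibre_hypExt [Finite C₁] {r : F} :
    Nat.card {p // Forms.hypExt R p = r} =
      Fintype.card F * Nat.card {c // R c = r} + (Fintype.card F - 1) * Nat.card C₁ := by
  classical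
  let E : {p // Forms.hypExt R p = r} ≃ (F × {c // R c = r}) ⊕ ({a : F // a ≠ 0} × C₁) :=
    { toFun := fun p =>
        if h : p.1.1.1 = 0 then .inl (p.1.1.2, ⟨p.1.2, by
          have := p.2
          rw [Forms.hypExt_apply, h, zero_mul, zero_add] at this
          exact this⟩)
        else .inr (⟨p.1.1.1, h⟩, p.1.2)
      invFun := fun x => match x with
        | .inl (b, c) => ⟨((0, b), c.1), by simp [Forms.hypExt_apply, c.2]⟩
        | .inr (a, c) => ⟨((a.1, (r - R c) / a.1), c), by
            rw [Forms.hypExt_apply, mul_div_cancel₀ _ a.2, sub_add_cancel]⟩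
      left_inv := by
        rintro ⟨⟨⟨a, b⟩, c⟩, hp⟩
        rw [Forms.hypExt_apply] at hp
        simp only at hp
        by_cases h : a = 0
        · simp [h]
        · simp only [h, dite_false, Subtype.mk.injEq, Prod.mk.injEq, true_and, and_true]
          field_simp
          linear_combination -hp
      right_inv := by
        rintro (⟨b, c⟩ | ⟨a, c⟩)
        · simp
        · simp [a.2] }
  have ha : Nat.card {a : F // a ≠ 0} = Fintype.card F - 1 := by
    rw [Nat.card_eq_fintype_card, Fintype.card_subtype_compl, Fintype.card_subtype_eq]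
  rw [Nat.card_congr E, Nat.card_sum, Nat.card_prod, Nat.card_prod, ha, Nat.card_eq_fintype_card]

/-- A class of values has at least `q / 2` members. -/
theorem class_ge [Finite C₁] {N : ℕ} (hN : ∀ r : F, r ≠ 0 → N ≤ Nat.card {c // R c = r}) {r : F}
    (hr : r ≠ 0) :
    Fintype.card F / 2 * N ≤ Nat.card {c // ∃ a : F, a ≠ 0 ∧ R c = a * a * r} := by
  classical
  have := Fintype.ofFinite C₁
  let A : Finset F := Finset.univ.erase 0
  let T : Finset F := A.image fun a => a * a * r
  have hT : Fintype.card F / 2 ≤ T.card := by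
    have h1 : A.card ≤ 2 * T.card := by
      refine Finset.card_le_mul_card_image (f := fun a => a * a * r) A 2 fun b hb => ?_
      obtain ⟨a₀, -, rfl⟩ := Finset.mem_image.1 hb
      refine (Finset.card_le_card (t := {a₀, -a₀}) fun a ha => ?_).trans Finset.card_le_two
      obtain ⟨-, e⟩ := Finset.mem_filter.1 ha
      rw [Finset.mem_insert, Finset.mem_singleton]
      exact mul_self_eq_mul_self_iff.1 (mul_right_cancel₀ hr e)
    rw [Finset.card_erase_of_mem (Finset.mem_univ _), Finset.card_univ] at h1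
    omega
  refine (Nat.mul_le_mul_right N hT).trans ?_
  rw [Nat.card_eq_fintype_card, Fintype.card_subtype]
  have hsub : T.biUnion (fun s => Finset.univ.filter fun c => R c = s) ⊆
      Finset.univ.filter fun c => ∃ a : F, a ≠ 0 ∧ R c = a * a * r := by
    intro c hc
    obtain ⟨s, hs, hc⟩ := Finset.mem_biUnion.1 hc
    obtain ⟨a, ha, rfl⟩ := Finset.mem_image.1 hs
    exact Finset.mem_filter.2 ⟨Finset.mem_univ _, a, (Finset.mem_erase.1 ha).1,
      (Finset.mem_filter.1 hc).2⟩
  refine le_trans ?_ (Finset.card_le_card hsub)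
  rw [Finset.card_biUnion fun s _ s' _ hne => Finset.disjoint_left.2 fun c h h' =>
    hne ((Finset.mem_filter.1 h).2.symm.trans (Finset.mem_filter.1 h').2)]
  refine Finset.card_nsmul_le_sum T _ N fun s hs => ?_
  obtain ⟨a, ha, rfl⟩ := Finset.mem_image.1 hs
  refine (hN _ (mul_ne_zero (mul_ne_zero (Finset.mem_erase.1 ha).1 (Finset.mem_erase.1 ha).1)
    hr)).trans_eq ?_
  rw [Nat.card_eq_fintype_card, Fintype.card_subtype]

variable [FiniteDimensional F V]

/-- The complement of any pair is isometric to the rest of the form. -/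
theorem exists_complement_iso (hN : (bil Q).Nondegenerate) (h5 : 5 ≤ Module.finrank F V)
    (e : V ≃ₗ[F] (F × F) × C₁) (he : ∀ x, Forms.hypExt R (e x) = Q x) {v v₁ : V} (P : HP Q v v₁) :
    ∃ f : Wsub Q v v₁ ≃ₗ[F] C₁, ∀ w, R (f w) = Q (w : V) := by
  set v₀ := e.symm ((1, 0), 0) with hv₀
  set v₀₁ := e.symm ((0, 1), 0) with hv₀₁
  have hq : ∀ p, Q (e.symm p) = Forms.hypExt R p := fun p => by rw [← he, e.apply_symm_apply]
  obtain ⟨g, -, g1, g2⟩ := siegel_trans_pair hN h5 P.sing P.sing₁
    (u' := v₀) (v' := v₀₁) (by rw [hv₀, hq, Forms.hypExt_apply]; simp)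
    (by rw [hv₀₁, hq, Forms.hypExt_apply]; simp) P.one (by
      rw [← bil_congr e he, hv₀, hv₀₁, e.apply_symm_apply, e.apply_symm_apply, bil_hypExt]
      simp)
  have hperp : ∀ x : V, x ∈ Wsub Q v v₁ ↔ (e (g • x)).1 = 0 := by
    intro x
    rw [mem_Wsub, ← bil_smul_smul g v, ← bil_smul_smul g v₁, g1, g2, ← bil_congr e he v₀,
      ← bil_congr e he v₀₁, hv₀, hv₀₁, e.apply_symm_apply, e.apply_symm_apply, bil_hypExt,
      bil_hypExt]
    simp [Prod.ext_iff, and_comm]
  let f : Wsub Q v v₁ →ₗ[F] C₁ :=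
    (LinearMap.snd F (F × F) C₁ ∘ₗ (e : V →ₗ[F] (F × F) × C₁)) ∘ₗ
      (((g : V ≃ₗ[F] V)) : V →ₗ[F] V) ∘ₗ (Wsub Q v v₁).subtype
  have hf : ∀ w, f w = (e (g • (w : V))).2 := fun w => rfl
  refine ⟨LinearEquiv.ofBijective f ⟨fun a b h => ?_, fun c => ?_⟩, fun w => ?_⟩
  · rw [hf, hf] at h
    exact Subtype.ext (smul_left_cancel g (e.injective (Prod.ext
      (((hperp _).1 a.2).trans ((hperp _).1 b.2).symm) h)))
  · refine ⟨⟨g⁻¹ • e.symm ((0, 0), c), (hperp _).2 ?_⟩, ?_⟩
    · rw [smul_inv_smul, e.apply_symm_apply]; rfl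
    · rw [hf]; simp
  · show R (f w) = Q (w : V)
    rw [hf, ← quad_smul g (w : V), ← he (g • (w : V)),
      Forms.hypExt_apply, (hperp _).1 w.2]
    simp

variable {C₂ : Type*} [AddCommGroup C₂] [Module F C₂] {R' : QuadraticForm F C₂}
  [FiniteDimensional F C₁]

/-- `Geo` from two splittings and counts in them. -/
theorem geo_of_split (hN : (bil Q).Nondegenerate) (e : V ≃ₗ[F] (F × F) × C₁)
    (he : ∀ x, Forms.hypExt R (e x) = Q x) (e' : C₁ ≃ₗ[F] (F × F) × C₂)
    (he' : ∀ x, Forms.hypExt R' (e' x) = R x) {k n0 n00 C J : ℕ}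
    (hk : Module.finrank F C₁ = k) (hk5 : 5 ≤ k) (hn0 : Nat.card {c // R c = 0} = n0 + 1)
    (hn00 : Nat.card {c // R' c = 0} = n00 + 1) {N : ℕ}
    (hfib : ∀ r : F, r ≠ 0 → N ≤ Nat.card {c // R c = r}) (hC : C ≤ Fintype.card F / 2 * N)
    (hts : TSLe R J) : Geo Q k n0 n00 C J := by
  have : Finite C₁ := Module.finite_of_finite F
  have : FiniteDimensional F ((F × F) × C₂) := Module.Finite.equiv e'
  have : FiniteDimensional F C₂ :=
    Module.Finite.of_surjective (LinearMap.snd F (F × F) C₂) LinearMap.snd_surjective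
  have : Finite C₂ := Module.finite_of_finite F
  have hd : Module.finrank F V = k + 2 := by
    rw [e.finrank_eq, Module.finrank_prod, Module.finrank_prod, Module.finrank_self, hk]
    omega
  have h5 : 5 ≤ Module.finrank F V := by omega
  refine ⟨hN, hd, fun {v v₁} P => ?_, fun {v v₁} P {φ φ₁} P' => ?_, fun {v v₁} P r hr => ?_,
    fun {v v₁} P U hU => ?_⟩
  · obtain ⟨f, hf⟩ := exists_complement_iso hN h5 e he P
    rw [Nat.card_congr (Equiv.subtypeEquiv f.toEquiv (q := fun c => c ≠ 0 ∧ R c = 0) fun w => by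
      simp [hf])]
    have := card_nonzero_sing R
    omega
  · obtain ⟨f, hf⟩ := exists_complement_iso hN h5 e he P
    obtain ⟨f', hf'⟩ := exists_complement_iso (R := R') (P.nondegenerate_QW hN)
      (by rw [f.finrank_eq, hk]; exact hk5) (f.trans e') (fun x => by
        rw [LinearEquiv.trans_apply, he', hf, QW_apply]) P'
    rw [Nat.card_congr (Equiv.subtypeEquiv f'.toEquiv (q := fun c => c ≠ 0 ∧ R' c = 0) fun w => by
      simp [hf', QW_apply])]
    have := card_nonzero_sing R'
    omega
  · obtain ⟨f, hf⟩ := exists_complement_iso hN h5 e he P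
    rw [Nat.card_congr (Equiv.subtypeEquiv f.toEquiv
      (q := fun c => ∃ a : F, a ≠ 0 ∧ R c = a * a * r) fun w => by simp [hf])]
    exact hC.trans (class_ge hfib hr)
  · obtain ⟨f, hf⟩ := exists_complement_iso hN h5 e he P
    exact (TSLe.of_equiv (Q := QW Q v v₁) hts f fun x => by rw [hf, QW_apply]) U hU

end Cfsg.Agent.MinDeg.Orth
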