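import Cfsg.Agent.Lib.MinDeg.OrthOrbits

/-!
The structure of the annihilators in a permutation representation of small degree: each is the
whole complement, lies in a line, or is a maximal totally singular subspace.
-/

set_option autoImplicit false

namespace Cfsg.Agent.MinDeg.Orth

open Cfsg.Agent.ClassicalSimple

/-- The bound for the count at a singular vector. -/
def cb (q : ℕ) : ℕ := if 4 ≤ q then q + 1 else q + 2

/-- `(q - 1)` times the number of singular points, in terms of the count in the complement. -/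
def Z1 (q k n0 : ℕ) : ℕ := q - 1 + q * n0 + (q - 1) * q ^ k

/-- The numerical conditions. -/
structure Num (q k n0 n00 C J cC cC' : ℕ) : Prop where
  q_two : 2 ≤ q
  k_five : 5 ≤ k
  k_small : q < 4 → 6 ≤ k
  n0_pos : 1 ≤ n0
  n0_lt : n0 < (q - 1) * q ^ (k - 1)
  n0_eq : n0 = q - 1 + q * n00 + (q - 1) * q ^ (k - 2)
  n0_dvd : q - 1 ∣ n0
  J_pos : 1 ≤ J
  cb_bound : Z1 q k n0 ≤ (q - 1) * ((cb q + 1) * n0 + 1)
  C_big : n0 < C
  cC_bound : Z1 q k n0 ≤ (q - 1) * ((cC + 1) * C + 1)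
  cC_orbit : cC * (q ^ 2 - 2) ≤ (q - 1) * q ^ (k - 3)
  cC'_bound : Z1 q k n0 ≤ (q - 1) * ((cC' + 1) * C + n0 + 1)
  cC'_orbit : cC' * (q ^ J - 1) ≤ (q - 1) * q ^ (k - 3)
  small_J : q < 4 → 2 * J < k
  span_bound : ∀ j, 3 ≤ j → j ≤ J + 1 →
    (q ^ j - 1) * ((q ^ (j - 1) - 1) * (q ^ (j - 2) - 1)) ≤ (q - 1) * (n0 * n00)
  ts : ∀ j, 2 ≤ j → j ≤ J → cb q * (q ^ (j - 1) - 1) < n00 ∨
    (4 ≤ q ∧ j = J ∧ q * (q ^ (j - 1) - 1) < n00 ∧ Z1 q k n0 ≤ (q - 1) * ((q + 1) * n0 + C + 1))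

variable {F V : Type*} [Field F] [AddCommGroup V] [Module F V] {Q : QuadraticForm F V}

/-- The geometric data of the form. -/
structure Geo (Q : QuadraticForm F V) (k n0 n00 C J : ℕ) : Prop where
  hN : (bil Q).Nondegenerate
  dim : Module.finrank F V = k + 2
  sing_count : ∀ {v v₁ : V}, HP Q v v₁ →
    Nat.card {w : Wsub Q v v₁ // w ≠ 0 ∧ Q (w : V) = 0} = n0
  sing_count₂ : ∀ {v v₁ : V}, HP Q v v₁ → ∀ {φ φ₁ : Wsub Q v v₁}, HP (QW Q v v₁) φ φ₁ →
    Nat.card {w : Wsub (QW Q v v₁) φ φ₁ // w ≠ 0 ∧ Q ((w : Wsub Q v v₁) : V) = 0} = n00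
  class_count : ∀ {v v₁ : V}, HP Q v v₁ → ∀ r : F, r ≠ 0 →
    C ≤ Nat.card {w : Wsub Q v v₁ // ∃ a : F, a ≠ 0 ∧ Q (w : V) = a * a * r}
  ts_dim : ∀ {v v₁ : V}, HP Q v v₁ → ∀ U : Submodule F (Wsub Q v v₁),
    (∀ w ∈ U, Q (w : V) = 0) → Module.finrank F U ≤ J

variable [Fintype F] [FiniteDimensional F V]

/-- An action of a space on a finite set whose stabilisers' annihilators cover `S`. -/
theorem card_add_one_le_of_ann [Finite V] (hN : (bil Q).Nondegenerate) {X : Type*} [Finite X]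
    (τ : V → X → X) (h0 : ∀ x, τ 0 x = x) (hadd : ∀ a b x, τ (a + b) x = τ a (τ b x))
    (S : Finset V) (hS0 : ∀ φ ∈ S, φ ≠ 0) (hne : S.Nonempty)
    (hS : ∀ φ ∈ S, ∃ x, ∀ a, τ a x = x → psi F (bil Q φ a) = 1) :
    S.card + 1 ≤ Nat.card X := by
  classical
  have := Fintype.ofFinite V
  have := Fintype.ofFinite X
  let O : X → Finset X := fun x => Finset.univ.image fun a : V => τ a x
  let K : X → AddSubgroup V := fun x =>
    { carrier := {a | τ a x = x}
      zero_mem' := h0 x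
      add_mem' := fun {a b} ha hb => by
        show τ (a + b) x = x
        rw [hadd, hb, ha]
      neg_mem' := fun {a} ha => by
        show τ (-a) x = x
        nth_rw 1 [← ha]
        rw [← hadd, neg_add_cancel, h0] }
  have hK : ∀ {x a}, a ∈ K x ↔ τ a x = x := Iff.rfl
  have hO : ∀ x a, O (τ a x) = O x := by
    intro x a
    ext y
    simp only [O, Finset.mem_image, Finset.mem_univ, true_and]
    exact ⟨fun ⟨b, hb⟩ => ⟨b + a, by rw [hadd, hb]⟩,
      fun ⟨b, hb⟩ => ⟨b - a, by rw [← hadd, sub_add_cancel, hb]⟩⟩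
  have hKO : ∀ x y, O x = O y → K x = K y := by
    intro x y h
    obtain ⟨a, -, rfl⟩ := Finset.mem_image.1
      (show y ∈ O x from h ▸ Finset.mem_image.2 ⟨0, Finset.mem_univ _, h0 y⟩)
    ext b
    rw [hK, hK, ← hadd, add_comm, hadd]
    refine ⟨fun e => by rw [e], fun e => ?_⟩
    have := congrArg (τ (-a)) e
    simp only [← hadd, ← add_assoc, neg_add_cancel, zero_add, h0] at this
    exact this
  have hcard : ∀ x, Nat.card (annOf Q (K x)) = (O x).card := by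
    intro x
    refine Nat.eq_of_mul_eq_mul_right (m := Nat.card (K x)) Nat.card_pos
      ((card_annOf hN (K x)).trans ?_)
    have h := Finset.card_eq_sum_card_image (fun a : V => τ a x) Finset.univ
    rw [Finset.card_univ] at h
    rw [Nat.card_eq_fintype_card (α := V), h,
      Finset.sum_congr rfl (g := fun _ => Nat.card (K x)), Finset.sum_const, smul_eq_mul]
    intro y hy
    obtain ⟨a₀, -, rfl⟩ := Finset.mem_image.1 hy
    rw [← Finset.card_map ⟨fun a => -a₀ + a, add_right_injective (-a₀)⟩,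
      Nat.card_eq_fintype_card, Fintype.card_of_subtype]
    intro z
    simp only [Finset.mem_map, Finset.mem_filter, Finset.mem_univ, true_and,
      Function.Embedding.coeFn_mk, hK]
    constructor
    · rintro ⟨a, ha, rfl⟩
      rw [hadd, ha, ← hadd, neg_add_cancel, h0]
    · intro hz
      exact ⟨a₀ + z, by rw [hadd, hz], neg_add_cancel_left a₀ z⟩
  let R : Finset (Finset X) := Finset.univ.image O
  have hX : Nat.card X = ∑ A ∈ R, A.card := by
    rw [Nat.card_eq_fintype_card, ← Finset.card_univ, Finset.card_eq_sum_card_image O Finset.univ]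
    refine Finset.sum_congr rfl fun A hA => ?_
    obtain ⟨x, -, rfl⟩ := Finset.mem_image.1 hA
    congr 1
    ext y
    simp only [Finset.mem_filter, Finset.mem_univ, true_and]
    constructor
    · intro h
      rw [← h]; exact Finset.mem_image.2 ⟨0, Finset.mem_univ _, h0 y⟩
    · intro h
      obtain ⟨a, -, rfl⟩ := Finset.mem_image.1 h
      exact hO x a
  have hsub : S.card ≤ ∑ A ∈ R, (A.card - 1) := by
    have hU : S ⊆ R.biUnion fun A => Finset.univ.filter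
        fun φ => φ ≠ 0 ∧ ∃ x, O x = A ∧ φ ∈ annOf Q (K x) := by
      intro φ hφ
      obtain ⟨x, hx⟩ := hS φ hφ
      exact Finset.mem_biUnion.2 ⟨O x, Finset.mem_image_of_mem _ (Finset.mem_univ _),
        Finset.mem_filter.2 ⟨Finset.mem_univ _, hS0 φ hφ, x, rfl, fun a ha => hx a ha⟩⟩
    refine (Finset.card_le_card hU).trans (Finset.card_biUnion_le.trans
      (Finset.sum_le_sum fun A hA => ?_))
    obtain ⟨x, -, rfl⟩ := Finset.mem_image.1 hA
    rw [← hcard, Nat.card_eq_fintype_card, Fintype.card_of_subtype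
      (Finset.univ.filter fun φ => φ ∈ annOf Q (K x)) (by simp)]
    refine Nat.le_sub_one_of_lt (Finset.card_lt_card (Finset.ssubset_iff.2 ⟨0, by simp, ?_⟩))
    intro φ hφ
    rcases Finset.mem_insert.1 hφ with rfl | hφ
    · simp
    · obtain ⟨-, -, y, hy, hy'⟩ := Finset.mem_filter.1 hφ
      simp [← hKO y x hy, hy']
  have hR : 1 ≤ R.card := by
    obtain ⟨φ, hφ⟩ := hne
    obtain ⟨x, -⟩ := hS φ hφ
    exact Finset.card_pos.2 ⟨O x, Finset.mem_image_of_mem _ (Finset.mem_univ _)⟩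
  have hsum : ∑ A ∈ R, (A.card - 1) + R.card ≤ ∑ A ∈ R, A.card := by
    rw [Finset.card_eq_sum_ones R, ← Finset.sum_add_distrib]
    refine Finset.sum_le_sum fun A hA => ?_
    obtain ⟨x, -, rfl⟩ := Finset.mem_image.1 hA
    have : 0 < (O x).card := Finset.card_pos.2 ⟨x, Finset.mem_image.2 ⟨0, Finset.mem_univ _, h0 x⟩⟩
    omega
  omega

variable {Ω : Type*} [Fintype Ω] {ρ : siegelGroup Q →* Equiv.Perm Ω} {v v₁ : V}
  {k n0 n00 C J cC cC' : ℕ}

/-- The standing hypotheses. -/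
structure Ctx (ρ : siegelGroup Q →* Equiv.Perm Ω) (v v₁ : V) (k n0 n00 C J cC cC' : ℕ) : Prop where
  geo : Geo Q k n0 n00 C J
  num : Num (Fintype.card F) k n0 n00 C J cC cC'
  pair : HP Q v v₁
  small : Fintype.card Ω * (Fintype.card F - 1) < Z1 (Fintype.card F) k n0

namespace Ctx

variable (h : Ctx ρ v v₁ k n0 n00 C J cC cC')
include h

theorem five_le : 5 ≤ Module.finrank F V := by
  have := h.geo.dim; have := h.num.k_five; omega

theorem finrank_W : Module.finrank F (Wsub Q v v₁) = k := by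
  have := h.pair.finrank_W; have := h.geo.dim; omega

theorem five_le_W : 5 ≤ Module.finrank F (Wsub Q v v₁) := h.finrank_W ▸ h.num.k_five

theorem nondegW : (bil (QW Q v v₁)).Nondegenerate := h.pair.nondegenerate_QW h.geo.hN

theorem lt_of_le {x : ℕ} (hx : x ≤ Fintype.card Ω) :
    x * (Fintype.card F - 1) < Z1 (Fintype.card F) k n0 :=
  lt_of_le_of_lt (Nat.mul_le_mul_right _ hx) h.small

theorem cnt_sing {φ ψ' : Wsub Q v v₁} (h1 : φ ≠ 0) (h2 : Q (φ : V) = 0) (h1' : ψ' ≠ 0)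
    (h2' : Q (ψ' : V) = 0) : cnt ρ v v₁ φ = cnt ρ v v₁ ψ' := by
  obtain ⟨g, hg, e⟩ := siegel_trans h.nondegW h.five_le_W h1 h1' h2 h2'
  obtain ⟨G, hG, hG'⟩ := exists_scales_lift hg
  rw [← e, ← hG', ← cnt_scales h.pair hG φ, inv_one, one_smul]

theorem cnt_class {φ ψ' : Wsub Q v v₁} (hφ : Q (φ : V) ≠ 0) {a : F} (ha : a ≠ 0)
    (e : Q (ψ' : V) = a * a * Q (φ : V)) : cnt ρ v v₁ φ = cnt ρ v v₁ ψ' := by
  obtain ⟨g₀, g1, g2⟩ := exists_scale h.geo.hN h.five_le h.pair (inv_ne_zero ha)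
  have hs : Scales g₀ v v₁ a⁻¹ := ⟨inv_ne_zero ha, g1, g2⟩
  rw [← cnt_scales h.pair hs φ]
  have hQ : Q ((a⁻¹⁻¹ • hs.mapW φ : Wsub Q v v₁) : V) = Q (ψ' : V) := by
    rw [Submodule.coe_smul, Scales.coe_mapW, quad_smul_vec, quad_smul', inv_inv, e]
  obtain ⟨g, hg, e'⟩ := siegel_trans_norm h.nondegW h.five_le_W
    (b := a⁻¹⁻¹ • hs.mapW φ) (b' := ψ') (by
      rw [QW_apply, hQ, e]; exact mul_ne_zero (mul_ne_zero ha ha) hφ) hQ
  obtain ⟨G, hG, hG'⟩ := exists_scales_lift hg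
  rw [← e', ← hG', ← cnt_scales h.pair hG (a⁻¹⁻¹ • hs.mapW φ), inv_one, one_smul]

theorem finiteV : Finite V := Module.finite_of_finite F

/-- Counting a union of the singular vectors and one class. -/
theorem class_add_le {φ y : Wsub Q v v₁} (hφ0 : φ ≠ 0) (hφ : Q (φ : V) = 0)
    (hy : Q (y : V) ≠ 0) :
    cnt ρ v v₁ φ * n0 + cnt ρ v v₁ y * C + (orbs ρ v v₁).card ≤ Fintype.card Ω := by
  classical
  have := h.finiteV
  have := Fintype.ofFinite (Wsub Q v v₁)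
  set S₀ : Finset (Wsub Q v v₁) := Finset.univ.filter fun w => w ≠ 0 ∧ Q (w : V) = 0
  set S₁ : Finset (Wsub Q v v₁) :=
    Finset.univ.filter fun w => ∃ a : F, a ≠ 0 ∧ Q (w : V) = a * a * Q (y : V)
  have hd : Disjoint S₀ S₁ := by
    rw [Finset.disjoint_filter]
    rintro w - ⟨-, e⟩ ⟨a, ha, e'⟩
    rw [e] at e'
    exact hy ((mul_eq_zero.1 e'.symm).resolve_left (mul_ne_zero ha ha))
  have h0 : ∀ w ∈ S₀ ∪ S₁, w ≠ 0 := by
    intro w hw
    rcases Finset.mem_union.1 hw with hw | hw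
    · exact (Finset.mem_filter.1 hw).2.1
    · rintro rfl
      obtain ⟨-, a, ha, e⟩ := Finset.mem_filter.1 hw
      simp [ha, hy] at e
  have key := sum_cnt_le h.pair h.geo.hN (S₀ ∪ S₁) h0 (orbs ρ v v₁) subset_rfl
    fun _ _ ω _ => Finset.mem_image_of_mem _ (Finset.mem_univ ω)
  rw [Finset.sum_union hd, card_eq_sum_orbs h.pair,
    Finset.sum_congr rfl (g := fun _ => cnt ρ v v₁ φ) (fun w hw => by
      obtain ⟨-, e1, e2⟩ := Finset.mem_filter.1 hw
      exact (h.cnt_sing hφ0 hφ e1 e2).symm),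
    Finset.sum_congr rfl (s₁ := S₁) (g := fun _ => cnt ρ v v₁ y) (fun w hw => by
      obtain ⟨-, a, ha, e⟩ := Finset.mem_filter.1 hw
      exact (h.cnt_class hy ha e).symm),
    Finset.sum_const, Finset.sum_const, smul_eq_mul, smul_eq_mul] at key
  have c0 : S₀.card = n0 := by
    rw [← h.geo.sing_count h.pair, Nat.card_eq_fintype_card, Fintype.card_subtype]
  have c1 : C ≤ S₁.card := by
    refine (h.geo.class_count h.pair _ hy).trans_eq ?_
    rw [Nat.card_eq_fintype_card, Fintype.card_subtype]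
  have := Nat.mul_le_mul_left (cnt ρ v v₁ y) c1
  rw [c0, mul_comm n0, mul_comm S₁.card] at key
  omega

theorem sing_add_le {φ : Wsub Q v v₁} (hφ0 : φ ≠ 0) (hφ : Q (φ : V) = 0) :
    cnt ρ v v₁ φ * n0 + (orbs ρ v v₁).card ≤ Fintype.card Ω := by
  classical
  have := h.finiteV
  have := Fintype.ofFinite (Wsub Q v v₁)
  have key := cnt_mul_card_le (ρ := ρ) h.pair h.geo.hN
    (Finset.univ.filter fun w : Wsub Q v v₁ => w ≠ 0 ∧ Q (w : V) = 0)
    (fun w hw => (Finset.mem_filter.1 hw).2.1) (c := cnt ρ v v₁ φ)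
    (fun w hw => (h.cnt_sing hφ0 hφ (Finset.mem_filter.1 hw).2.1
      (Finset.mem_filter.1 hw).2.2).symm)
  rwa [← Fintype.card_subtype, ← Nat.card_eq_fintype_card, h.geo.sing_count h.pair] at key

theorem ns_add_le {y : Wsub Q v v₁} (hy : Q (y : V) ≠ 0) :
    cnt ρ v v₁ y * C + (orbs ρ v v₁).card ≤ Fintype.card Ω := by
  classical
  have := h.finiteV
  have := Fintype.ofFinite (Wsub Q v v₁)
  have key := cnt_mul_card_le (ρ := ρ) h.pair h.geo.hN
    (Finset.univ.filter fun w : Wsub Q v v₁ => ∃ a : F, a ≠ 0 ∧ Q (w : V) = a * a * Q (y : V))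
    (fun w hw => by
      rintro rfl
      obtain ⟨-, a, ha, e⟩ := Finset.mem_filter.1 hw
      simp [ha, hy] at e)
    (c := cnt ρ v v₁ y)
    (fun w hw => by
      obtain ⟨-, a, ha, e⟩ := Finset.mem_filter.1 hw
      exact (h.cnt_class hy ha e).symm)
  rw [← Fintype.card_subtype, ← Nat.card_eq_fintype_card] at key
  have := Nat.mul_le_mul_left (cnt ρ v v₁ y) (h.geo.class_count h.pair _ hy)
  omega

omit h in
theorem orbs_pos (ω : Ω) : 1 ≤ (orbs ρ v v₁).card := by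
  classical exact Finset.card_pos.2 ⟨_, Finset.mem_image_of_mem _ (Finset.mem_univ ω)⟩

theorem lt_cancel {x y : ℕ} (hx : x ≤ Fintype.card Ω)
    (hy : Z1 (Fintype.card F) k n0 ≤ (Fintype.card F - 1) * y) : x < y := by
  have := lt_of_lt_of_le (h.lt_of_le hx) hy
  rw [mul_comm] at this
  exact Nat.lt_of_mul_lt_mul_left this

theorem cnt_sing_le (ω : Ω) {φ : Wsub Q v v₁} (hφ0 : φ ≠ 0) (hφ : Q (φ : V) = 0) :
    cnt ρ v v₁ φ ≤ cb (Fintype.card F) := by
  have h1 := h.sing_add_le hφ0 hφ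
  have h2 := h.lt_cancel (x := cnt ρ v v₁ φ * n0 + 1)
    (le_trans (by have := orbs_pos (ρ := ρ) (v := v) (v₁ := v₁) ω; omega) h1) h.num.cb_bound
  exact Nat.lt_succ_iff.1 (Nat.lt_of_mul_lt_mul_right (Nat.lt_of_add_lt_add_right h2))

theorem cnt_ns_le (ω : Ω) {y : Wsub Q v v₁} (hy : Q (y : V) ≠ 0) : cnt ρ v v₁ y ≤ cC := by
  have h1 := h.ns_add_le hy
  have h2 := h.lt_cancel (x := cnt ρ v v₁ y * C + 1)
    (le_trans (by have := orbs_pos (ρ := ρ) (v := v) (v₁ := v₁) ω; omega) h1) h.num.cC_bound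
  exact Nat.lt_succ_iff.1 (Nat.lt_of_mul_lt_mul_right (Nat.lt_of_add_lt_add_right h2))

omit h in
theorem cnt_pos {ω : Ω} {φ : Wsub Q v v₁} (hφ : φ ∈ ann ρ v v₁ ω) : 1 ≤ cnt ρ v v₁ φ := by
  classical
  exact Finset.card_pos.2 ⟨orb ρ v v₁ ω,
    Finset.mem_filter.2 ⟨Finset.mem_image_of_mem _ (Finset.mem_univ _), ω, rfl, hφ⟩⟩

theorem cnt_ns_le' {ω : Ω} {φ y : Wsub Q v v₁} (hφ0 : φ ≠ 0) (hφ : Q (φ : V) = 0)
    (hu : φ ∈ ann ρ v v₁ ω) (hy : Q (y : V) ≠ 0) : cnt ρ v v₁ y ≤ cC' := by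
  have h1 := h.class_add_le hφ0 hφ hy
  have h0 : n0 ≤ cnt ρ v v₁ φ * n0 := Nat.le_mul_of_pos_left n0 (cnt_pos hu)
  have h2 := h.lt_cancel (x := cnt ρ v v₁ y * C + n0 + 1)
    (le_trans (by have := orbs_pos (ρ := ρ) (v := v) (v₁ := v₁) ω; omega) h1) h.num.cC'_bound
  exact Nat.lt_succ_iff.1
    (Nat.lt_of_mul_lt_mul_right (Nat.lt_of_add_lt_add_right (Nat.lt_of_add_lt_add_right h2)))

end Ctx

end Cfsg.Agent.MinDeg.Orth
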