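import Cfsg.Agent.Lib.MinDeg.OrthStructure

/-!
Each annihilator is the whole complement, lies in a line, or is a totally singular subspace; in
the last case all of them are maximal totally singular subspaces, one orbit for each.
-/

set_option autoImplicit false

namespace Cfsg.Agent.MinDeg.Orth

open Cfsg.Agent.ClassicalSimple

variable {F V : Type*} [Field F] [AddCommGroup V] [Module F V] {Q : QuadraticForm F V}
  [Fintype F] [FiniteDimensional F V] {Ω : Type*} [Fintype Ω]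
  {ρ : siegelGroup Q →* Equiv.Perm Ω} {v v₁ : V} {k n0 n00 C J cC cC' : ℕ}

open Classical in
/-- The orbits whose annihilator contains `φ`. -/
noncomputable def annOrbs (ρ : siegelGroup Q →* Equiv.Perm Ω) (v v₁ : V) (φ : Wsub Q v v₁) :
    Finset (Finset Ω) :=
  (orbs ρ v v₁).filter fun O => ∃ ω, orb ρ v v₁ ω = O ∧ φ ∈ ann ρ v v₁ ω

theorem card_annOrbs (φ : Wsub Q v v₁) : (annOrbs ρ v v₁ φ).card = cnt ρ v v₁ φ := rfl

theorem mem_annOrbs {φ : Wsub Q v v₁} {O : Finset Ω} :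
    O ∈ annOrbs ρ v v₁ φ ↔ ∃ ω, orb ρ v v₁ ω = O ∧ φ ∈ ann ρ v v₁ ω := by
  classical
  simp only [annOrbs, Finset.mem_filter]
  refine ⟨fun h => h.2, fun h => ⟨?_, h⟩⟩
  obtain ⟨ω, rfl, -⟩ := h
  exact Finset.mem_image_of_mem _ (Finset.mem_univ ω)

theorem orb_image [DecidableEq Ω] (P : HP Q v v₁) {g : siegelGroup Q} {c : F}
    (hg : Scales g v v₁ c) (ω : Ω) :
    (orb ρ v v₁ ω).image (ρ g) = orb ρ v v₁ (ρ g ω) := by
  ext y
  simp only [Finset.mem_image, mem_orb]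
  constructor
  · rintro ⟨x, ⟨w, rfl⟩, rfl⟩
    exact ⟨c • hg.mapW w, by
      rw [← Equiv.Perm.mul_apply, tau_scales P hg, Equiv.Perm.mul_apply]⟩
  · rintro ⟨w, rfl⟩
    refine ⟨tau ρ v (c⁻¹ • hg.inv.mapW w : Wsub Q v v₁) ω, ⟨_, rfl⟩, ?_⟩
    rw [← Equiv.Perm.mul_apply, ← tau_scales P hg, Equiv.Perm.mul_apply]
    have e : c • hg.mapW (c⁻¹ • hg.inv.mapW w) = w := Subtype.ext (by
      rw [Submodule.coe_smul, Scales.coe_mapW, Submodule.coe_smul, Scales.coe_mapW,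
        smul_comm g, smul_smul, mul_inv_cancel₀ hg.ne, one_smul, smul_inv_smul])
    rw [e]

/-- Elements fixing the pair and `y` permute the orbits with `y` in the annihilator. -/
theorem image_mem_annOrbs [DecidableEq Ω] (P : HP Q v v₁) {g : siegelGroup Q}
    (hg : Scales g v v₁ 1) {y : Wsub Q v v₁} (hy : g • (y : V) = y) {O : Finset Ω}
    (hO : O ∈ annOrbs ρ v v₁ y) : O.image (ρ g) ∈ annOrbs ρ v v₁ y := by
  obtain ⟨ω, rfl, hω⟩ := mem_annOrbs.1 hO
  refine mem_annOrbs.2 ⟨ρ g ω, (orb_image P hg ω).symm, ?_⟩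
  have := ann_scales P hg hω
  rwa [inv_one, one_smul, show hg.mapW y = y from Subtype.ext hy] at this

/-- If every element of `S` lies in a small set attached to an orbit in `annOrbs y`, then `S`
is small. -/
theorem card_le_cnt_mul (P : HP Q v v₁) {y : Wsub Q v v₁} (S : Finset (Wsub Q v v₁))
    (p : Ω → Wsub Q v v₁ → Prop)
    (hp : ∀ ω ω', ann ρ v v₁ ω = ann ρ v v₁ ω' → ∀ z, p ω z → p ω' z) {b : ℕ}
    (hb : ∀ ω, y ∈ ann ρ v v₁ ω → Nat.card {z // p ω z} ≤ b)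
    (hS : ∀ z ∈ S, ∃ ω, y ∈ ann ρ v v₁ ω ∧ p ω z) : S.card ≤ cnt ρ v v₁ y * b := by
  classical
  have : Finite V := Module.finite_of_finite F
  have := Fintype.ofFinite (Wsub Q v v₁)
  let B : Finset Ω → Finset (Wsub Q v v₁) := fun O =>
    Finset.univ.filter fun z => ∃ ω, orb ρ v v₁ ω = O ∧ y ∈ ann ρ v v₁ ω ∧ p ω z
  have hsub : S ⊆ (annOrbs ρ v v₁ y).biUnion B := fun z hz => by
    obtain ⟨ω, h1, h2⟩ := hS z hz
    exact Finset.mem_biUnion.2 ⟨_, mem_annOrbs.2 ⟨ω, rfl, h1⟩,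
      Finset.mem_filter.2 ⟨Finset.mem_univ _, ω, rfl, h1, h2⟩⟩
  refine (Finset.card_le_card hsub).trans (Finset.card_biUnion_le_card_mul _ _ _ fun O hO => ?_)
  obtain ⟨ω, rfl, hω⟩ := mem_annOrbs.1 hO
  refine le_trans ?_ (hb ω hω)
  rw [Nat.card_eq_fintype_card, Fintype.card_subtype]
  refine Finset.card_le_card fun z hz => ?_
  obtain ⟨-, x, hx, -, hx'⟩ := Finset.mem_filter.1 hz
  exact Finset.mem_filter.2 ⟨Finset.mem_univ _, hp x ω (ann_eq_of_orb P hx) z hx'⟩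

/-- The span of pairwise orthogonal singular vectors is totally singular. -/
theorem quad_span_eq_zero {Z : Set V} (h0 : ∀ z ∈ Z, Q z = 0)
    (horth : ∀ z ∈ Z, ∀ z' ∈ Z, bil Q z z' = 0) {x : V} (hx : x ∈ Submodule.span F Z) :
    Q x = 0 := by
  have hb : ∀ z ∈ Z, Submodule.span F Z ≤ LinearMap.ker (bil Q z) := fun z hz =>
    Submodule.span_le.2 fun z' hz' => horth z hz z' hz'
  have hb' : ∀ a ∈ Submodule.span F Z, ∀ b ∈ Submodule.span F Z, bil Q a b = 0 := by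
    intro a ha b hb₂
    have : Submodule.span F Z ≤ LinearMap.ker (bil Q b) := Submodule.span_le.2 fun z hz => by
      show bil Q b z = 0
      rw [bil_comm]; exact hb z hz hb₂
    rw [bil_comm]; exact this ha
  induction hx using Submodule.span_induction with
  | mem z hz => exact h0 z hz
  | zero => exact QuadraticMap.map_zero _
  | add a b ha hb₂ ea eb => rw [quad_add, ea, eb, hb' a ha b hb₂]; simp
  | smul c a _ ea => rw [quad_smul_vec, ea, mul_zero]

namespace Ctx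

variable (h : Ctx ρ v v₁ k n0 n00 C J cC cC')
include h

/-- The root group at a singular `φ` fixes every orbit with `φ` in the annihilator. -/
theorem orb_fixed {φ φ₁ : Wsub Q v v₁} (P' : HP (QW Q v v₁) φ φ₁) {ω : Ω}
    (hφ : φ ∈ ann ρ v v₁ ω) (a : Wsub (QW Q v v₁) φ φ₁) :
    orb ρ v v₁ (ρ (sg Q (φ : V) ((a : Wsub Q v v₁) : V)) ω) = orb ρ v v₁ ω := by
  classical
  have := h.finiteV
  have hφs : Q (φ : V) = 0 := P'.sing
  have hφ0 : φ ≠ 0 := P'.ne_zero
  let G : Wsub (QW Q v v₁) φ φ₁ → siegelGroup Q := fun a => sg Q (φ : V) ((a : Wsub Q v v₁) : V)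
  have hperp : ∀ a : Wsub (QW Q v v₁) φ φ₁, bil Q (φ : V) ((a : Wsub Q v v₁) : V) = 0 :=
    fun a => (mem_Wsub.1 a.2).1
  have hGs : ∀ a, Scales (G a) v v₁ 1 := fun a => by
    obtain ⟨f1, f2⟩ := mem_Wsub.1 φ.2
    obtain ⟨a1, a2⟩ := mem_Wsub.1 (a : Wsub Q v v₁).2
    exact ⟨one_ne_zero, by rw [one_smul]; exact sg_fix hφs (hperp a) f1 a1,
      by rw [inv_one, one_smul]; exact sg_fix hφs (hperp a) f2 a2⟩
  have hGφ : ∀ a, G a • (φ : V) = φ := fun a =>
    sg_fix hφs (hperp a) (bil_self_of_singular hφs) (hperp a)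
  let T : Wsub (QW Q v v₁) φ φ₁ → annOrbs ρ v v₁ φ → annOrbs ρ v v₁ φ := fun a O =>
    ⟨O.1.image (ρ (G a)), image_mem_annOrbs h.pair (hGs a) (hGφ a) O.2⟩
  have hT0 : ∀ O, T 0 O = O := fun O => Subtype.ext (by simp [T, G, sg_zero])
  have hTadd : ∀ a b O, T (a + b) O = T a (T b O) := fun a b O => Subtype.ext (by
    simp only [T, G, Submodule.coe_add]
    rw [← sg_mul hφs (hperp a) (hperp b), map_mul, Finset.image_image, Equiv.Perm.coe_mul])
  by_contra hne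
  let x₀ : annOrbs ρ v v₁ φ := ⟨orb ρ v v₁ ω, mem_annOrbs.2 ⟨ω, rfl, hφ⟩⟩
  have hmove : T a x₀ ≠ x₀ := fun e => hne (by
    have := congrArg Subtype.val e
    simp only [T, x₀] at this
    rwa [orb_image h.pair (hGs a)] at this)
  let K : AddSubgroup (Wsub (QW Q v v₁) φ φ₁) :=
    { carrier := {b | T b x₀ = x₀}
      zero_mem' := hT0 x₀
      add_mem' := fun {b c} hb hc => by
        show T (b + c) x₀ = x₀
        rw [hTadd, hc, hb]
      neg_mem' := fun {b} hb => by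
        show T (-b) x₀ = x₀
        nth_rw 1 [← hb]
        rw [← hTadd, neg_add_cancel, hT0] }
  have hN' := P'.nondegenerate_QW h.nondegW
  obtain ⟨χ, hχK, hχ0⟩ : ∃ χ ∈ annOf (QW (QW Q v v₁) φ φ₁) K, χ ≠ 0 := by
    by_contra hc
    push Not at hc
    have h1 := card_annOf hN' K
    have h2 : Nat.card (annOf (QW (QW Q v v₁) φ φ₁) K) = 1 := by
      rw [Nat.card_eq_one_iff_unique]
      exact ⟨⟨fun x y => Subtype.ext ((hc x.1 x.2).trans (hc y.1 y.2).symm)⟩, ⟨0⟩⟩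
    rw [h2, one_mul] at h1
    have hK : K = ⊤ := AddSubgroup.eq_top_of_card_eq K h1
    exact hmove (show a ∈ K from hK ▸ AddSubgroup.mem_top a)
  have h3 : 3 ≤ Module.finrank F (Wsub (QW Q v v₁) φ φ₁) := by
    have := P'.finrank_W; have := h.finrank_W; have := h.num.k_five; omega
  obtain ⟨s, hs0, hs, -⟩ := exists_singular (Q := QW (QW Q v v₁) φ φ₁)
    (![] : Fin 0 → Module.Dual F _) (by simpa using h3)
  let S : Finset (Wsub (QW Q v v₁) φ φ₁) := (Set.toFinite {z | ∃ g : OQ (QW (QW Q v v₁) φ φ₁),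
    g ∈ siegelGroup (QW (QW Q v v₁) φ φ₁) ∧ g • χ = z}).toFinset
  have hS : ∀ g ∈ siegelGroup (QW (QW Q v v₁) φ φ₁), g • χ ∈ S := fun g hg => by
    simp only [S, Set.Finite.mem_toFinset]
    exact ⟨g, hg, rfl⟩
  have hSge := card_orbit_ge hN' h3 hs hs0 hχ0 S hS
  have hSne : S.Nonempty := ⟨χ, by simpa using hS 1 (one_mem _)⟩
  have hSle := card_add_one_le_of_ann hN' T hT0 hTadd S (fun z hz => ?_) hSne fun z hz => ?_
  rotate_left
  · simp only [S, Set.Finite.mem_toFinset] at hz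
    obtain ⟨g, -, rfl⟩ := hz
    exact fun e => hχ0 ((smul_eq_zero_iff_eq g).1 e)
  · simp only [S, Set.Finite.mem_toFinset] at hz
    obtain ⟨g, hg, rfl⟩ := hz
    obtain ⟨g₁, hg1, hg1', hg1w⟩ := HP.exists_lift hg
    obtain ⟨H, hH, hHw⟩ := exists_scales_lift g₁.2
    have hHφ : H • (φ : V) = φ := by
      rw [← hH.coe_mapW, hHw]; exact congrArg Subtype.val hg1
    refine ⟨⟨x₀.1.image (ρ H), image_mem_annOrbs h.pair hH hHφ x₀.2⟩, fun b hb => ?_⟩
    have e : G b * H = H * G (g⁻¹ • b) := by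
      have e1 : H • (((g⁻¹ • b : Wsub (QW Q v v₁) φ φ₁) : Wsub Q v v₁) : V) =
          ((b : Wsub Q v v₁) : V) := by
        rw [← hH.coe_mapW, hHw, smul_coe, hg1w, smul_inv_smul]
      have := sg_conj H (φ : V) (((g⁻¹ • b : Wsub (QW Q v v₁) φ φ₁) : Wsub Q v v₁) : V)
      rw [hHφ, e1] at this
      simp only [G]
      rw [← this, inv_mul_cancel_right]
    have hfix : g⁻¹ • b ∈ K := by
      refine Subtype.ext (Finset.image_injective (ρ H).injective ?_)
      have hb' := congrArg Subtype.val hb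
      simp only [T, Finset.image_image, ← Equiv.Perm.coe_mul, ← map_mul] at hb' ⊢
      rw [← e]; exact hb'
    have := (mem_annOf _).1 hχK _ hfix
    rwa [← bil_smul_smul g, smul_inv_smul] at this
  rw [Nat.card_eq_fintype_card (α := annOrbs ρ v v₁ φ), Fintype.card_coe, card_annOrbs] at hSle
  have hle := h.cnt_sing_le ω hφ0 hφs
  rw [Nat.card_eq_fintype_card] at hSge
  have hq := h.num.q_two
  have hk := h.num.k_five
  have hk6 := h.num.k_small
  have hW' : Module.finrank F (Wsub (QW Q v v₁) φ φ₁) - 2 = k - 4 := by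
    have := P'.finrank_W; have := h.finrank_W; omega
  rw [hW'] at hSge
  unfold cb at hle
  split_ifs at hle with h4
  · have : Fintype.card F ^ 1 ≤ Fintype.card F ^ (k - 4) :=
      Nat.pow_le_pow_right (by omega) (by omega)
    rw [pow_one] at this
    omega
  · have : Fintype.card F ^ 2 ≤ Fintype.card F ^ (k - 4) :=
      Nat.pow_le_pow_right (by omega) (by have := hk6 (by omega); omega)
    have : Fintype.card F + 2 ≤ Fintype.card F ^ 2 + 1 := by nlinarith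
    omega

theorem sg_mem {φ φ₁ : Wsub Q v v₁} (P' : HP (QW Q v v₁) φ φ₁) {ω : Ω}
    (hφ : φ ∈ ann ρ v v₁ ω) {y : Wsub Q v v₁} (hy : y ∈ ann ρ v v₁ ω)
    {a : Wsub Q v v₁} (ha : a ∈ Wsub (QW Q v v₁) φ φ₁) :
    (sg (QW Q v v₁) φ a • y) ∈ ann ρ v v₁ ω := by
  have hφs : Q (φ : V) = 0 := P'.sing
  have hperp : bil Q (φ : V) (a : V) = 0 := (mem_Wsub.1 ha).1
  obtain ⟨f1, f2⟩ := mem_Wsub.1 φ.2
  obtain ⟨a1, a2⟩ := mem_Wsub.1 a.2
  have hs : Scales (sg Q (φ : V) (a : V)) v v₁ 1 :=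
    ⟨one_ne_zero, by rw [one_smul]; exact sg_fix hφs hperp f1 a1,
      by rw [inv_one, one_smul]; exact sg_fix hφs hperp f2 a2⟩
  have h1 := ann_scales h.pair hs hy
  rw [ann_eq_of_orb h.pair (h.orb_fixed P' hφ ⟨a, ha⟩), inv_one, one_smul] at h1
  convert h1 using 1
  refine Subtype.ext ?_
  rw [hs.coe_mapW, sg_act hφs hperp, sg_act (Q := QW Q v v₁) hφs hperp]
  rfl

/-- `D a = X_φ(a) y - y` lies in the annihilator. -/
theorem diff_mem {φ φ₁ : Wsub Q v v₁} (P' : HP (QW Q v v₁) φ φ₁) {ω : Ω}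
    (hφ : φ ∈ ann ρ v v₁ ω) {y : Wsub Q v v₁} (hy : y ∈ ann ρ v v₁ ω)
    {a : Wsub Q v v₁} (ha : a ∈ Wsub (QW Q v v₁) φ φ₁) :
    bil Q (y : V) φ • a - (bil Q (y : V) a + Q (a : V) * bil Q (y : V) φ) • φ ∈
      ann ρ v v₁ ω := by
  have h1 := sub_mem (h.sg_mem P' hφ hy ha) hy
  rwa [sg_act P'.sing (mem_Wsub.1 ha).1, add_sub_assoc, add_sub_cancel_left] at h1

/-- A singular vector and a vector not orthogonal to it generate everything. -/
theorem univ_of_nonorth {ω : Ω} {φ y : Wsub Q v v₁} (hφ : φ ∈ ann ρ v v₁ ω)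
    (hs : Q (φ : V) = 0) (hy : y ∈ ann ρ v v₁ ω) (hne : bil Q (φ : V) y ≠ 0) :
    ann ρ v v₁ ω = ⊤ := by
  have key : ∀ {φ y : Wsub Q v v₁}, φ ∈ ann ρ v v₁ ω → Q (φ : V) = 0 → y ∈ ann ρ v v₁ ω →
      bil Q (φ : V) y ≠ 0 → ∀ {φ₁ : Wsub Q v v₁}, HP (QW Q v v₁) φ φ₁ →
      (∀ t : F, t • φ ∈ ann ρ v v₁ ω) ∧
        ∀ a ∈ Wsub (QW Q v v₁) φ φ₁, a ∈ ann ρ v v₁ ω := by
    intro φ y hφ hs hy hne φ₁ P'
    set β := bil Q (y : V) φ with hβ
    have hβ0 : β ≠ 0 := by rwa [hβ, bil_comm]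
    have hD := fun {a} (ha : a ∈ Wsub (QW Q v v₁) φ φ₁) => h.diff_mem P' hφ hy ha
    have h3 : 3 ≤ Module.finrank F (Wsub (QW Q v v₁) φ φ₁) := by
      have := P'.finrank_W; have := h.finrank_W; have := h.num.k_five; omega
    obtain ⟨b, hb⟩ : ∃ b : Wsub (QW Q v v₁) φ φ₁, b ≠ 0 := by
      by_contra hc
      push Not at hc
      have : Module.finrank F (Wsub (QW Q v v₁) φ φ₁) = 0 :=
        Module.finrank_zero_iff.2 ⟨fun x y => by rw [hc x, hc y]⟩
      omega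
    obtain ⟨b', hb'⟩ := orth_exists_ne_zero (P'.nondegenerate_QW h.nondegW) hb
    have hb'' : bil Q ((b : Wsub Q v v₁) : V) ((b' : Wsub Q v v₁) : V) ≠ 0 := hb'
    have hline : ∀ t : F, t • φ ∈ ann ρ v v₁ ω := by
      intro t
      set s := -(t / (bil Q ((b : Wsub Q v v₁) : V) ((b' : Wsub Q v v₁) : V) * β)) with hsdef
      have hm := sub_mem (sub_mem (hD (Submodule.add_mem _ b.2 (Submodule.smul_mem _ s b'.2)))
        (hD b.2)) (hD (Submodule.smul_mem _ s b'.2))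
      convert hm using 1
      simp only [Submodule.coe_add, Submodule.coe_smul, map_add, map_smul, quad_add,
        smul_eq_mul]
      match_scalars <;> simp [hsdef] <;> field_simp <;> ring
    refine ⟨hline, fun a ha => ?_⟩
    have hm := add_mem (hD (Submodule.smul_mem _ β⁻¹ ha))
      (hline (bil Q (y : V) ((β⁻¹ • a : Wsub Q v v₁) : V) +
        Q ((β⁻¹ • a : Wsub Q v v₁) : V) * β))
    convert hm using 1
    rw [sub_add_cancel, smul_smul, mul_inv_cancel₀ hβ0, one_smul]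
  obtain ⟨φ₁, P'⟩ := exists_HP h.nondegW (v := φ) hs (by rintro rfl; simp at hne)
  obtain ⟨hl, hW⟩ := key hφ hs hy hne P'
  have h3 : 3 ≤ Module.finrank F (Wsub (QW Q v v₁) φ φ₁) := by
    have := P'.finrank_W; have := h.finrank_W; have := h.num.k_five; omega
  obtain ⟨a₀, ha0, ha, -⟩ := exists_singular (Q := QW (QW Q v v₁) φ φ₁)
    (![] : Fin 0 → Module.Dual F _) (by simpa using h3)
  obtain ⟨a₁, Pa⟩ := exists_HP (P'.nondegenerate_QW h.nondegW) ha ha0
  have Pa' : HP (QW Q v v₁) (a₀ : Wsub Q v v₁) a₁ := ⟨Pa.sing, Pa.sing₁, Pa.one⟩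
  obtain ⟨hl', hW'⟩ := key (hW _ a₀.2) Pa.sing (hW _ a₁.2) (by
    rw [← bil_QW]; exact Pa'.one ▸ one_ne_zero) Pa'
  have hφ₁ : ∀ t : F, t • φ₁ ∈ ann ρ v v₁ ω := fun t => by
    refine hW' _ (Submodule.smul_mem _ t (mem_Wsub.2 ⟨?_, ?_⟩))
    · rw [bil_comm]; exact (mem_Wsub.1 a₀.2).2
    · rw [bil_comm]; exact (mem_Wsub.1 a₁.2).2
  refine (AddSubgroup.eq_top_iff' _).2 fun x => ?_
  obtain ⟨p, rfl⟩ := P'.splitEquiv.surjective x
  exact add_mem (add_mem (hl _) (hφ₁ _)) (hW _ p.2.2)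

/-- A singular vector and an orthogonal vector outside its line give the whole line. -/
theorem smul_mem_of_orth {ω : Ω} {φ y : Wsub Q v v₁} (hφ : φ ∈ ann ρ v v₁ ω)
    (hs : Q (φ : V) = 0) (hy : y ∈ ann ρ v v₁ ω) (horth : bil Q (φ : V) y = 0)
    (hne : ∀ t : F, t • φ ≠ y) (t : F) : t • φ ∈ ann ρ v v₁ ω := by
  by_cases hφ0 : φ = 0
  · rw [hφ0, smul_zero]; exact zero_mem _
  obtain ⟨φ₁, P'⟩ := exists_HP h.nondegW (v := φ) hs hφ0
  obtain ⟨b, hb, hby⟩ : ∃ b ∈ Wsub (QW Q v v₁) φ φ₁, bil Q (y : V) b ≠ 0 := by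
    by_contra hc
    push Not at hc
    refine hne (bil Q (φ₁ : V) y) (sub_eq_zero.1 (h.nondegW.1 _ fun x => ?_))
    obtain ⟨p, rfl⟩ := P'.splitEquiv.surjective x
    obtain ⟨h1, h2⟩ := mem_Wsub.1 p.2.2
    have h3 := hc p.2 p.2.2
    show bil Q ((bil Q (φ₁ : V) y • φ - y : Wsub Q v v₁) : V)
      ((p.1.1 • φ + p.1.2 • φ₁ + (p.2 : Wsub Q v v₁) : Wsub Q v v₁) : V) = 0
    have hone : bil Q (φ : V) φ₁ = 1 := P'.one
    have h1' : bil Q (φ : V) ((p.2 : Wsub Q v v₁) : V) = 0 := h1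
    simp [bil_self_of_singular hs, hone, horth, bil_comm (y : V) φ, bil_comm (y : V) φ₁, h1', h3]
    ring
  have hm := h.diff_mem P' hφ hy (Submodule.smul_mem _ (-t / bil Q (y : V) b) hb)
  rw [bil_comm (y : V) φ, horth, zero_smul, mul_zero, add_zero, zero_sub] at hm
  convert hm using 1
  rw [← neg_smul]
  congr 1
  simp [hby]

/-- A singular vector and an orthogonal non-singular one generate everything. -/
theorem univ_of_orth_ns {ω : Ω} {φ y : Wsub Q v v₁} (hφ0 : φ ≠ 0) (hφ : φ ∈ ann ρ v v₁ ω)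
    (hs : Q (φ : V) = 0) (hy : y ∈ ann ρ v v₁ ω) (hQy : Q (y : V) ≠ 0) :
    ann ρ v v₁ ω = ⊤ := by
  classical
  by_contra hne
  have := h.finiteV
  have := Fintype.ofFinite (Wsub Q v v₁)
  have hyφ : ∀ c : F, c • y ≠ φ := by
    intro c e
    rw [← e, Submodule.coe_smul, quad_smul_vec, mul_eq_zero, mul_self_eq_zero] at hs
    exact hφ0 (by rw [← e, hs.resolve_right hQy, zero_smul])
  let S : Finset (Wsub Q v v₁) := Finset.univ.filter fun z =>
    ∃ g : siegelGroup (QW Q v v₁), g • y = y ∧ g • φ = z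
  have hSge := card_stab_orbit_ge h.nondegW h.five_le_W hQy hyφ S fun g hg =>
    Finset.mem_filter.2 ⟨Finset.mem_univ _, g, hg, rfl⟩
  rw [h.finrank_W, Nat.card_eq_fintype_card] at hSge
  have hSle : S.card ≤ cnt ρ v v₁ y * (Fintype.card F ^ J - 1) := by
    refine card_le_cnt_mul h.pair S
      (fun ω z => z ≠ 0 ∧ Q (z : V) = 0 ∧ z ∈ ann ρ v v₁ ω ∧ ann ρ v v₁ ω ≠ ⊤)
      (fun ω ω' e z hz => e ▸ hz) (fun ω' _ => ?_) fun z hz => ?_
    · by_cases htop : ann ρ v v₁ ω' = ⊤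
      · rw [Nat.card_eq_zero.2 (Or.inl ⟨fun z => z.2.2.2.2 htop⟩)]
        exact Nat.zero_le _
      let Z : Set (Wsub Q v v₁) := {z | Q (z : V) = 0 ∧ z ∈ ann ρ v v₁ ω'}
      let U := Submodule.span F Z
      have hU : ∀ w ∈ U, Q (w : V) = 0 := fun w hw =>
        quad_span_eq_zero (Q := QW Q v v₁) (fun z hz => hz.1) (fun z hz z' hz' => by
          by_contra hzz
          exact htop (h.univ_of_nonorth hz.2 hz.1 hz'.2 hzz)) hw
      have hJ := h.geo.ts_dim h.pair U hU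
      have := Fintype.ofFinite U
      calc Nat.card {z : Wsub Q v v₁ // z ≠ 0 ∧ Q (z : V) = 0 ∧ z ∈ ann ρ v v₁ ω' ∧ ann ρ v v₁ ω' ≠ ⊤}
          ≤ Nat.card {u : U // u ≠ 0} :=
            Nat.card_le_card_of_injective
              (fun z => ⟨⟨z.1, Submodule.subset_span ⟨z.2.2.1, z.2.2.2.1⟩⟩,
                fun e => z.2.1 (congrArg Subtype.val e)⟩)
              fun a b e => Subtype.ext (by simpa using e)
        _ ≤ Fintype.card F ^ J - 1 := by
          rw [Nat.card_eq_fintype_card, Fintype.card_subtype_compl, Fintype.card_subtype_eq,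
            Module.card_eq_pow_finrank (K := F) (V := U)]
          exact Nat.sub_le_sub_right (Nat.pow_le_pow_right Fintype.card_pos hJ) 1
    · obtain ⟨-, g, hgy, rfl⟩ := Finset.mem_filter.1 hz
      obtain ⟨G, hG, hG'⟩ := exists_scales_lift g.2
      have hmap : ∀ x ∈ ann ρ v v₁ ω, g • x ∈ ann ρ v v₁ (ρ G ω) := fun x hx => by
        have := ann_scales h.pair hG hx
        rwa [inv_one, one_smul, hG'] at this
      refine ⟨ρ G ω, ?_, fun e => hφ0 ((smul_eq_zero_iff_eq g).1 e), ?_, hmap φ hφ, ?_⟩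
      · rw [← hgy]; exact hmap y hy
      · exact (quad_smul' g φ).trans hs
      · intro htop
        refine hne ((AddSubgroup.eq_top_iff' _).2 fun x => ?_)
        have h1 : hG.mapW x ∈ ann ρ v v₁ (ρ G ω) := htop ▸ AddSubgroup.mem_top _
        have h2 := ann_scales h.pair hG.inv h1
        rw [map_inv, Equiv.Perm.inv_def, Equiv.symm_apply_apply] at h2
        convert h2 using 1
        refine Subtype.ext ?_
        rw [Submodule.coe_smul, Scales.coe_mapW, Scales.coe_mapW, inv_inv, one_smul,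
          inv_smul_smul]
  have h1 := h.cnt_ns_le' hφ0 hs hφ hQy
  have h2 := Nat.mul_le_mul_right (Fintype.card F ^ J - 1) h1
  have := h.num.cC'_orbit
  omega

/-- Without singular vectors everything lies in a line. -/
theorem aniso_line {ω : Ω} {φ y : Wsub Q v v₁} (hno : ∀ z ∈ ann ρ v v₁ ω, Q (z : V) = 0 → z = 0)
    (hφ : φ ∈ ann ρ v v₁ ω) (hφ0 : φ ≠ 0) (hy : y ∈ ann ρ v v₁ ω) : ∃ c : F, c • φ = y := by
  classical
  by_contra hne
  push Not at hne
  have := h.finiteV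
  have := Fintype.ofFinite (Wsub Q v v₁)
  have hQφ : Q (φ : V) ≠ 0 := fun e => hφ0 (hno φ hφ e)
  let S : Finset (Wsub Q v v₁) := Finset.univ.filter fun z =>
    ∃ g : siegelGroup (QW Q v v₁), g • φ = φ ∧ g • y = z
  have hSge := card_stab_orbit_ge h.nondegW h.five_le_W hQφ hne S fun g hg =>
    Finset.mem_filter.2 ⟨Finset.mem_univ _, g, hg, rfl⟩
  rw [h.finrank_W, Nat.card_eq_fintype_card] at hSge
  have hSle : S.card ≤ cnt ρ v v₁ φ * (Fintype.card F ^ 2 - 2) := by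
    refine card_le_cnt_mul h.pair S
      (fun ω z => z ≠ 0 ∧ z ≠ φ ∧ z ∈ ann ρ v v₁ ω ∧
        ∀ x ∈ ann ρ v v₁ ω, Q (x : V) = 0 → x = 0)
      (fun ω ω' e z hz => e ▸ hz) (fun ω' hω' => ?_) fun z hz => ?_
    · by_cases hno' : ∀ x ∈ ann ρ v v₁ ω', Q (x : V) = 0 → x = 0
      · have hsq := card_le_sq (Q := QW Q v v₁) (ann ρ v v₁ ω') hno'
        rw [Nat.card_eq_fintype_card, Fintype.card_subtype] at hsq ⊢
        have : (Finset.univ.filter fun z => z ≠ 0 ∧ z ≠ φ ∧ z ∈ ann ρ v v₁ ω' ∧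
            ∀ x ∈ ann ρ v v₁ ω', Q (x : V) = 0 → x = 0).card ≤
            (((Finset.univ.filter fun z => z ∈ ann ρ v v₁ ω').erase 0).erase φ).card :=
          Finset.card_le_card fun z hz => by
            obtain ⟨-, h1, h2, h3, -⟩ := Finset.mem_filter.1 hz
            simp [h1, h2, h3]
        rw [Finset.card_erase_of_mem (by simp [hφ0, hω']), Finset.card_erase_of_mem (by simp)]
          at this
        omega
      · rw [Nat.card_eq_zero.2 (Or.inl ⟨fun z => hno' z.2.2.2.2⟩)]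
        exact Nat.zero_le _
    · obtain ⟨-, g, hgφ, rfl⟩ := Finset.mem_filter.1 hz
      obtain ⟨G, hG, hG'⟩ := exists_scales_lift g.2
      have hmap : ∀ x ∈ ann ρ v v₁ ω, g • x ∈ ann ρ v v₁ (ρ G ω) := fun x hx => by
        have := ann_scales h.pair hG hx
        rwa [inv_one, one_smul, hG'] at this
      refine ⟨ρ G ω, hgφ ▸ hmap φ hφ, ?_, ?_, hmap y hy, fun x hx hQx => ?_⟩
      · exact fun e => hne 0 (by rw [zero_smul, (smul_eq_zero_iff_eq g).1 e])
      · intro e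
        refine hne 1 ?_
        rw [one_smul]
        exact (MulAction.injective g (e.trans hgφ.symm)).symm
      · have h2 := ann_scales h.pair hG.inv hx
        rw [map_inv, Equiv.Perm.inv_def, Equiv.symm_apply_apply, inv_inv, one_smul] at h2
        have h3 := hno _ h2 (by rw [Scales.coe_mapW, quad_smul', hQx])
        refine Subtype.ext ?_
        have h4 := congrArg Subtype.val h3
        rw [Scales.coe_mapW, Submodule.coe_zero] at h4
        rw [Submodule.coe_zero]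
        exact (smul_eq_zero_iff_eq _).1 h4
  have h1 := h.cnt_ns_le ω hQφ
  have h2 := Nat.mul_le_mul_right (Fintype.card F ^ 2 - 2) h1
  have := h.num.cC_orbit
  omega

/-- The three possibilities for an annihilator. -/
theorem trichotomy (ω : Ω) : ann ρ v v₁ ω = ⊤ ∨
    (∃ s : Wsub Q v v₁, ∀ z ∈ ann ρ v v₁ ω, ∃ c : F, c • s = z) ∨
    ∃ U : Submodule F (Wsub Q v v₁), (∀ w, w ∈ U ↔ w ∈ ann ρ v v₁ ω) ∧
      (∀ w ∈ U, Q (w : V) = 0) ∧ 2 ≤ Module.finrank F U := by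
  by_cases hs : ∃ φ ∈ ann ρ v v₁ ω, φ ≠ 0 ∧ Q (φ : V) = 0
  swap
  · push Not at hs
    right; left
    by_cases hz : ∃ φ ∈ ann ρ v v₁ ω, φ ≠ 0
    · obtain ⟨φ, hφ, hφ0⟩ := hz
      exact ⟨φ, fun z hz => h.aniso_line (fun z hz e => by_contra fun h0 => hs z hz h0 e)
        hφ hφ0 hz⟩
    · push Not at hz
      exact ⟨0, fun z h' => ⟨0, by rw [hz z h', smul_zero]⟩⟩
  obtain ⟨φ, hφ, hφ0, hφs⟩ := hs
  by_cases hline : ∀ z ∈ ann ρ v v₁ ω, ∃ c : F, c • φ = z
  · exact Or.inr (Or.inl ⟨φ, hline⟩)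
  push Not at hline
  obtain ⟨y, hy, hyne⟩ := hline
  by_cases htop : ann ρ v v₁ ω = ⊤
  · exact Or.inl htop
  right; right
  have hsing : ∀ z ∈ ann ρ v v₁ ω, Q (z : V) = 0 := fun z hz => by
    by_contra hQ
    exact htop (h.univ_of_orth_ns hφ0 hφ hφs hz hQ)
  have horth : ∀ z ∈ ann ρ v v₁ ω, ∀ z' ∈ ann ρ v v₁ ω, bil Q (z : V) z' = 0 := fun z hz z' hz' => by
    by_contra hzz
    exact htop (h.univ_of_nonorth hz (hsing z hz) hz' hzz)
  have hsmul : ∀ (c : F), ∀ z ∈ ann ρ v v₁ ω, c • z ∈ ann ρ v v₁ ω := by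
    intro c z hz
    by_cases hz0 : z = 0
    · rw [hz0, smul_zero]; exact zero_mem _
    by_cases hzy : ∀ t : F, t • z ≠ y
    · exact h.smul_mem_of_orth hz (hsing z hz) hy (horth z hz y hy) hzy c
    push Not at hzy
    obtain ⟨t, ht⟩ := hzy
    refine h.smul_mem_of_orth hz (hsing z hz) hφ (horth z hz φ hφ) (fun s hs => ?_) c
    refine hyne (t / s) ?_
    have hs0 : s ≠ 0 := fun e => hφ0 (by rw [← hs, e, zero_smul])
    rw [← hs, smul_smul, div_mul_cancel₀ _ hs0, ht]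
  let U : Submodule F (Wsub Q v v₁) :=
    { (ann ρ v v₁ ω).toAddSubmonoid with
      smul_mem' := fun c x hx => hsmul c x hx }
  refine ⟨U, fun w => Iff.rfl, fun w hw => hsing w hw, ?_⟩
  have hi : LinearIndependent F (![⟨φ, hφ⟩, ⟨y, hy⟩] : Fin 2 → U) := by
    rw [LinearIndependent.pair_iff' (fun e => hφ0 (congrArg Subtype.val e))]
    intro a e
    exact hyne a (congrArg Subtype.val e)
  simpa using hi.fintype_card_le_finrank

/-- If one annihilator is a subspace of dimension at least 2, then all are maximal totally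
singular subspaces, one orbit for each. -/
theorem survivor {ω₀ : Ω} {U : Submodule F (Wsub Q v v₁)}
    (hU : ∀ w, w ∈ U ↔ w ∈ ann ρ v v₁ ω₀) (hUs : ∀ w ∈ U, Q (w : V) = 0)
    (hU2 : 2 ≤ Module.finrank F U) :
    4 ≤ Fintype.card F ∧ ∀ ω, ann ρ v v₁ ω ≠ ⊥ →
      (∃ U : Submodule F (Wsub Q v v₁), (∀ w, w ∈ U ↔ w ∈ ann ρ v v₁ ω) ∧
        (∀ w ∈ U, Q (w : V) = 0) ∧ Module.finrank F U = J) ∧
      ∀ ω', ann ρ v v₁ ω' = ann ρ v v₁ ω → orb ρ v v₁ ω' = orb ρ v v₁ ω := by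
  classical
  have := h.finiteV
  have := Fintype.ofFinite (Wsub Q v v₁)
  obtain ⟨φ, hφU, hφ0⟩ := Submodule.exists_mem_ne_zero_of_ne_bot (p := U) (by
    rintro rfl; simp at hU2)
  have hφs : Q (φ : V) = 0 := hUs φ hφU
  have horthU : ∀ a ∈ U, ∀ b ∈ U, bil Q (a : V) b = 0 := fun a ha b hb => by
    have := hUs _ (add_mem ha hb)
    rwa [Submodule.coe_add, quad_add, hUs a ha, hUs b hb, zero_add, zero_add] at this
  obtain ⟨φ₁, P'⟩ := exists_HP h.nondegW (v := φ) hφs hφ0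
  set j := Module.finrank F U with hj
  have hjJ : j ≤ J := h.geo.ts_dim h.pair U hUs
  -- the images of `U` containing `φ`
  let isImg : Submodule F (Wsub Q v v₁) → Prop := fun U' => φ ∈ U' ∧ Module.finrank F U' = j ∧
    (∀ w ∈ U', Q (w : V) = 0) ∧ ∃ ω, ∀ w, w ∈ U' ↔ w ∈ ann ρ v v₁ ω
  let UU : Finset (Set (Wsub Q v v₁)) := (annOrbs ρ v v₁ φ).image fun O =>
    {z | ∃ ω, orb ρ v v₁ ω = O ∧ z ∈ ann ρ v v₁ ω}
  have hUU : ∀ {ω}, φ ∈ ann ρ v v₁ ω → (ann ρ v v₁ ω : Set (Wsub Q v v₁)) ∈ UU := by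
    intro ω hω
    refine Finset.mem_image.2 ⟨_, mem_annOrbs.2 ⟨ω, rfl, hω⟩, Set.ext fun z => ?_⟩
    exact ⟨fun ⟨x, hx, hz⟩ => ann_eq_of_orb h.pair hx ▸ hz, fun hz => ⟨ω, rfl, hz⟩⟩
  let II : Finset (Set (Wsub Q v v₁)) := UU.filter fun A => ∃ U', isImg U' ∧ A = (U' : Set _)
  let pts : Finset (Wsub (QW Q v v₁) φ φ₁) :=
    Finset.univ.filter fun w => w ≠ 0 ∧ Q ((w : Wsub Q v v₁) : V) = 0
  have hpts : pts.card = n00 := by
    rw [← h.geo.sing_count₂ h.pair P', Nat.card_eq_fintype_card, Fintype.card_subtype]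
  have hcover : pts ⊆ II.biUnion fun A => pts.filter fun w => (w : Wsub Q v v₁) ∈ A := by
    intro x hx
    obtain ⟨-, hx0, hxs⟩ := Finset.mem_filter.1 hx
    obtain ⟨y, hyU, hy⟩ : ∃ y ∈ U, y ∉ Submodule.span F {φ} := by
      by_contra hc
      push Not at hc
      have := Submodule.finrank_mono (R := F) hc
      rw [finrank_span_singleton hφ0] at this
      omega
    let yb : Wsub Q v v₁ := proj (QW Q v v₁) φ φ₁ y
    have hyb : yb ∈ U := by
      have e : bil (QW Q v v₁) φ y = 0 := horthU φ hφU y hyU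
      simp only [yb, proj, e, zero_smul, sub_zero]
      exact sub_mem hyU (U.smul_mem _ hφU)
    have hyb0 : (⟨yb, P'.proj_mem y⟩ : Wsub (QW Q v v₁) φ φ₁) ≠ 0 := fun e => hy (by
      have e' : bil (QW Q v v₁) φ y = 0 := horthU φ hφU y hyU
      have := congrArg Subtype.val e
      simp only [yb, proj, e', zero_smul, sub_zero, Submodule.coe_zero, sub_eq_zero] at this
      exact Submodule.mem_span_singleton.2 ⟨_, this.symm⟩)
    have h3 : 3 ≤ Module.finrank F (Wsub (QW Q v v₁) φ φ₁) := by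
      have := P'.finrank_W; have := h.finrank_W; have := h.num.k_five; omega
    obtain ⟨g, hg, c, hc, hgx⟩ := exists_siegel_line (P'.nondegenerate_QW h.nondegW) h3
      (x := ⟨yb, P'.proj_mem y⟩) (y := x) (hUs _ hyb) hxs hyb0 hx0
    obtain ⟨g₁, hg1, -, hg1w⟩ := HP.exists_lift hg
    obtain ⟨G, hG, hG'⟩ := exists_scales_lift g₁.2
    let U' : Submodule F (Wsub Q v v₁) :=
      U.map ((((g₁ : OQ (QW Q v v₁)) : Wsub Q v v₁ ≃ₗ[F] Wsub Q v v₁)) : _ →ₗ[F] _)
    have hmem' : ∀ w, w ∈ U' ↔ w ∈ ann ρ v v₁ (ρ G ω₀) := by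
      intro w
      constructor
      · rintro ⟨z, hz, rfl⟩
        have := ann_scales h.pair hG ((hU z).1 hz)
        rw [inv_one, one_smul, hG'] at this
        exact this
      · intro hw
        have h2 := ann_scales h.pair hG.inv hw
        rw [map_inv, Equiv.Perm.inv_def, Equiv.symm_apply_apply, inv_inv, one_smul,
          ← hU] at h2
        refine ⟨_, h2, ?_⟩
        show (g₁ : OQ (QW Q v v₁)) • hG.inv.mapW w = w
        rw [← hG']
        exact Subtype.ext (by rw [Scales.coe_mapW, Scales.coe_mapW, smul_inv_smul])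
    have himg : isImg U' := by
      refine ⟨⟨φ, hφU, hg1⟩, ?_, ?_, ρ G ω₀, hmem'⟩
      · exact (LinearEquiv.finrank_map_eq _ U).trans hj.symm
      · rintro w ⟨z, hz, rfl⟩
        exact (quad_smul (g₁ : OQ (QW Q v v₁)) z).trans (hUs z hz)
    have hann : (ann ρ v v₁ (ρ G ω₀) : Set (Wsub Q v v₁)) = (U' : Set _) :=
      Set.ext fun w => (hmem' w).symm
    refine Finset.mem_biUnion.2 ⟨(U' : Set _),
      Finset.mem_filter.2 ⟨hann ▸ hUU ((hmem' φ).1 himg.1), U', himg, rfl⟩,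
      Finset.mem_filter.2 ⟨hx, ?_⟩⟩
    have : c • (x : Wsub Q v v₁) ∈ U' := by
      refine ⟨yb, hyb, ?_⟩
      exact (hg1w ⟨yb, P'.proj_mem y⟩).trans (congrArg Subtype.val hgx)
    simpa [smul_smul, hc] using U'.smul_mem c⁻¹ this
  have hq := h.num.q_two
  have hbound : ∀ A ∈ II, (pts.filter fun w : Wsub (QW Q v v₁) φ φ₁ => (w : Wsub Q v v₁) ∈ A).card ≤
      Fintype.card F ^ (j - 1) - 1 := by
    intro A hA
    obtain ⟨-, U', ⟨hφU', hj', hs', -⟩, rfl⟩ := Finset.mem_filter.1 hA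
    let U'' := U'.comap (Wsub (QW Q v v₁) φ φ₁).subtype
    have := Fintype.ofFinite U''
    have hlt : Module.finrank F U'' + 1 ≤ j := by
      have h1 : Module.finrank F U'' =
          Module.finrank F (U''.map (Wsub (QW Q v v₁) φ φ₁).subtype) :=
        (Submodule.finrank_map_subtype_eq _ _).symm
      have h2 : U''.map (Wsub (QW Q v v₁) φ φ₁).subtype < U' := by
        refine lt_of_le_of_ne (Submodule.map_comap_le _ _) fun e => ?_
        rw [← e] at hφU'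
        obtain ⟨w, -, hw⟩ := hφU'
        have h3 := (mem_Wsub.1 w.2).2
        rw [show ((w : Wsub (QW Q v v₁) φ φ₁) : Wsub Q v v₁) = φ from hw, P'.symm.one] at h3
        exact one_ne_zero h3
      have := Submodule.finrank_lt_finrank_of_lt h2
      omega
    refine le_trans (b := (Finset.univ.filter fun u : U'' => u ≠ 0).card) ?_ ?_
    · refine Finset.card_le_card_of_injOn (fun w => if hw : (w : Wsub Q v v₁) ∈ U'
        then (⟨w, hw⟩ : U'') else 0) (fun w hw => ?_) fun w hw w' hw' e => ?_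
      · obtain ⟨h1, h2⟩ := Finset.mem_filter.1 hw
        have hne := (Finset.mem_filter.1 h1).2.1
        simp only [SetLike.mem_coe] at h2
        simp [h2]
        exact fun e => hne (congrArg Subtype.val e)
      · have h2 : (w : Wsub Q v v₁) ∈ U' := (Finset.mem_filter.1 hw).2
        have h2' : (w' : Wsub Q v v₁) ∈ U' := (Finset.mem_filter.1 hw').2
        simp only [dif_pos h2, dif_pos h2'] at e
        exact congrArg Subtype.val e
    · rw [← Fintype.card_subtype, Fintype.card_subtype_compl, Fintype.card_subtype_eq,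
        Module.card_eq_pow_finrank (K := F) (V := U'')]
      exact Nat.sub_le_sub_right (Nat.pow_le_pow_right (by omega) (by omega)) 1
  have hn00 : n00 ≤ II.card * (Fintype.card F ^ (j - 1) - 1) :=
    hpts ▸ (Finset.card_le_card hcover).trans (Finset.card_biUnion_le_card_mul _ _ _ hbound)
  have hIU : II.card ≤ UU.card := Finset.card_filter_le _ _
  have hUc : UU.card ≤ cnt ρ v v₁ φ := card_annOrbs (ρ := ρ) φ ▸ Finset.card_image_le
  have hcb := h.cnt_sing_le ω₀ hφ0 hφs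
  rcases h.num.ts j hU2 hjJ with hlt | ⟨hq4, hjJ', hlt, hbig⟩
  · exact absurd hn00 (Nat.not_le.2 (lt_of_le_of_lt
      (Nat.mul_le_mul_right _ ((hIU.trans hUc).trans hcb)) hlt))
  have hII : Fintype.card F + 1 ≤ II.card := by
    by_contra hc
    exact absurd hn00 (Nat.not_le.2 (lt_of_le_of_lt
      (Nat.mul_le_mul_right _ (by omega : II.card ≤ Fintype.card F)) hlt))
  simp only [cb, if_pos hq4] at hcb
  have hIIeq : II = UU := Finset.eq_of_subset_of_card_le (Finset.filter_subset _ _) (by omega)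
  have hinj : Set.InjOn (fun O => {z | ∃ ω, orb ρ v v₁ ω = O ∧ z ∈ ann ρ v v₁ ω})
      (annOrbs ρ v v₁ φ : Set (Finset Ω)) := by
    refine Finset.injOn_of_card_image_eq ?_
    show UU.card = _
    rw [card_annOrbs]; omega
  have hc0 : cnt ρ v v₁ φ = Fintype.card F + 1 := by omega
  have key : ∀ ω, φ ∈ ann ρ v v₁ ω → (∃ U : Submodule F (Wsub Q v v₁),
      (∀ w, w ∈ U ↔ w ∈ ann ρ v v₁ ω) ∧ (∀ w ∈ U, Q (w : V) = 0) ∧
        Module.finrank F U = J) ∧
      ∀ ω', ann ρ v v₁ ω' = ann ρ v v₁ ω → orb ρ v v₁ ω' = orb ρ v v₁ ω := by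
    intro ω hω
    refine ⟨?_, fun ω' e => ?_⟩
    · have h1 := hUU hω
      rw [← hIIeq] at h1
      obtain ⟨-, U', ⟨-, h2, h3, -⟩, h4⟩ := Finset.mem_filter.1 h1
      exact ⟨U', fun w => by rw [← SetLike.mem_coe, ← h4]; rfl, h3, h2.trans hjJ'⟩
    · refine hinj (mem_annOrbs.2 ⟨ω', rfl, e ▸ hω⟩) (mem_annOrbs.2 ⟨ω, rfl, hω⟩)
        (Set.ext fun z => ?_)
      constructor
      · rintro ⟨x, hx, hz⟩
        exact ⟨ω, rfl, e ▸ ann_eq_of_orb h.pair hx ▸ hz⟩
      · rintro ⟨x, hx, hz⟩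
        exact ⟨ω', rfl, e.symm ▸ ann_eq_of_orb h.pair hx ▸ hz⟩
  refine ⟨hq4, fun ω hω => ?_⟩
  obtain ⟨φ', hφ', hφ'0, hφ's⟩ : ∃ φ' ∈ ann ρ v v₁ ω, φ' ≠ 0 ∧ Q (φ' : V) = 0 := by
    by_contra hc
    push Not at hc
    obtain ⟨y, hy, hy0⟩ := (AddSubgroup.bot_or_exists_ne_zero _).resolve_left hω
    have hQy : Q (y : V) ≠ 0 := hc y hy hy0
    have h1 := h.class_add_le hφ0 hφs hQy
    rw [hc0] at h1
    have h2 : C ≤ cnt ρ v v₁ y * C := Nat.le_mul_of_pos_left C (cnt_pos hy)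
    have h3 := h.lt_cancel (x := (Fintype.card F + 1) * n0 + C + 1) (by
      have := orbs_pos (ρ := ρ) (v := v) (v₁ := v₁) ω; omega) hbig
    omega
  obtain ⟨g, hg, hgφ⟩ := siegel_trans h.nondegW h.five_le_W hφ'0 hφ0 hφ's hφs
  obtain ⟨G, hG, hG'⟩ := exists_scales_lift hg
  have hmap : ∀ x ω, x ∈ ann ρ v v₁ ω → g • x ∈ ann ρ v v₁ (ρ G ω) := fun x ω hx => by
    have := ann_scales h.pair hG hx
    rwa [inv_one, one_smul, hG'] at this
  have hback : ∀ x ω, g • x ∈ ann ρ v v₁ (ρ G ω) → x ∈ ann ρ v v₁ ω := fun x ω hx => by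
    have h2 := ann_scales h.pair hG.inv hx
    rw [map_inv, Equiv.Perm.inv_def, Equiv.symm_apply_apply, inv_inv, one_smul] at h2
    convert h2 using 1
    rw [← hG']
    exact Subtype.ext (by rw [Scales.coe_mapW, Scales.coe_mapW, inv_smul_smul])
  obtain ⟨⟨U', hU', hU's, hU'J⟩, huniq⟩ := key (ρ G ω) (hgφ ▸ hmap φ' ω hφ')
  refine ⟨⟨U'.comap (((g : Wsub Q v v₁ ≃ₗ[F] Wsub Q v v₁)) : _ →ₗ[F] _), fun w => ?_,
    fun w hw => ?_, ?_⟩, fun ω' e => ?_⟩
  · show g • w ∈ U' ↔ _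
    rw [hU']
    exact ⟨hback w ω, hmap w ω⟩
  · rw [← QW_apply, ← quad_smul g w, QW_apply]
    exact hU's _ hw
  · rw [Submodule.comap_equiv_eq_map_symm, LinearEquiv.finrank_map_eq, hU'J]
  · have e' : ann ρ v v₁ (ρ G ω') = ann ρ v v₁ (ρ G ω) := by
      ext x
      obtain ⟨z, rfl⟩ : ∃ z, x = g • z := ⟨g⁻¹ • x, (smul_inv_smul _ _).symm⟩
      exact ⟨fun hx => hmap z ω (e ▸ hback z ω' hx), fun hx => hmap z ω' (e ▸ hback z ω hx)⟩
    have h2 := congrArg (Finset.image (ρ G⁻¹)) (huniq _ e')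
    rwa [orb_image h.pair hG.inv, orb_image h.pair hG.inv, map_inv, Equiv.Perm.inv_def,
      Equiv.symm_apply_apply, Equiv.symm_apply_apply] at h2

end Ctx

end Cfsg.Agent.MinDeg.Orth
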