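import Cfsg.Agent.Lib.MinDeg.SympF2Main
import Cfsg.Agent.Lib.ClassicalSimple.SympMatrix

/-!
The minimal index of a proper subgroup of `Sp_2m(2)`: the bound of `SympF2Main` is attained by the
stabiliser of a quadratic form of minus type.
-/

set_option autoImplicit false

namespace Cfsg.Agent.MinDeg.SympF2

open Cfsg.Agent.ClassicalSimple
open scoped Pointwise

variable {F : Type*} [Field F] [Fintype F] {V : Type*} [AddCommGroup V] [Module F V]
  [FiniteDimensional F V] {B : LinearMap.BilinForm F V}

/-- A subgroup of index `2 ^ (m - 1) * (2 ^ m - 1)`. -/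
theorem exists_index (hF : Fintype.card F = 2) (hA : LinearMap.IsAlt B) (hN : B.Nondegenerate)
    {m : ℕ} (hdim : Module.finrank F V = 2 * m) (hm : 1 ≤ m) :
    ∃ H : Subgroup (SpB B), H.index = 2 ^ (m - 1) * (2 ^ m - 1) := by
  classical
  have : Finite V := Module.finite_of_finite F
  have := Fintype.ofFinite V
  have hk : Fintype.card V = 2 ^ m * 2 ^ m := by
    rw [Module.card_eq_pow_finrank (K := F) (V := V), hF, hdim, two_mul, pow_add]
  have hm2 : 2 ^ m = 2 * 2 ^ (m - 1) := by rw [← pow_succ']; congr 1; omega
  -- a form with few zeros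
  obtain ⟨q, hq, hz⟩ : ∃ q : V → F, QF B q ∧ 2 * (zeros q).card + 2 ^ m = 2 ^ m * 2 ^ m := by
    obtain ⟨q, hq⟩ := exists_QF hF hA
    rcases zeros_card hF hA hq hN hk with h | h
    · obtain ⟨u, hu⟩ : ∃ u, q u = 1 := by
        by_contra hc
        push Not at hc
        have hall : ∀ x, q x = 0 := fun x => (two_cases hF _).resolve_right (hc x)
        have : (zeros q).card = Fintype.card V := by
          rw [← Finset.card_univ]
          congr 1
          ext x
          simp [mem_zeros, hall x]
        rw [this, hk] at h
        have h4 : 2 ^ m * 2 ≤ 2 ^ m * 2 ^ m := Nat.mul_le_mul_left _ (Nat.le_self_pow (by omega) 2)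
        have h5 : 1 ≤ 2 ^ m := Nat.one_le_two_pow
        generalize 2 ^ m = a at h h4 h5
        linarith
      refine ⟨fun x => q x + B x u, hq.add_linear u, ?_⟩
      have e : (zeros fun x => q x + B x u).card + (zeros q).card = Fintype.card V := by
        rw [← Finset.card_map (Equiv.addRight u).toEmbedding, ← Finset.card_univ,
          ← Finset.card_union_of_disjoint]
        · congr 1
          ext x
          simp only [Finset.mem_union, Finset.mem_map, mem_zeros, Equiv.coe_toEmbedding,
            Equiv.coe_addRight, Finset.mem_univ, iff_true]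
          rcases two_cases hF (q x) with h0 | h0
          · exact Or.inr h0
          · refine Or.inl ⟨x + u, ?_, ?_⟩
            · rw [hq, map_add, LinearMap.add_apply, hA.self_eq_zero, h0, hu]
              linear_combination add_self hF (B x u) + add_self hF (1 : F)
            · rw [add_assoc, vec_add_self hF, add_zero]
        · rw [Finset.disjoint_left]
          intro x hx hx'
          simp only [Finset.mem_map, mem_zeros, Equiv.coe_toEmbedding, Equiv.coe_addRight] at hx hx'
          obtain ⟨y, hy, rfl⟩ := hx
          rw [hq, hu] at hx'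
          exact one_ne_zero (α := F) (by linear_combination hx' - hy)
      rw [hk] at e
      generalize 2 ^ m = a at *
      omega
    · exact ⟨q, hq, h⟩
  -- the action on functions
  let act : MulAction (SpB B) (V → F) :=
    { smul := fun g f x => f (g⁻¹ • x)
      one_smul := fun f => funext fun x => by
        show f ((1 : SpB B)⁻¹ • x) = f x
        rw [inv_one, one_smul]
      mul_smul := fun g h f => funext fun x => by
        show f ((g * h)⁻¹ • x) = f (h⁻¹ • (g⁻¹ • x))
        rw [mul_inv_rev, mul_smul] }
  have hsm : ∀ (g : SpB B) (f : V → F) (x : V), (g • f) x = f (g⁻¹ • x) := fun _ _ _ => rfl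
  -- the twists of `q` by its zeros
  set E : V → (V → F) := fun w x => q x + B x w with hE
  have hstep : ∀ w, q w = 0 → ∀ u, spTransv hA u (1 : F) • E w ∈ E '' {w | q w = 0} := by
    intro w hw u
    have hinv : (spTransv hA u (1 : F))⁻¹ = spTransv hA u 1 :=
      inv_eq_of_mul_eq_one_left (by rw [spTransv_add, add_self hF, spTransv_zero])
    have e : spTransv hA u (1 : F) • E w = fun x => q x + B x w + B x u * (q u + B u w + 1) := by
      funext x
      rw [hsm, hinv, spTransv_smul, one_mul]
      exact QF.transv hF (hq.add_linear w) x u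
    rw [e]
    rcases two_cases hF (q u + B u w) with h | h
    · refine ⟨w + u, ?_, ?_⟩
      · show q (w + u) = 0
        rw [hq, hw, symm hF hA w u]
        linear_combination h
      · funext x
        simp only [hE, h, map_add]
        ring
    · refine ⟨w, hw, ?_⟩
      funext x
      simp only [hE, h, add_self hF]
      ring
  have horb : MulAction.orbit (SpB B) q = E '' {w | q w = 0} := by
    apply subset_antisymm
    · rintro _ ⟨g, rfl⟩
      have hg : g ∈ spTransvGroup hA := transvGroup_eq_top hA hN ▸ Subgroup.mem_top g
      have key : ∀ k ∈ spTransvGroup hA,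
          k • (E '' {w | q w = 0}) ⊆ E '' {w | q w = 0} := by
        intro k hk
        refine Subgroup.closure_induction ?_ ?_ ?_ ?_ hk
        · rintro _ ⟨⟨u, c⟩, rfl⟩ _ ⟨_, ⟨w, hw, rfl⟩, rfl⟩
          rcases two_cases hF c with rfl | rfl
          · simp only [spTransv_zero, one_smul]; exact ⟨w, hw, rfl⟩
          · exact hstep w hw u
        · rw [one_smul]
        · intro a b _ _ ha hb
          rw [mul_smul]
          exact (Set.smul_set_mono hb).trans ha
        · intro a _ ha
          have hfin : (E '' {w | q w = 0}).Finite := Set.toFinite _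
          have h1 : a • (E '' {w | q w = 0}) = E '' {w | q w = 0} :=
            Set.eq_of_subset_of_ncard_le ha
              (Set.ncard_image_of_injective _ (MulAction.injective a)).ge hfin
          conv_lhs => rw [← h1]
          rw [inv_smul_smul]
      exact key g hg ⟨q, ⟨0, hq.zero, by funext x; simp [hE]⟩, rfl⟩
    · rintro _ ⟨w, hw, rfl⟩
      refine ⟨spTransv hA w 1, funext fun x => ?_⟩
      show q ((spTransv hA w (1 : F))⁻¹ • x) = q x + B x w
      rw [inv_eq_of_mul_eq_one_left (by rw [spTransv_add, add_self hF, spTransv_zero] :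
        spTransv hA w (1 : F) * spTransv hA w 1 = 1), spTransv_smul, one_mul,
        QF.transv hF hq x w, show q w = 0 from hw, zero_add, mul_one]
  refine ⟨MulAction.stabilizer (SpB B) q, ?_⟩
  rw [MulAction.index_stabilizer, horb]
  have hinj : Function.Injective E := fun a b e => by
    refine sub_eq_zero.1 (hN.2 _ fun x => ?_)
    have := congrFun e x
    simp only [hE, add_right_inj] at this
    rw [map_sub, this, sub_self]
  rw [Set.ncard_image_of_injective _ hinj, show {w | q w = 0} = (zeros q : Set V) from
    Set.ext fun x => by simp [mem_zeros], Set.ncard_coe_finset]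
  rw [hm2] at hz ⊢
  obtain ⟨b, hb⟩ : ∃ b, 2 ^ (m - 1) = b + 1 :=
    ⟨2 ^ (m - 1) - 1, (Nat.sub_add_cancel Nat.one_le_two_pow).symm⟩
  rw [hb] at hz ⊢
  rw [show 2 * (b + 1) - 1 = 2 * b + 1 by omega]
  linarith

/-- The minimal index of a proper subgroup of `Sp_2m(2)`. -/
theorem psp_two_min_index {F : Type*} [Field F] [Fintype F] (hF : Fintype.card F = 2) (m : ℕ)
    (hm : 3 ≤ m) :
    (∀ H : Subgroup (Cfsg.PSp m F), H ≠ ⊤ → 2 ^ (m - 1) * (2 ^ m - 1) ≤ H.index) ∧
      ∃ H : Subgroup (Cfsg.PSp m F), H.index = 2 ^ (m - 1) * (2 ^ m - 1) := by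
  classical
  set B := sympBilin m F with hB
  have hA : LinearMap.IsAlt B := sympBilin_isAlt
  have hN : B.Nondegenerate := sympBilin_nondegenerate
  have hdim : Module.finrank F (Fin m ⊕ Fin m → F) = 2 * m := by
    simp [Module.finrank_fintype_fun_eq_card]; omega
  have : Nontrivial (Fin m ⊕ Fin m → F) := nontrivial_symplectic_space (by omega)
  let p : Matrix.symplecticGroup (Fin m) F →* Cfsg.PSp m F :=
    QuotientGroup.mk' (Subgroup.center (Matrix.symplecticGroup (Fin m) F))
  have hp : Function.Surjective p := QuotientGroup.mk'_surjective _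
  let f : SpB B →* Cfsg.PSp m F := p.comp symplecticEquiv.symm.toMonoidHom
  have hf : Function.Surjective f := hp.comp symplecticEquiv.symm.surjective
  refine ⟨fun H hH => ?_, ?_⟩
  · have h1 : H.comap f ≠ ⊤ := fun e => hH (by
      rw [← Subgroup.map_comap_eq_self_of_surjective hf H, e,
        Subgroup.map_top_of_surjective f hf])
    have : Finite (SpB B) :=
      Finite.of_injective (fun g : SpB B => fun x : Fin m ⊕ Fin m → F => g • x)
        fun a b e => SpB.ext' fun x => congrFun e x
    have := Fintype.ofFinite (SpB B ⧸ H.comap f)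
    have h2 : Hyp (MulAction.toPermHom (SpB B) (SpB B ⧸ H.comap f)) m := by
      refine ⟨hF, hA, hN, hdim, hm, ?_⟩
      by_contra hc
      push Not at hc
      refine h1 ((Subgroup.eq_top_iff' _).2 fun g => ?_)
      have := congrArg (fun e : Equiv.Perm (SpB B ⧸ H.comap f) =>
        e ((1 : SpB B) : SpB B ⧸ H.comap f)) (hc g)
      simp only [MulAction.toPermHom_apply, MulAction.toPerm_apply, Equiv.Perm.coe_one, id_eq] at this
      rw [MulAction.Quotient.smul_coe, smul_eq_mul, mul_one, QuotientGroup.eq, mul_one] at this
      exact inv_mem_iff.1 this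
    have h3 := h2.degree_bound
    rw [← Nat.card_eq_fintype_card] at h3
    rw [← Subgroup.index_comap_of_surjective H hf]
    exact h3
  · obtain ⟨S, hS⟩ := exists_index hF hA hN hdim (by omega)
    refine ⟨S.map f, ?_⟩
    have hker : f.ker ≤ S := by
      intro g hg
      have hg' : symplecticEquiv.symm g ∈ Subgroup.center (Matrix.symplecticGroup (Fin m) F) := by
        rw [← QuotientGroup.ker_mk' (Subgroup.center (Matrix.symplecticGroup (Fin m) F))]
        exact hg
      have hgc : g ∈ Subgroup.center (SpB B) := Subgroup.mem_center_iff.2 fun k =>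
        symplecticEquiv.symm.injective (by
          rw [map_mul, map_mul]
          exact Subgroup.mem_center_iff.1 hg' (symplecticEquiv.symm k))
      obtain ⟨a, ha, e⟩ := (mem_center_iff_scalar hA hN g).1 hgc
      have : a = 1 := eq_one_of_ne_zero hF fun h0 => by simp [h0] at ha
      have hg1 : g = 1 := SpB.ext' fun x => by rw [e x, this, one_smul, one_smul]
      rw [hg1]
      exact one_mem S
    rw [Subgroup.index_map, sup_eq_left.2 hker, MonoidHom.range_eq_top.2 hf, Subgroup.index_top,
      mul_one, hS]

end Cfsg.Agent.MinDeg.SympF2
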