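import Cfsg.Agent.Lib.MinDeg.SympF2Radical

/-!
A non-trivial permutation representation of `Sp_2m(2)`, `m ≥ 3`, has degree at least
`2 ^ (m - 1) * (2 ^ m - 1)`.

The characters occurring in the radical of a point are counted. Either some point has a character
that is trivial on the transvection but not on the radical, and then the three kinds of characters
add up to enough points; or every orbit of every radical has at most two points, and then the
zeros of a quadratic form would be a subgroup.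
-/

set_option autoImplicit false

namespace Cfsg.Agent.MinDeg.SympF2

open Cfsg.Agent.ClassicalSimple Cfsg.Agent.MinDeg.Symp

variable {F : Type*} [Field F] [Fintype F] {V : Type*} [AddCommGroup V] [Module F V]
  [FiniteDimensional F V] {B : LinearMap.BilinForm F V} {Ω : Type*}

/-- The standing hypotheses. -/
structure Hyp (ρ : SpB B →* Equiv.Perm Ω) (m : ℕ) : Prop where
  two : Fintype.card F = 2
  alt : LinearMap.IsAlt B
  nondeg : B.Nondegenerate
  dim : Module.finrank F V = 2 * m
  m_three : 3 ≤ m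
  nontriv : ∃ g, ρ g ≠ 1

variable {ρ : SpB B →* Equiv.Perm Ω} {m : ℕ}

/-- No character of the radical is trivial on the transvection and non-trivial on the radical. -/
def Flatless (S : Setup B) (ρ : SpB B →* Equiv.Perm Ω) : Prop :=
  ∀ ω u, ((u, 0) : S.U) ∈ S.ann ρ ω → u = 0

omit [Fintype F] [FiniteDimensional F V] in
theorem T_comm (hA : LinearMap.IsAlt B) {x y : V} (h : B y x = 0) :
    T hA x * T hA y = T hA y * T hA x := by
  have := spTransv_conj hA (T hA x) y 1
  rw [spTransv_smul, h, mul_zero, zero_smul, add_zero] at this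
  exact (eq_mul_inv_iff_mul_eq.1 this.symm).symm

namespace Hyp

variable (H : Hyp ρ m)
include H

omit [FiniteDimensional F V] in
theorem invol (x : V) (a : Ω) : ρ (T H.alt x) (ρ (T H.alt x) a) = a := by
  rw [← Equiv.Perm.mul_apply, ← map_mul, T_sq H.two, map_one]
  rfl

theorem exists_moved {x : V} (hx : x ≠ 0) : ∃ ω, ρ (T H.alt x) ω ≠ ω := by
  by_contra hc
  push Not at hc
  have hx1 : ρ (T H.alt x) = 1 := Equiv.ext hc
  obtain ⟨g, hg⟩ := H.nontriv
  refine hg (MonoidHom.mem_ker.1 (?_ : g ∈ ρ.ker))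
  have htop : spTransvGroup H.alt = ⊤ := transvGroup_eq_top H.alt H.nondeg
  have : spTransvGroup H.alt ≤ ρ.ker := by
    rw [spTransvGroup, Subgroup.closure_le]
    rintro _ ⟨⟨y, c⟩, rfl⟩
    show ρ (spTransv H.alt y c) = 1
    rcases two_cases H.two c with rfl | rfl
    · rw [spTransv_zero, map_one]
    · by_cases hy : y = 0
      · subst hy
        rw [show spTransv H.alt (0 : V) (1 : F) = 1 from SpB.ext' fun z => by simp, map_one]
      · obtain ⟨k, -, hk⟩ := transvGroup_trans_vec H.alt H.nondeg hx hy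
        rw [← hk, ← spTransv_conj H.alt k x 1, map_mul, map_mul, hx1, mul_one, ← map_mul,
          mul_inv_cancel, map_one]
  rw [htop] at this
  exact this (Subgroup.mem_top g)

theorem exists_setup {x : V} (hx : x ≠ 0) : ∃ S : Setup B, S.v = x := by
  obtain ⟨y, hy⟩ := exists_B_ne_zero H.nondeg hx
  have P : B x y = 1 := eq_one_of_ne_zero H.two hy
  have : FiniteDimensional F (Wsp B x y) := inferInstance
  obtain ⟨q, hq⟩ := exists_QF H.two (BW_isAlt H.alt x y)
  exact ⟨⟨H.two, H.alt, H.nondeg, x, y, P, q, hq⟩, rfl⟩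

theorem finrank_Wm (S : Setup B) : Module.finrank F S.Wm = (m - 1) + (m - 1) := by
  have h := finrank_Wsp H.alt S.pair
  have := H.dim
  have := H.m_three
  show Module.finrank F (Wsp B S.v S.v') = _
  omega

theorem card_Wm (S : Setup B) [Fintype S.Wm] :
    Fintype.card S.Wm = 2 ^ (m - 1) * 2 ^ (m - 1) := by
  rw [Module.card_eq_pow_finrank (K := F) (V := S.Wm), H.two, H.finrank_Wm S, pow_add]

/-! ### When all orbits of all radicals are short -/

omit H in
theorem flatless_fix {S : Setup B} (hS : Flatless S ρ) {ω : Ω}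
    (h : ρ (T S.alt S.v) ω = ω) (x : S.U) : ρ (S.rad x) ω = ω := by
  have hbot : ∀ l ∈ S.ann ρ ω, l = 0 := by
    rintro ⟨u, e⟩ hl
    have he : e = 0 := by
      have := (S.mem_ann ρ).1 hl (0, 1) (by rw [S.rad_central]; exact h)
      simpa [Setup.pairing_apply] using this
    subst he
    rw [hS ω u hl]
    rfl
  have hc : Nat.card (S.orb ρ ω) ≤ 1 := by
    rw [S.card_orb ρ ω]
    have : Subsingleton (S.ann ρ ω) :=
      ⟨fun a b => Subtype.ext ((hbot _ a.2).trans (hbot _ b.2).symm)⟩
    exact Finite.card_le_one_iff_subsingleton.2 this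
  have hf : Finite (S.orb ρ ω) := by
    have : Finite S.U := Module.finite_of_finite F
    exact Finite.Set.finite_range _
  exact congrArg Subtype.val ((Finite.card_le_one_iff_subsingleton.1 hc).elim
    (⟨_, x, rfl⟩ : S.orb ρ ω) ⟨ω, S.mem_orb_self ρ ω⟩)

theorem flatless_two {S : Setup B} (hS : Flatless S ρ) {ω : Ω}
    (h : ρ (T S.alt S.v) ω ≠ ω) :
    ∃ u : S.Wm, ∀ x, (ρ (S.rad x) ω = ω ∧ S.pairing x (u, 1) = 0) ∨
      (ρ (S.rad x) ω = ρ (T S.alt S.v) ω ∧ S.pairing x (u, 1) = 1) := by
  classical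
  have : Finite S.U := Module.finite_of_finite F
  have hf : Finite (S.orb ρ ω) := Finite.Set.finite_range _
  have ha : ρ (T S.alt S.v) ω ∈ S.orb ρ ω := ⟨(0, 1), by simp [S.rad_central]⟩
  -- the annihilator has a character that is non-trivial on the transvection
  obtain ⟨u, hu⟩ : ∃ u, ((u, 1) : S.U) ∈ S.ann ρ ω := by
    by_contra hc
    push Not at hc
    have hbot : ∀ l ∈ S.ann ρ ω, l = 0 := by
      rintro ⟨u, e⟩ hl
      rcases two_cases H.two e with rfl | rfl
      · rw [hS ω u hl]; rfl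
      · exact absurd hl (hc u)
    have h1 : Nat.card (S.orb ρ ω) ≤ 1 := by
      rw [S.card_orb ρ ω]
      have : Subsingleton (S.ann ρ ω) :=
        ⟨fun a b => Subtype.ext ((hbot _ a.2).trans (hbot _ b.2).symm)⟩
      exact Finite.card_le_one_iff_subsingleton.2 this
    exact h (congrArg Subtype.val ((Finite.card_le_one_iff_subsingleton.1 h1).elim
      (⟨_, ha⟩ : S.orb ρ ω) ⟨ω, S.mem_orb_self ρ ω⟩))
  have hann : ∀ l ∈ S.ann ρ ω, l = 0 ∨ l = (u, 1) := by
    rintro ⟨w, e⟩ hl
    rcases two_cases H.two e with rfl | rfl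
    · rw [hS ω w hl]; exact Or.inl rfl
    · refine Or.inr ?_
      have h1 : ((w + u, 0) : S.U) ∈ S.ann ρ ω := by
        have := add_mem hl hu
        rwa [Prod.mk_add_mk, add_self H.two] at this
      rw [eq_neg_of_add_eq_zero_left (hS ω _ h1), vec_neg_eq H.two]
  have hc : (S.orb ρ ω).ncard ≤ 2 := by
    rw [← Nat.card_coe_set_eq, S.card_orb ρ ω]
    refine le_trans ?_ ((Finset.card_le_two (a := (0 : S.U)) (b := (u, 1))))
    rw [← Nat.card_eq_finsetCard]
    refine Nat.card_le_card_of_injective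
      (fun l => (⟨l.1, by simpa using hann _ l.2⟩ : ({0, (u, 1)} : Finset S.U)))
      fun a b e => Subtype.ext (Subtype.mk.inj e)
  have horb : ({ω, ρ (T S.alt S.v) ω} : Set Ω) = S.orb ρ ω := by
    refine Set.eq_of_subset_of_ncard_le ?_ (by rw [Set.ncard_pair h.symm]; exact hc)
      (Set.toFinite _)
    rintro a (rfl | rfl)
    · exact S.mem_orb_self ρ _
    · exact ha
  refine ⟨u, fun x => ?_⟩
  have hx : ρ (S.rad x) ω ∈ ({ω, ρ (T S.alt S.v) ω} : Set Ω) := horb ▸ ⟨x, rfl⟩
  rcases hx with e | e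
  · exact Or.inl ⟨e, (S.mem_ann ρ).1 hu x e⟩
  · have e : ρ (S.rad x) ω = ρ (T S.alt S.v) ω := e
    refine Or.inr ⟨e, ?_⟩
    have hz : ρ (S.rad ((0, 1) + x)) ω = ω := by
      rw [S.act_add, e, S.rad_central]
      exact H.invol _ _
    have := (S.mem_ann ρ).1 hu _ hz
    rw [map_add, LinearMap.add_apply] at this
    have h1 : S.pairing (0, 1) (u, 1) = 1 := by simp [Setup.pairing_apply]
    rw [h1] at this
    linear_combination this - add_self H.two (1 : F)

/-- For orthogonal `x, y`. -/
theorem flatless_pair (hS : ∀ S : Setup B, Flatless S ρ) {x y : V} (hx : x ≠ 0) (hy : B x y = 0)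
    (ω : Ω) :
    (ρ (T H.alt x) ω = ω → ρ (T H.alt (x + y)) (ρ (T H.alt y) ω) = ω) ∧
      (ρ (T H.alt (x + y)) (ρ (T H.alt y) ω) = ω ∨
        ρ (T H.alt (x + y)) (ρ (T H.alt y) ω) = ρ (T H.alt x) ω) := by
  obtain ⟨S, rfl⟩ := H.exists_setup hx
  obtain ⟨h1, -, -, -⟩ := W_apply S.alt (prW S.alt S.pair y)
  have e1 : y = (prW S.alt S.pair y : V) + B y S.v' • S.v := by
    rw [coe_prW, pr, B_swap S.alt hy, zero_smul, add_zero, sub_add_cancel]
  have e : rt S.alt S.v y 1 =
      S.rad (prW S.alt S.pair y, 1 + S.q (prW S.alt S.pair y)) := by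
    conv_lhs => rw [e1]
    rw [rt_add_self S.alt h1, Setup.rad]
    congr 1
    show 1 + 2 * B y S.v' = 1 + S.q (prW S.alt S.pair y) + S.q (prW S.alt S.pair y)
    linear_combination add_self H.two (B y S.v') - add_self H.two (S.q (prW S.alt S.pair y))
  have key : ρ (T H.alt (S.v + y)) (ρ (T H.alt y) ω) =
      ρ (S.rad (prW S.alt S.pair y, 1 + S.q (prW S.alt S.pair y))) ω := by
    rw [← e, rt_one_eq H.two, map_mul, Equiv.Perm.mul_apply]
  rw [key]
  refine ⟨fun h => flatless_fix (hS S) h _, ?_⟩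
  by_cases h : ρ (T S.alt S.v) ω = ω
  · exact Or.inl (flatless_fix (hS S) h _)
  · obtain ⟨u, hu⟩ := H.flatless_two (hS S) h
    exact (hu _).imp And.left And.left

/-- The vectors whose transvections fix a point are closed under addition. -/
theorem fixed_add (hS : ∀ S : Setup B, Flatless S ρ) {x y : V} {ω : Ω}
    (hx : ρ (T H.alt x) ω = ω) (hy : ρ (T H.alt y) ω = ω) :
    ρ (T H.alt (x + y)) ω = ω := by
  rcases two_cases H.two (B x y) with h | h
  · by_cases h0 : x = 0
    · rwa [h0, zero_add]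
    · have := (H.flatless_pair hS h0 h ω).1 hx
      rwa [hy] at this
  · have e := spTransv_conj H.alt (T H.alt x) y 1
    rw [spTransv_smul, symm H.two H.alt y x, h, one_mul, one_smul, T_inv H.two, add_comm y] at e
    rw [show T H.alt (x + y) = _ from e.symm, map_mul, map_mul]
    simp [hx, hy]

theorem not_flatless : ∃ S : Setup B, ¬ Flatless S ρ := by
  classical
  by_contra hcon
  push Not at hcon
  have hV : Nontrivial V := Module.nontrivial_of_finrank_pos (R := F)
    (by rw [H.dim]; have := H.m_three; omega)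
  obtain ⟨x, hx⟩ := exists_ne (0 : V)
  obtain ⟨S, rfl⟩ := H.exists_setup hx
  obtain ⟨ω, hω⟩ := H.exists_moved hx
  obtain ⟨u, hu⟩ := H.flatless_two (hcon S) (ω := ω) hω
  have : Finite S.Wm := Module.finite_of_finite F
  have := Fintype.ofFinite S.Wm
  have hN := BW_nondegenerate S.alt S.pair S.nondeg
  have hAW := BW_isAlt S.alt S.v S.v'
  set qu : S.Wm → F := fun w => S.q w + BW B S.v S.v' w u with hqu
  have hquQ : QF (BW B S.v S.v') qu := S.hq.add_linear u
  set a := ρ (T S.alt S.v) ω with ha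
  have hval : ∀ w : S.Wm,
      (qu w = 1 ∧ ρ (T S.alt (S.v + w)) (ρ (T S.alt (w : V)) ω) = ω) ∨
      (qu w = 0 ∧ ρ (T S.alt (S.v + w)) (ρ (T S.alt (w : V)) ω) = a) := by
    intro w
    have e : S.rad (w, 1 + S.q w) = rt S.alt S.v (w : V) 1 := by
      rw [Setup.rad]
      congr 1
      show 1 + S.q w + S.q w = 1
      linear_combination add_self H.two (S.q w)
    have hp : S.pairing (w, 1 + S.q w) (u, 1) = qu w + 1 := by
      simp only [Setup.pairing_apply, hqu, BW_apply]
      ring
    rcases hu (w, 1 + S.q w) with ⟨h1, h2⟩ | ⟨h1, h2⟩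
    · rw [e, rt_one_eq H.two, map_mul, Equiv.Perm.mul_apply] at h1
      rw [hp] at h2
      exact Or.inl ⟨by linear_combination h2 - add_self H.two (1 : F), h1⟩
    · rw [e, rt_one_eq H.two, map_mul, Equiv.Perm.mul_apply] at h1
      rw [hp] at h2
      exact Or.inr ⟨by linear_combination h2, h1⟩
  -- the image of the fixed vectors
  let Z : AddSubgroup S.Wm :=
    { carrier := {w | ρ (T S.alt (w : V)) ω = ω ∨ ρ (T S.alt (S.v + w)) ω = ω}
      zero_mem' := Or.inl (by
        rw [show T S.alt ((0 : S.Wm) : V) = 1 from SpB.ext' fun z => by simp, map_one]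
        rfl)
      add_mem' := fun {w z} hw hz => by
        show ρ (T S.alt ((w + z : S.Wm) : V)) ω = ω ∨
          ρ (T S.alt (S.v + ((w + z : S.Wm) : V))) ω = ω
        rw [Submodule.coe_add]
        rcases hw with hw | hw <;> rcases hz with hz | hz
        · exact Or.inl (H.fixed_add hcon hw hz)
        · refine Or.inr ?_
          have := H.fixed_add hcon hw hz
          rwa [add_left_comm] at this
        · refine Or.inr ?_
          have := H.fixed_add hcon hw hz
          rwa [add_assoc] at this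
        · refine Or.inl ?_
          have := H.fixed_add hcon hw hz
          rwa [add_add_add_comm, vec_add_self H.two, zero_add] at this
      neg_mem' := fun {w} hw => by rw [vec_neg_eq H.two w]; exact hw }
  -- two fixed neighbours would make the vector itself fixed
  have hv : ∀ w : V, ρ (T S.alt (S.v + w)) ω = ω → ρ (T S.alt w) ω = ω → False := by
    intro w h1 h2
    have := H.fixed_add hcon h1 h2
    rw [add_assoc, vec_add_self H.two, add_zero] at this
    exact hω this
  refine zeros_not_subgroup H.two hAW hquQ hN (k := m - 1) (by have := H.m_three; omega)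
    (H.card_Wm S) Z fun z => ⟨fun hz => ?_, fun hz => ?_⟩
  · -- fixed vectors are zeros
    rcases hval z with ⟨-, h1⟩ | ⟨h0, -⟩
    · exfalso
      rcases hz with hz | hz
      · rw [hz] at h1
        exact hv _ h1 hz
      · refine hv _ hz ?_
        have := congrArg (ρ (T S.alt (S.v + z))) h1
        rwa [H.invol, hz] at this
    · exact h0
  · -- zeros are fixed vectors
    by_contra hzZ
    have hz1 : ρ (T S.alt (z : V)) ω ≠ ω := fun h => hzZ (Or.inl h)
    have hz2 : ρ (T S.alt (S.v + z)) ω ≠ ω := fun h => hzZ (Or.inr h)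
    have hz0 : z ≠ 0 := fun h => hzZ (h ▸ Z.zero_mem)
    have hzz : ρ (T S.alt (S.v + z)) (ρ (T S.alt (z : V)) ω) = a := by
      rcases hval z with ⟨h1, -⟩ | ⟨-, h1⟩
      · rw [hz] at h1; exact absurd h1 zero_ne_one
      · exact h1
    -- a vector with value one orthogonal to `z`
    obtain ⟨y, hy1, hy2⟩ : ∃ y, qu y = 1 ∧ BW B S.v S.v' z y = 0 := by
      by_contra hc
      push Not at hc
      let K := (BW B S.v S.v').orthogonal (Submodule.span F {z})
      have hK0 : ∀ y ∈ K, qu y = 0 := fun y hy => (two_cases H.two _).resolve_right fun h =>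
        hc y h (hy z (Submodule.mem_span_singleton_self z))
      have hK : K ≤ (BW B S.v S.v').orthogonal K := fun y hy w hw => by
        have h := hquQ w y
        rw [hK0 _ (add_mem hw hy), hK0 w hw, hK0 y hy] at h
        linear_combination -h
      have h1 := Submodule.finrank_mono hK
      have h2 : Module.finrank F K = Module.finrank F S.Wm - 1 := by
        rw [LinearMap.BilinForm.finrank_orthogonal hN, finrank_span_singleton hz0]
      have h3 := LinearMap.BilinForm.finrank_orthogonal hN K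
      have h4 : Module.finrank F (Wsp B S.v S.v') = _ := H.finrank_Wm S
      have h2 : Module.finrank F K = Module.finrank F (Wsp B S.v S.v') - 1 := h2
      have := H.m_three
      omega
    -- vectors with value one all give the same point
    have hone : ∀ w : S.Wm, qu w = 1 → ρ (T S.alt (w : V)) ω = a := by
      intro w hw
      obtain ⟨-, h1⟩ | ⟨h0, -⟩ := hval w
      swap
      · rw [hw] at h0; exact absurd h0 one_ne_zero
      have h2 : ρ (T S.alt (w : V)) ω = ρ (T S.alt (S.v + w)) ω := by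
        have := congrArg (ρ (T S.alt (S.v + w))) h1
        rwa [H.invol] at this
      have hw0 : (w : V) ≠ 0 := by
        intro h
        have : w = 0 := Subtype.ext h
        rw [this, hquQ.zero] at hw
        exact zero_ne_one hw
      have hmoved : ρ (T S.alt (w : V)) ω ≠ ω := fun h => hv _ (h2 ▸ h) h
      rcases (H.flatless_pair hcon hw0 (W_apply S.alt w).2.2.1 ω).2 with e | e
      · rw [add_comm] at e
        have := congrArg (ρ (T S.alt (S.v + w))) e
        rw [H.invol, ← h2] at this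
        exact this.symm
      · rw [add_comm] at e
        have e : ρ (T S.alt (S.v + w)) a = ρ (T S.alt (w : V)) ω := e
        rw [h2] at e
        exact absurd ((ρ _).injective e) hω
    have hqz : qu (y + z) = 1 := by
      rw [hquQ, hy1, hz, symm H.two hAW y z, hy2]
      ring
    have hy0 : (y : V) ≠ 0 := fun h => by
      have : y = 0 := Subtype.ext h
      rw [this, hquQ.zero] at hy1
      exact zero_ne_one hy1
    have hyz : B (y : V) ((y + z : S.Wm) : V) = 0 := by
      rw [Submodule.coe_add, map_add, H.alt.self_eq_zero, zero_add, symm H.two H.alt,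
        ← BW_apply, hy2]
    have hzy : B (z : V) (y : V) = 0 := hy2
    rcases (H.flatless_pair hcon hy0 hyz ω).2 with e | e
    · rw [hone _ hqz, Submodule.coe_add, ← add_assoc, vec_add_self H.two, zero_add] at e
      -- `T z` exchanges the two points
      have e1 : ρ (T S.alt (z : V)) ω = a := by
        conv_lhs => rw [← e]
        exact H.invol _ _
      rw [e1] at hzz
      refine hz2 ?_
      have hc : B S.v (S.v + z) = 0 := by
        rw [map_add, S.alt.self_eq_zero, zero_add, (W_apply S.alt z).1]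
      have := congrArg (fun g => ρ g ω) (T_comm S.alt (x := S.v + z) (y := S.v) hc)
      simp only [map_mul, Equiv.Perm.mul_apply] at this
      rw [← ha, hzz] at this
      exact ((ρ (T S.alt S.v)).injective this).symm
    · rw [hone _ hqz, hone _ hy1, Submodule.coe_add, ← add_assoc, vec_add_self H.two,
        zero_add] at e
      refine hz1 ?_
      have := congrArg (fun g => ρ g ω) (T_comm S.alt (x := (z : V)) (y := (y : V))
        (by rw [symm H.two H.alt]; exact hzy))
      simp only [map_mul, Equiv.Perm.mul_apply] at this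
      rw [hone _ hy1, e] at this
      -- `T y` maps both `ω` and `T z ω` to the same point
      exact ((ρ (T S.alt (y : V))).injective ((hone _ hy1).trans this)).symm

/-! ### Counting characters -/

variable [Fintype Ω]

theorem degree_ge (S : Setup B) (hS : ¬ Flatless S ρ) :
    2 ^ (m - 1) * (2 ^ m - 1) ≤ Fintype.card Ω := by
  classical
  have : Finite S.Wm := Module.finite_of_finite F
  have := Fintype.ofFinite S.Wm
  let O : Finset (Set Ω) := Finset.univ.image (S.orb ρ)
  let A : Set Ω → Finset S.U := fun o =>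
    Finset.univ.filter fun l => ∃ ω, S.orb ρ ω = o ∧ l ∈ S.ann ρ ω
  have memA : ∀ ω l, l ∈ A (S.orb ρ ω) ↔ l ∈ S.ann ρ ω := fun ω l => by
    simp only [A, Finset.mem_filter, Finset.mem_univ, true_and]
    exact ⟨fun ⟨ω', e, h⟩ => S.ann_eq_of_orb ρ e ▸ h, fun h => ⟨ω, rfl, h⟩⟩
  have memO : ∀ ω, S.orb ρ ω ∈ O := fun ω => Finset.mem_image_of_mem _ (Finset.mem_univ ω)
  have hn : Fintype.card Ω = (O.sigma A).card := by
    rw [Finset.card_sigma, ← Finset.card_univ,
      Finset.card_eq_sum_card_fiberwise (f := S.orb ρ) (t := O) fun ω _ => memO ω]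
    refine Finset.sum_congr rfl fun o ho => ?_
    obtain ⟨ω, -, rfl⟩ := Finset.mem_image.1 ho
    have e1 : (Finset.univ.filter fun a => S.orb ρ a = S.orb ρ ω).card = (S.orb ρ ω).ncard := by
      rw [← Set.ncard_coe_finset]
      congr 1
      ext a
      simp [S.orb_eq_iff ρ]
    have e2 : (A (S.orb ρ ω)).card = Nat.card (S.ann ρ ω) := by
      rw [← Nat.card_eq_finsetCard]
      exact Nat.card_congr (Equiv.subtypeEquivRight fun l => memA ω l)
    rw [e1, e2, ← S.card_orb ρ ω, Nat.card_coe_set_eq]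
  -- the three kinds of pairs
  let P := O.sigma A
  let P0 := P.filter fun p => p.2 = 0
  let P1 := P.filter fun p => p.2.2 = 0 ∧ p.2.1 ≠ 0
  let P2 := P.filter fun p => p.2.2 = 1
  have hsum : P0.card + P1.card + P2.card ≤ Fintype.card Ω := by
    rw [hn]
    have d1 : Disjoint P0 P1 := Finset.disjoint_filter.2 fun p _ h1 h2 => h2.2 (by rw [h1]; rfl)
    have d2 : Disjoint (P0 ∪ P1) P2 := by
      rw [← Finset.filter_or]
      refine Finset.disjoint_filter.2 fun p _ h1 h2 => ?_
      rcases h1 with h1 | h1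
      · rw [h1] at h2; exact zero_ne_one h2
      · rw [h1.1] at h2; exact zero_ne_one h2
    rw [← Finset.card_union_of_disjoint d1, ← Finset.card_union_of_disjoint d2]
    exact Finset.card_le_card (Finset.union_subset
      (Finset.union_subset (Finset.filter_subset _ _) (Finset.filter_subset _ _))
      (Finset.filter_subset _ _))
  have hP0 : O.card ≤ P0.card :=
    Finset.card_le_card_of_injOn (fun o => ⟨o, 0⟩)
      (fun o ho => by
        obtain ⟨ω, -, rfl⟩ := Finset.mem_image.1 ho
        simp [P0, P, memO, memA])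
      (fun a _ b _ e => congrArg Sigma.fst e)
  have hAW := BW_isAlt S.alt S.v S.v'
  have hN := BW_nondegenerate S.alt S.pair S.nondeg
  -- characters that are non-trivial on the transvection
  obtain ⟨u₀, ω₀, hu₀⟩ : ∃ u ω, ((u, 1) : S.U) ∈ S.ann ρ ω := by
    obtain ⟨ω, hω⟩ := H.exists_moved (x := S.v) (ne_zero_left S.pair)
    by_contra hc
    push Not at hc
    refine hω ?_
    have : ((0, 1) : S.U) ∈ S.pairing.orthogonal (S.pairing.orthogonal (S.stab ρ ω)) := by
      rintro ⟨u, e⟩ hl
      rcases two_cases H.two e with rfl | rfl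
      · rw [S.pairing_comm]; simp [Setup.pairing_apply]
      · exact absurd hl (hc u ω)
    rw [LinearMap.BilinForm.orthogonal_orthogonal S.pairing_nondeg
      (fun x y h => (S.pairing_comm y x).trans h), Setup.mem_stab, S.rad_central] at this
    exact this
  set qu : S.Wm → F := fun w => S.q w + BW B S.v S.v' w u₀ with hqu
  have hquQ : QF (BW B S.v S.v') qu := S.hq.add_linear u₀
  have hP2 : (zeros qu).card ≤ P2.card := by
    refine Finset.card_le_card_of_injOn
      (fun s => ⟨S.orb ρ (ρ (T S.alt (s : V)) ω₀), (u₀ + s, 1)⟩) (fun s hs => ?_)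
      fun a _ b _ e => ?_
    · have hs : qu s = 0 := mem_zeros.1 (Finset.mem_coe.1 hs)
      have := S.ann_T ρ s (S.pairing_tU_form s u₀ hs) hu₀
      simp [P2, P, memO, memA, this]
    · exact add_left_cancel (congrArg (fun p => p.2.1) e)
  have hZ := zeros_lb H.two hAW hquQ hN (H.card_Wm S)
  -- the characters trivial on the transvection
  have hflat : ∀ u : S.Wm, u ≠ 0 → ∃ ω, ((u, 0) : S.U) ∈ S.ann ρ ω := by
    simp only [Flatless, not_forall] at hS
    obtain ⟨ω, u, hu, hu0⟩ := hS
    intro w hw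
    exact S.tW_induction (p := fun w => ∃ ω, ((w, 0) : S.U) ∈ S.ann ρ ω)
      (fun s w _ ⟨ω, h⟩ => ⟨_, S.ann_T ρ s (S.pairing_tU_flat s w) h⟩) hu0 hw ⟨ω, hu⟩
  have hWne : (Finset.univ.erase (0 : S.Wm)).card + 1 = 2 ^ (m - 1) * 2 ^ (m - 1) := by
    rw [Finset.card_erase_add_one (Finset.mem_univ _), Finset.card_univ, H.card_Wm S]
  have hK : 4 ≤ 2 ^ (m - 1) :=
    le_trans (by norm_num) (Nat.pow_le_pow_right two_pos (by have := H.m_three; omega : 2 ≤ m - 1))
  have hm : 2 ^ m = 2 * 2 ^ (m - 1) := by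
    rw [← pow_succ']; congr 1; have := H.m_three; omega
  rw [hm, Nat.mul_sub_one, mul_left_comm]
  have hO : 1 ≤ O.card := Finset.card_pos.2 ⟨_, memO ω₀⟩
  generalize 2 ^ (m - 1) = K at *
  by_cases hA : ∃ u : S.Wm, u ≠ 0 ∧ ∃ ω ω', ((u, 0) : S.U) ∈ S.ann ρ ω ∧
      ((u, 0) : S.U) ∈ S.ann ρ ω' ∧ S.orb ρ ω ≠ S.orb ρ ω'
  · -- every such character occurs twice
    obtain ⟨u, hu, hu2⟩ := hA
    have htwo : ∀ w : S.Wm, ∃ ω ω', w ≠ 0 → ((w, 0) : S.U) ∈ S.ann ρ ω ∧
        ((w, 0) : S.U) ∈ S.ann ρ ω' ∧ S.orb ρ ω ≠ S.orb ρ ω' := by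
      intro w
      by_cases hw : w = 0
      · exact ⟨ω₀, ω₀, fun h => absurd hw h⟩
      obtain ⟨ω, ω', h⟩ := S.tW_induction (p := fun w => ∃ ω ω', ((w, 0) : S.U) ∈ S.ann ρ ω ∧
        ((w, 0) : S.U) ∈ S.ann ρ ω' ∧ S.orb ρ ω ≠ S.orb ρ ω')
        (fun s w _ ⟨ω, ω', h1, h2, h3⟩ =>
          ⟨_, _, S.ann_T ρ s (S.pairing_tU_flat s w) h1, S.ann_T ρ s (S.pairing_tU_flat s w) h2,
            fun e => h3 (Set.image_injective.2 (ρ _).injective
              ((S.orb_T ρ s ω).symm.trans (e.trans (S.orb_T ρ s ω'))))⟩)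
        hu hw hu2
      exact ⟨ω, ω', fun _ => h⟩
    choose f g hfg using htwo
    have hP1 : 2 * (Finset.univ.erase (0 : S.Wm)).card ≤ P1.card := by
      rw [mul_comm, ← Fintype.card_bool, ← Finset.card_univ, ← Finset.card_product]
      refine Finset.card_le_card_of_injOn
        (fun p => ⟨S.orb ρ (cond p.2 (f p.1) (g p.1)), (p.1, 0)⟩) (fun p hp => ?_) ?_
      · rcases p with ⟨w, b⟩
        have hw : w ≠ 0 := Finset.ne_of_mem_erase (Finset.mem_product.1 (Finset.mem_coe.1 hp)).1
        obtain ⟨h1, h2, -⟩ := hfg w hw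
        cases b <;> simp [P1, P, memO, memA, h1, h2, hw]
      · rintro ⟨w, b⟩ hp ⟨w', b'⟩ _ e
        have hw : w ≠ 0 := Finset.ne_of_mem_erase (Finset.mem_product.1 (Finset.mem_coe.1 hp)).1
        obtain rfl : w = w' := congrArg (fun p => p.2.1) e
        have e' := congrArg Sigma.fst e
        obtain ⟨-, -, h3⟩ := hfg w hw
        cases b <;> cases b' <;> first | rfl | exact absurd e' h3 | exact absurd e'.symm h3
    omega
  push Not at hA
  have : Nonempty Ω := ⟨ω₀⟩
  choose! f hf using hflat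
  have hfin : ∀ w ω, w ≠ 0 → ((w, 0) : S.U) ∈ S.ann ρ ω → S.orb ρ ω = S.orb ρ (f w) :=
    fun w ω hw h => hA w hw ω (f w) h (hf w hw)
  have hP1 : (Finset.univ.erase (0 : S.Wm)).card ≤ P1.card := by
    refine Finset.card_le_card_of_injOn (fun w => ⟨S.orb ρ (f w), (w, 0)⟩) (fun w hw => ?_)
      fun a _ b _ e => congrArg (fun p => p.2.1) e
    have hw : w ≠ 0 := Finset.ne_of_mem_erase (Finset.mem_coe.1 hw)
    simp [P1, P, memO, memA, hf w hw, hw]
  by_cases hinj : ∃ u₁ u₂ : S.Wm, u₁ ≠ 0 ∧ u₂ ≠ 0 ∧ u₁ ≠ u₂ ∧ S.orb ρ (f u₁) = S.orb ρ (f u₂)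
  swap
  · -- the orbits are many
    push Not at hinj
    have : (Finset.univ.erase (0 : S.Wm)).card ≤ O.card := by
      refine Finset.card_le_card_of_injOn (fun w => S.orb ρ (f w)) (fun w _ => memO _)
        fun a ha b hb e => ?_
      by_contra hne
      exact hinj a b (Finset.ne_of_mem_erase (Finset.mem_coe.1 ha))
        (Finset.ne_of_mem_erase (Finset.mem_coe.1 hb)) hne e
    omega
  obtain ⟨u₁, u₂, hu₁, hu₂, hne, he⟩ := hinj
  set ω := f u₁ with hω
  have hX1 := hf u₁ hu₁
  have hX2 : ((u₂, 0) : S.U) ∈ S.ann ρ ω := by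
    rw [hω, S.ann_eq_of_orb ρ he]; exact hf u₂ hu₂
  -- one orbit carries all these characters
  have hall : ∀ w : S.Wm, ((w, 0) : S.U) ∈ S.ann ρ ω := by
    intro w
    by_cases hw : w = 0
    · rw [hw]; exact (S.ann ρ ω).zero_mem
    refine S.tW_induction (p := fun w => ((w, 0) : S.U) ∈ S.ann ρ ω) (fun s x _ hx => ?_)
      hu₁ hw hX1
    obtain ⟨z, hz, hz0, hzs⟩ : ∃ z : S.Wm, ((z, 0) : S.U) ∈ S.ann ρ ω ∧ z ≠ 0 ∧
        B (z : V) (s : V) = 0 := by
      rcases two_cases H.two (B (u₁ : V) (s : V)) with h1 | h1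
      · exact ⟨u₁, hX1, hu₁, h1⟩
      rcases two_cases H.two (B (u₂ : V) (s : V)) with h2 | h2
      · exact ⟨u₂, hX2, hu₂, h2⟩
      refine ⟨u₁ + u₂, by simpa using add_mem hX1 hX2, fun h => hne ?_, ?_⟩
      · rw [eq_neg_of_add_eq_zero_left h, vec_neg_eq H.two]
      · rw [Submodule.coe_add, map_add, LinearMap.add_apply, h1, h2, add_self H.two]
    have hfix : S.tW s z = z := by rw [Setup.tW, hzs, zero_smul, add_zero]
    have h1 := S.ann_T ρ s (S.pairing_tU_flat s z) hz
    rw [hfix] at h1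
    have h2 : S.orb ρ (ρ (T S.alt (s : V)) ω) = S.orb ρ ω :=
      (hfin z _ hz0 h1).trans (hfin z _ hz0 hz).symm
    rw [← S.ann_eq_of_orb ρ h2]
    exact S.ann_T ρ s (S.pairing_tU_flat s x) hx
  by_cases hfull : ∃ u : S.Wm, ((u, 1) : S.U) ∈ S.ann ρ ω
  · -- a regular orbit
    obtain ⟨u, hu⟩ := hfull
    have htop : ∀ l : S.U, l ∈ S.ann ρ ω := by
      rintro ⟨w, e⟩
      rcases two_cases H.two e with rfl | rfl
      · exact hall w
      · simpa using add_mem (hall (w + -u)) hu
    have h1 : (S.orb ρ ω).ncard = Fintype.card S.U := by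
      rw [← Nat.card_coe_set_eq, S.card_orb ρ ω, ← Nat.card_eq_fintype_card]
      exact Nat.card_congr (Equiv.subtypeUnivEquiv htop)
    have h2 : (S.orb ρ ω).ncard ≤ Fintype.card Ω := by
      rw [← Nat.card_eq_fintype_card, ← Set.ncard_univ]
      exact Set.ncard_le_ncard (Set.subset_univ _)
    rw [h1, Fintype.card_prod, H.two] at h2
    rw [← Finset.card_univ, ← Finset.card_erase_add_one (Finset.mem_univ (0 : S.Wm)), hWne] at h2
    omega
  push Not at hfull
  have hk : P2.card + 1 ≤ O.card := by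
    rw [← Finset.card_erase_add_one (memO ω)]
    refine Nat.add_le_add_right (Finset.card_le_card_of_injOn Sigma.fst (fun p hp => ?_) ?_) 1
    · obtain ⟨hp, h1⟩ := Finset.mem_filter.1 (Finset.mem_coe.1 hp)
      obtain ⟨ho, hl⟩ := Finset.mem_sigma.1 hp
      refine Finset.mem_coe.2 (Finset.mem_erase.2 ⟨fun e => ?_, ho⟩)
      rcases p with ⟨o, u, c⟩
      obtain rfl : c = 1 := h1
      obtain rfl : o = S.orb ρ ω := e
      exact hfull u ((memA ω _).1 hl)
    · rintro ⟨o, u, c⟩ hp ⟨o', u', c'⟩ hp' (rfl : o = o')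
      obtain ⟨hp, h1⟩ := Finset.mem_filter.1 (Finset.mem_coe.1 hp)
      obtain ⟨hp', h1'⟩ := Finset.mem_filter.1 (Finset.mem_coe.1 hp')
      obtain ⟨ho, hl⟩ := Finset.mem_sigma.1 hp
      obtain ⟨-, hl'⟩ := Finset.mem_sigma.1 hp'
      obtain rfl : c = 1 := h1
      obtain rfl : c' = 1 := h1'
      obtain ⟨ω', -, rfl⟩ := Finset.mem_image.1 ho
      rw [memA] at hl hl'
      by_contra hne'
      have huu : u + u' ≠ 0 := fun h => hne' (by
        rw [eq_neg_of_add_eq_zero_left h, vec_neg_eq H.two])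
      have hsum : ((u + u', 0) : S.U) ∈ S.ann ρ ω' := by
        have := add_mem hl hl'
        rwa [Prod.mk_add_mk, add_self H.two] at this
      have e : S.orb ρ ω' = S.orb ρ ω :=
        (hfin _ _ huu hsum).trans (hfin _ _ huu (hall _)).symm
      exact hfull u (S.ann_eq_of_orb ρ e ▸ hl)
  omega

/-- The degree bound. -/
theorem degree_bound : 2 ^ (m - 1) * (2 ^ m - 1) ≤ Fintype.card Ω := by
  obtain ⟨S, hS⟩ := H.not_flatless
  exact H.degree_ge S hS

end Hyp

end Cfsg.Agent.MinDeg.SympF2
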