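import Cfsg.Agent.Lib.MinDeg.SympF2Form

/-!
The radical of a point of a symplectic space over the field with two elements as the elementary
abelian group `W × F`; annihilators of point stabilisers in a permutation representation, and
their behaviour under the transvections of `W`.
-/

set_option autoImplicit false

namespace Cfsg.Agent.MinDeg.SympF2

open Cfsg.Agent.ClassicalSimple Cfsg.Agent.MinDeg.Symp

variable {F : Type*} [Field F] [Fintype F] {V : Type*} [AddCommGroup V] [Module F V]
  {B : LinearMap.BilinForm F V}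

/-- The data: a hyperbolic pair and a quadratic form on its complement. -/
structure Setup (B : LinearMap.BilinForm F V) where
  two : Fintype.card F = 2
  alt : LinearMap.IsAlt B
  nondeg : B.Nondegenerate
  v : V
  v' : V
  pair : B v v' = 1
  q : Wsp B v v' → F
  hq : QF (BW B v v') q

/-- The transvection at a vector. -/
abbrev T (hA : LinearMap.IsAlt B) (x : V) : SpB B := spTransv hA x 1

theorem T_sq (hF : Fintype.card F = 2) (hA : LinearMap.IsAlt B) (x : V) : T hA x * T hA x = 1 := by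
  rw [spTransv_add, add_self hF, spTransv_zero]

theorem T_inv (hF : Fintype.card F = 2) (hA : LinearMap.IsAlt B) (x : V) : (T hA x)⁻¹ = T hA x :=
  inv_eq_of_mul_eq_one_left (T_sq hF hA x)

theorem rt_one_eq (hF : Fintype.card F = 2) (hA : LinearMap.IsAlt B) (x y : V) :
    rt hA x y 1 = T hA (x + y) * T hA y := by
  rw [rt, sub_self, spTransv_zero, mul_one, neg_eq hF]

namespace Setup

variable (S : Setup B)

/-- The complement. -/
abbrev Wm : Submodule F V := Wsp B S.v S.v'

/-- The coordinates of the radical. -/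
abbrev U : Type _ := S.Wm × F

/-- The element of the radical with given coordinates. -/
def rad (x : S.U) : SpB B := rt S.alt S.v (x.1 : V) (x.2 + S.q x.1)

theorem rad_add (x y : S.U) : S.rad (x + y) = S.rad x * S.rad y := by
  rw [rad, rad, rad, rt_mul S.alt (W_apply S.alt x.1).1 (W_apply S.alt y.1).1]
  simp only [Prod.fst_add, Prod.snd_add, Submodule.coe_add]
  congr 1
  rw [S.hq, BW_apply, symm S.two S.alt (y.1 : V) (x.1 : V)]
  ring

theorem rad_zero : S.rad 0 = 1 := by
  have h := S.rad_add 0 0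
  rw [add_zero] at h
  exact left_eq_mul.1 h

theorem rad_comm (x y : S.U) : S.rad x * S.rad y = S.rad y * S.rad x := by
  rw [← rad_add, ← rad_add, add_comm]

theorem rad_central (c : F) : S.rad (0, c) = spTransv S.alt S.v c := by
  rw [rad, QF.zero S.hq, add_zero]
  exact rt_zero S.alt S.v c

/-- The pairing of the coordinates with the characters. -/
def pairing : LinearMap.BilinForm F S.U :=
  LinearMap.mk₂ F (fun x l => B (x.1 : V) (l.1 : V) + l.2 * x.2)
    (fun x y l => by simp; ring) (fun c x l => by simp; ring)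
    (fun x l k => by simp; ring) (fun c x l => by simp; ring)

theorem pairing_apply (x l : S.U) : S.pairing x l = B (x.1 : V) (l.1 : V) + l.2 * x.2 := rfl

theorem pairing_comm (x y : S.U) : S.pairing x y = S.pairing y x := by
  rw [pairing_apply, pairing_apply, symm S.two S.alt (x.1 : V) (y.1 : V), mul_comm]

theorem pairing_nondeg : S.pairing.Nondegenerate := by
  have key : ∀ x : S.U, (∀ y, S.pairing x y = 0) → x = 0 := by
    intro x hx
    have h2 : x.2 = 0 := by simpa [pairing_apply] using hx (0, 1)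
    have h1 : x.1 = 0 := (BW_nondegenerate S.alt S.pair S.nondeg).1 _ fun w => by
      simpa [pairing_apply, BW_apply] using hx (w, 0)
    exact Prod.ext h1 h2
  exact ⟨key, fun y hy => key y fun x => (S.pairing_comm y x).trans (hy x)⟩

variable {Ω : Type*} (ρ : SpB B →* Equiv.Perm Ω)

theorem act_add (x y : S.U) (ω : Ω) : ρ (S.rad (x + y)) ω = ρ (S.rad x) (ρ (S.rad y) ω) := by
  rw [rad_add, map_mul, Equiv.Perm.mul_apply]

/-- The stabiliser of a point in the radical. -/
def stab (ω : Ω) : Submodule F S.U where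
  carrier := {x | ρ (S.rad x) ω = ω}
  zero_mem' := by show ρ (S.rad 0) ω = ω; rw [rad_zero, map_one]; rfl
  add_mem' {x y} hx hy := by
    show ρ (S.rad (x + y)) ω = ω
    rw [act_add, show ρ (S.rad y) ω = ω from hy, show ρ (S.rad x) ω = ω from hx]
  smul_mem' a x hx := by
    rcases two_cases S.two a with rfl | rfl
    · rw [zero_smul]; show ρ (S.rad 0) ω = ω; rw [rad_zero, map_one]; rfl
    · rwa [one_smul]

theorem mem_stab {ω : Ω} {x : S.U} : x ∈ S.stab ρ ω ↔ ρ (S.rad x) ω = ω := Iff.rfl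

/-- The characters vanishing on the stabiliser of a point. -/
def ann (ω : Ω) : Submodule F S.U := S.pairing.orthogonal (S.stab ρ ω)

theorem mem_ann {ω : Ω} {l : S.U} :
    l ∈ S.ann ρ ω ↔ ∀ x, ρ (S.rad x) ω = ω → S.pairing x l = 0 := Iff.rfl

/-- The orbit of a point under the radical. -/
def orb (ω : Ω) : Set Ω := Set.range fun x : S.U => ρ (S.rad x) ω

theorem mem_orb_self (ω : Ω) : ω ∈ S.orb ρ ω := ⟨0, by simp [rad_zero]⟩

theorem stab_act (x : S.U) (ω : Ω) : S.stab ρ (ρ (S.rad x) ω) = S.stab ρ ω := by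
  ext y
  rw [mem_stab, mem_stab, ← act_add, add_comm, act_add]
  exact (ρ (S.rad x)).injective.eq_iff

theorem orb_act (x : S.U) (ω : Ω) : S.orb ρ (ρ (S.rad x) ω) = S.orb ρ ω := by
  ext a
  constructor
  · rintro ⟨y, rfl⟩
    exact ⟨y + x, S.act_add ρ y x ω⟩
  · rintro ⟨y, rfl⟩
    refine ⟨y + x, ?_⟩
    show ρ (S.rad (y + x)) (ρ (S.rad x) ω) = _
    rw [← act_add, add_assoc, vec_add_self S.two x, add_zero]

theorem ann_eq_of_orb {ω ω' : Ω} (h : S.orb ρ ω = S.orb ρ ω') : S.ann ρ ω = S.ann ρ ω' := by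
  have : ω ∈ S.orb ρ ω' := h ▸ S.mem_orb_self ρ ω
  obtain ⟨x, rfl⟩ := this
  rw [ann, ann]
  exact congrArg _ (S.stab_act ρ x ω')

theorem orb_eq_iff {ω a : Ω} : S.orb ρ a = S.orb ρ ω ↔ a ∈ S.orb ρ ω := by
  constructor
  · exact fun h => h ▸ S.mem_orb_self ρ a
  · rintro ⟨x, rfl⟩
    exact S.orb_act ρ x ω

/-- An orbit is as long as its annihilator is large. -/
theorem card_orb [FiniteDimensional F V] (ω : Ω) :
    Nat.card (S.orb ρ ω) = Nat.card (S.ann ρ ω) := by
  classical
  have : Finite S.U := Module.finite_of_finite F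
  let K : AddSubgroup S.U := (S.stab ρ ω).toAddSubgroup
  have hK : ∀ x y, ρ (S.rad x) ω = ρ (S.rad y) ω ↔ -x + y ∈ K := by
    intro x y
    show _ ↔ ρ (S.rad (-x + y)) ω = ω
    rw [vec_neg_eq S.two, act_add]
    constructor
    · intro h
      rw [← h, ← act_add, vec_add_self S.two, rad_zero, map_one]
      rfl
    · intro h
      conv_lhs => rw [← h]
      rw [← act_add, vec_add_self S.two, rad_zero, map_one]
      rfl
  have e : Nat.card (S.orb ρ ω) = Nat.card (S.U ⧸ K) := by
    refine Nat.card_congr (Equiv.ofBijective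
      (Quotient.lift (fun x => (⟨ρ (S.rad x) ω, x, rfl⟩ : S.orb ρ ω))
        fun x y h => Subtype.ext ((hK x y).2 (QuotientAddGroup.leftRel_apply.1 h)))
      ⟨?_, ?_⟩).symm
    · intro a b h
      induction a using Quotient.inductionOn with | _ x => ?_
      induction b using Quotient.inductionOn with | _ y => ?_
      exact Quotient.sound (QuotientAddGroup.leftRel_apply.2
        ((hK x y).1 (congrArg Subtype.val h)))
    · rintro ⟨_, x, rfl⟩
      exact ⟨⟦x⟧, rfl⟩
  have h1 : Nat.card S.U = Nat.card (S.U ⧸ K) * Nat.card (S.stab ρ ω) :=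
    AddSubgroup.card_eq_card_quotient_mul_card_addSubgroup K
  have h2 := LinearMap.BilinForm.finrank_orthogonal S.pairing_nondeg (S.stab ρ ω)
  have h3 := Submodule.finrank_le (S.stab ρ ω)
  rw [e]
  refine Nat.eq_of_mul_eq_mul_right (Nat.card_pos (α := S.stab ρ ω)) ?_
  rw [← h1, ann, Module.natCard_eq_pow_finrank (K := F) (V := S.U),
    Module.natCard_eq_pow_finrank (K := F) (V := S.stab ρ ω),
    Module.natCard_eq_pow_finrank (K := F) (V := S.pairing.orthogonal (S.stab ρ ω)), h2, ← pow_add,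
    Nat.sub_add_cancel h3]

/-! ### Transvections of the complement -/

/-- The transvection of `W`. -/
def tW (s w : S.Wm) : S.Wm := w + B (w : V) (s : V) • s

theorem tW_tW (s w : S.Wm) : S.tW s (S.tW s w) = w := by
  simp only [tW, Submodule.coe_add, Submodule.coe_smul, map_add, map_smul, LinearMap.add_apply,
    LinearMap.smul_apply, S.alt.self_eq_zero, smul_zero, add_zero]
  rw [add_assoc, vec_add_self S.two, add_zero]

theorem T_smul_W (s w : S.Wm) : T S.alt (s : V) • (w : V) = (S.tW s w : V) := by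
  simp [tW]

theorem T_smul_v (s : S.Wm) : T S.alt (s : V) • S.v = S.v := by
  simp [(W_apply S.alt s).1]

/-- The action of a transvection on the coordinates. -/
def tU (s : S.Wm) (x : S.U) : S.U := (S.tW s x.1, x.2 + S.q x.1 + S.q (S.tW s x.1))

theorem rad_tU (s : S.Wm) (x : S.U) :
    T S.alt (s : V) * S.rad x * (T S.alt (s : V))⁻¹ = S.rad (S.tU s x) := by
  rw [rad, rt_conj, T_smul_W, T_smul_v, rad, tU]
  congr 1
  show x.2 + S.q x.1 = x.2 + S.q x.1 + S.q (S.tW s x.1) + S.q (S.tW s x.1)
  rw [add_assoc, add_self S.two, add_zero]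

theorem tU_tU (s : S.Wm) (x : S.U) : S.tU s (S.tU s x) = x := by
  refine Prod.ext (S.tW_tW s x.1) ?_
  show x.2 + S.q x.1 + S.q (S.tW s x.1) + S.q (S.tW s x.1) + S.q (S.tW s (S.tW s x.1)) = x.2
  rw [tW_tW]
  linear_combination add_self S.two (S.q x.1) + add_self S.two (S.q (S.tW s x.1))

theorem act_T (s : S.Wm) (x : S.U) (ω : Ω) :
    ρ (S.rad (S.tU s x)) (ρ (T S.alt (s : V)) ω) = ρ (T S.alt (s : V)) (ρ (S.rad x) ω) := by
  rw [← rad_tU, ← Equiv.Perm.mul_apply, ← map_mul, inv_mul_cancel_right, map_mul,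
    Equiv.Perm.mul_apply]

theorem orb_T (s : S.Wm) (ω : Ω) :
    S.orb ρ (ρ (T S.alt (s : V)) ω) = ρ (T S.alt (s : V)) '' S.orb ρ ω := by
  ext a
  constructor
  · rintro ⟨x, rfl⟩
    refine ⟨ρ (S.rad (S.tU s x)) ω, ⟨_, rfl⟩, ?_⟩
    show _ = ρ (S.rad x) (ρ (T S.alt (s : V)) ω)
    rw [← S.act_T ρ s, tU_tU]
  · rintro ⟨_, ⟨x, rfl⟩, rfl⟩
    exact ⟨S.tU s x, S.act_T ρ s x ω⟩

/-- Annihilators move along with a transvection. -/
theorem ann_T (s : S.Wm) {ω : Ω} {l l' : S.U}
    (hl : ∀ x, S.pairing (S.tU s x) l' = S.pairing x l) (h : l ∈ S.ann ρ ω) :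
    l' ∈ S.ann ρ (ρ (T S.alt (s : V)) ω) := by
  intro y hy
  rw [← S.tU_tU s y, hl]
  refine h _ ?_
  show ρ (S.rad (S.tU s y)) ω = ω
  have this : ρ (S.rad y) (ρ (T S.alt (s : V)) ω) = ρ (T S.alt (s : V)) ω := hy
  rw [← S.tU_tU s y, act_T] at this
  exact (ρ _).injective this

theorem pairing_tU_flat (s u : S.Wm) (x : S.U) :
    S.pairing (S.tU s x) (S.tW s u, 0) = S.pairing x (u, 0) := by
  simp only [pairing_apply, tU, zero_mul, add_zero, ← T_smul_W, form_smul]

theorem pairing_tU_form (s u : S.Wm) (hs : S.q s + B (s : V) (u : V) = 0) (x : S.U) :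
    S.pairing (S.tU s x) (u + s, 1) = S.pairing x (u, 1) := by
  simp only [pairing_apply, tU, tW, one_mul, Submodule.coe_add, Submodule.coe_smul, map_add,
    map_smul, LinearMap.add_apply, LinearMap.smul_apply, S.alt.self_eq_zero, smul_eq_mul]
  have h := QF.transv S.two S.hq x.1 s
  simp only [BW_apply] at h
  rw [h]
  linear_combination B (x.1 : V) (s : V) * hs + add_self S.two (S.q x.1) +
    add_self S.two (B (x.1 : V) (s : V))

/-- Transvections are transitive on non-zero vectors. -/
theorem tW_induction {p : S.Wm → Prop} (h : ∀ s w, w ≠ 0 → p w → p (S.tW s w)) {u w : S.Wm}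
    (hu : u ≠ 0) (hw : w ≠ 0) (hp : p u) : p w := by
  have step : ∀ a b : S.Wm, B (a : V) (b : V) = 1 → p a → p b := by
    intro a b hab ha
    have ha0 : a ≠ 0 := by rintro rfl; simp at hab
    have := h (a + b) a ha0 ha
    rwa [show S.tW (a + b) a = b by
      rw [tW, Submodule.coe_add, map_add, S.alt.self_eq_zero, zero_add, hab, one_smul, ← add_assoc,
        vec_add_self S.two, zero_add]] at this
  obtain ⟨y, h1, h2⟩ := exists_B_ne_ne'
    (BW_nondegenerate S.alt S.pair S.nondeg) hu hw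
  rw [BW_apply] at h1 h2
  refine step y w ?_ (step u y (eq_one_of_ne_zero S.two h1) hp)
  rw [symm S.two S.alt]
  exact eq_one_of_ne_zero S.two h2

end Setup

end Cfsg.Agent.MinDeg.SympF2
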