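import Cfsg.Agent.Lib.MinDeg.SympGeom

/-!
A small transitive action of a symplectic group in which the whole radical of a point fixes
something is trivial: the points with this property at a given `ω` span a totally isotropic
subspace, and such subspaces have too many images.
-/

set_option autoImplicit false

namespace Cfsg.Agent.MinDeg.Symp

open Cfsg.Agent.ClassicalSimple

variable {F V : Type*} [Field F] [AddCommGroup V] [Module F V] {B : LinearMap.BilinForm F V}
  (hA : LinearMap.IsAlt B) {Ω : Type*}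

/-- All elements of the radical of `v` fix `ω`. -/
def Full (ρ : SpB B →* Equiv.Perm Ω) (v : V) (ω : Ω) : Prop :=
  ∀ w c, B v w = 0 → ρ (rt hA v w c) ω = ω

variable {ρ : SpB B →* Equiv.Perm Ω}
include hA

omit hA in
theorem conj_fixed {g x y : SpB B} (e : g * x * g⁻¹ = y) {ω : Ω} (h : ρ x ω = ω) :
    ρ y (ρ g ω) = ρ g ω := by
  rw [← e]
  simp only [map_mul, map_inv, Equiv.Perm.mul_apply, Equiv.Perm.inv_def, Equiv.symm_apply_apply, h]

theorem Full.map {v : V} {ω : Ω} (h : Full hA ρ v ω) (g : SpB B) :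
    Full hA ρ (g • v) (ρ g ω) := by
  intro w c hw
  obtain ⟨w, rfl⟩ : ∃ z, w = g • z := ⟨g⁻¹ • w, (smul_inv_smul g w).symm⟩
  exact conj_fixed (rt_conj hA g v w c) (h w c (by rwa [form_smul] at hw))

theorem Full.zero (ω : Ω) : Full hA ρ (0 : V) ω := fun w c _ => by
  rw [rt_zero_left, map_one]; rfl

theorem Full.scale {v : V} {ω : Ω} (h : Full hA ρ v ω) (a : F) : Full hA ρ (a • v) ω := by
  rcases eq_or_ne a 0 with rfl | ha
  · rw [zero_smul]; exact Full.zero hA ω
  intro w c hw
  rw [map_smul, LinearMap.smul_apply, smul_eq_mul, mul_eq_zero] at hw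
  have hw' := hw.resolve_left ha
  rw [rt_scale hA hw']
  exact h _ _ (by rw [map_smul, hw', smul_zero])

theorem full_star {x y z : V} {ω : Ω} (fx : Full hA ρ x ω) (fy : Full hA ρ y ω)
    (hxy : B x y ≠ 0) (hxz : B x z ≠ 0) : Full hA ρ z ω := by
  set u := (B x y / B x z) • z with hu
  have hxu : B x u = B x y := by
    rw [hu, map_smul, smul_eq_mul, div_mul_cancel₀ _ hxz]
  set w := (B x y)⁻¹ • (y - u) with hw
  have hxw : B x w = 0 := by rw [hw, map_smul, map_sub, hxu, sub_self, smul_zero]
  have e : rt hA x w (B y w / B x y) • y = u := by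
    rw [rt_smul hA hxw, B_neg hA x y, hw]
    match_scalars <;> field_simp <;> ring
  have hF := fy.map hA (rt hA x w (B y w / B x y))
  rw [e, fx _ _ hxw] at hF
  have h := hF.scale hA (B x y / B x z)⁻¹
  rwa [hu, smul_smul, inv_mul_cancel₀ (div_ne_zero hxy hxz), one_smul] at h

variable (hN : B.Nondegenerate) [FiniteDimensional F V]
include hN

theorem fixed_of_transv {ω : Ω} (h : ∀ z c, ρ (spTransv hA z c) ω = ω) (g : SpB B) :
    ρ g ω = ω := by
  have hg : g ∈ spTransvGroup hA := by rw [transvGroup_eq_top hA hN]; trivial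
  unfold spTransvGroup at hg
  induction hg using Subgroup.closure_induction with
  | mem x hx =>
    obtain ⟨⟨z, c⟩, rfl⟩ := hx
    exact h z c
  | one => rw [map_one]; rfl
  | mul x y _ _ hx hy => rw [map_mul, Equiv.Perm.mul_apply, hy, hx]
  | inv x _ hx => rw [map_inv, Equiv.Perm.inv_eq_iff_eq]; exact hx.symm

theorem eq_fixed_of_full_pair {x y : V} {ω : Ω} (fx : Full hA ρ x ω) (fy : Full hA ρ y ω)
    (hxy : B x y ≠ 0) (g : SpB B) : ρ g ω = ω := by
  refine fixed_of_transv hA hN (fun z c => ?_) g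
  suffices Full hA ρ z ω by rw [← rt_zero]; exact this 0 c (map_zero _)
  rcases eq_or_ne z 0 with rfl | hz
  · exact Full.zero hA ω
  have hx : x ≠ 0 := by rintro rfl; simp at hxy
  obtain ⟨u, hu, hu'⟩ := exists_B_ne_ne' hN hx hz
  exact full_star hA (full_star hA fx fy hxy hu) fx (fun e => hu (B_swap hA e))
    (fun e => hu' (B_swap hA e))

omit hN [FiniteDimensional F V] in
/-- A totally isotropic span of pairwise orthogonal vectors. -/
theorem span_orth {S : Set V} (hS : ∀ x ∈ S, ∀ y ∈ S, B x y = 0) {x y : V}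
    (hx : x ∈ Submodule.span F S) (hy : y ∈ Submodule.span F S) : B x y = 0 := by
  have h1 : ∀ a ∈ Submodule.span F S, ∀ z ∈ S, B z a = 0 := fun a ha z hz =>
    (Submodule.span_le.2 fun z' hz' => hS z hz z' hz' :
      Submodule.span F S ≤ LinearMap.ker (B z)) ha
  exact (Submodule.span_le.2 fun z hz => B_swap hA (h1 x hx z hz) :
    Submodule.span F S ≤ LinearMap.ker (B x)) hy

omit hA in
theorem finrank_isotropic {U : Submodule F V} (hU : ∀ x ∈ U, ∀ y ∈ U, B x y = 0) :
    2 * Module.finrank F U ≤ Module.finrank F V := by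
  have hle : U ≤ LinearMap.BilinForm.orthogonal B U := fun x hx y hy => hU y hy x hx
  have h1 := Submodule.finrank_mono hle
  rw [LinearMap.BilinForm.finrank_orthogonal hN U] at h1
  have := Submodule.finrank_le U
  omega

/-! ### Images of a subspace -/

omit hA hN [FiniteDimensional F V] in
/-- The image of a subspace. -/
def imgSub (g : SpB B) (U : Submodule F V) : Submodule F V :=
  U.map ((g : V ≃ₗ[F] V) : V →ₗ[F] V)

omit hA hN [FiniteDimensional F V] in
theorem smul_mem_imgSub {g : SpB B} {U : Submodule F V} {x : V} :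
    g • x ∈ imgSub g U ↔ x ∈ U := by
  constructor
  · rintro ⟨y, hy, e⟩
    exact (MulAction.injective g e : y = x) ▸ hy
  · exact fun hx => ⟨x, hx, rfl⟩

omit hA hN in
theorem finite_submodules [Finite F] : Finite (Submodule F V) := by
  have : Finite V := Module.finite_of_finite F
  exact Finite.of_injective (fun U : Submodule F V => (U : Set V)) SetLike.coe_injective

omit hA hN in
/-- Double counting. -/
theorem incidence_le' {α β : Type*} (S : Finset α) (T : Finset β) (r : α → β → Prop)
    [∀ a b, Decidable (r a b)] {c b : ℕ}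
    (hc : ∀ x ∈ S, c ≤ (T.filter fun U => r x U).card)
    (hb : ∀ U ∈ T, (S.filter fun x => r x U).card ≤ b) : S.card * c ≤ T.card * b :=
  calc S.card * c ≤ ∑ x ∈ S, (T.filter fun U => r x U).card := by
        simpa using Finset.card_nsmul_le_sum S _ c hc
    _ = ∑ U ∈ T, (S.filter fun x => r x U).card :=
        Finset.sum_card_bipartiteAbove_eq_sum_card_bipartiteBelow (fun x U => r x U)
    _ ≤ T.card * b := by simpa using Finset.sum_le_card_nsmul T _ b hb

variable [Fintype F] [Fintype Ω]

omit [Fintype Ω] hA hN in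
theorem natCard_submodule (U : Submodule F V) :
    Nat.card U = Fintype.card F ^ Module.finrank F U := by
  rw [Module.natCard_eq_pow_finrank (K := F) (V := U), Nat.card_eq_fintype_card]

open Classical in
omit [Fintype Ω] hA hN in
theorem card_filter_mem [Fintype V] (U : Submodule F V) :
    (Finset.univ.filter fun x : V => x ∈ U).card = Fintype.card F ^ Module.finrank F U := by
  rw [← natCard_submodule, ← Fintype.card_subtype, Nat.card_eq_fintype_card]

omit hA hN [Fintype F] [Fintype Ω] [FiniteDimensional F V] in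
theorem num_two_images {q a b c : ℕ} (hq : 3 ≤ q) (ha : 1 ≤ a)
    (e : (b + q) * q = (a + q) * (a + q)) (h : b * 2 ≤ c * a) :
    a + q - 1 ≤ (q - 1) * c := by
  obtain ⟨r, rfl⟩ : ∃ r, q = r + 3 := ⟨q - 3, by omega⟩
  by_contra hcon
  have h1 : (r + 2) * c ≤ a + r + 1 := by
    rw [show r + 3 - 1 = r + 2 by omega] at hcon; omega
  have h2 : b * (r + 3) = a * a + 2 * a * (r + 3) := by linarith
  have h3 : (r + 2) * (b * 2) * (r + 3) ≤ (a + r + 1) * a * (r + 3) := by
    refine Nat.mul_le_mul_right _ ((Nat.mul_le_mul_left _ h).trans ?_)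
    rw [← mul_assoc]
    exact Nat.mul_le_mul_right _ h1
  have h4 : a * (2 * (r + 2) * (a + 2 * (r + 3))) ≤ a * ((a + r + 1) * (r + 3)) := by linarith [congrArg (fun z => 2 * (r + 2) * z) h2]
  have h5 := Nat.le_of_mul_le_mul_left h4 ha
  linarith [Nat.zero_le (r * a), Nat.zero_le (r * r)]

/-- In a small transitive action no radical fixes a point. -/
theorem no_full {m : ℕ} (hdim : Module.finrank F V = 2 * m) (hm : 2 ≤ m)
    (hq : 3 ≤ Fintype.card F) (htrans : ∀ a b : Ω, ∃ g, ρ g a = b) [Nontrivial Ω]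
    (hsmall : Fintype.card Ω * (Fintype.card F - 1) < Fintype.card F ^ (2 * m) - 1)
    {v : V} (hv0 : v ≠ 0) {ω : Ω} (hF : Full hA ρ v ω) : False := by
  classical
  have : Finite V := Module.finite_of_finite F
  have := Fintype.ofFinite V
  have := finite_submodules (F := F) (V := V)
  by_cases horth : ∀ x y, Full hA ρ x ω → Full hA ρ y ω → B x y = 0
  swap
  · push Not at horth
    obtain ⟨x, y, fx, fy, hxy⟩ := horth
    obtain ⟨ω', hω'⟩ := exists_ne ω
    obtain ⟨g, hg⟩ := htrans ω ω'
    exact hω' (hg.symm.trans (eq_fixed_of_full_pair hA hN fx fy hxy g))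
  set q := Fintype.card F
  let US : Ω → Submodule F V := fun ω' => Submodule.span F {x | Full hA ρ x ω'}
  have hUS : ∀ (g : SpB B) (ω' : Ω), US (ρ g ω') = imgSub g (US ω') := by
    intro g ω'
    show Submodule.span F _ = Submodule.map _ (Submodule.span F _)
    rw [Submodule.map_span]
    congr 1
    ext x
    constructor
    · intro hx
      have := hx.map hA g⁻¹
      rw [map_inv, Equiv.Perm.inv_def, Equiv.symm_apply_apply] at this
      exact ⟨g⁻¹ • x, this, smul_inv_smul g x⟩
    · rintro ⟨y, hy, rfl⟩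
      exact hy.map hA g
  let T : Finset (Submodule F V) := Finset.univ.image US
  have hT : ∀ U' ∈ T, ∀ g : SpB B, imgSub g U' ∈ T := by
    intro U' hU' g
    obtain ⟨ω', -, rfl⟩ := Finset.mem_image.1 hU'
    exact Finset.mem_image.2 ⟨ρ g ω', Finset.mem_univ _, hUS g ω'⟩
  have hTle : T.card ≤ Fintype.card Ω := Finset.card_image_le
  set U := US ω
  have hUT : U ∈ T := Finset.mem_image_of_mem US (Finset.mem_univ ω)
  have hUorth : ∀ x ∈ U, ∀ y ∈ U, B x y = 0 := fun x hx y hy =>
    span_orth hA (fun a ha b hb => horth a b ha hb) hx hy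
  have hvU : v ∈ U := Submodule.subset_span hF
  set j := Module.finrank F U
  have hj : j ≤ m := by
    have := finrank_isotropic hN hUorth
    omega
  have hj1 : 1 ≤ j := by
    have hne : U ≠ ⊥ := fun e => hv0 ((Submodule.mem_bot F).1 (e ▸ hvU))
    exact Submodule.one_le_finrank_iff.2 hne
  have hrank : ∀ U' ∈ T, Module.finrank F U' = j := by
    intro U' hU'
    obtain ⟨ω', -, rfl⟩ := Finset.mem_image.1 hU'
    obtain ⟨g, rfl⟩ := htrans ω ω'
    rw [hUS g ω]
    exact LinearEquiv.finrank_map_eq _ U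
  let Tv := T.filter fun U' => v ∈ U'
  -- incidences with all vectors
  have h1 : (q ^ (2 * m) - 1) * Tv.card ≤ T.card * (q ^ j - 1) := by
    have h := incidence_le' ((Finset.univ : Finset V).erase 0) T (fun x U' => x ∈ U')
      (c := Tv.card) (b := q ^ j - 1) (fun x hx => ?_) fun U' hU' => ?_
    · rwa [Finset.card_erase_of_mem (Finset.mem_univ _), Finset.card_univ,
        Module.card_eq_pow_finrank (K := F) (V := V), hdim] at h
    · obtain ⟨g, -, hg⟩ := transvGroup_trans_vec hA hN hv0 (Finset.mem_erase.1 hx).1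
      refine Finset.card_le_card_of_injOn (imgSub g) (fun U' hU' => ?_) fun a _ b _ e => ?_
      · obtain ⟨h1, h2⟩ := Finset.mem_filter.1 hU'
        exact Finset.mem_filter.2 ⟨hT U' h1 g, hg ▸ smul_mem_imgSub.2 h2⟩
      · exact Submodule.map_injective_of_injective (g : V ≃ₗ[F] V).injective e
    · rw [Finset.filter_erase, Finset.card_erase_of_mem (by simp), card_filter_mem, hrank U' hU']
  suffices hkey : q ^ j - 1 ≤ (q - 1) * Tv.card by
    have hpos : 1 ≤ q ^ j - 1 := by
      have : q ^ 1 ≤ q ^ j := Nat.pow_le_pow_right (by omega) hj1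
      rw [pow_one] at this
      omega
    have h2 : (q ^ (2 * m) - 1) * (q ^ j - 1) ≤ Fintype.card Ω * (q - 1) * (q ^ j - 1) :=
      calc (q ^ (2 * m) - 1) * (q ^ j - 1) ≤ (q ^ (2 * m) - 1) * ((q - 1) * Tv.card) :=
            Nat.mul_le_mul_left _ hkey
        _ = (q - 1) * ((q ^ (2 * m) - 1) * Tv.card) := by ring
        _ ≤ (q - 1) * (Fintype.card Ω * (q ^ j - 1)) :=
            Nat.mul_le_mul_left _ (h1.trans (Nat.mul_le_mul_right _ hTle))
        _ = Fintype.card Ω * (q - 1) * (q ^ j - 1) := by ring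
    have := Nat.le_of_mul_le_mul_right h2 (by omega)
    omega
  have hc1 : 1 ≤ Tv.card := Finset.card_pos.2 ⟨U, Finset.mem_filter.2 ⟨hUT, hvU⟩⟩
  by_cases hj2 : j = 1
  · rw [hj2, pow_one]
    exact Nat.le_mul_of_pos_right _ hc1
  -- a second vector in `U`
  obtain ⟨φ, hφU, hφv⟩ : ∃ φ ∈ U, φ ∉ Submodule.span F {v} := by
    by_contra hc
    push Not at hc
    have := Submodule.finrank_mono (show U ≤ Submodule.span F {v} from hc)
    rw [finrank_span_singleton hv0] at this
    omega
  let Tvw := Tv.filter fun U' => φ ∈ U'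
  have hcvw : 1 ≤ Tvw.card :=
    Finset.card_pos.2 ⟨U, Finset.mem_filter.2 ⟨Finset.mem_filter.2 ⟨hUT, hvU⟩, hφU⟩⟩
  have hi : LinearIndependent F ![v, φ] :=
    (LinearIndependent.pair_iff' hv0).2 fun a e => hφv (Submodule.mem_span_singleton.2 ⟨a, e⟩)
  -- incidences with the vectors orthogonal to `v`
  have h3 : (q ^ (2 * m - 1) - q) * Tvw.card ≤ Tv.card * (q ^ j - q) := by
    let S := (Finset.univ.filter fun x : V => x ∈ LinearMap.ker (B v)) \
      (Finset.univ.filter fun x : V => x ∈ Submodule.span F {v})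
    have hsub : ∀ {U' : Submodule F V}, Submodule.span F {v} ≤ U' →
        (Finset.univ.filter fun x : V => x ∈ Submodule.span F {v}) ⊆
          Finset.univ.filter fun x : V => x ∈ U' :=
      fun h x hx => Finset.mem_filter.2 ⟨Finset.mem_univ _, h (Finset.mem_filter.1 hx).2⟩
    have hker : Module.finrank F (LinearMap.ker (B v)) = 2 * m - 1 := by
      have := LinearMap.finrank_range_add_finrank_ker (B v)
      have hr : LinearMap.range (B v) = ⊤ := by
        refine LinearMap.range_eq_top.2 fun a => ?_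
        obtain ⟨y, hy⟩ := exists_B_ne_zero hN hv0
        exact ⟨(a / B v y) • y, by rw [map_smul, smul_eq_mul, div_mul_cancel₀ _ hy]⟩
      rw [hr, finrank_top, Module.finrank_self] at this
      omega
    have hS : S.card = q ^ (2 * m - 1) - q := by
      rw [Finset.card_sdiff_of_subset (hsub ((Submodule.span_singleton_le_iff_mem _ _).2
        (LinearMap.mem_ker.2 (hA.self_eq_zero v)))), card_filter_mem, card_filter_mem, hker,
        finrank_span_singleton hv0, pow_one]
    rw [← hS]
    refine incidence_le' S Tv (fun x U' => x ∈ U') (fun x hx => ?_) fun U' hU' => ?_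
    · simp only [S, Finset.mem_sdiff, Finset.mem_filter, Finset.mem_univ, true_and,
        LinearMap.mem_ker, Submodule.mem_span_singleton] at hx
      obtain ⟨y, hy, hy1, hy2⟩ := exists_B_ne_ne hN hi
        ((LinearIndependent.pair_iff' hv0).2 fun a e => hx.2 ⟨a, e⟩)
      obtain ⟨g1, -, hg1, hg1'⟩ := exists_transv_map hA hy1
      obtain ⟨g2, -, hg2, hg2'⟩ := exists_transv_map hA (v := y) (w := x)
        (fun e => hy2 (B_swap hA e))
      have hvφ : B v φ = 0 := hUorth v hvU φ hφU
      have e1 : (g2 * g1) • v = v := by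
        rw [mul_smul, hg1' v (by rw [map_sub, hy, hvφ, sub_zero]),
          hg2' v (by rw [map_sub, hx.1, hy, sub_zero])]
      have e2 : (g2 * g1) • φ = x := by rw [mul_smul, hg1, hg2]
      refine Finset.card_le_card_of_injOn (imgSub (g2 * g1)) (fun U' hU' => ?_) fun a _ b _ e => ?_
      · obtain ⟨h1, h2⟩ := Finset.mem_filter.1 hU'
        obtain ⟨h1, h1'⟩ := Finset.mem_filter.1 h1
        exact Finset.mem_filter.2 ⟨Finset.mem_filter.2 ⟨hT U' h1 _, e1 ▸ smul_mem_imgSub.2 h1'⟩,
          e2 ▸ smul_mem_imgSub.2 h2⟩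
      · exact Submodule.map_injective_of_injective (((g2 * g1 : SpB B) : V ≃ₗ[F] V)).injective e
    · obtain ⟨hU'T, hvU'⟩ := Finset.mem_filter.1 hU'
      refine le_trans (Finset.card_le_card
        (t := (Finset.univ.filter fun x : V => x ∈ U') \
          (Finset.univ.filter fun x : V => x ∈ Submodule.span F {v})) fun x hx => ?_) (le_of_eq ?_)
      · obtain ⟨h1, h2⟩ := Finset.mem_filter.1 hx
        exact Finset.mem_sdiff.2 ⟨Finset.mem_filter.2 ⟨Finset.mem_univ _, h2⟩,
          (Finset.mem_sdiff.1 h1).2⟩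
      · rw [Finset.card_sdiff_of_subset (hsub ((Submodule.span_singleton_le_iff_mem _ _).2 hvU')),
          card_filter_mem, card_filter_mem, hrank U' hU'T, finrank_span_singleton hv0, pow_one]
  obtain ⟨k, rfl⟩ : ∃ k, m = k + 2 := ⟨m - 2, by omega⟩
  by_cases hjm : j = k + 2 ∧ 1 ≤ k
  · -- two images through `v` and `φ`
    obtain ⟨hjm, hk⟩ := hjm
    obtain ⟨x, hxU, hx⟩ : ∃ x ∈ U, x ∉ Submodule.span F {v, φ} := by
      by_contra hc
      push Not at hc
      have h1 := Submodule.finrank_mono (show U ≤ Submodule.span F {v, φ} from hc)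
      have h2 : Module.finrank F (Submodule.span F ({v, φ} : Set V)) ≤ 2 := by
        refine (finrank_span_le_card _).trans ?_
        rw [Set.toFinset_insert, Set.toFinset_singleton]
        exact Finset.card_le_two
      omega
    have hi3 : LinearIndependent F ![v, φ, x] := by
      rw [Fintype.linearIndependent_iff]
      intro c hc
      simp only [Fin.sum_univ_three, Matrix.cons_val_zero, Matrix.cons_val_one,
        Matrix.cons_val_two, Matrix.tail_cons, Matrix.head_cons] at hc
      by_cases hc2 : c 2 = 0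
      · rw [hc2, zero_smul, add_zero] at hc
        have := LinearIndependent.pair_iff.1 hi (c 0) (c 1) hc
        simp [Fin.forall_fin_succ, this.1, this.2, hc2]
      · refine (hx ?_).elim
        have e : x = (-(c 2)⁻¹ * c 0) • v + (-(c 2)⁻¹ * c 1) • φ := by
          rw [← sub_eq_zero, ← smul_right_inj hc2, smul_zero, ← hc]
          match_scalars <;> field_simp
        rw [e]
        exact Submodule.mem_span_pair.2 ⟨_, _, rfl⟩
    obtain ⟨u, hu⟩ := exists_eval_eq _ (linearIndependent_B hN hi3) ![0, 0, 1]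
    have u0 : B v u = 0 := hu 0
    have u1 : B φ u = 0 := hu 1
    have u2 : B x u = 1 := hu 2
    set g := spTransv hA u 1
    have hne : imgSub g U ≠ U := by
      intro e
      have hgx : g • x ∈ U := e ▸ smul_mem_imgSub.2 hxU
      have := hUorth x hxU _ hgx
      simp [g, hA.self_eq_zero, u2] at this
    have hcvw2 : 2 ≤ Tvw.card := by
      have hs : {imgSub g U, U} ⊆ Tvw := by
        intro U' hU'
        simp only [Finset.mem_insert, Finset.mem_singleton] at hU'
        rcases hU' with rfl | rfl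
        · have gv : g • v = v := by simp [g, u0]
          have gφ : g • φ = φ := by simp [g, u1]
          exact Finset.mem_filter.2 ⟨Finset.mem_filter.2
            ⟨hT U hUT g, gv ▸ smul_mem_imgSub.2 hvU⟩, gφ ▸ smul_mem_imgSub.2 hφU⟩
        · exact Finset.mem_filter.2 ⟨Finset.mem_filter.2 ⟨hUT, hvU⟩, hφU⟩
      exact (Finset.card_pair hne).ge.trans (Finset.card_le_card hs)
    -- numerical conclusion
    rw [hjm] at h3 ⊢
    have h5 := (Nat.mul_le_mul_left (q ^ (2 * (k + 2) - 1) - q) hcvw2).trans h3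
    have hA1 : q ^ 2 ≤ q ^ (k + 2) := Nat.pow_le_pow_right (by omega) (by omega)
    have hq2 : q + 1 ≤ q ^ 2 := by rw [sq]; nlinarith
    obtain ⟨a, ha⟩ : ∃ a, q ^ (k + 2) = a + q := ⟨q ^ (k + 2) - q, by omega⟩
    have hA2 : q ^ (k + 2) ≤ q ^ (2 * (k + 2) - 1) := Nat.pow_le_pow_right (by omega) (by omega)
    obtain ⟨b, hb⟩ : ∃ b, q ^ (2 * (k + 2) - 1) = b + q :=
      ⟨q ^ (2 * (k + 2) - 1) - q, by omega⟩
    have e1 : (b + q) * q = (a + q) * (a + q) := by
      rw [← ha, ← hb, ← pow_succ, ← pow_add]; congr 1; omega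
    rw [ha, hb, Nat.add_sub_cancel, Nat.add_sub_cancel] at h5
    rw [ha]
    exact num_two_images hq (by omega) e1 h5
  · -- one image suffices
    have hA1 : q ≤ q ^ j := le_self_pow₀ (by omega) (by omega)
    have h4 := Nat.mul_le_mul_left (q ^ (2 * (k + 2) - 1) - q) hcvw
    have h5 := h4.trans h3
    by_contra hcon
    have hlt : (q - 1) * Tv.card < q ^ j - 1 := Nat.lt_of_not_le hcon
    have h6 := Nat.mul_le_mul_left (q - 1) h5
    have h8 := Nat.mul_le_mul_right (q ^ j - q) hlt.le
    have hjk : 2 * j ≤ 2 * (k + 2) - 1 ∨ (j = 2 ∧ k = 0) := by omega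
    rcases hjk with hjk | ⟨hj2', rfl⟩
    · have hpow : q ^ j * q ^ j ≤ q ^ (2 * (k + 2) - 1) := by
        rw [← pow_add]; exact Nat.pow_le_pow_right (by omega) (by omega)
      obtain ⟨a, ha⟩ : ∃ a, q ^ j = a + q := ⟨q ^ j - q, by omega⟩
      obtain ⟨b, hb⟩ : ∃ b, q ^ (2 * (k + 2) - 1) = b + q :=
        ⟨q ^ (2 * (k + 2) - 1) - q, by
          have : q ^ 1 ≤ q ^ (2 * (k + 2) - 1) := Nat.pow_le_pow_right (by omega) (by omega)
          rw [pow_one] at this; omega⟩
      rw [ha, hb] at hpow
      rw [ha] at hlt h8 h6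
      rw [hb] at h6
      simp only [Nat.add_sub_cancel] at h6 h8
      obtain ⟨r, hr⟩ : ∃ r, q = r + 2 := ⟨q - 2, by omega⟩
      rw [hr] at h6 h8 hpow
      simp only [show r + 2 - 1 = r + 1 from rfl, show a + (r + 2) - 1 = a + r + 1 by omega]
        at h6 h8
      nlinarith [Nat.zero_le (r * a), Nat.zero_le (r * b)]
    · rw [hj2'] at hlt h5
      rw [sq] at hlt
      have e : q ^ (2 * (0 + 2) - 1) - q = (q * q - 1) * q := by
        rw [Nat.sub_mul, one_mul, show 2 * (0 + 2) - 1 = 3 from rfl]; ring_nf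
      rw [e, mul_one, sq, show q * q - q = q * (q - 1) by rw [Nat.mul_sub, mul_one]] at h5
      have h9 : (q * q - 1) * q ≤ (q - 1) * Tv.card * q := by
        calc (q * q - 1) * q ≤ Tv.card * (q * (q - 1)) := h5
          _ = (q - 1) * Tv.card * q := by ring
      have := Nat.le_of_mul_le_mul_right h9 (by omega)
      omega

end Cfsg.Agent.MinDeg.Symp
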