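import Cfsg.Agent.Lib.ClassicalSimple.Symp
import Mathlib.LinearAlgebra.BilinearForm.Orthogonal

/-!
Geometry for the minimal degree of the symplectic groups: the elements `rt v w c` of the radical
of a point `v`, the complement `W` of a hyperbolic pair, and the homomorphism from
`F^* × Sp(W)` to `Sp(V)`.
-/

set_option autoImplicit false

namespace Cfsg.Agent.MinDeg.Symp

open Cfsg.Agent.ClassicalSimple

variable {F V : Type*} [Field F] [AddCommGroup V] [Module F V] {B : LinearMap.BilinForm F V}
  (hA : LinearMap.IsAlt B)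

/-- The element `x ↦ x + B(x,v) w + (B(x,w) + c B(x,v)) v`, for `w` orthogonal to `v`, as a product
of transvections. -/
def rt (v w : V) (c : F) : SpB B :=
  spTransv hA (v + w) 1 * spTransv hA v (c - 1) * spTransv hA w (-1)

include hA

theorem B_swap {x y : V} (h : B x y = 0) : B y x = 0 := hA.isRefl x y h

theorem B_neg (x y : V) : B y x = -B x y := (LinearMap.IsAlt.neg hA x y).symm

theorem rt_smul {v w : V} (h : B v w = 0) (c : F) (x : V) :
    rt hA v w c • x = x + B x v • w + (B x w + c * B x v) • v := by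
  have h' : B w v = 0 := B_swap hA h
  simp only [rt, mul_smul, spTransv_smul, map_add, map_smul, LinearMap.add_apply,
    LinearMap.smul_apply, hA.self_eq_zero, h, h', smul_eq_mul, mul_zero, add_zero]
  module

theorem rt_smul_v {v w : V} (h : B v w = 0) (c : F) : rt hA v w c • v = v := by
  simp [rt_smul hA h, hA.self_eq_zero, h]

theorem rt_mul {v w w' : V} (h : B v w = 0) (h' : B v w' = 0) (c c' : F) :
    rt hA v w c * rt hA v w' c' = rt hA v (w + w') (c + c' + B w' w) := by
  refine SpB.ext' fun x => ?_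
  have h1 : B w' v = 0 := B_swap hA h'
  rw [mul_smul, rt_smul hA h', rt_smul hA h, rt_smul hA (by rw [map_add, h, h', add_zero])]
  simp only [map_add, map_smul, LinearMap.add_apply, LinearMap.smul_apply, hA.self_eq_zero, h, h1,
    smul_eq_mul, mul_zero, add_zero]
  module

theorem rt_zero (v : V) (c : F) : rt hA v 0 c = spTransv hA v c := by
  refine SpB.ext' fun x => ?_
  rw [rt_smul hA (map_zero _), spTransv_smul, map_zero, smul_zero, add_zero, zero_add]

theorem rt_zero_left (w : V) (c : F) : rt hA (0 : V) w c = 1 :=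
  SpB.ext' fun x => by simp [rt_smul hA (v := (0 : V)) (w := w) (by simp)]

theorem rt_inv {v w : V} (h : B v w = 0) (c : F) : (rt hA v w c)⁻¹ = rt hA v (-w) (-c) := by
  refine (eq_inv_of_mul_eq_one_left ?_).symm
  rw [rt_mul hA (by simp [h]) h, neg_add_cancel, neg_add_cancel, map_neg, hA.self_eq_zero,
    neg_zero, add_zero, rt_zero, spTransv_zero]

theorem rt_conj (g : SpB B) (v w : V) (c : F) :
    g * rt hA v w c * g⁻¹ = rt hA (g • v) (g • w) c := by
  rw [rt, rt, ← smul_add, ← spTransv_conj hA g, ← spTransv_conj hA g, ← spTransv_conj hA g]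
  group

theorem rt_scale {v w : V} (h : B v w = 0) (a c : F) :
    rt hA (a • v) w c = rt hA v (a • w) (a * a * c) := by
  refine SpB.ext' fun x => ?_
  rw [rt_smul hA (by simp [h]), rt_smul hA (by simp [h])]
  simp only [map_smul, smul_eq_mul]
  module

theorem rt_add_self {v w : V} (h : B v w = 0) (a c : F) :
    rt hA v (w + a • v) c = rt hA v w (c + 2 * a) := by
  refine SpB.ext' fun x => ?_
  rw [rt_smul hA (by simp [h, hA.self_eq_zero]), rt_smul hA h]
  simp only [map_add, map_smul, smul_eq_mul]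
  module

/-! ### The complement of a hyperbolic pair -/

omit hA in
/-- The vectors orthogonal to a pair. -/
def Wsp (B : LinearMap.BilinForm F V) (v v' : V) : Submodule F V :=
  LinearMap.ker (B v) ⊓ LinearMap.ker (B v')

omit hA in
theorem mem_Wsp {v v' x : V} : x ∈ Wsp B v v' ↔ B v x = 0 ∧ B v' x = 0 := by
  simp [Wsp]

omit hA in
/-- The form on the complement. -/
abbrev BW (B : LinearMap.BilinForm F V) (v v' : V) : LinearMap.BilinForm F (Wsp B v v') :=
  LinearMap.BilinForm.restrict B (Wsp B v v')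

theorem BW_isAlt (v v' : V) : LinearMap.IsAlt (BW B v v') := fun x => hA.self_eq_zero (x : V)

omit hA in
theorem BW_apply {v v' : V} (x y : Wsp B v v') : BW B v v' x y = B (x : V) (y : V) := rfl

omit hA in
/-- The component in the complement of a pair. -/
def pr (B : LinearMap.BilinForm F V) (v v' x : V) : V := x - B x v' • v + B x v • v'

variable {v v' : V} (P : B v v' = 1)
include P

theorem one_swap : B v' v = -1 := by rw [B_neg hA v v', P]

omit hA in
theorem ne_zero_left : v ≠ 0 := by rintro rfl; simp at P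

theorem pr_mem (x : V) : pr B v v' x ∈ Wsp B v v' := by
  refine mem_Wsp.2 ⟨?_, ?_⟩
  · simp [pr, P, hA.self_eq_zero, B_neg hA x v]
  · simp [pr, hA.self_eq_zero, one_swap hA P, B_neg hA x v']

/-- The component map to the complement. -/
def prW : V →ₗ[F] Wsp B v v' where
  toFun x := ⟨pr B v v' x, pr_mem hA P x⟩
  map_add' x y := Subtype.ext (by simp [pr, add_smul]; abel)
  map_smul' c x := Subtype.ext (by simp [pr, mul_smul]; module)

omit hA P in
theorem eq_pr (x : V) : x = B x v' • v - B x v • v' + pr B v v' x := by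
  rw [pr]; abel

theorem coe_prW (x : V) : (prW hA P x : V) = pr B v v' x := rfl

omit P in
theorem W_apply (w : Wsp B v v') :
    B v (w : V) = 0 ∧ B v' (w : V) = 0 ∧ B (w : V) v = 0 ∧ B (w : V) v' = 0 := by
  obtain ⟨h1, h2⟩ := mem_Wsp.1 w.2
  exact ⟨h1, h2, B_swap hA h1, B_swap hA h2⟩

theorem prW_coe (w : Wsp B v v') : prW hA P (w : V) = w := by
  obtain ⟨-, -, h3, h4⟩ := W_apply hA w
  exact Subtype.ext (by simp [coe_prW, pr, h3, h4])

theorem prW_v : prW hA P v = 0 :=
  Subtype.ext (by simp [coe_prW, pr, P, hA.self_eq_zero])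

theorem prW_v' : prW hA P v' = 0 :=
  Subtype.ext (by simp [coe_prW, pr, one_swap hA P, hA.self_eq_zero])

theorem BW_nondegenerate (hN : B.Nondegenerate) : (BW B v v').Nondegenerate := by
  have key : ∀ w : Wsp B v v', (∀ y, BW B v v' w y = 0) → w = 0 := by
    intro w hw
    refine Subtype.ext (hN.1 _ fun x => ?_)
    obtain ⟨-, -, h3, h4⟩ := W_apply hA w
    have : B (w : V) (pr B v v' x) = 0 := hw (prW hA P x)
    rw [eq_pr (B := B) (v := v) (v' := v') x]
    simp [h3, h4, this]
  exact ⟨key, fun w hw => key w fun y => B_swap hA (hw y)⟩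

theorem finrank_Wsp [FiniteDimensional F V] :
    Module.finrank F (Wsp B v v') + 2 = Module.finrank F V := by
  let e : V ≃ₗ[F] (F × F) × Wsp B v v' :=
    { toFun := fun x => ((B x v', B x v), prW hA P x)
      invFun := fun p => p.1.1 • v - p.1.2 • v' + (p.2 : V)
      map_add' := fun x y => by simp
      map_smul' := fun c x => by simp
      left_inv := fun x => (eq_pr (B := B) (v := v) (v' := v') x).symm
      right_inv := fun p => by
        obtain ⟨-, -, h3, h4⟩ := W_apply hA p.2
        refine Prod.ext (Prod.ext ?_ ?_) ?_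
        · simp [P, h4, hA.self_eq_zero]
        · simp [one_swap hA P, h3, hA.self_eq_zero]
        · simp [prW_v hA P, prW_v' hA P, prW_coe hA P] }
  rw [e.finrank_eq, Module.finrank_prod, Module.finrank_prod, Module.finrank_self]
  omega

/-- The map `a ⊕ g` on `(F v + F v') ⊕ W`. -/
def blkFun (p : Fˣ × SpB (BW B v v')) (x : V) : V :=
  ((p.1 : F) * B x v') • v - (((p.1⁻¹ : Fˣ) : F) * B x v) • v' + ((p.2 • prW hA P x : Wsp B v v') : V)

theorem blkFun_B (p : Fˣ × SpB (BW B v v')) (x : V) :
    B (blkFun hA P p x) v' = p.1 * B x v' ∧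
      B (blkFun hA P p x) v = ((p.1⁻¹ : Fˣ) : F) * B x v ∧
      prW hA P (blkFun hA P p x) = p.2 • prW hA P x := by
  obtain ⟨-, -, h3, h4⟩ := W_apply hA (p.2 • prW hA P x)
  refine ⟨?_, ?_, ?_⟩
  · simp [blkFun, P, h4, hA.self_eq_zero]
  · simp [blkFun, one_swap hA P, h3, hA.self_eq_zero]
  · simp only [blkFun, map_add, map_sub, map_smul, prW_v hA P, prW_v' hA P, smul_zero, sub_zero,
      zero_add, prW_coe]

theorem blkFun_mul (p r : Fˣ × SpB (BW B v v')) (x : V) :
    blkFun hA P p (blkFun hA P r x) = blkFun hA P (p * r) x := by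
  obtain ⟨h1, h2, h3⟩ := blkFun_B hA P r x
  rw [blkFun, h1, h2, h3, ← mul_smul]
  simp [blkFun, mul_assoc, mul_comm]

theorem blkFun_one (x : V) : blkFun hA P 1 x = x := by
  conv_rhs => rw [eq_pr (B := B) (v := v) (v' := v') x]
  simp [blkFun, coe_prW]

/-- The linear equivalence `a ⊕ g`. -/
def blkEquiv (p : Fˣ × SpB (BW B v v')) : V ≃ₗ[F] V where
  toFun := blkFun hA P p
  invFun := blkFun hA P p⁻¹
  map_add' x y := by
    simp only [blkFun, map_add, LinearMap.add_apply, smul_add, Submodule.coe_add]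
    module
  map_smul' c x := by
    simp only [blkFun, map_smul, LinearMap.smul_apply, smul_eq_mul, RingHom.id_apply,
      smul_comm p.2 c, Submodule.coe_smul]
    module
  left_inv x := by rw [blkFun_mul, inv_mul_cancel, blkFun_one]
  right_inv x := by rw [blkFun_mul, mul_inv_cancel, blkFun_one]

theorem blkEquiv_isom (p : Fˣ × SpB (BW B v v')) :
    blkEquiv hA P p ∈ SpB B := fun x y => by
  show B (blkFun hA P p x) (blkFun hA P p y) = B x y
  have e : B ((p.2 • prW hA P x : Wsp B v v') : V) ((p.2 • prW hA P y : Wsp B v v') : V) =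
      B (pr B v v' x) (pr B v v' y) := form_smul p.2 _ _
  obtain ⟨a1, a2, -, -⟩ := W_apply hA (p.2 • prW hA P y)
  obtain ⟨-, -, b3, b4⟩ := W_apply hA (p.2 • prW hA P x)
  obtain ⟨c1, c2⟩ := mem_Wsp.1 (pr_mem hA P y)
  obtain ⟨-, -, d3, d4⟩ := W_apply hA (prW hA P x)
  rw [coe_prW] at d3 d4
  conv_rhs => rw [eq_pr (B := B) (v := v) (v' := v') x, eq_pr (B := B) (v := v) (v' := v') y]
  simp only [blkFun, map_add, map_sub, map_smul, LinearMap.add_apply, LinearMap.sub_apply,
    LinearMap.smul_apply, P, one_swap hA P, hA.self_eq_zero, a1, a2, b3, b4, c1, c2, d3, d4, e,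
    smul_eq_mul, mul_zero, sub_zero, add_zero, zero_add, mul_one, mul_neg, zero_sub]
  have := p.1.mul_inv
  linear_combination (B x v * B y v' - B x v' * B y v) * this

/-- The embedding of `F^* × Sp(W)`. -/
def blk : Fˣ × SpB (BW B v v') →* SpB B where
  toFun p := ⟨blkEquiv hA P p, blkEquiv_isom hA P p⟩
  map_one' := SpB.ext' fun x => by
    rw [one_smul]; exact blkFun_one hA P x
  map_mul' p r := SpB.ext' fun x => by
    rw [mul_smul]; exact (blkFun_mul hA P p r x).symm

theorem blk_smul (p : Fˣ × SpB (BW B v v')) (x : V) : blk hA P p • x = blkFun hA P p x := rfl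

theorem blk_v (p : Fˣ × SpB (BW B v v')) : blk hA P p • v = (p.1 : F) • v := by
  simp [blk_smul, blkFun, P, hA.self_eq_zero, prW_v hA P]

theorem blk_v' (p : Fˣ × SpB (BW B v v')) : blk hA P p • v' = ((p.1⁻¹ : Fˣ) : F) • v' := by
  simp [blk_smul, blkFun, one_swap hA P, hA.self_eq_zero, prW_v' hA P]

theorem blk_W (p : Fˣ × SpB (BW B v v')) (w : Wsp B v v') :
    blk hA P p • (w : V) = ((p.2 • w : Wsp B v v') : V) := by
  obtain ⟨-, -, h3, h4⟩ := W_apply hA w
  simp [blk_smul, blkFun, h3, h4, prW_coe hA P]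

/-- Conjugation of the radical by `a ⊕ g`. -/
theorem blk_conj_rt (p : Fˣ × SpB (BW B v v')) (w : Wsp B v v') (c : F) :
    blk hA P p * rt hA v w c * (blk hA P p)⁻¹ =
      rt hA v (((p.1 : F) • (p.2 • w) : Wsp B v v') : V) ((p.1 : F) * p.1 * c) := by
  rw [rt_conj, blk_v, blk_W, Submodule.coe_smul,
    rt_scale hA (W_apply hA (p.2 • w)).1]

omit P in
/-- A transvection at a vector of `W` is the one of `W` extended. -/
theorem spTransv_eq_blk {v v' : V} (P : B v v' = 1) (s : Wsp B v v') (c : F) :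
    spTransv hA (s : V) c = blk hA P (1, spTransv (BW_isAlt hA v v') s c) := by
  refine SpB.ext' fun x => ?_
  obtain ⟨h1, h2, h3, h4⟩ := W_apply hA s
  rw [blk_smul, blkFun, spTransv_smul, spTransv_smul]
  conv_lhs => rw [eq_pr (B := B) (v := v) (v' := v') x]
  simp [h1, h2, coe_prW]
  module

end Cfsg.Agent.MinDeg.Symp
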