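import Cfsg.Agent.Lib.MinDeg.SympPoint
import Cfsg.Agent.Lib.ClassicalSimple.SympMatrix

/-!
The minimal index of a proper subgroup of `PSp`: the number of points of the projective space.
-/

set_option autoImplicit false

namespace Cfsg.Agent.MinDeg.Symp

open Cfsg.Agent.ClassicalSimple

variable {F V : Type*} [Field F] [Fintype F] [AddCommGroup V] [Module F V] [FiniteDimensional F V]
  {B : LinearMap.BilinForm F V}

omit [Fintype F] [FiniteDimensional F V] in
/-- The stabiliser of the line of `v`. -/
def lineStab (B : LinearMap.BilinForm F V) (v : V) : Subgroup (SpB B) where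
  carrier := {g | ∃ c : F, c ≠ 0 ∧ g • v = c • v}
  one_mem' := ⟨1, one_ne_zero, by rw [one_smul, one_smul]⟩
  mul_mem' := by
    rintro g h ⟨c, hc, e⟩ ⟨d, hd, e'⟩
    exact ⟨d * c, mul_ne_zero hd hc, by rw [mul_smul, e', smul_comm g, e, smul_smul]⟩
  inv_mem' := by
    rintro g ⟨c, hc, e⟩
    refine ⟨c⁻¹, inv_ne_zero hc, inv_smul_eq_iff.2 ?_⟩
    rw [smul_comm g, e, inv_smul_smul₀ hc]

variable (hA : LinearMap.IsAlt B) (hN : B.Nondegenerate)
include hA hN

/-- The index of the stabiliser of a point times `q - 1` is the number of non-zero vectors. -/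
theorem lineStab_index {v v' : V} (P : B v v' = 1) :
    (lineStab B v).index * (Fintype.card F - 1) = Nat.card V - 1 := by
  classical
  have : Finite V := Module.finite_of_finite F
  let χ : lineStab B v →* Fˣ :=
    MonoidHom.toHomUnits
      { toFun := fun g => B ((g : SpB B) • v) v'
        map_one' := by rw [OneMemClass.coe_one, one_smul]; exact P
        map_mul' := fun g h => by
          obtain ⟨c, -, hc⟩ := g.2
          obtain ⟨d, -, hd⟩ := h.2
          rw [Subgroup.coe_mul, mul_smul, hd, smul_comm (g : SpB B), hc, smul_smul]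
          simp [P, mul_comm] }
  have hχ : ∀ g : lineStab B v, (χ g : F) = B ((g : SpB B) • v) v' := fun g => rfl
  have hrange : χ.range = ⊤ := by
    rw [eq_top_iff]
    rintro u -
    refine ⟨⟨blk hA P (u, 1), u, u.ne_zero, blk_v hA P _⟩, Units.ext ?_⟩
    rw [hχ]
    show B (blk hA P (u, 1) • v) v' = u
    rw [blk_v, map_smul, LinearMap.smul_apply, P, smul_eq_mul, mul_one]
  have hker : χ.ker = (MulAction.stabilizer (SpB B) v).subgroupOf (lineStab B v) := by
    ext g
    rw [MonoidHom.mem_ker, Subgroup.mem_subgroupOf, MulAction.mem_stabilizer_iff]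
    obtain ⟨c, -, hc⟩ := g.2
    constructor
    · intro h
      have h1 : (χ g : F) = 1 := by rw [h]; rfl
      rw [hχ, hc, map_smul, LinearMap.smul_apply, P, smul_eq_mul, mul_one] at h1
      rw [hc, h1, one_smul]
    · intro h
      refine Units.ext ?_
      rw [hχ, h, Units.val_one]
      exact P
  have h1 : χ.ker.index = Fintype.card F - 1 := by
    rw [Subgroup.index_ker, hrange, Subgroup.card_top, Nat.card_units, Nat.card_eq_fintype_card]
  have hle : MulAction.stabilizer (SpB B) v ≤ lineStab B v := fun g hg =>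
    ⟨1, one_ne_zero, by rw [one_smul]; exact hg⟩
  have h2 := Subgroup.relIndex_mul_index hle
  rw [Subgroup.relIndex, ← hker, h1] at h2
  rw [mul_comm, h2, MulAction.index_stabilizer]
  have he : MulAction.orbit (SpB B) v = ({0}ᶜ : Set V) := by
    ext x
    constructor
    · rintro ⟨g, rfl⟩
      exact fun e => ne_zero_left P ((smul_eq_zero_iff_eq g).1 e)
    · intro hx
      obtain ⟨g, -, hg⟩ := transvGroup_trans_vec hA hN (ne_zero_left P) hx
      exact ⟨g, hg⟩
  rw [he, Set.ncard_compl, Set.ncard_singleton]

/-- A proper subgroup of `Sp` has index at least the number of points. -/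
theorem index_bound {m : ℕ} (hdim : Module.finrank F V = 2 * m) (hm : 2 ≤ m)
    (hq : 3 ≤ Fintype.card F) (hexc : ¬(m = 2 ∧ Fintype.card F = 3)) {H : Subgroup (SpB B)}
    (hH : H ≠ ⊤) : Fintype.card F ^ (2 * m) - 1 ≤ H.index * (Fintype.card F - 1) := by
  classical
  have : Finite V := Module.finite_of_finite F
  have : Finite (SpB B) :=
    Finite.of_injective (fun g : SpB B => fun x : V => g • x)
      fun a b e => SpB.ext' fun x => congrFun e x
  have := Fintype.ofFinite (SpB B ⧸ H)
  have : Nontrivial (SpB B ⧸ H) := by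
    rw [← Finite.one_lt_card_iff_nontrivial]
    have h1 : H.index ≠ 1 := fun e => hH (Subgroup.index_eq_one.1 e)
    have h2 : H.index ≠ 0 := Subgroup.index_ne_zero_of_finite
    show 1 < H.index
    omega
  exact degree_bound hA hN hdim hm hq hexc (MulAction.toPermHom (SpB B) (SpB B ⧸ H))
    fun a b => MulAction.exists_smul_eq (SpB B) a b

end Cfsg.Agent.MinDeg.Symp

namespace Cfsg.Agent.MinDeg.Symp

open Cfsg.Agent.ClassicalSimple

/-- The minimal index of a proper subgroup of `PSp`. -/
theorem psp_min_index {F : Type*} [Field F] [Fintype F] {q : ℕ} (hF : Fintype.card F = q) (m : ℕ)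
    (hm : 2 ≤ m) (hq : 3 ≤ q) (hexc : ¬(m = 2 ∧ q = 3)) :
    (∀ H : Subgroup (Cfsg.PSp m F), H ≠ ⊤ → (q ^ (2 * m) - 1) / (q - 1) ≤ H.index) ∧
      ∃ H : Subgroup (Cfsg.PSp m F), H.index = (q ^ (2 * m) - 1) / (q - 1) := by
  classical
  subst hF
  set B := sympBilin m F with hB
  have hA : LinearMap.IsAlt B := sympBilin_isAlt
  have hN : B.Nondegenerate := sympBilin_nondegenerate
  have hdim : Module.finrank F (Fin m ⊕ Fin m → F) = 2 * m := by
    simp [Module.finrank_fintype_fun_eq_card]; omega
  let p : Matrix.symplecticGroup (Fin m) F →* Cfsg.PSp m F :=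
    QuotientGroup.mk' (Subgroup.center (Matrix.symplecticGroup (Fin m) F))
  have hp : Function.Surjective p := QuotientGroup.mk'_surjective _
  let f : SpB B →* Cfsg.PSp m F := p.comp symplecticEquiv.symm.toMonoidHom
  have hf : Function.Surjective f := hp.comp symplecticEquiv.symm.surjective
  refine ⟨fun H hH => ?_, ?_⟩
  · have h1 : H.comap f ≠ ⊤ := fun e => hH (by
      rw [← Subgroup.map_comap_eq_self_of_surjective hf H, e,
        Subgroup.map_top_of_surjective f hf])
    have h2 := index_bound hA hN hdim hm hq hexc h1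
    rw [Subgroup.index_comap_of_surjective H hf] at h2
    exact Nat.div_le_of_le_mul (h2.trans (mul_comm _ _).le)
  · have : Nontrivial (Fin m ⊕ Fin m → F) := nontrivial_symplectic_space (by omega)
    obtain ⟨v, hv⟩ := exists_ne (0 : Fin m ⊕ Fin m → F)
    obtain ⟨y, hy⟩ := exists_B_ne_zero hN hv
    have P : B v ((B v y)⁻¹ • y) = 1 := by rw [map_smul, smul_eq_mul, inv_mul_cancel₀ hy]
    refine ⟨(lineStab B v).map f, ?_⟩
    have hker : f.ker ≤ lineStab B v := by
      intro g hg
      have hg' : symplecticEquiv.symm g ∈ Subgroup.center (Matrix.symplecticGroup (Fin m) F) := by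
        rw [← QuotientGroup.ker_mk' (Subgroup.center (Matrix.symplecticGroup (Fin m) F))]
        exact hg
      have hgc : g ∈ Subgroup.center (SpB B) := Subgroup.mem_center_iff.2 fun k =>
        symplecticEquiv.symm.injective (by
          rw [map_mul, map_mul]
          exact Subgroup.mem_center_iff.1 hg' (symplecticEquiv.symm k))
      obtain ⟨a, ha, e⟩ := (mem_center_iff_scalar hA hN g).1 hgc
      exact ⟨a, fun h0 => by simp [h0] at ha, e v⟩
    rw [Subgroup.index_map, sup_eq_left.2 hker, MonoidHom.range_eq_top.2 hf, Subgroup.index_top,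
      mul_one]
    have h := lineStab_index hA hN P
    rw [Module.natCard_eq_pow_finrank (K := F), hdim, Nat.card_eq_fintype_card] at h
    rw [← h, Nat.mul_div_cancel _ (by omega)]

end Cfsg.Agent.MinDeg.Symp
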