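import Cfsg.Agent.Lib.MinDeg.SympSets

/-!
In a small action of a symplectic group every transvection group fixes a point.
-/

set_option autoImplicit false

namespace Cfsg.Agent.MinDeg.Symp

open Cfsg.Agent.ClassicalSimple

variable {F V : Type*} [Field F] [Fintype F] [AddCommGroup V] [Module F V] [FiniteDimensional F V]
  {B : LinearMap.BilinForm F V} {Ω : Type*}

/-- The standing hypotheses: a small non-trivial transitive action. -/
structure Hyp (ρ : SpB B →* Equiv.Perm Ω) (m : ℕ) : Prop where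
  alt : LinearMap.IsAlt B
  nondeg : B.Nondegenerate
  dim : Module.finrank F V = 2 * m
  m_two : 2 ≤ m
  q_three : 3 ≤ Fintype.card F
  exc : ¬(m = 2 ∧ Fintype.card F = 3)
  trans : ∀ a b : Ω, ∃ g, ρ g a = b
  nontriv : Nontrivial Ω
  small : Nat.card Ω * (Fintype.card F - 1) < Fintype.card F ^ (2 * m) - 1

omit [FiniteDimensional F V] in
theorem smul_closed_of_three (h3 : Fintype.card F = 3) {M : Type*} [AddCommGroup M] [Module F M]
    (S : AddSubgroup M) (a : F) {z : M} (hz : z ∈ S) : a • z ∈ S := by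
  classical
  have h2 : (-1 : F) ≠ 1 := fun h => by
    have h20 : (2 : F) = 0 := by linear_combination -h
    have h30 : (3 : F) = 0 := by
      have := FiniteField.cast_card_eq_zero F
      rwa [h3] at this
    exact one_ne_zero (by linear_combination h30 - h20 : (1 : F) = 0)
  have hall : ({0, 1, -1} : Finset F) = Finset.univ := by
    refine Finset.eq_univ_of_card _ ?_
    rw [Finset.card_insert_of_notMem (by simp), Finset.card_pair (fun h => h2 h.symm), h3]
  have ha : a ∈ ({0, 1, -1} : Finset F) := hall ▸ Finset.mem_univ a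
  simp only [Finset.mem_insert, Finset.mem_singleton] at ha
  rcases ha with rfl | rfl | rfl
  · rw [zero_smul]; exact zero_mem S
  · rwa [one_smul]
  · rw [neg_one_smul]; exact neg_mem hz

omit [Fintype F] in
/-- Minus the identity. -/
def negIsom (B : LinearMap.BilinForm F V) : SpB B :=
  ⟨LinearEquiv.neg F, fun x y => by simp⟩

omit [Fintype F] [FiniteDimensional F V] in
theorem negIsom_smul (x : V) : negIsom B • x = -x := rfl

variable {ρ : SpB B →* Equiv.Perm Ω} {m : ℕ} {v v' : V}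

omit [Fintype F] [FiniteDimensional F V] in
/-- Multiplication of the radical by `(0, c)`. -/
theorem rmul_central (w : Wsp B v v') (c d : F) :
    rmul v v' ((0, c) : Wsp B v v' × F) (w, d) = (w, c + d) :=
  Prod.ext (zero_add w) (by simp [rmul])

omit [Fintype F] in
theorem num_double {q Q : ℕ} (hq : 3 ≤ q) (hQ : q * q ≤ Q) :
    Q * (q * q) - 1 ≤ (q + 3) * (Q - 1) * (q - 1) := by
  obtain ⟨r, rfl⟩ : ∃ r, q = r + 3 := ⟨q - 3, by omega⟩
  obtain ⟨S, rfl⟩ : ∃ S, Q = S + 1 :=
    ⟨Q - 1, by have : 1 ≤ (r + 3) * (r + 3) := Nat.mul_pos (by omega) (by omega); omega⟩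
  rw [Nat.add_sub_cancel, show r + 3 - 1 = r + 2 by omega, Nat.sub_le_iff_le_add]
  nlinarith

omit [Fintype F] in
theorem num_weight {q Q : ℕ} (hq : 4 ≤ q) (hQ : q * q ≤ Q) :
    Q * (q * q) - 1 ≤ (q + 2) * (Q - 1) * (q - 1) := by
  obtain ⟨r, rfl⟩ : ∃ r, q = r + 4 := ⟨q - 4, by omega⟩
  obtain ⟨S, rfl⟩ : ∃ S, Q = S + 1 :=
    ⟨Q - 1, by have : 1 ≤ (r + 4) * (r + 4) := Nat.mul_pos (by omega) (by omega); omega⟩
  rw [Nat.add_sub_cancel, show r + 4 - 1 = r + 3 by omega, Nat.sub_le_iff_le_add]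
  nlinarith

namespace Hyp

variable (H : Hyp ρ m)
include H

theorem card_W (P : B v v' = 1) :
    Nat.card (Wsp B v v') = Fintype.card F ^ (2 * m - 2) := by
  have h := finrank_Wsp H.alt P
  have := H.dim
  rw [Module.natCard_eq_pow_finrank (K := F) (V := Wsp B v v'), Nat.card_eq_fintype_card]
  congr 1
  omega

theorem six_le_W (P : B v v' = 1) :
    3 * Fintype.card F ≤ Nat.card (Wsp B v v') ∧
      Fintype.card F ^ (2 * m) = Nat.card (Wsp B v v') * (Fintype.card F * Fintype.card F) := by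
  rw [H.card_W P, ← sq, ← pow_add]
  have hq := H.q_three
  have := H.m_two
  refine ⟨?_, by congr 1; omega⟩
  calc 3 * Fintype.card F ≤ Fintype.card F * Fintype.card F := Nat.mul_le_mul_right _ hq
    _ = Fintype.card F ^ 2 := (sq _).symm
    _ ≤ _ := Nat.pow_le_pow_right (by omega) (by omega)

theorem sq_le_W (P : B v v' = 1) :
    Fintype.card F * Fintype.card F ≤ Nat.card (Wsp B v v') := by
  rw [H.card_W P, ← sq]
  exact Nat.pow_le_pow_right Fintype.card_pos (by have := H.m_two; omega)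

omit [FiniteDimensional F V] in
/-- The basic numerical contradiction. -/
theorem too_many (_P : B v v' = 1) {X : ℕ} (hX : X ≤ Nat.card Ω)
    (h : Fintype.card F ^ (2 * m) - 1 ≤ X * (Fintype.card F - 1)) : False := by
  have := H.small
  have := Nat.mul_le_mul_right (Fintype.card F - 1) hX
  omega

theorem too_many_double (P : B v v' = 1) {X : ℕ} (hX : X ≤ Nat.card Ω)
    (h : (Fintype.card F + 3) * (Nat.card (Wsp B v v') - 1) ≤ X) : False := by
  refine H.too_many P (le_refl _) ?_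
  rw [(H.six_le_W P).2]
  exact (num_double H.q_three (H.sq_le_W P)).trans (Nat.mul_le_mul_right _ (h.trans hX))

theorem too_many_weight (P : B v v' = 1) (hq : 4 ≤ Fintype.card F) {X : ℕ} (hX : X ≤ Nat.card Ω)
    (h : (Fintype.card F + 2) * (Nat.card (Wsp B v v') - 1) ≤ X) : False := by
  refine H.too_many P (le_refl _) ?_
  rw [(H.six_le_W P).2]
  exact (num_weight hq (H.sq_le_W P)).trans (Nat.mul_le_mul_right _ (h.trans hX))

omit H [Fintype F] [FiniteDimensional F V] in
/-- Commutators of two elements of a point stabiliser. -/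
theorem comm_mem (hA : LinearMap.IsAlt B) {ω : Ω} {w w' : Wsp B v v'}
    (hw : w ∈ Asub ρ v v' hA ω) (hw' : w' ∈ Asub ρ v v' hA ω) :
    2 * B (w : V) (w' : V) ∈ Lsub ρ v hA ω := by
  obtain ⟨c, hc⟩ := hw
  obtain ⟨d, hd⟩ := hw'
  have h1 := act_act hA ρ v v' (w, c) (w', d) ω
  rw [hd, hc] at h1
  have h2 := act_act hA ρ v v' (w', d) (w, c) ω
  rw [hc, hd] at h2
  have e : rmul v v' ((0, 2 * B (w : V) (w' : V)) : Wsp B v v' × F) (rmul v v' (w, c) (w', d)) =
      rmul v v' (w', d) (w, c) := by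
    refine Prod.ext (by simp [rmul, add_comm]) ?_
    simp [rmul, B_neg hA (w : V) (w' : V)]
    ring
  rw [← e, ← act_act hA ρ v v', ← h1, act_central] at h2
  exact h2.symm

variable [Fintype Ω]

/-- The annihilator lies in a line or is everything. -/
theorem no_double (P : B v v' = 1) {ω : Ω} (hL : Lsub ρ v H.alt ω ≠ ⊤)
    (hB : Bsub ρ v v' H.alt ω ≠ ⊤) {φ x : Wsp B v v'} (hφ : φ ∈ Bsub ρ v v' H.alt ω)
    (hx : x ∈ Bsub ρ v v' H.alt ω) : ¬LinearIndependent F ![φ, x] := by
  intro hi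
  have h1 := count_le H.alt (ρ := ρ) P (inv2 ρ v v' H.alt ω)
  have h2 := le_ncard_Yset H.alt (ρ := ρ) H.nondeg P ω
  have h3 := Mset_double H.alt H.nondeg P hB hφ hx hi
  have h4 := Lset_weight H.q_three hL
  refine H.too_many_double P ((Nat.mul_le_mul_left _ h2).trans h1) ?_
  simp only [inv2]
  set σ := (Lset (Lsub ρ v H.alt ω)).card
  set i := (Lsub ρ v H.alt ω).index
  set M := (Mset (Bsub ρ v v' H.alt ω)).card
  set b := Nat.card (Bsub ρ v v' H.alt ω)
  set Q := Nat.card (Wsp B v v') - 1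
  have h5 : 2 * Q ≤ M * b := by omega
  calc (Fintype.card F + 3) * Q ≤ 2 * (σ * i) * Q := Nat.mul_le_mul_right _ h4
    _ = σ * i * (2 * Q) := by ring
    _ ≤ σ * i * (M * b) := Nat.mul_le_mul_left _ h5
    _ = σ * M * (i * b) := by ring

/-- The annihilator is not a proper part of a line. -/
theorem no_part (P : B v v' = 1) {ω : Ω} (hL : Lsub ρ v H.alt ω ≠ ⊤) {s : Wsp B v v'}
    (hs : s ∈ Bsub ρ v v' H.alt ω) (hs0 : s ≠ 0)
    (hline : ∀ z ∈ Bsub ρ v v' H.alt ω, ∃ c : F, c • s = z)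
    (hopen : ∃ a : F, a • s ∉ Bsub ρ v v' H.alt ω) : False := by
  by_cases h2 : (2 : F) = 0
  · have h1 := count_le H.alt (ρ := ρ) P (inv2 ρ v v' H.alt ω)
    have hY := le_ncard_Yset H.alt (ρ := ρ) H.nondeg P ω
    have hne : Bsub ρ v v' H.alt ω ≠ ⊥ := fun e => hs0 ((AddSubgroup.mem_bot).1 (e ▸ hs))
    have h3 := Mset_basic H.alt H.nondeg P hne
    have h4 := Mset_line H.alt H.nondeg P hs hs0 hline hopen
    have h5 := Lset_weight_two h2 hL
    refine H.too_many P ((Nat.mul_le_mul_left _ hY).trans h1) ?_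
    simp only [inv2]
    obtain ⟨h6, h7⟩ := H.six_le_W P
    set σ := (Lset (Lsub ρ v H.alt ω)).card
    set i := (Lsub ρ v H.alt ω).index
    set M := (Mset (Bsub ρ v v' H.alt ω)).card
    set b := Nat.card (Bsub ρ v v' H.alt ω)
    rw [h7]
    obtain ⟨r, hr⟩ : ∃ r, Fintype.card F = r + 3 :=
      ⟨Fintype.card F - 3, by have := H.q_three; omega⟩
    rw [hr] at h4 h5 h6 ⊢
    obtain ⟨Q, hQ⟩ : ∃ Q, Nat.card (Wsp B v v') = Q + 1 :=
      ⟨Nat.card (Wsp B v v') - 1, by omega⟩
    rw [hQ] at h3 h4 h6 ⊢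
    simp only [Nat.add_sub_cancel, show r + 3 - 1 = r + 2 by omega] at h3 h4 h6 ⊢
    have h8 : Q * (r + 4) ≤ M * b * (r + 2) := by nlinarith
    have h9 := Nat.mul_le_mul h5 h8
    obtain ⟨t, ht⟩ : ∃ t, (Q + 1) * ((r + 3) * (r + 3)) = t + 1 :=
      ⟨(Q + 1) * ((r + 3) * (r + 3)) - 1, by
        have : 1 ≤ (Q + 1) * ((r + 3) * (r + 3)) := Nat.mul_pos (by omega) (by positivity)
        omega⟩
    rw [ht, Nat.add_sub_cancel]
    nlinarith
  · obtain ⟨a, ha⟩ := hopen
    have hAW := BW_isAlt H.alt v v'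
    have hcs : ∀ c : F, c • s ∈ Asub ρ v v' H.alt ω := fun c => by
      rw [← annB_annB (BW_nondegenerate H.alt P H.nondeg) hAW (Asub ρ v v' H.alt ω), mem_annB]
      intro z hz
      obtain ⟨d, rfl⟩ := hline z hz
      simp [H.alt.self_eq_zero]
    obtain ⟨y, hy, hsy⟩ : ∃ y ∈ Asub ρ v v' H.alt ω, BW B v v' s y ≠ 0 := by
      by_contra hcon
      push Not at hcon
      exact ha (mem_annB.2 fun y hy => by
        rw [map_smul, LinearMap.smul_apply, hcon y hy, smul_zero, AddChar.map_zero_eq_one])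
    refine hL ((AddSubgroup.eq_top_iff' _).2 fun c => ?_)
    have h := comm_mem H.alt (hcs (c / (2 * BW B v v' s y))) hy
    convert h using 1
    rw [Submodule.coe_smul, map_smul, LinearMap.smul_apply, smul_eq_mul, ← BW_apply s y]
    field_simp

/-- An annihilator closed under scalars, at least four elements in the field. -/
theorem no_closed (P : B v v' = 1) (hq : 4 ≤ Fintype.card F)
    (hNF : ∀ u : V, u ≠ 0 → ∀ ω : Ω, Lsub ρ u H.alt ω ≠ ⊤) {ω : Ω}
    (hB : Bsub ρ v v' H.alt ω ≠ ⊥)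
    (hcl : ∀ (a : F) z, z ∈ Bsub ρ v v' H.alt ω → a • z ∈ Bsub ρ v v' H.alt ω) : False := by
  have hA := H.alt
  have hv0 : v ≠ 0 := ne_zero_left P
  have hL := hNF v hv0 ω
  have hW : Finite V := Module.finite_of_finite F
  have h1 := count_le hA (ρ := ρ) P (inv2 ρ v v' hA ω)
  have hMb := Mset_basic hA H.nondeg P hB
  -- one orbit with these invariants
  have huniq : ∀ x, inv2 ρ v v' hA x = inv2 ρ v v' hA ω → x ∈ orb ρ v v' hA ω := by
    intro x hx
    by_contra hxo
    have h2 := two_le_ncard_Yset hA (ρ := ρ) H.nondeg P hx hxo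
    have h4 := Lset_weight H.q_three hL
    refine H.too_many_double P ((Nat.mul_le_mul_left _ h2).trans h1) ?_
    simp only [inv2]
    set σ := (Lset (Lsub ρ v hA ω)).card
    set i := (Lsub ρ v hA ω).index
    set M := (Mset (Bsub ρ v v' hA ω)).card
    set b := Nat.card (Bsub ρ v v' hA ω)
    set Q := Nat.card (Wsp B v v') - 1
    calc (Fintype.card F + 3) * Q ≤ 2 * (σ * i) * (M * b) := Nat.mul_le_mul h4 (by omega)
      _ = σ * M * (2 * (i * b)) := by ring
  -- a torus element stabilising the invariants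
  rcases exists_stab hq hL with ⟨a, ha0, ha1, hstab⟩ | hw
  swap
  · have h2 := le_ncard_Yset hA (ρ := ρ) H.nondeg P ω
    refine H.too_many_weight P hq ((Nat.mul_le_mul_left _ h2).trans h1) ?_
    simp only [inv2]
    set σ := (Lset (Lsub ρ v hA ω)).card
    set i := (Lsub ρ v hA ω).index
    set M := (Mset (Bsub ρ v v' hA ω)).card
    set b := Nat.card (Bsub ρ v v' hA ω)
    set Q := Nat.card (Wsp B v v') - 1
    calc (Fintype.card F + 2) * Q ≤ σ * i * (M * b) := Nat.mul_le_mul hw (by omega)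
      _ = σ * M * (i * b) := by ring
  have hsub : a * a - 1 ≠ 0 := sub_ne_zero.2 ha1
  have ha2 : a ≠ 1 := fun e => ha1 (by rw [e, one_mul])
  have hLfix : scaleL a (Lsub ρ v hA ω) = Lsub ρ v hA ω := by
    ext x
    rw [mem_scaleL ha0]
    constructor
    · intro hx
      have := hstab _ hx
      rwa [mul_div_cancel₀ _ (mul_ne_zero ha0 ha0)] at this
    · intro hx
      exact mem_of_mul_mem (mul_ne_zero ha0 ha0) hstab
        (by rwa [mul_div_cancel₀ _ (mul_ne_zero ha0 ha0)])
  have hBfix : ∀ p : Fˣ × SpB (BW B v v'),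
      (∀ z ∈ Bsub ρ v v' hA ω, scaleW p z ∈ Bsub ρ v v' hA ω) →
      (Bsub ρ v v' hA ω).map (scaleW p) = Bsub ρ v v' hA ω := by
    intro p hp
    refine AddSubgroup.eq_of_le_of_card_ge ?_ ?_
    · rintro _ ⟨z, hz, rfl⟩
      exact hp z hz
    · refine le_of_eq (Nat.card_congr ((AddSubgroup.equivMapOfInjective _ _ ?_).toEquiv))
      intro x y e
      have hx := scaleW_inv p⁻¹ x
      have hy := scaleW_inv p⁻¹ y
      rw [inv_inv] at hx hy
      rw [← hx, ← hy, e]
  set h := blk hA P (Units.mk0 a ha0, 1) with hh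
  have hconj : ∀ (w : Wsp B v v') (e : F) (y : Ω),
      ρ h (act hA ρ v v' (w, e) y) = act hA ρ v v' (a • w, a * a * e) (ρ h y) := by
    intro w e y
    have h' := blk_conj_rt hA P (Units.mk0 a ha0, (1 : SpB (BW B v v'))) w e
    rw [one_smul, Units.val_mk0, ← hh] at h'
    show ρ h (ρ _ y) = ρ (rt hA v ((a • w : Wsp B v v') : V) (a * a * e)) (ρ h y)
    rw [← h']
    simp only [map_mul, map_inv, Equiv.Perm.mul_apply, Equiv.Perm.inv_def, Equiv.symm_apply_apply]
  obtain ⟨⟨w₀, e₀⟩, hw₀⟩ : ρ h ω ∈ orb ρ v v' hA ω := by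
    refine huniq _ ?_
    rw [hh, inv2_blk hA P]
    refine Prod.ext hLfix (hBfix _ fun z hz => ?_)
    show (((Units.mk0 a ha0)⁻¹ : Fˣ) : F) • ((1 : SpB (BW B v v')) • z) ∈ _
    rw [one_smul]; exact hcl _ _ hz
  have hw₀ : act hA ρ v v' (w₀, e₀) ω = ρ h ω := hw₀
  -- the fixed point of the torus element
  set w₁ := (1 - a)⁻¹ • w₀ with hw₁
  set x₁ := act hA ρ v v' (w₁, 0) ω
  set e₁ := e₀ + B (w₀ : V) ((a • w₁ : Wsp B v v') : V) with he₁
  have hx₁ : ρ h x₁ = act hA ρ v v' (0, e₁) x₁ := by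
    rw [hconj, ← hw₀, act_act, act_act, mul_zero]
    congr 1
    refine Prod.ext ?_ ?_
    · show a • w₁ + w₀ = 0 + w₁
      have : (1 - a) • w₁ = w₀ := by
        rw [hw₁, smul_inv_smul₀ (sub_ne_zero.2 fun e => ha2 e.symm)]
      rw [zero_add]
      nth_rw 1 [← this]
      module
    · simp [rmul, he₁]
  obtain ⟨x, hxdef⟩ : ∃ x, x = act hA ρ v v' (0, e₁ / (1 - a * a)) x₁ := ⟨_, rfl⟩
  have hxorb : x ∈ orb ρ v v' hA ω :=
    hxdef ▸ orb_trans hA ⟨(w₁, 0), rfl⟩ ⟨(0, e₁ / (1 - a * a)), rfl⟩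
  have hx : ρ h x = x := by
    have hne : (1 : F) - a * a ≠ 0 := sub_ne_zero.2 fun e => ha1 e.symm
    rw [hxdef, hconj, hx₁, smul_zero, act_act, rmul_central]
    congr 2
    rw [eq_div_iff hne, add_mul, mul_assoc, div_mul_cancel₀ _ hne]
    ring
  have hinvx := inv2_orb hA hxorb
  -- transvections of `s` fix `x`
  obtain ⟨s, hs, hs0⟩ : ∃ s ∈ Bsub ρ v v' hA ω, s ≠ 0 := by
    by_contra hcon
    push Not at hcon
    exact hB ((AddSubgroup.eq_bot_iff_forall _).2 hcon)
  refine hNF (s : V) (fun e => hs0 (Subtype.ext e)) x ((AddSubgroup.eq_top_iff' _).2 fun c => ?_)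
  show ρ (spTransv hA (s : V) c) x = x
  rw [spTransv_eq_blk hA P s c]
  set g := blk hA P (1, spTransv (BW_isAlt hA v v') s c) with hg
  have hgh : ρ h (ρ g x) = ρ g x := by
    conv_rhs => rw [← hx]
    rw [← Equiv.Perm.mul_apply, ← Equiv.Perm.mul_apply, ← map_mul, ← map_mul, hh, hg, ← map_mul,
      ← map_mul, Prod.mk_mul_mk, Prod.mk_mul_mk, mul_one, one_mul, one_mul, mul_one]
  obtain ⟨⟨w, e⟩, hwe⟩ : ρ g x ∈ orb ρ v v' hA x := by
    refine orb_trans hA (orb_symm hA hxorb) (huniq _ ?_)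
    rw [hg, inv2_blk hA P, hinvx]
    refine Prod.ext ?_ (hBfix _ fun z hz => ?_)
    · show scaleL ((1 : Fˣ) : F) (Lsub ρ v hA ω) = _
      ext y
      rw [Units.val_one, mem_scaleL one_ne_zero, mul_one, div_one]
      rfl
    · show (((1 : Fˣ)⁻¹ : Fˣ) : F) • (spTransv (BW_isAlt hA v v') s c • z) ∈ _
      rw [inv_one, Units.val_one, one_smul, spTransv_smul]
      exact add_mem hz (hcl _ _ hs)
  have hwe : act hA ρ v v' (w, e) x = ρ g x := hwe
  rw [← hwe, hconj, hx] at hgh
  have hAeq : Asub ρ v v' hA x = Asub ρ v v' hA ω := by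
    have hN' := BW_nondegenerate hA P H.nondeg
    rw [← annB_annB hN' (BW_isAlt hA v v') (Asub ρ v v' hA x),
      ← annB_annB hN' (BW_isAlt hA v v') (Asub ρ v v' hA ω)]
    exact congrArg (annB (BW B v v')) (congrArg Prod.snd hinvx)
  have hwA : w ∈ Asub ρ v v' hA x := by
    have h' : a • w - w ∈ Asub ρ v v' hA x := by
      refine ⟨(rmul v v' (-w, -e) (a • w, a * a * e)).2, ?_⟩
      have := congrArg (act hA ρ v v' (-w, -e)) hgh
      rw [act_act, act_act, show rmul v v' ((-w, -e) : Wsp B v v' × F) (w, e) = 0 from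
        Prod.ext (neg_add_cancel w) (by simp [rmul, hA.self_eq_zero]), act_zero] at this
      have e2 : ((a • w - w, (rmul v v' (-w, -e) (a • w, a * a * e)).2) : Wsp B v v' × F) =
          rmul v v' (-w, -e) (a • w, a * a * e) :=
        Prod.ext (show a • w - w = -w + a • w by abel) rfl
      rw [e2]; exact this
    have hAcl : ∀ (b : F) z, z ∈ Asub ρ v v' hA x → b • z ∈ Asub ρ v v' hA x := by
      intro b z hz
      rw [hAeq, ← annB_annB (BW_nondegenerate hA P H.nondeg) (BW_isAlt hA v v')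
        (Asub ρ v v' hA ω), mem_annB] at hz ⊢
      intro y hy
      have := hz _ (hcl b y hy)
      rw [map_smul, LinearMap.smul_apply]
      rwa [map_smul] at this
    have := hAcl (a - 1)⁻¹ _ h'
    rwa [show a • w - w = (a - 1) • w by module, inv_smul_smul₀ (sub_ne_zero.2 ha2)] at this
  obtain ⟨f, hf⟩ := hwA
  have hsplit : ∀ t : F, act hA ρ v v' (w, t) x = act hA ρ v v' (0, t - f) x := by
    intro t
    conv_rhs => rw [← hf]
    rw [act_act, rmul_central, sub_add_cancel]
  have hgh' : act hA ρ v v' (0, a * a * (e - f)) x = act hA ρ v v' (0, e - f) x :=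
    calc act hA ρ v v' (0, a * a * (e - f)) x
        = ρ h (act hA ρ v v' (0, e - f) x) := by rw [hconj, smul_zero, hx]
      _ = ρ h (act hA ρ v v' (w, e) x) := by rw [hsplit]
      _ = act hA ρ v v' (w, e) x := by rw [hconj, hx, hgh]
      _ = act hA ρ v v' (0, e - f) x := hsplit e
  have hLx : ∀ y, y ∈ Lsub ρ v hA x → a * a * y ∈ Lsub ρ v hA x := by
    rw [show Lsub ρ v hA x = Lsub ρ v hA ω from congrArg Prod.fst hinvx]
    exact hstab
  have hmem : e - f ∈ Lsub ρ v hA x := by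
    refine mem_of_mul_mem hsub (fun y hy => ?_) ?_
    · rw [sub_mul, one_mul]; exact sub_mem (hLx y hy) hy
    · rw [mem_Lsub, ← act_central hA ρ v v']
      have := congrArg (act hA ρ v v' (0, -(e - f))) hgh'
      rw [act_act, act_act, rmul_central, rmul_central, neg_add_cancel] at this
      convert this.trans (act_zero hA ρ v v' x) using 4
      ring
  rw [← hwe, hsplit, act_central]
  exact hmem

/-- Three elements in the field. -/
theorem no_three (P : B v v' = 1) (h3 : Fintype.card F = 3)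
    (hNF : ∀ u : V, u ≠ 0 → ∀ ω : Ω, Lsub ρ u H.alt ω ≠ ⊤) {ω : Ω}
    (hB : Bsub ρ v v' H.alt ω ≠ ⊥) : False := by
  classical
  have hA := H.alt
  have hAW := BW_isAlt hA v v'
  have hNW := BW_nondegenerate hA P H.nondeg
  have hW : Finite V := Module.finite_of_finite F
  have hL := hNF v (ne_zero_left P) ω
  have hm : 3 ≤ m := by
    have := H.m_two
    have := H.exc
    by_contra hlt
    exact this ⟨by omega, h3⟩
  have h81 : 81 ≤ Nat.card (Wsp B v v') := by
    rw [H.card_W P, h3]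
    exact le_trans (by norm_num) (Nat.pow_le_pow_right (by norm_num) (by omega : 4 ≤ 2 * m - 2))
  have h2 : (2 : F) ≠ 0 := fun h20 => by
    have h30 : (3 : F) = 0 := by
      have := FiniteField.cast_card_eq_zero F
      rwa [h3] at this
    exact one_ne_zero (by linear_combination h30 - h20 : (1 : F) = 0)
  have hLbot : Lsub ρ v hA ω = ⊥ := by
    by_contra hne
    have h4 := AddSubgroup.one_lt_card_iff_ne_bot (Lsub ρ v hA ω) |>.2 hne
    have h5 := Nat.mul_le_mul h4 (three_le_index hL h2)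
    rw [AddSubgroup.card_mul_index, Nat.card_eq_fintype_card, h3] at h5
    omega
  obtain ⟨φ, hφ, hφ0⟩ : ∃ z ∈ Bsub ρ v v' hA ω, z ≠ 0 := by
    by_contra hcon
    push Not at hcon
    exact hB ((AddSubgroup.eq_bot_iff_forall _).2 hcon)
  by_cases htop : Bsub ρ v v' hA ω = ⊤
  swap
  · have hline : ∀ z ∈ Bsub ρ v v' hA ω, ∃ c : F, c • φ = z := by
      intro z hz
      by_contra hcon
      push Not at hcon
      exact H.no_double P hL htop hφ hz ((LinearIndependent.pair_iff' hφ0).2 hcon)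
    -- the stabiliser part is totally isotropic, hence small
    have hle : Asub ρ v v' hA ω ≤ Bsub ρ v v' hA ω := by
      intro w hw
      refine mem_annB.2 fun z hz => ?_
      have := comm_mem hA hw hz
      rw [hLbot, AddSubgroup.mem_bot, mul_eq_zero] at this
      rw [BW_apply, this.resolve_left h2, AddChar.map_zero_eq_one]
    have hcard : Nat.card (Bsub ρ v v' hA ω) ≤ 3 := by
      rw [← h3, ← Nat.card_eq_fintype_card (α := F)]
      refine Nat.card_le_card_of_surjective
        (fun c : F => (⟨c • φ, smul_closed_of_three h3 _ c hφ⟩ : Bsub ρ v v' hA ω)) ?_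
      rintro ⟨z, hz⟩
      obtain ⟨c, rfl⟩ := hline z hz
      exact ⟨c, rfl⟩
    have h4 : Nat.card (Asub ρ v v' hA ω) ≤ 3 :=
      (Nat.card_le_card_of_injective _ (AddSubgroup.inclusion_injective hle)).trans hcard
    have h5 := card_annB hNW (Asub ρ v v' hA ω)
    have := Nat.mul_le_mul hcard h4
    rw [Bsub] at this
    omega
  -- a free orbit
  have h1 := count_le hA (ρ := ρ) P (inv2 ρ v v' hA ω)
  have hMb := Mset_basic hA H.nondeg P hB
  have huniq : ∀ x, inv2 ρ v v' hA x = inv2 ρ v v' hA ω → x ∈ orb ρ v v' hA ω := by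
    intro x hx
    by_contra hxo
    have h2 := two_le_ncard_Yset hA (ρ := ρ) H.nondeg P hx hxo
    have h4 := Lset_weight H.q_three hL
    refine H.too_many_double P ((Nat.mul_le_mul_left _ h2).trans h1) ?_
    simp only [inv2]
    set σ := (Lset (Lsub ρ v hA ω)).card
    set i := (Lsub ρ v hA ω).index
    set M := (Mset (Bsub ρ v v' hA ω)).card
    set b := Nat.card (Bsub ρ v v' hA ω)
    set Q := Nat.card (Wsp B v v') - 1
    calc (Fintype.card F + 3) * Q ≤ 2 * (σ * i) * (M * b) := Nat.mul_le_mul h4 (by omega)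
      _ = σ * M * (2 * (i * b)) := by ring
  have hAbot : Asub ρ v v' hA ω = ⊥ := by
    have h5 := card_annB hNW (Asub ρ v v' hA ω)
    rw [show annB (BW B v v') (Asub ρ v v' hA ω) = ⊤ from htop, AddSubgroup.card_top] at h5
    exact AddSubgroup.eq_bot_of_card_eq _
      (Nat.eq_of_mul_eq_mul_left Nat.card_pos (h5.trans (mul_one _).symm))
  have hmove : ∀ (g : SpB (BW B v v')) x, x ∈ orb ρ v v' hA ω →
      ρ (blk hA P (1, g)) x ∈ orb ρ v v' hA ω := by
    intro g x hx
    refine huniq _ ?_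
    rw [inv2_blk hA P, inv2_orb hA hx, inv2, htop, hLbot]
    refine Prod.ext (AddSubgroup.map_bot _) ?_
    exact eq_top_iff.2 fun z _ => ⟨scaleW ((1 : Fˣ), g)⁻¹ z, trivial, scaleW_inv _ z⟩
  set h := blk hA P ((1 : Fˣ), negIsom (BW B v v')) with hh
  have hconj : ∀ (g : SpB (BW B v v')) (w : Wsp B v v') (e : F) (y : Ω),
      ρ (blk hA P (1, g)) (act hA ρ v v' (w, e) y) =
        act hA ρ v v' (g • w, e) (ρ (blk hA P (1, g)) y) := by
    intro g w e y
    have h' := blk_conj_rt hA P ((1 : Fˣ), g) w e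
    rw [Units.val_one, one_smul, one_mul, one_mul] at h'
    show ρ _ (ρ _ y) = ρ (rt hA v ((g • w : Wsp B v v') : V) e) _
    rw [← h']
    simp only [map_mul, map_inv, Equiv.Perm.mul_apply, Equiv.Perm.inv_def, Equiv.symm_apply_apply]
  obtain ⟨⟨w₀, e₀⟩, hw₀⟩ : ρ h ω ∈ orb ρ v v' hA ω := hmove _ ω (self_mem_orb hA ω)
  have hw₀ : act hA ρ v v' (w₀, e₀) ω = ρ h ω := hw₀
  obtain ⟨x, hxdef⟩ : ∃ x, x = act hA ρ v v' ((2 : F)⁻¹ • w₀, 0) ω := ⟨_, rfl⟩
  have hxorb : x ∈ orb ρ v v' hA ω := hxdef ▸ ⟨_, rfl⟩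
  obtain ⟨hLle, hAle⟩ := stab_orb_le hA (orb_symm hA hxorb)
  rw [hLbot] at hLle
  rw [hAbot] at hAle
  have hneg : ∀ w : Wsp B v v', negIsom (BW B v v') • w = -w := fun w => negIsom_smul w
  -- `x` is moved along the centre only
  obtain ⟨f, hf⟩ : ∃ f, ρ h x = act hA ρ v v' (0, f) x := by
    refine ⟨e₀ + B (w₀ : V) ((-((2 : F)⁻¹ • w₀) : Wsp B v v') : V), ?_⟩
    rw [hxdef, hconj, hneg, ← hw₀, act_act, act_act, rmul_central]
    congr 1
    refine Prod.ext ?_ (by simp [rmul])
    show -((2 : F)⁻¹ • w₀) + w₀ = (2 : F)⁻¹ • w₀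
    match_scalars
    field_simp
    ring
  have hnn : ρ h (ρ h x) = x := by
    rw [← Equiv.Perm.mul_apply, ← map_mul, hh, ← map_mul, Prod.mk_mul_mk, one_mul,
      show negIsom (BW B v v') * negIsom (BW B v v') = 1 from SpB.ext' fun z => by
        rw [mul_smul, negIsom_smul, negIsom_smul, neg_neg, one_smul], Prod.mk_one_one, map_one,
      map_one]
    rfl
  have hx : ρ h x = x := by
    rw [hf] at hnn
    rw [hconj, hneg, neg_zero, hf, act_act, rmul_central, act_central] at hnn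
    have := AddSubgroup.mem_bot.1 (hLle hnn)
    rw [show f + f = 2 * f by ring, mul_eq_zero] at this
    rw [hf, this.resolve_left h2]
    exact act_zero hA ρ v v' x
  -- the lifts move `x` along the centre
  have hcent : ∀ g : SpB (BW B v v'), ∃ f, ρ (blk hA P (1, g)) x = act hA ρ v v' (0, f) x := by
    intro g
    obtain ⟨⟨w, e⟩, hwe⟩ := orb_trans hA (orb_symm hA hxorb) (hmove g x hxorb)
    have hwe : act hA ρ v v' (w, e) x = ρ (blk hA P (1, g)) x := hwe
    refine ⟨e, ?_⟩
    suffices w = 0 by rw [← hwe, this]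
    have hgh : ρ h (ρ (blk hA P (1, g)) x) = ρ (blk hA P (1, g)) x := by
      rw [← Equiv.Perm.mul_apply, ← map_mul, hh, ← map_mul,
        show (((1 : Fˣ), negIsom (BW B v v')) : Fˣ × SpB (BW B v v')) * (1, g) =
          ((1 : Fˣ), g) * (1, negIsom (BW B v v')) from Prod.ext rfl (SpB.ext' fun z => by
            show (negIsom _ * g) • z = (g * negIsom _) • z
            rw [mul_smul, mul_smul, negIsom_smul, negIsom_smul, smul_neg]), map_mul, map_mul,
        Equiv.Perm.mul_apply, ← hh, hx]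
    rw [← hwe, hconj, hneg, hx] at hgh
    have h' := congrArg (act hA ρ v v' (-w, -e)) hgh
    rw [act_act, act_act, show rmul v v' ((-w, -e) : Wsp B v v' × F) (w, e) = 0 from
      Prod.ext (neg_add_cancel w) (by simp [rmul, hA.self_eq_zero]), act_zero] at h'
    have h'' : -w + -w = 0 := AddSubgroup.mem_bot.1 (hAle ⟨_, h'⟩)
    have : (2 : F) • w = 0 := by
      rw [two_smul, ← neg_eq_zero, neg_add, h'']
    exact (smul_eq_zero.1 this).resolve_left h2
  have hperf : commutator (SpB (BW B v v')) = ⊤ :=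
    sp_commutator_eq_top hAW hNW (Or.inr (Or.inr ⟨by
      have := finrank_Wsp hA P; have := H.dim; omega, h2⟩))
  let S : Subgroup (SpB (BW B v v')) :=
    { carrier := {g | ρ (blk hA P (1, g)) x = x}
      one_mem' := by simp [show (((1 : Fˣ), (1 : SpB (BW B v v')))) = 1 from rfl]
      mul_mem' := fun {a b} ha hb => by
        show ρ (blk hA P (1, a * b)) x = x
        rw [show (((1 : Fˣ), a * b)) = (1, a) * (1, b) from Prod.ext (one_mul 1).symm rfl, map_mul,
          map_mul, Equiv.Perm.mul_apply, hb, ha]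
      inv_mem' := fun {a} ha => by
        show ρ (blk hA P (1, a⁻¹)) x = x
        rw [show (((1 : Fˣ), a⁻¹)) = (1, a)⁻¹ from Prod.ext inv_one.symm rfl, map_inv, map_inv,
          Equiv.Perm.inv_eq_iff_eq]
        exact ha.symm }
  have hS : ⊤ ≤ S := by
    rw [← hperf, commutator_def, Subgroup.commutator_le]
    intro a _ b _
    have e : ρ (blk hA P (1, a * b)) x = ρ (blk hA P (1, b * a)) x := by
      obtain ⟨fa, ha⟩ := hcent a
      obtain ⟨fb, hb⟩ := hcent b
      rw [show (((1 : Fˣ), a * b)) = (1, a) * (1, b) from Prod.ext (one_mul 1).symm rfl,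
        show (((1 : Fˣ), b * a)) = (1, b) * (1, a) from Prod.ext (one_mul 1).symm rfl]
      simp only [map_mul, Equiv.Perm.mul_apply]
      rw [hb, hconj, smul_zero, ha, act_act, hconj, smul_zero, hb, act_act, rmul_central,
        rmul_central, add_comm]
    obtain ⟨fz, hz⟩ := hcent (b * a)
    show ρ (blk hA P (1, a * b * a⁻¹ * b⁻¹)) x = x
    -- the commutator fixes a central translate of `x`
    have h' : ρ (blk hA P (1, a * b * a⁻¹ * b⁻¹)) (ρ (blk hA P (1, b * a)) x) =
        ρ (blk hA P (1, b * a)) x := by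
      conv_rhs => rw [← e]
      rw [← Equiv.Perm.mul_apply, ← map_mul, ← map_mul, Prod.mk_mul_mk, one_mul]
      congr 4
      group
    rw [hz, hconj, smul_zero] at h'
    exact (ρ (rt hA v ((0 : Wsp B v v') : V) fz)).injective h'
  obtain ⟨s, hs0⟩ : ∃ s : Wsp B v v', s ≠ 0 := ⟨φ, hφ0⟩
  refine hNF (s : V) (fun e => hs0 (Subtype.ext e)) x ((AddSubgroup.eq_top_iff' _).2 fun c => ?_)
  show ρ (spTransv hA (s : V) c) x = x
  rw [spTransv_eq_blk hA P s c]
  exact hS (Subgroup.mem_top _)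

/-- If no transvection group fixes a point, stabilisers project onto the complement. -/
theorem exists_ann (P : B v v' = 1)
    (hNF : ∀ u : V, u ≠ 0 → ∀ ω : Ω, Lsub ρ u H.alt ω ≠ ⊤) (ω : Ω) :
    Asub ρ v v' H.alt ω = ⊤ := by
  by_contra hne
  have hA := H.alt
  have hL := hNF v (ne_zero_left P) ω
  have hB : Bsub ρ v v' hA ω ≠ ⊥ := fun e => hne (by
    have : Finite V := Module.finite_of_finite F
    have h5 := card_annB (BW_nondegenerate hA P H.nondeg) (Asub ρ v v' hA ω)
    rw [show annB (BW B v v') (Asub ρ v v' hA ω) = ⊥ from e, AddSubgroup.card_bot, one_mul] at h5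
    exact AddSubgroup.eq_top_of_card_eq _ h5)
  rcases eq_or_lt_of_le H.q_three with h3 | hq
  · exact H.no_three P h3.symm hNF hB
  by_cases hcl : ∀ (a : F) z, z ∈ Bsub ρ v v' hA ω → a • z ∈ Bsub ρ v v' hA ω
  · exact H.no_closed P hq hNF hB hcl
  push Not at hcl
  obtain ⟨a, z, hz, haz⟩ := hcl
  have hz0 : z ≠ 0 := fun e => haz (by rw [e, smul_zero]; exact zero_mem _)
  have htop : Bsub ρ v v' hA ω ≠ ⊤ := fun e => haz (e ▸ AddSubgroup.mem_top _)
  refine H.no_part P hL hz hz0 (fun y hy => ?_) ⟨a, haz⟩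
  by_contra hcon
  push Not at hcon
  exact H.no_double P hL htop hz hy ((LinearIndependent.pair_iff' hz0).2 hcon)

omit [FiniteDimensional F V] [Fintype Ω] in
/-- The exchange of the two vectors in characteristic two. -/
theorem exchange (h2 : (2 : F) = 0) (hAll : ∀ {u u' : V}, B u u' = 1 → ∀ ω : Ω,
    Asub ρ u u' H.alt ω = ⊤) {u u' : V} (P : B v v' = 1) (P' : B u u' = 1) (hvu : B v u = 0)
    (_hvu' : B v u' = 0) (hv'u : B v' u = 0) (hv'u' : B v' u' = 0) {e : F} {ω : Ω}
    (hfix : ρ (rt H.alt v u e) ω = ω) (l : F) :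
    ρ (rt H.alt u ((l * e) • v) (l * l * e)) ω = ω := by
  have hA := H.alt
  have hw : l • v' ∈ Wsp B u u' :=
    mem_Wsp.2 ⟨by simp [B_swap hA hv'u], by simp [B_swap hA hv'u']⟩
  have hmem : (⟨l • v', hw⟩ : Wsp B u u') ∈ Asub ρ u u' hA ω := by
    rw [hAll P' ω]; exact AddSubgroup.mem_top _
  obtain ⟨a, ha⟩ := hmem
  have ha : ρ (rt hA u (l • v') a) ω = ω := ha
  have h1 : B u (l • v') = 0 := by simp [B_swap hA hv'u]
  have gu : rt hA v u e • u = u := by simp [rt_smul hA hvu, B_swap hA hvu, hA.self_eq_zero]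
  have gv : rt hA v u e • (l • v') = (l • v' + (l * e) • v) + l • u := by
    rw [rt_smul hA hvu]
    simp only [map_smul, LinearMap.smul_apply, one_swap hA P, hv'u, smul_eq_mul]
    match_scalars <;> first | ring1 | linear_combination (-l) * h2 |
      linear_combination (-(l * e)) * h2
  have h1' : B u (l • v' + (l * e) • v) = 0 := by simp [B_swap hA hv'u, B_swap hA hvu]
  have hc := conj_fixed (rt_conj hA (rt hA v u e) u (l • v') a) ha
  rw [hfix, gu, gv, rt_add_self hA h1', show a + 2 * l = a by linear_combination l * h2] at hc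
  have h' : ρ (rt hA u (l • v') a * rt hA u (l • v' + (l * e) • v) a) ω = ω := by
    rw [map_mul, Equiv.Perm.mul_apply, hc, ha]
  rw [rt_mul hA h1 h1'] at h'
  convert h' using 4
  · match_scalars <;> first | linear_combination (-1 : F) * l * h2 | ring1
  · simp only [map_add, map_smul, LinearMap.add_apply, LinearMap.smul_apply, hA.self_eq_zero, P,
      smul_eq_mul]
    linear_combination (-a) * h2

/-- Every transvection group has a fixed point. -/
theorem exists_fixed : ∃ u : V, u ≠ 0 ∧ ∃ ω : Ω, Lsub ρ u H.alt ω = ⊤ := by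
  classical
  by_contra hcon
  push Not at hcon
  have hA := H.alt
  have hq := H.q_three
  have hAll : ∀ {u u' : V}, B u u' = 1 → ∀ ω : Ω, Asub ρ u u' H.alt ω = ⊤ :=
    fun P ω => H.exists_ann P hcon ω
  have hex : ∀ {M : Type _} [AddCommGroup M] [Module F M] {C : LinearMap.BilinForm F M},
      C.Nondegenerate → ∀ u : M, u ≠ 0 → ∃ u', C u u' = 1 := by
    intro M _ _ C hC u hu
    obtain ⟨y, hy⟩ := exists_B_ne_zero hC hu
    exact ⟨(C u y)⁻¹ • y, by rw [map_smul, smul_eq_mul, inv_mul_cancel₀ hy]⟩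
  obtain ⟨v, hv0⟩ : ∃ v : V, v ≠ 0 := by
    have : Nontrivial V := Module.nontrivial_of_finrank_pos (R := F)
      (by rw [H.dim]; have := H.m_two; omega)
    exact exists_ne 0
  obtain ⟨v', P⟩ := hex H.nondeg v hv0
  obtain ⟨ω⟩ : Nonempty Ω := have := H.nontriv; inferInstance
  have hNW := BW_nondegenerate hA P H.nondeg
  obtain ⟨w, hw0⟩ : ∃ w : Wsp B v v', w ≠ 0 := by
    have : Nontrivial (Wsp B v v') := Module.nontrivial_of_finrank_pos (R := F)
      (by have := finrank_Wsp hA P; have := H.dim; have := H.m_two; omega)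
    exact exists_ne 0
  obtain ⟨w', hw'⟩ : ∃ w', BW B v v' w w' = 1 := by
    obtain ⟨y, hy⟩ := exists_B_ne_zero hNW hw0
    exact ⟨(BW B v v' w y)⁻¹ • y, by rw [map_smul, smul_eq_mul, inv_mul_cancel₀ hy]⟩
  have hmem : ∀ z : Wsp B v v', z ∈ Asub ρ v v' hA ω := fun z => by
    rw [hAll P ω]; exact AddSubgroup.mem_top _
  by_cases h2 : (2 : F) = 0
  swap
  · refine hcon v hv0 ω ((AddSubgroup.eq_top_iff' _).2 fun c => ?_)
    have h := comm_mem hA (hmem ((c / 2) • w)) (hmem w')
    convert h using 1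
    rw [Submodule.coe_smul, map_smul, LinearMap.smul_apply, ← BW_apply w w', hw', smul_eq_mul,
      mul_one, mul_div_cancel₀ _ h2]
  -- an element with non-zero central part
  obtain ⟨u, hu0, e, he, hfix⟩ : ∃ u : Wsp B v v', u ≠ 0 ∧ ∃ e : F, e ≠ 0 ∧
      act hA ρ v v' (u, e) ω = ω := by
    obtain ⟨a, ha⟩ := hmem w
    obtain ⟨b, hb⟩ := hmem w'
    rcases ne_or_eq a 0 with ha0 | rfl
    · exact ⟨w, hw0, a, ha0, ha⟩
    rcases ne_or_eq b 0 with hb0 | rfl
    · refine ⟨w', fun e => ?_, b, hb0, hb⟩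
      rw [e, map_zero] at hw'
      exact zero_ne_one hw'
    refine ⟨w + w', fun e => ?_, _, ?_, by
      have h := act_act hA ρ v v' (w, 0) (w', 0) ω
      rw [hb, ha] at h
      exact h.symm⟩
    · have := congrArg (BW B v v' w) e
      rw [map_add, (BW_isAlt hA v v').self_eq_zero, hw', map_zero, zero_add] at this
      exact one_ne_zero this
    · show (0 : F) + 0 + B (w' : V) (w : V) ≠ 0
      rw [B_neg hA (w : V) (w' : V), ← BW_apply, hw']
      simp
  obtain ⟨uW', hu'⟩ : ∃ y, BW B v v' u y = 1 := by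
    obtain ⟨y, hy⟩ := exists_B_ne_zero hNW hu0
    exact ⟨(BW B v v' u y)⁻¹ • y, by rw [map_smul, smul_eq_mul, inv_mul_cancel₀ hy]⟩
  obtain ⟨a1, a2, a3, a4⟩ := W_apply hA u
  obtain ⟨b1, b2, b3, b4⟩ := W_apply hA uW'
  have P' : B (u : V) (uW' : V) = 1 := hu'
  -- apply the exchange twice
  have step : ∀ s : F, s ≠ 0 → ∀ t : F, ρ (rt hA v (t • (u : V)) (t * t * e / (s * s))) ω = ω := by
    intro s hs t
    have h1 : ρ (rt hA (u : V) (((s / e) * e) • v) ((s / e) * (s / e) * e)) ω = ω :=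
      H.exchange h2 hAll P P' a1 b1 a2 b2 hfix (s / e)
    rw [div_mul_cancel₀ _ he, show (s / e) * (s / e) * e = s * s * e⁻¹ by field_simp,
      ← rt_scale hA (by simp [a3]) s e⁻¹] at h1
    have h3 := H.exchange (v := s • (u : V)) (v' := s⁻¹ • (uW' : V)) h2 hAll
      (u := v) (u' := v') (by simp [P', hs]) P (by simp [a3]) (by simp [a4]) (by simp [b3])
      (by simp [b4]) h1 (t * e / s)
    convert h3 using 4
    · rw [smul_smul]; congr 1; field_simp
    · field_simp
  obtain ⟨s, hs0, hs1⟩ : ∃ s : F, s ≠ 0 ∧ s ≠ 1 := by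
    obtain ⟨s, hs⟩ : ∃ s, s ∉ ({0, 1} : Finset F) := by
      by_contra hc
      push Not at hc
      have := (Finset.card_le_card (fun x _ => hc x : (Finset.univ : Finset F) ⊆ {0, 1})).trans
        Finset.card_le_two
      rw [Finset.card_univ] at this
      omega
    simp only [Finset.mem_insert, Finset.mem_singleton, not_or] at hs
    exact ⟨s, hs.1, hs.2⟩
  have hne : e + e / (s * s) ≠ 0 := by
    intro h
    have hss : s * s = 1 := by
      field_simp at h
      rw [mul_zero] at h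
      linear_combination (mul_eq_zero.1 h).resolve_left he - h2
    rcases mul_self_eq_one_iff.1 hss with rfl | rfl
    · exact hs1 rfl
    · exact hs1 (by linear_combination -h2)
  refine hcon v hv0 ω ((AddSubgroup.eq_top_iff' _).2 fun c => ?_)
  obtain ⟨t, ht⟩ := FiniteField.isSquare_of_char_two
    (by by_contra hne'; exact Ring.two_ne_zero hne' h2) (c / (e + e / (s * s)))
  show ρ (spTransv hA v c) ω = ω
  have h' : ρ (rt hA v (t • (u : V)) (t * t * e / (1 * 1)) *
      rt hA v (t • (u : V)) (t * t * e / (s * s))) ω = ω := by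
    rw [map_mul, Equiv.Perm.mul_apply, step s hs0 t, step 1 one_ne_zero t]
  rw [rt_mul hA (by simp [a1]) (by simp [a1]), ← two_smul F, h2, zero_smul, rt_zero] at h'
  have hc : t * t * (e + e / (s * s)) = c := by rw [← ht, div_mul_cancel₀ _ hne]
  convert h' using 3
  rw [hA.self_eq_zero]
  congr 1
  linear_combination -hc

end Hyp

end Cfsg.Agent.MinDeg.Symp
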