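import Cfsg.Agent.Lib.MinDeg.SympGeom
import Cfsg.Agent.Lib.MinDeg.Orbit

/-!
A permutation representation of the symplectic group restricted to the radical of a point `v` of a
hyperbolic pair: the invariants `Lsub` (part of the centre in a point stabiliser), `Asub` (image
of the stabiliser in `W`) and `Bsub` (its annihilator), orbit lengths, and counting over the
conjugates of these invariants under `F^* × Sp(W)`.
-/

set_option autoImplicit false

namespace Cfsg.Agent.MinDeg.Symp

open Cfsg.Agent.ClassicalSimple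

variable {F V : Type*} [Field F] [Fintype F] [AddCommGroup V] [Module F V]
  {B : LinearMap.BilinForm F V}

section Duality

variable (F) in
/-- A primitive additive character. -/
noncomputable def chr : AddChar F ℂ :=
  Classical.choose (show ∃ ψ : AddChar F ℂ, ψ.IsPrimitive from
    ⟨_, AddChar.FiniteField.primitiveChar_to_Complex_isPrimitive F⟩)

theorem eq_zero_of_chr {x : F} (h : ∀ c : F, chr F (c * x) = 1) : x = 0 := by
  by_contra hx
  have hp : (chr F).IsPrimitive :=
    Classical.choose_spec (show ∃ ψ : AddChar F ℂ, ψ.IsPrimitive from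
      ⟨_, AddChar.FiniteField.primitiveChar_to_Complex_isPrimitive F⟩)
  obtain ⟨a, ha⟩ := AddChar.ne_one_iff.1 (hp hx)
  exact ha (by rw [AddChar.mulShift_apply, mul_comm]; exact h a)

variable (B) in
/-- The annihilator of an additive subgroup under the character of the form. -/
def annB (K : AddSubgroup V) : AddSubgroup V where
  carrier := {φ | ∀ w ∈ K, chr F (B φ w) = 1}
  zero_mem' := fun w _ => by simp
  add_mem' {a b} ha hb := fun w hw => by
    rw [map_add, LinearMap.add_apply, AddChar.map_add_eq_mul, ha w hw, hb w hw, one_mul]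
  neg_mem' {a} ha := fun w hw => by
    rw [map_neg, LinearMap.neg_apply, AddChar.map_neg_eq_inv, ha w hw, inv_one]

theorem mem_annB {K : AddSubgroup V} {φ : V} :
    φ ∈ annB B K ↔ ∀ w ∈ K, chr F (B φ w) = 1 := Iff.rfl

variable [FiniteDimensional F V] (hN : B.Nondegenerate)
include hN

theorem card_annB (K : AddSubgroup V) :
    Nat.card (annB B K) * Nat.card K = Nat.card V := by
  classical
  have : Finite V := Module.finite_of_finite F
  have := Fintype.ofFinite V
  let χ : V → V → ℂ := fun φ w => chr F (B φ w)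
  have hl : ∀ a b w, χ (a + b) w = χ a w * χ b w := fun a b w => by
    simp [χ, AddChar.map_add_eq_mul]
  have hr : ∀ φ a b, χ φ (a + b) = χ φ a * χ φ b := fun φ a b => by
    simp [χ, AddChar.map_add_eq_mul]
  have h1 : ∀ φ : V, ∑ w : K, χ φ w = if φ ∈ annB B K then (Nat.card K : ℂ) else 0 := by
    intro φ
    split_ifs with h
    · rw [Finset.sum_congr rfl (g := fun _ => (1 : ℂ)) fun w _ => h w.1 w.2]
      simp [Nat.card_eq_fintype_card]
    · rw [mem_annB] at h
      push Not at h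
      obtain ⟨w, hw, hne⟩ := h
      exact MinDeg.sum_char_addSubgroup (χ := fun w : K => χ φ w)
        (fun a b => hr φ a b) (b := ⟨w, hw⟩) hne
  have h2 : ∀ w : K, ∑ φ : V, χ φ w = if w = 0 then (Nat.card V : ℂ) else 0 := by
    intro w
    split_ifs with h
    · subst h; simp [χ, Nat.card_eq_fintype_card]
    · obtain ⟨y, hy⟩ : ∃ y, B y (w : V) ≠ 0 := by
        by_contra hc
        push Not at hc
        exact h (Subtype.ext (hN.2 _ hc))
      obtain ⟨c, hc⟩ : ∃ c : F, chr F (c * B y (w : V)) ≠ 1 := by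
        by_contra hcon
        push Not at hcon
        exact hy (eq_zero_of_chr hcon)
      exact MinDeg.sum_char_addSubgroup (χ := fun φ : V => χ φ w)
        (fun a b => hl a b w) (b := c • y) (by simpa [χ] using hc)
  have h3 : ∑ φ : V, ∑ w : K, χ φ w = ∑ w : K, ∑ φ : V, χ φ w := Finset.sum_comm
  simp_rw [h1, h2] at h3
  rw [← Finset.sum_filter, Finset.sum_const, nsmul_eq_mul, Finset.sum_ite_eq',
    if_pos (Finset.mem_univ _)] at h3
  rw [Nat.card_eq_fintype_card, Fintype.card_of_subtype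
    (Finset.univ.filter fun φ => φ ∈ annB B K) (by simp)]
  exact_mod_cast h3

theorem annB_annB (hA : LinearMap.IsAlt B) (K : AddSubgroup V) : annB B (annB B K) = K := by
  have : Finite V := Module.finite_of_finite F
  refine (AddSubgroup.eq_of_le_of_card_ge (fun w hw φ hφ => ?_) ?_).symm
  · rw [B_neg hA φ w, AddChar.map_neg_eq_inv, hφ w hw, inv_one]
  · have h1 := card_annB hN K
    have h2 := card_annB hN (annB B K)
    rw [← h1, mul_comm (Nat.card (annB B K))] at h2
    exact (Nat.eq_of_mul_eq_mul_right Nat.card_pos h2).le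

end Duality

variable (hA : LinearMap.IsAlt B) {Ω : Type*} (ρ : SpB B →* Equiv.Perm Ω) (v v' : V)

/-- The action of the radical element of `(w, c)`. -/
def act (p : Wsp B v v' × F) (ω : Ω) : Ω := ρ (rt hA v (p.1 : V) p.2) ω

/-- The product in the radical. -/
def rmul (p r : Wsp B v v' × F) : Wsp B v v' × F :=
  (p.1 + r.1, p.2 + r.2 + B (r.1 : V) (p.1 : V))

include hA

omit [Fintype F] in
theorem act_act (p r : Wsp B v v' × F) (ω : Ω) :
    act hA ρ v v' p (act hA ρ v v' r ω) = act hA ρ v v' (rmul v v' p r) ω := by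
  rw [act, act, ← Equiv.Perm.mul_apply, ← map_mul, rt_mul hA (W_apply hA p.1).1 (W_apply hA r.1).1]
  rfl

omit [Fintype F] in
theorem act_zero (ω : Ω) : act hA ρ v v' 0 ω = ω := by
  rw [act, Prod.fst_zero, Prod.snd_zero, Submodule.coe_zero, rt_zero, spTransv_zero, map_one]
  rfl

omit [Fintype F] in
theorem act_central (c : F) (ω : Ω) :
    act hA ρ v v' (0, c) ω = ρ (spTransv hA v c) ω := by
  rw [act, Submodule.coe_zero, rt_zero]

omit hA in
/-- The orbit of the radical. -/
def orb (hA : LinearMap.IsAlt B) (ω : Ω) : Set Ω := Set.range fun p => act hA ρ v v' p ω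

omit hA in
/-- The stabiliser in the centre of the radical. -/
def Lsub (hA : LinearMap.IsAlt B) (ω : Ω) : AddSubgroup F where
  carrier := {c | ρ (spTransv hA v c) ω = ω}
  zero_mem' := by simp [spTransv_zero]
  add_mem' {a b} ha hb := by
    show ρ (spTransv hA v (a + b)) ω = ω
    rw [← spTransv_add, map_mul, Equiv.Perm.mul_apply, hb, ha]
  neg_mem' {a} ha := by
    show ρ (spTransv hA v (-a)) ω = ω
    rw [show spTransv hA v (-a) = (spTransv hA v a)⁻¹ from eq_inv_of_mul_eq_one_left (by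
      rw [spTransv_add, neg_add_cancel, spTransv_zero]), map_inv, Equiv.Perm.inv_eq_iff_eq]
    exact ha.symm

omit [Fintype F] in
theorem mem_Lsub {ω : Ω} {c : F} : c ∈ Lsub ρ v hA ω ↔ ρ (spTransv hA v c) ω = ω := Iff.rfl

omit hA in
/-- The image of the stabiliser in the complement. -/
def Asub (hA : LinearMap.IsAlt B) (ω : Ω) : AddSubgroup (Wsp B v v') where
  carrier := {w | ∃ c, act hA ρ v v' (w, c) ω = ω}
  zero_mem' := ⟨0, act_zero hA ρ v v' ω⟩
  add_mem' {a b} := by
    rintro ⟨c, hc⟩ ⟨d, hd⟩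
    exact ⟨c + d + B (b : V) (a : V), by
      have h := act_act hA ρ v v' (a, c) (b, d) ω
      rw [hd, hc] at h
      exact h.symm⟩
  neg_mem' {a} := by
    rintro ⟨c, hc⟩
    refine ⟨-c, ?_⟩
    have h := act_act hA ρ v v' (-a, -c) (a, c) ω
    rw [hc] at h
    rw [h]
    have e : rmul v v' ((-a, -c) : Wsp B v v' × F) (a, c) = 0 :=
      Prod.ext (neg_add_cancel a) (by simp [rmul, hA.self_eq_zero])
    rw [e, act_zero]

omit [Fintype F] in
theorem mem_Asub {ω : Ω} {w : Wsp B v v'} :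
    w ∈ Asub ρ v v' hA ω ↔ ∃ c, act hA ρ v v' (w, c) ω = ω := Iff.rfl

omit hA in
/-- The annihilator of `Asub`. -/
def Bsub (hA : LinearMap.IsAlt B) (ω : Ω) : AddSubgroup (Wsp B v v') :=
  annB (BW B v v') (Asub ρ v v' hA ω)

omit hA in
/-- The two invariants of an orbit. -/
def inv2 (hA : LinearMap.IsAlt B) (ω : Ω) : AddSubgroup F × AddSubgroup (Wsp B v v') :=
  (Lsub ρ v hA ω, Bsub ρ v v' hA ω)

omit hA in
/-- The points with given invariants. -/
def Yset (hA : LinearMap.IsAlt B) (p : AddSubgroup F × AddSubgroup (Wsp B v v')) : Set Ω :=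
  {x | inv2 ρ v v' hA x = p}

variable {ρ v v'}

omit [Fintype F] in
theorem self_mem_orb (ω : Ω) : ω ∈ orb ρ v v' hA ω := ⟨0, act_zero hA ρ v v' ω⟩

omit [Fintype F] in
theorem orb_symm {ω x : Ω} (h : x ∈ orb ρ v v' hA ω) : ω ∈ orb ρ v v' hA x := by
  obtain ⟨⟨w, c⟩, rfl⟩ := h
  refine ⟨(-w, -c), ?_⟩
  show act hA ρ v v' (-w, -c) (act hA ρ v v' (w, c) ω) = ω
  rw [act_act, show rmul v v' ((-w, -c) : Wsp B v v' × F) (w, c) = 0 from
    Prod.ext (neg_add_cancel w) (by simp [rmul, hA.self_eq_zero]), act_zero]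

omit [Fintype F] in
theorem orb_trans {ω x y : Ω} (h : x ∈ orb ρ v v' hA ω) (h' : y ∈ orb ρ v v' hA x) :
    y ∈ orb ρ v v' hA ω := by
  obtain ⟨p, rfl⟩ := h
  obtain ⟨r, rfl⟩ := h'
  exact ⟨rmul v v' r p, (act_act hA ρ v v' r p ω).symm⟩

omit [Fintype F] in
theorem stab_orb_le {ω x : Ω} (h : x ∈ orb ρ v v' hA ω) :
    Lsub ρ v hA ω ≤ Lsub ρ v hA x ∧ Asub ρ v v' hA ω ≤ Asub ρ v v' hA x := by
  obtain ⟨⟨w₀, c₀⟩, rfl⟩ := h
  obtain ⟨h1, -, h3, -⟩ := W_apply hA w₀
  set g := rt hA v (w₀ : V) c₀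
  have gv : g • v = v := rt_smul_v hA h1 c₀
  have key : ∀ (w : Wsp B v v') (c : F), g * rt hA v (w : V) c * g⁻¹ =
      rt hA v (w : V) (c + 2 * B (w : V) (w₀ : V)) := by
    intro w c
    obtain ⟨w1, -, w3, -⟩ := W_apply hA w
    rw [rt_conj, gv, show g • (w : V) = (w : V) + B (w : V) (w₀ : V) • v by
      simp [g, rt_smul hA h1, w3], rt_add_self hA w1]
  refine ⟨fun c hc => ?_, fun w hw => ?_⟩
  · have e := key 0 c
    simp only [Submodule.coe_zero, map_zero, LinearMap.zero_apply, mul_zero, add_zero, rt_zero] at e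
    show ρ (spTransv hA v c) (ρ g ω) = ρ g ω
    rw [← e]
    simp only [map_mul, map_inv, Equiv.Perm.mul_apply, Equiv.Perm.inv_def,
      Equiv.symm_apply_apply, show ρ (spTransv hA v c) ω = ω from hc]
  · obtain ⟨c, hc⟩ := hw
    refine ⟨c + 2 * B (w : V) (w₀ : V), ?_⟩
    show ρ (rt hA v (w : V) (c + 2 * B (w : V) (w₀ : V))) (ρ g ω) = ρ g ω
    rw [← key]
    simp only [map_mul, map_inv, Equiv.Perm.mul_apply, Equiv.Perm.inv_def,
      Equiv.symm_apply_apply, show ρ (rt hA v (w : V) c) ω = ω from hc]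

theorem inv2_orb {ω x : Ω} (h : x ∈ orb ρ v v' hA ω) :
    inv2 ρ v v' hA x = inv2 ρ v v' hA ω := by
  obtain ⟨h1, h2⟩ := stab_orb_le hA h
  obtain ⟨h3, h4⟩ := stab_orb_le hA (orb_symm hA h)
  rw [inv2, inv2, Bsub, Bsub, le_antisymm h3 h1, le_antisymm h4 h2]

theorem orb_subset_Yset (ω : Ω) : orb ρ v v' hA ω ⊆ Yset ρ v v' hA (inv2 ρ v v' hA ω) :=
  fun _ hx => inv2_orb hA hx

section Finite

variable [FiniteDimensional F V] [Fintype Ω] (hN : B.Nondegenerate) (P : B v v' = 1)
include hN P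

/-- Orbit lengths. -/
theorem ncard_orb (ω : Ω) :
    (orb ρ v v' hA ω).ncard = (Lsub ρ v hA ω).index * Nat.card (Bsub ρ v v' hA ω) := by
  classical
  have : Finite V := Module.finite_of_finite F
  have := Fintype.ofFinite (Wsp B v v')
  set f : Wsp B v v' × F → Ω := fun p => act hA ρ v v' p ω
  let K := Finset.univ.filter fun p => f p = ω
  have hcomp : ∀ (p r : Wsp B v v' × F), f (rmul v v' p r) = act hA ρ v v' p (f r) :=
    fun p r => (act_act hA ρ v v' p r ω).symm
  -- all fibres have the size of `K`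
  have hfib : ∀ x ∈ Finset.univ.image f, (Finset.univ.filter fun p => f p = x).card = K.card := by
    intro x hx
    obtain ⟨p₀, -, rfl⟩ := Finset.mem_image.1 hx
    refine (Finset.card_bij (fun r _ => rmul v v' p₀ r) (fun r hr => ?_) (fun r _ r' _ e => ?_)
      fun p hp => ?_).symm
    · exact Finset.mem_filter.2 ⟨Finset.mem_univ _, by rw [hcomp, (Finset.mem_filter.1 hr).2]⟩
    · have e1 : r.1 = r'.1 := add_left_cancel (congrArg Prod.fst e :)
      have e2 := congrArg Prod.snd e
      simp only [rmul, e1] at e2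
      exact Prod.ext e1 (by linear_combination e2)
    · refine ⟨(p.1 - p₀.1, p.2 - p₀.2 - B ((p.1 - p₀.1 : Wsp B v v') : V) (p₀.1 : V)),
        Finset.mem_filter.2 ⟨Finset.mem_univ _, ?_⟩, ?_⟩
      · refine (ρ (rt hA v (p₀.1 : V) p₀.2)).injective ?_
        change act hA ρ v v' p₀ (f _) = act hA ρ v v' p₀ ω
        rw [← hcomp, show rmul v v' p₀ _ = p from Prod.ext (add_sub_cancel _ _)
          (by simp [rmul]; ring)]
        exact (Finset.mem_filter.1 hp).2
      · exact Prod.ext (add_sub_cancel _ _) (by simp [rmul]; ring)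
  have htot : (Finset.univ.image f).card * K.card = Fintype.card (Wsp B v v') * Fintype.card F := by
    rw [← Fintype.card_prod, ← Finset.card_univ, Finset.card_eq_sum_card_image f Finset.univ,
      Finset.sum_congr rfl hfib, Finset.sum_const, smul_eq_mul]
  -- `K` is a union of cosets of the central part
  have hK : K.card = Nat.card (Asub ρ v v' hA ω) * Nat.card (Lsub ρ v hA ω) := by
    rw [← Nat.card_prod, ← Fintype.card_coe, ← Nat.card_eq_fintype_card]
    choose sec hsec using fun a : Asub ρ v v' hA ω => a.2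
    refine (Nat.card_eq_of_bijective
      (fun al : Asub ρ v v' hA ω × Lsub ρ v hA ω =>
        (⟨((al.1 : Wsp B v v'), sec al.1 + al.2), Finset.mem_filter.2 ⟨Finset.mem_univ _, ?_⟩⟩ : K))
      ⟨fun al al' e => ?_, fun p => ?_⟩).symm
    · have h := act_act hA ρ v v' ((al.1 : Wsp B v v'), sec al.1) (0, (al.2 : F)) ω
      rw [act_central, show ρ (spTransv hA v (al.2 : F)) ω = ω from al.2.2, hsec] at h
      simpa [rmul] using h.symm
    · have e' := congrArg Subtype.val e
      simp only [Prod.mk.injEq] at e'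
      have e1 : al.1 = al'.1 := Subtype.ext e'.1
      rw [e1] at e'
      exact Prod.ext e1 (Subtype.ext (add_left_cancel e'.2))
    · obtain ⟨⟨w, c⟩, hp⟩ := p
      have hp' : act hA ρ v v' (w, c) ω = ω := (Finset.mem_filter.1 hp).2
      have hw : w ∈ Asub ρ v v' hA ω := ⟨c, hp'⟩
      refine ⟨(⟨w, hw⟩, ⟨c - sec ⟨w, hw⟩, ?_⟩), Subtype.ext (Prod.ext rfl (by simp))⟩
      have h := act_act hA ρ v v' (w, sec ⟨w, hw⟩) (0, c - sec ⟨w, hw⟩) ω
      rw [act_central, show rmul v v' ((w, sec ⟨w, hw⟩) : Wsp B v v' × F) (0, c - sec ⟨w, hw⟩) =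
        (w, c) from Prod.ext (add_zero _) (by simp [rmul]), hp'] at h
      exact (ρ (rt hA v (w : V) (sec ⟨w, hw⟩))).injective (h.trans (hsec ⟨w, hw⟩).symm)
  have horb : (orb ρ v v' hA ω).ncard = (Finset.univ.image f).card := by
    rw [← Set.ncard_coe_finset, Finset.coe_image, Finset.coe_univ, Set.image_univ]
    rfl
  have h1 := card_annB (BW_nondegenerate hA P hN) (Asub ρ v v' hA ω)
  have h2 := (Lsub ρ v hA ω).card_mul_index
  rw [Nat.card_eq_fintype_card (α := F)] at h2
  rw [hK, ← horb, ← Nat.card_eq_fintype_card (α := Wsp B v v'), ← h1, ← h2] at htot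
  refine Nat.eq_of_mul_eq_mul_right (m := Nat.card (Asub ρ v v' hA ω) * Nat.card (Lsub ρ v hA ω))
    (Nat.mul_pos Nat.card_pos Nat.card_pos) ?_
  rw [htot, Bsub]
  ring

theorem le_ncard_Yset (ω : Ω) :
    (Lsub ρ v hA ω).index * Nat.card (Bsub ρ v v' hA ω) ≤
      (Yset ρ v v' hA (inv2 ρ v v' hA ω)).ncard := by
  rw [← ncard_orb hA hN P]
  exact Set.ncard_le_ncard (orb_subset_Yset hA ω) (Set.toFinite _)

theorem two_le_ncard_Yset {ω x : Ω} (h : inv2 ρ v v' hA x = inv2 ρ v v' hA ω)
    (hx : x ∉ orb ρ v v' hA ω) :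
    2 * ((Lsub ρ v hA ω).index * Nat.card (Bsub ρ v v' hA ω)) ≤
      (Yset ρ v v' hA (inv2 ρ v v' hA ω)).ncard := by
  have e : (Lsub ρ v hA x).index * Nat.card (Bsub ρ v v' hA x) =
      (Lsub ρ v hA ω).index * Nat.card (Bsub ρ v v' hA ω) := by
    rw [show Lsub ρ v hA x = Lsub ρ v hA ω from congrArg Prod.fst h,
      show Bsub ρ v v' hA x = Bsub ρ v v' hA ω from congrArg Prod.snd h]
  rw [two_mul]
  nth_rw 1 [← ncard_orb hA hN P ω]
  rw [← e, ← ncard_orb hA hN P x, ← Set.ncard_union_eq ?_ (Set.toFinite _) (Set.toFinite _)]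
  · exact Set.ncard_le_ncard (Set.union_subset (orb_subset_Yset hA ω) (h ▸ orb_subset_Yset hA x))
      (Set.toFinite _)
  · exact Set.disjoint_left.2 fun y hy hy' => hx (orb_trans hA hy (orb_symm hA hy'))

end Finite

/-! ### Conjugation by `F^* × Sp(W)` -/

omit [Fintype F] hA in
/-- Scaling by the square of `a`. -/
def scaleL (a : F) (L : AddSubgroup F) : AddSubgroup F := L.map (AddMonoidHom.mulLeft (a * a))

omit [Fintype F] hA in
theorem mem_scaleL {a : F} (ha : a ≠ 0) {L : AddSubgroup F} {x : F} :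
    x ∈ scaleL a L ↔ x / (a * a) ∈ L := by
  have : a * a ≠ 0 := mul_ne_zero ha ha
  constructor
  · rintro ⟨y, hy, rfl⟩
    simpa [this] using hy
  · exact fun h => ⟨_, h, by simp [mul_div_cancel₀ _ this]⟩

omit [Fintype F] hA in
/-- The map induced on the annihilators. -/
def scaleW (p : Fˣ × SpB (BW B v v')) : Wsp B v v' →+ Wsp B v v' where
  toFun w := ((p.1⁻¹ : Fˣ) : F) • (p.2 • w)
  map_zero' := by simp
  map_add' a b := by simp

omit [Fintype F] hA in
theorem scaleW_inv (p : Fˣ × SpB (BW B v v')) (w : Wsp B v v') :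
    scaleW p (scaleW p⁻¹ w) = w := by
  show ((p.1⁻¹ : Fˣ) : F) • (p.2 • ((((p⁻¹).1)⁻¹ : Fˣ) : F) • ((p⁻¹).2 • w)) = w
  rw [Prod.fst_inv, Prod.snd_inv, inv_inv, smul_comm p.2, smul_inv_smul, smul_smul,
    Units.inv_mul, one_smul]

omit [Fintype F] hA in
/-- The action on pairs of invariants. -/
def scale2 (p : Fˣ × SpB (BW B v v')) (I : AddSubgroup F × AddSubgroup (Wsp B v v')) :
    AddSubgroup F × AddSubgroup (Wsp B v v') :=
  (scaleL (p.1 : F) I.1, I.2.map (scaleW p))

omit [Fintype F] hA in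
theorem mem_map_scaleW (p : Fˣ × SpB (BW B v v')) {S : AddSubgroup (Wsp B v v')}
    {x : Wsp B v v'} : x ∈ S.map (scaleW p) ↔ scaleW p⁻¹ x ∈ S := by
  constructor
  · rintro ⟨y, hy, rfl⟩
    have := scaleW_inv p⁻¹ y
    rw [inv_inv] at this
    rwa [this]
  · exact fun h => ⟨_, h, scaleW_inv p x⟩

variable (P : B v v' = 1)
include P

theorem inv2_blk (p : Fˣ × SpB (BW B v v')) (ω : Ω) :
    inv2 ρ v v' hA (ρ (blk hA P p) ω) = scale2 p (inv2 ρ v v' hA ω) := by
  -- one inclusion for the two stabilisers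
  have key : ∀ (r : Fˣ × SpB (BW B v v')) (y : Ω), (∀ c ∈ Lsub ρ v hA y,
      (r.1 : F) * r.1 * c ∈ Lsub ρ v hA (ρ (blk hA P r) y)) ∧
      ∀ w ∈ Asub ρ v v' hA y, (r.1 : F) • (r.2 • w) ∈ Asub ρ v v' hA (ρ (blk hA P r) y) := by
    intro r y
    refine ⟨fun c hc => ?_, fun w hw => ?_⟩
    · have e := blk_conj_rt hA P r 0 c
      simp only [smul_zero, Submodule.coe_zero, rt_zero] at e
      show ρ (spTransv hA v _) _ = _
      rw [← e]
      simp only [map_mul, map_inv, Equiv.Perm.mul_apply, Equiv.Perm.inv_def,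
        Equiv.symm_apply_apply, show ρ (spTransv hA v c) y = y from hc]
    · obtain ⟨c, hc⟩ := hw
      refine ⟨(r.1 : F) * r.1 * c, ?_⟩
      show ρ (rt hA v _ _) _ = _
      rw [← blk_conj_rt hA P r w c]
      simp only [map_mul, map_inv, Equiv.Perm.mul_apply, Equiv.Perm.inv_def,
        Equiv.symm_apply_apply, show ρ (rt hA v (w : V) c) y = y from hc]
  have hback : ρ (blk hA P p⁻¹) (ρ (blk hA P p) ω) = ω := by
    rw [← Equiv.Perm.mul_apply, ← map_mul, ← map_mul, inv_mul_cancel, map_one, map_one]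
    rfl
  have hL : Lsub ρ v hA (ρ (blk hA P p) ω) = scaleL (p.1 : F) (Lsub ρ v hA ω) := by
    ext x
    rw [mem_scaleL p.1.ne_zero]
    constructor
    · intro hx
      have := (key p⁻¹ _).1 x hx
      rw [hback] at this
      convert this using 1
      rw [Prod.fst_inv, Units.val_inv_eq_inv_val, div_eq_mul_inv, mul_inv]
      ring
    · intro hx
      have := (key p ω).1 _ hx
      rwa [mul_div_cancel₀ _ (mul_ne_zero p.1.ne_zero p.1.ne_zero)] at this
  refine Prod.ext hL ?_
  show Bsub ρ v v' hA (ρ (blk hA P p) ω) = (Bsub ρ v v' hA ω).map (scaleW p)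
  ext φ
  rw [mem_map_scaleW]
  have hinv : scaleW p⁻¹ φ = (p.1 : F) • (p.2⁻¹ • φ) := by
    show (((p⁻¹).1⁻¹ : Fˣ) : F) • ((p⁻¹).2 • φ) = _
    rw [Prod.fst_inv, Prod.snd_inv, inv_inv]
  rw [hinv, Bsub, Bsub, mem_annB, mem_annB]
  constructor
  · intro h w hw
    have := h _ ((key p ω).2 w hw)
    rw [map_smul, ← form_smul p.2⁻¹, inv_smul_smul] at this
    rwa [map_smul, LinearMap.smul_apply]
  · intro h w hw
    have hw' := (key p⁻¹ _).2 w hw
    rw [hback] at hw'
    have := h _ hw'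
    simp only [map_smul, LinearMap.smul_apply, Prod.fst_inv, Prod.snd_inv, form_smul,
      smul_smul, Units.mul_inv, Units.inv_mul, one_smul] at this
    exact this

omit [Fintype F] hA P in
theorem scale2_inv (p : Fˣ × SpB (BW B v v'))
    (I : AddSubgroup F × AddSubgroup (Wsp B v v')) : scale2 p⁻¹ (scale2 p I) = I := by
  refine Prod.ext ?_ ?_
  · ext x
    show x ∈ scaleL (((p⁻¹).1 : Fˣ) : F) (scaleL (p.1 : F) I.1) ↔ _
    rw [mem_scaleL (Units.ne_zero _), mem_scaleL (Units.ne_zero _), Prod.fst_inv,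
      Units.val_inv_eq_inv_val]
    have := p.1.ne_zero
    field_simp
  · ext x
    show x ∈ (I.2.map (scaleW p)).map (scaleW p⁻¹) ↔ _
    rw [mem_map_scaleW, mem_map_scaleW, inv_inv]
    have := scaleW_inv p⁻¹ x
    rw [inv_inv] at this
    rw [this]

theorem ncard_Yset_scale [Fintype Ω] (p : Fˣ × SpB (BW B v v'))
    (I : AddSubgroup F × AddSubgroup (Wsp B v v')) :
    (Yset ρ v v' hA I).ncard ≤ (Yset ρ v v' hA (scale2 p I)).ncard := by
  refine Set.ncard_le_ncard_of_injOn (fun x => ρ (blk hA P p) x) (fun x hx => ?_)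
    (fun a _ b _ e => (ρ (blk hA P p)).injective e) (Set.toFinite _)
  show inv2 ρ v v' hA _ = _
  rw [inv2_blk hA P, show inv2 ρ v v' hA x = I from hx]

omit P hA in
open Classical in
/-- The conjugates of `L`. -/
noncomputable def Lset (L : AddSubgroup F) : Finset (AddSubgroup F) :=
  Finset.univ.image fun a : Fˣ => scaleL (a : F) L

omit P hA in
open Classical in
/-- The images of `S` under `Sp(W)`. -/
noncomputable def Mset [FiniteDimensional F V] (S : AddSubgroup (Wsp B v v')) :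
    Finset (AddSubgroup (Wsp B v v')) :=
  haveI : Finite (Wsp B v v') := Module.finite_of_finite F
  haveI : Finite (AddSubgroup (Wsp B v v')) :=
    Finite.of_injective (fun K : AddSubgroup (Wsp B v v') => (K : Set (Wsp B v v')))
      SetLike.coe_injective
  (Set.toFinite (Set.range fun g : SpB (BW B v v') => S.map (scaleW (1, g)))).toFinset

omit P hA in
theorem mem_Mset [FiniteDimensional F V] {S T : AddSubgroup (Wsp B v v')} :
    T ∈ Mset S ↔ ∃ g : SpB (BW B v v'), S.map (scaleW (1, g)) = T := by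
  simp [Mset]

open Classical in
/-- All conjugates of the invariants of a point have as many points. -/
theorem count_le [FiniteDimensional F V] [Fintype Ω]
    (I : AddSubgroup F × AddSubgroup (Wsp B v v')) :
    (Lset I.1).card * (Mset I.2).card * (Yset ρ v v' hA I).ncard ≤
      Nat.card Ω := by
  have hL : ∀ L' ∈ Lset I.1, ∃ a : Fˣ, scaleL (a : F) I.1 = L' := fun L' h => by
    simpa [Lset] using h
  choose a ha using hL
  let J : AddSubgroup F × AddSubgroup (Wsp B v v') → AddSubgroup F × AddSubgroup (Wsp B v v') :=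
    fun LS => if h : LS.1 ∈ Lset I.1 then (LS.1, LS.2.map (scaleW (a LS.1 h, 1))) else LS
  let T := (Lset I.1 ×ˢ Mset I.2).image J
  have hmapinj : ∀ (p : Fˣ × SpB (BW B v v')) (S S' : AddSubgroup (Wsp B v v')),
      S.map (scaleW p) = S'.map (scaleW p) → S = S' := by
    intro p S S' e
    ext x
    have h : scaleW p⁻¹ (scaleW p x) = x := by simpa using scaleW_inv p⁻¹ x
    constructor <;> intro hx
    · have h' : scaleW p x ∈ S'.map (scaleW p) := e ▸ AddSubgroup.mem_map_of_mem _ hx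
      rwa [mem_map_scaleW, h] at h'
    · have h' : scaleW p x ∈ S.map (scaleW p) := e ▸ AddSubgroup.mem_map_of_mem _ hx
      rwa [mem_map_scaleW, h] at h'
  have hTcard : T.card = (Lset I.1).card * (Mset I.2).card := by
    rw [Finset.card_image_of_injOn, Finset.card_product]
    rintro ⟨L1, S1⟩ h1 ⟨L2, S2⟩ h2 e
    obtain ⟨h1, -⟩ := Finset.mem_product.1 (Finset.mem_coe.1 h1)
    obtain ⟨h2, -⟩ := Finset.mem_product.1 (Finset.mem_coe.1 h2)
    simp only [J, h1, h2, dif_pos, Prod.mk.injEq] at e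
    obtain ⟨rfl, e2⟩ := e
    rw [hmapinj _ _ _ e2]
  have hY : ∀ p ∈ T, (Yset ρ v v' hA I).ncard ≤ (Yset ρ v v' hA p).ncard := by
    intro p hp
    obtain ⟨⟨L', S'⟩, h, rfl⟩ := Finset.mem_image.1 hp
    obtain ⟨hL', hS'⟩ := Finset.mem_product.1 h
    obtain ⟨g, rfl⟩ := mem_Mset.1 hS'
    have e : J (L', I.2.map (scaleW (1, g))) = scale2 (a L' hL', g) I := by
      simp only [J, hL', dif_pos, scale2, AddSubgroup.map_map]
      refine Prod.ext (ha L' hL').symm ?_
      refine congrArg (fun h => AddSubgroup.map h I.2) (AddMonoidHom.ext fun w => ?_)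
      show (((a L' hL')⁻¹ : Fˣ) : F) • ((1 : SpB (BW B v v')) • ((((1 : Fˣ)⁻¹ : Fˣ) : F) •
        (g • w))) = (((a L' hL')⁻¹ : Fˣ) : F) • (g • w)
      simp
    rw [e]
    exact ncard_Yset_scale hA P _ I
  rw [← hTcard]
  have hdisj : ∀ p ∈ T, ∀ r ∈ T, p ≠ r →
      Disjoint (Set.toFinite (Yset ρ v v' hA p)).toFinset
        (Set.toFinite (Yset ρ v v' hA r)).toFinset := by
    intro p _ r _ hpr
    rw [Finset.disjoint_left]
    intro x hx hx'
    rw [Set.Finite.mem_toFinset] at hx hx'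
    exact hpr ((show inv2 ρ v v' hA x = p from hx).symm.trans hx')
  calc T.card * (Yset ρ v v' hA I).ncard
      ≤ ∑ p ∈ T, (Set.toFinite (Yset ρ v v' hA p)).toFinset.card := by
        rw [← smul_eq_mul]
        refine Finset.card_nsmul_le_sum _ _ _ fun p hp => ?_
        rw [← Set.ncard_eq_toFinset_card]
        exact hY p hp
    _ = (T.biUnion fun p => (Set.toFinite (Yset ρ v v' hA p)).toFinset).card :=
        (Finset.card_biUnion hdisj).symm
    _ ≤ Fintype.card Ω := Finset.card_le_univ _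
    _ = Nat.card Ω := Nat.card_eq_fintype_card.symm

end Cfsg.Agent.MinDeg.Symp
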