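import Cfsg.Agent.Lib.MinDeg.SympMoved

/-!
The minimal degree of the symplectic groups: the points whose transvection groups fix a given
point would be too many.
-/

set_option autoImplicit false

namespace Cfsg.Agent.MinDeg.Symp

open Cfsg.Agent.ClassicalSimple

variable {F V : Type*} [Field F] [Fintype F] [AddCommGroup V] [Module F V] [FiniteDimensional F V]
  {B : LinearMap.BilinForm F V} {Ω : Type*} {ρ : SpB B →* Equiv.Perm Ω} {m : ℕ}

namespace Hyp

variable (H : Hyp ρ m)
include H

omit [FiniteDimensional F V] [Fintype F] H in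
theorem mem_fix_iff (hA : LinearMap.IsAlt B) {x : V} {ω : Ω} :
    Lsub ρ x hA ω = ⊤ ↔ ∀ c, ρ (spTransv hA x c) ω = ω :=
  AddSubgroup.eq_top_iff' _

omit [FiniteDimensional F V] [Fintype F] H in
theorem fix_map (hA : LinearMap.IsAlt B) {x : V} {ω : Ω} (g : SpB B)
    (h : Lsub ρ x hA ω = ⊤) : Lsub ρ (g • x) hA (ρ g ω) = ⊤ :=
  (mem_fix_iff hA).2 fun c => conj_fixed (spTransv_conj hA g x c) ((mem_fix_iff hA).1 h c)

omit [FiniteDimensional F V] [Fintype F] H in
theorem fix_map_iff (hA : LinearMap.IsAlt B) {x : V} {ω : Ω} (g : SpB B) :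
    Lsub ρ (g • x) hA (ρ g ω) = ⊤ ↔ Lsub ρ x hA ω = ⊤ := by
  refine ⟨fun h => ?_, fix_map hA g⟩
  have := fix_map hA g⁻¹ h
  rwa [inv_smul_smul, map_inv, Equiv.Perm.inv_def, Equiv.symm_apply_apply] at this

omit [FiniteDimensional F V] [Fintype F] H in
theorem fix_smul (hA : LinearMap.IsAlt B) {x : V} {ω : Ω} (h : Lsub ρ x hA ω = ⊤) (a : F) :
    Lsub ρ (a • x) hA ω = ⊤ :=
  (mem_fix_iff hA).2 fun c => by rw [spTransv_scale]; exact (mem_fix_iff hA).1 h _

omit [FiniteDimensional F V] [Fintype F] H in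
theorem fix_transv (hA : LinearMap.IsAlt B) {x y : V} {ω : Ω} (hx : Lsub ρ x hA ω = ⊤)
    (hy : Lsub ρ y hA ω = ⊤) (c : F) : Lsub ρ (y + (c * B y x) • x) hA ω = ⊤ := by
  have := fix_map hA (spTransv hA x c) hy
  rwa [spTransv_smul, (mem_fix_iff hA).1 hx c] at this

omit [FiniteDimensional F V] [Fintype F] H in
theorem fix_span (hA : LinearMap.IsAlt B) {x y : V} {ω : Ω} (hx : Lsub ρ x hA ω = ⊤)
    (hy : Lsub ρ y hA ω = ⊤) (h : B y x ≠ 0) (a b : F) :
    Lsub ρ (a • x + b • y) hA ω = ⊤ := by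
  by_cases hb : b = 0
  · rw [hb, zero_smul, add_zero]; exact fix_smul hA hx a
  have := fix_transv hA hx (fix_smul hA hy b) (a / (b * B y x))
  rw [map_smul, LinearMap.smul_apply, smul_eq_mul, div_mul_cancel₀ _ (mul_ne_zero hb h),
    add_comm] at this
  exact this

variable [Fintype Ω]

/-- The transvection group of a point fixes at least `q ^ (2 m - 2)` points. -/
theorem many_fixed {v v' : V} (P : B v v' = 1) {ω : Ω} (hω : Lsub ρ v H.alt ω = ⊤) :
    Fintype.card F ^ (2 * m - 2) ≤ {x | Lsub ρ v H.alt x = ⊤}.ncard := by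
  classical
  have := H.nontriv
  have hA := H.alt
  have hNW := BW_nondegenerate hA P H.nondeg
  have hW : Finite V := Module.finite_of_finite F
  -- no radical fixes a point
  have hB : Bsub ρ v v' hA ω ≠ ⊥ := by
    intro e
    have hAtop : Asub ρ v v' hA ω = ⊤ := by
      have h5 := card_annB hNW (Asub ρ v v' hA ω)
      rw [show annB (BW B v v') (Asub ρ v v' hA ω) = ⊥ from e, AddSubgroup.card_bot, one_mul] at h5
      exact AddSubgroup.eq_top_of_card_eq _ h5
    refine no_full hA H.nondeg H.dim H.m_two H.q_three H.trans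
      (by rw [← Nat.card_eq_fintype_card]; exact H.small) (ne_zero_left P) (ω := ω) fun w c hw => ?_
    have hmem : prW hA P w ∈ Asub ρ v v' hA ω := by rw [hAtop]; exact AddSubgroup.mem_top _
    obtain ⟨d, hd⟩ := hmem
    obtain ⟨h1, -, -, -⟩ := W_apply hA (prW hA P w)
    have e1 : w = (prW hA P w : V) + B w v' • v := by
      rw [coe_prW, pr, B_swap hA hw, zero_smul, add_zero, sub_add_cancel]
    rw [e1, rt_add_self hA h1]
    have h := act_act hA ρ v v' (0, c + 2 * B w v' - d) (prW hA P w, d) ω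
    rw [hd, act_central, (mem_fix_iff hA).1 hω, rmul_central, sub_add_cancel] at h
    exact h.symm
  set I := inv2 ρ v v' hA ω with hI
  let T := (Mset I.2).image fun S => (I.1, S)
  have hT : T.card = (Mset I.2).card :=
    Finset.card_image_of_injective _ fun a b e => congrArg Prod.snd e
  have hY : ∀ p ∈ T, (Yset ρ v v' hA I).ncard ≤ (Yset ρ v v' hA p).ncard ∧ p.1 = ⊤ := by
    intro p hp
    obtain ⟨S, hS, rfl⟩ := Finset.mem_image.1 hp
    obtain ⟨g, rfl⟩ := mem_Mset.1 hS
    refine ⟨?_, hω⟩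
    refine (ncard_Yset_scale hA P ((1 : Fˣ), g) I).trans (le_of_eq ?_)
    congr 2
    refine Prod.ext ?_ rfl
    show scaleL ((1 : Fˣ) : F) I.1 = I.1
    ext y
    rw [Units.val_one, mem_scaleL one_ne_zero, mul_one, div_one]
  have hdisj : ∀ p ∈ T, ∀ r ∈ T, p ≠ r →
      Disjoint (Set.toFinite (Yset ρ v v' hA p)).toFinset
        (Set.toFinite (Yset ρ v v' hA r)).toFinset := by
    intro p _ r _ hpr
    rw [Finset.disjoint_left]
    intro x hx hx'
    rw [Set.Finite.mem_toFinset] at hx hx'
    exact hpr ((show inv2 ρ v v' hA x = p from hx).symm.trans hx')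
  have h1 := le_ncard_Yset hA (ρ := ρ) H.nondeg P ω
  have hMb := Mset_basic hA H.nondeg P hB
  rw [hω, AddSubgroup.index_top, one_mul] at h1
  rw [H.card_W P] at hMb
  have hM1 : 1 ≤ (Mset (Bsub ρ v v' hA ω)).card :=
    Finset.card_pos.2 ⟨_, self_mem_Mset _⟩
  have hpos : 1 ≤ Fintype.card F ^ (2 * m - 2) := Nat.one_le_pow _ _ Fintype.card_pos
  calc Fintype.card F ^ (2 * m - 2)
      ≤ (Mset I.2).card * Nat.card (Bsub ρ v v' hA ω) := by
        show _ ≤ (Mset (Bsub ρ v v' hA ω)).card * _
        omega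
    _ ≤ T.card * (Yset ρ v v' hA I).ncard := by rw [hT]; exact Nat.mul_le_mul_left _ h1
    _ ≤ ∑ p ∈ T, (Set.toFinite (Yset ρ v v' hA p)).toFinset.card := by
        rw [← smul_eq_mul]
        refine Finset.card_nsmul_le_sum _ _ _ fun p hp => ?_
        rw [← Set.ncard_eq_toFinset_card]
        exact (hY p hp).1
    _ = (T.biUnion fun p => (Set.toFinite (Yset ρ v v' hA p)).toFinset).card :=
        (Finset.card_biUnion hdisj).symm
    _ ≤ {x | Lsub ρ v H.alt x = ⊤}.ncard := by
        rw [← Set.ncard_coe_finset]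
        refine Set.ncard_le_ncard (fun x hx => ?_) (Set.toFinite _)
        obtain ⟨p, hp, hx⟩ := Finset.mem_biUnion.1 (Finset.mem_coe.1 hx)
        rw [Set.Finite.mem_toFinset] at hx
        show Lsub ρ v hA x = ⊤
        rw [show Lsub ρ v hA x = p.1 from congrArg Prod.fst hx]
        exact (hY p hp).2

open Classical in
/-- More than `(q - 1) q ^ (2 m - 2)` vectors have a transvection group fixing a given point. -/
theorem many_vectors [Fintype V] (ω : Ω) :
    (Fintype.card F - 1) * Fintype.card F ^ (2 * m - 2) + 1 <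
      (Finset.univ.filter fun x : V => Lsub ρ x H.alt ω = ⊤).card := by
  have hA := H.alt
  obtain ⟨u, hu, ω₀, hω₀⟩ := H.exists_fixed
  set S := fun y : Ω => ((Finset.univ : Finset V).erase 0).filter fun x => Lsub ρ x hA y = ⊤
  have hSconst : ∀ y, (S y).card = (S ω).card := by
    intro y
    obtain ⟨g, rfl⟩ := H.trans ω y
    refine (Finset.card_bij (fun x _ => g • x) (fun x hx => ?_) (fun a _ b _ e =>
      MulAction.injective g e) fun x hx => ?_).symm
    · simp only [S, Finset.mem_filter, Finset.mem_erase, Finset.mem_univ, and_true] at hx ⊢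
      exact ⟨fun e => hx.1 ((smul_eq_zero_iff_eq g).1 e), fix_map hA g hx.2⟩
    · simp only [S, Finset.mem_filter, Finset.mem_erase, Finset.mem_univ, and_true] at hx
      refine ⟨g⁻¹ • x, ?_, smul_inv_smul g x⟩
      simp only [S, Finset.mem_filter, Finset.mem_erase, Finset.mem_univ, and_true]
      exact ⟨fun e => hx.1 ((smul_eq_zero_iff_eq g⁻¹).1 e),
        (fix_map_iff hA g).1 (by rw [smul_inv_smul]; exact hx.2)⟩
  have hfix : ∀ x : V, x ≠ 0 → Fintype.card F ^ (2 * m - 2) ≤
      (Finset.univ.filter fun y => Lsub ρ x hA y = ⊤).card := by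
    intro x hx
    obtain ⟨g, -, hg⟩ := transvGroup_trans_vec hA H.nondeg hu hx
    obtain ⟨y, hy⟩ := exists_B_ne_zero H.nondeg hx
    have P : B x ((B x y)⁻¹ • y) = 1 := by rw [map_smul, smul_eq_mul, inv_mul_cancel₀ hy]
    refine (H.many_fixed P (ω := ρ g ω₀) (hg ▸ fix_map hA g hω₀)).trans (le_of_eq ?_)
    rw [← Set.ncard_coe_finset]
    congr 1
    ext z
    simp
  have h1 : (Fintype.card F ^ (2 * m) - 1) * Fintype.card F ^ (2 * m - 2) ≤
      Fintype.card Ω * (S ω).card := by
    have h := incidence_le' ((Finset.univ : Finset V).erase 0) (Finset.univ : Finset Ω)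
      (fun x y => Lsub ρ x hA y = ⊤) (c := Fintype.card F ^ (2 * m - 2)) (b := (S ω).card)
      (fun x hx => hfix x (Finset.mem_erase.1 hx).1) fun y _ => (hSconst y).le
    rwa [Finset.card_erase_of_mem (Finset.mem_univ _), Finset.card_univ, Finset.card_univ,
      Module.card_eq_pow_finrank (K := F) (V := V), H.dim] at h
  have h2 := H.small
  rw [Nat.card_eq_fintype_card] at h2
  have h3 : (Fintype.card F - 1) * Fintype.card F ^ (2 * m - 2) < (S ω).card := by
    by_contra hle
    push Not at hle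
    have h4 : (Fintype.card F ^ (2 * m) - 1) * Fintype.card F ^ (2 * m - 2) ≤
        Fintype.card Ω * (Fintype.card F - 1) * Fintype.card F ^ (2 * m - 2) := by
      rw [mul_assoc (Fintype.card Ω)]
      exact h1.trans (Nat.mul_le_mul_left _ hle)
    have := Nat.le_of_mul_le_mul_right h4 (Nat.pow_pos Fintype.card_pos)
    omega
  have h4 : (S ω).card + 1 = (Finset.univ.filter fun x : V => Lsub ρ x H.alt ω = ⊤).card := by
    simp only [S, Finset.filter_erase]
    refine Finset.card_erase_add_one (Finset.mem_filter.2 ⟨Finset.mem_univ _, ?_⟩)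
    have := fix_smul (ρ := ρ) hA (x := (0 : V)) (ω := ω) ((mem_fix_iff hA).2 fun c => by
      rw [show spTransv hA (0 : V) c = 1 from SpB.ext' fun z => by simp, map_one]; rfl) (1 : F)
    rwa [smul_zero] at this
  omega

/-- A small action is impossible. -/
theorem false_of_small : False := by
  classical
  have hA := H.alt
  have hN := H.nondeg
  have : Finite V := Module.finite_of_finite F
  have := Fintype.ofFinite V
  have := H.nontriv
  have := finite_submodules (F := F) (V := V)
  obtain ⟨ω⟩ : Nonempty Ω := inferInstance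
  set q := Fintype.card F with hqdef
  set D := 2 * m - 2 with hD
  have hq := H.q_three
  have hm := H.m_two
  have hbig : (q - 1) * q ^ D + 1 <
      (Finset.univ.filter fun x : V => Lsub ρ x hA ω = ⊤).card := by
    convert H.many_vectors ω using 3
  let Fx : V → Prop := fun x => Lsub ρ x hA ω = ⊤
  have hcount : ∀ {M : ℕ}, (Finset.univ.filter fun x : V => Lsub ρ x hA ω = ⊤).card ≤ M →
      M ≤ (q - 1) * q ^ D + 1 → False := fun h h' => by omega
  -- not all orthogonal
  by_cases horth : ∀ x y, Fx x → Fx y → B x y = 0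
  · have hspan : ∀ x ∈ Submodule.span F {z | Fx z}, ∀ y ∈ Submodule.span F {z | Fx z},
        B x y = 0 := fun x hx y hy => span_orth hA (fun a ha b hb => horth a b ha hb) hx hy
    have h2 := finrank_isotropic hN hspan
    refine hcount (M := q ^ Module.finrank F (Submodule.span F {z | Fx z})) ?_ ?_
    · rw [← card_filter_mem]
      exact Finset.card_le_card fun x hx => Finset.mem_filter.2
        ⟨Finset.mem_univ _, Submodule.subset_span (Finset.mem_filter.1 hx).2⟩
    · have h3 : q ^ Module.finrank F (Submodule.span F {z | Fx z}) ≤ q ^ D :=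
        Nat.pow_le_pow_right (by omega) (by have := H.dim; omega)
      have h4 : q ^ D ≤ (q - 1) * q ^ D := Nat.le_mul_of_pos_left _ (by omega)
      omega
  push Not at horth
  obtain ⟨x₀, y₀, hx₀, hy₀, hxy₀⟩ := horth
  let nd : Submodule F V → Prop := fun U => ∀ x ∈ U, (∀ y ∈ U, B x y = 0) → x = 0
  let cand := (Set.toFinite {U : Submodule F V | nd U ∧ ∀ x ∈ U, Fx x}).toFinset
  have hpair : ∀ x y, B x y ≠ 0 → nd (Submodule.span F {x, y}) := by
    intro x y hxy z hz hzorth
    obtain ⟨a, b, rfl⟩ := Submodule.mem_span_pair.1 hz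
    have h1 := hzorth x (Submodule.subset_span (by simp))
    have h2 := hzorth y (Submodule.subset_span (by simp))
    simp [hA.self_eq_zero, B_neg hA x y, hxy] at h1 h2
    simp [h1, h2]
  obtain ⟨U, hUc, hUmax⟩ := Finset.exists_max_image cand (fun U => Module.finrank F U)
    ⟨Submodule.span F {x₀, y₀}, by
      simp only [cand, Set.Finite.mem_toFinset, Set.mem_ofPred_eq]
      refine ⟨hpair x₀ y₀ hxy₀, fun x hx => ?_⟩
      obtain ⟨a, b, rfl⟩ := Submodule.mem_span_pair.1 hx
      exact fix_span hA hx₀ hy₀ (fun e => hxy₀ (B_swap hA e)) a b⟩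
  simp only [cand, Set.Finite.mem_toFinset, Set.mem_ofPred_eq] at hUc hUmax
  obtain ⟨hUnd, hUF⟩ := hUc
  have hU2 : 2 ≤ Module.finrank F U := by
    refine le_trans ?_ (hUmax (Submodule.span F {x₀, y₀}) ⟨hpair x₀ y₀ hxy₀, fun x hx => by
      obtain ⟨a, b, rfl⟩ := Submodule.mem_span_pair.1 hx
      exact fix_span hA hx₀ hy₀ (fun e => hxy₀ (B_swap hA e)) a b⟩)
    have hi : LinearIndependent F ![x₀, y₀] := by
      rw [LinearIndependent.pair_iff]
      intro s t e
      have h1 := congrArg (B x₀) e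
      have h2 := congrArg (B y₀) e
      simp [hA.self_eq_zero, B_neg hA x₀ y₀, hxy₀] at h1 h2
      exact ⟨h2, h1⟩
    have := finrank_span_eq_card hi
    rw [Matrix.range_cons, Matrix.range_cons, Matrix.range_empty, Set.union_empty,
      Set.singleton_union, Fintype.card_fin] at this
    omega
  set Up := LinearMap.BilinForm.orthogonal B U with hUp
  have hUpmem : ∀ {z}, z ∈ Up ↔ ∀ y ∈ U, B y z = 0 := fun {z} => Iff.rfl
  have hcompl : IsCompl U Up :=
    LinearMap.BilinForm.isCompl_orthogonal_of_restrict_nondegenerate (fun x y h => B_swap hA h)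
      ⟨fun x hx => Subtype.ext (hUnd x x.2 fun y hy => hx ⟨y, hy⟩),
        fun x hx => Subtype.ext (hUnd x x.2 fun y hy => B_swap hA (hx ⟨y, hy⟩))⟩
  have hdim := Submodule.finrank_add_eq_of_isCompl hcompl
  rw [H.dim] at hdim
  have hdec : ∀ x : V, ∃ a ∈ U, ∃ b ∈ Up, a + b = x := fun x =>
    Submodule.mem_sup.1 (hcompl.sup_eq_top ▸ Submodule.mem_top)
  have horthUp : ∀ {a b}, a ∈ U → b ∈ Up → B a b = 0 ∧ B b a = 0 := fun ha hb =>
    ⟨hUpmem.1 hb _ ha, B_swap hA (hUpmem.1 hb _ ha)⟩
  -- if everything is fixed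
  have hUne : U ≠ ⊤ := by
    intro e
    have := H.nontriv
    obtain ⟨ω', hω'⟩ := exists_ne ω
    obtain ⟨g, hg⟩ := H.trans ω ω'
    exact hω' (hg.symm.trans (fixed_of_transv hA hN
      (fun z c => (mem_fix_iff hA).1 (hUF z (e ▸ Submodule.mem_top)) c) g))
  -- moving the component in `U`
  have hmix : ∀ a ∈ U, a ≠ 0 → ∀ b ∈ Up, Fx (a + b) → ∀ y ∈ U, y ≠ 0 → Fx (y + b) := by
    have step : ∀ a ∈ U, ∀ b ∈ Up, Fx (a + b) → ∀ y ∈ U, B a y ≠ 0 → Fx (y + b) := by
      intro a ha b hb hab y hy hay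
      have h := fix_transv hA (hUF (y - a) (sub_mem hy ha)) hab (B a y)⁻¹
      rwa [map_add, LinearMap.add_apply, map_sub (B a), hA.self_eq_zero, sub_zero, map_sub (B b),
        (horthUp hy hb).2, (horthUp ha hb).2, sub_zero, add_zero, inv_mul_cancel₀ hay, one_smul,
        add_right_comm, add_sub_cancel] at h
    intro a ha ha0 b hb hab y hy hy0
    by_cases hay : B a y = 0
    swap
    · exact step a ha b hb hab y hy hay
    obtain ⟨z, hz, haz, hzy⟩ : ∃ z ∈ U, B a z ≠ 0 ∧ B z y ≠ 0 := by
      obtain ⟨z1, hz1, hz1'⟩ : ∃ z ∈ U, B a z ≠ 0 := by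
        by_contra hc; push Not at hc; exact ha0 (hUnd a ha hc)
      obtain ⟨z2, hz2, hz2'⟩ : ∃ z ∈ U, B z y ≠ 0 := by
        by_contra hc; push Not at hc
        exact hy0 (hUnd y hy fun z hz => B_swap hA (hc z hz))
      by_cases h1 : B z1 y = 0
      · by_cases h2 : B a z2 = 0
        · exact ⟨z1 + z2, add_mem hz1 hz2, by simp [h2, hz1'], by simp [h1, hz2']⟩
        · exact ⟨z2, hz2, h2, hz2'⟩
      · exact ⟨z1, hz1, hz1', h1⟩
    exact step z hz b hb (step a ha b hb hab z hz haz) y hy hzy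
  let mixed : Set V := {b | b ∈ Up ∧ ∃ a ∈ U, a ≠ 0 ∧ Fx (a + b)}
  have hall : ∀ b ∈ mixed, ∀ y ∈ U, y ≠ 0 → ∀ s : F, Fx (y + s • b) := by
    rintro b ⟨hb, a, ha, ha0, hab⟩ y hy hy0 s
    by_cases hs : s = 0
    · rw [hs, zero_smul, add_zero]; exact hUF y hy
    have := fix_smul hA (hmix a ha ha0 b hb hab (s⁻¹ • y) (U.smul_mem _ hy)
      (smul_ne_zero (inv_ne_zero hs) hy0)) s
    rwa [smul_add, smul_inv_smul₀ hs] at this
  -- mixed parts are orthogonal
  have hmixorth : ∀ b ∈ mixed, ∀ b' ∈ mixed, B b b' = 0 := by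
    intro b hb b' hb'
    by_contra hβ
    obtain ⟨l, hl0, hl1⟩ : ∃ l : F, l ≠ 0 ∧ l ≠ 1 := by
      obtain ⟨l, hl⟩ : ∃ l, l ∉ ({0, 1} : Finset F) := by
        by_contra hc
        push Not at hc
        have := (Finset.card_le_card
          (fun x _ => hc x : (Finset.univ : Finset F) ⊆ {0, 1})).trans Finset.card_le_two
        rw [Finset.card_univ] at this
        omega
      simp only [Finset.mem_insert, Finset.mem_singleton, not_or] at hl
      exact ⟨l, hl.1, hl.2⟩
    have hl2 : 1 - l ≠ 0 := sub_ne_zero.2 (Ne.symm hl1)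
    have hyb : ∀ {a : V}, a ∈ U → ∀ s t : F, B a (t • b') = 0 ∧ B (s • b) a = 0 := fun ha s t =>
      ⟨by simp [(horthUp ha hb'.1).1], by simp [(horthUp ha hb.1).2]⟩
    obtain ⟨u0, hu0, hu00⟩ := Submodule.exists_mem_ne_zero_of_ne_bot (p := U) (by
      intro e; rw [e, finrank_bot] at hU2; omega)
    -- both coefficients non-zero
    have h11 : ∀ z ∈ U, ∀ s t : F, s ≠ 0 → t ≠ 0 → Fx (z + (s • b + t • b')) := by
      intro z hz s t hs ht
      obtain ⟨u, w, huU, hwU, hu, hw, huw, hzuw⟩ : ∃ u w, u ∈ U ∧ w ∈ U ∧ u ≠ 0 ∧ w ≠ 0 ∧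
          B w u = 0 ∧ u + w = z := by
        by_cases hz0 : z = 0
        · exact ⟨u0, -u0, hu0, neg_mem hu0, hu00, neg_ne_zero.2 hu00,
            by simp [hA.self_eq_zero], by rw [hz0, add_neg_cancel]⟩
        · exact ⟨l • z, (1 - l) • z, U.smul_mem _ hz, U.smul_mem _ hz, smul_ne_zero hl0 hz0,
            smul_ne_zero hl2 hz0, by simp [hA.self_eq_zero],
            by rw [← add_smul, add_sub_cancel, one_smul]⟩
      have h := fix_span hA (hall b hb u huU hu s) (hall b' hb' w hwU hw t) (fun e => hβ (by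
        simp [huw, (horthUp hwU hb.1).1, (horthUp huU hb'.1).2, hs, ht] at e
        exact B_swap hA e)) 1 1
      rw [one_smul, one_smul] at h
      convert h using 1
      rw [← hzuw]; abel
    have hb01 : ∀ s t : F, Fx (s • b + t • b') := by
      intro s t
      have h1 := h11 0 U.zero_mem 1 1 one_ne_zero one_ne_zero
      have h2 := h11 0 U.zero_mem 1 l one_ne_zero hl0
      rw [zero_add, one_smul, one_smul] at h1
      rw [zero_add, one_smul] at h2
      have h := fix_span hA h1 h2 (fun e => by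
        simp [hA.self_eq_zero, B_neg hA b b'] at e
        refine hβ ((mul_eq_zero.1 (?_ : (1 - l) * B b b' = 0)).resolve_left hl2)
        linear_combination e) ((t - s * l) / (1 - l)) ((s - t) / (1 - l))
      convert h using 1
      match_scalars <;> field_simp <;> ring
    have hall2 : ∀ z ∈ U, ∀ s t : F, Fx (z + (s • b + t • b')) := by
      intro z hz s t
      by_cases hz0 : z = 0
      · rw [hz0, zero_add]; exact hb01 s t
      by_cases hs : s = 0
      · rw [hs, zero_smul, zero_add]; exact hall b' hb' z hz hz0 t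
      by_cases ht : t = 0
      · rw [ht, zero_smul, add_zero]; exact hall b hb z hz hz0 s
      exact h11 z hz s t hs ht
    -- a larger subspace
    have hmem : U ⊔ Submodule.span F {b, b'} ∈ {U : Submodule F V | nd U ∧ ∀ x ∈ U, Fx x} := by
      refine ⟨fun x hx hxo => ?_, fun x hx => ?_⟩
      · obtain ⟨a, ha, c, hc, rfl⟩ := Submodule.mem_sup.1 hx
        obtain ⟨s, t, rfl⟩ := Submodule.mem_span_pair.1 hc
        have ha0 : a = 0 := hUnd a ha fun y hy => by
          have := hxo y (Submodule.mem_sup_left hy)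
          simpa [(horthUp hy hb.1).2, (horthUp hy hb'.1).2] using this
        have h1 := hxo b (Submodule.mem_sup_right (Submodule.subset_span (by simp)))
        have h2 := hxo b' (Submodule.mem_sup_right (Submodule.subset_span (by simp)))
        rw [ha0] at h1 h2 ⊢
        simp [hA.self_eq_zero, B_neg hA b b', hβ] at h1 h2
        simp [h1, h2]
      · obtain ⟨a, ha, c, hc, rfl⟩ := Submodule.mem_sup.1 hx
        obtain ⟨s, t, rfl⟩ := Submodule.mem_span_pair.1 hc
        exact hall2 a ha s t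
    have hle := hUmax _ hmem
    have hlt : U < U ⊔ Submodule.span F {b, b'} := by
      refine lt_of_le_of_ne le_sup_left fun e => hβ ?_
      have hbU : b ∈ U := e ▸ Submodule.mem_sup_right (Submodule.subset_span (by simp))
      exact (horthUp hbU hb'.1).1
    have := Submodule.finrank_lt_finrank_of_lt hlt
    omega
  set Y := Submodule.span F mixed
  have hYUp : Y ≤ Up := Submodule.span_le.2 fun b hb => hb.1
  have hYorth : ∀ x ∈ Y, ∀ y ∈ Y, B x y = 0 := fun x hx y hy =>
    span_orth hA hmixorth hx hy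
  -- the fixing vectors lie in two subspaces
  have hcov : (Finset.univ.filter fun x : V => Lsub ρ x hA ω = ⊤).card ≤
      q ^ Module.finrank F (U ⊔ Y : Submodule F V) + q ^ Module.finrank F Up := by
    rw [← card_filter_mem, ← card_filter_mem]
    refine (Finset.card_le_card fun x hx => ?_).trans (Finset.card_union_le _ _)
    obtain ⟨a, ha, b, hb, rfl⟩ := hdec x
    simp only [Finset.mem_filter, Finset.mem_univ, true_and, Finset.mem_union] at hx ⊢
    by_cases ha0 : a = 0
    · right; rw [ha0, zero_add]; exact hb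
    · left
      exact Submodule.add_mem_sup ha (Submodule.subset_span ⟨hb, a, ha, ha0, hx⟩)
  have htle : Module.finrank F (U ⊔ Y : Submodule F V) + Module.finrank F Y ≤ 2 * m := by
    have hle : Y ≤ LinearMap.BilinForm.orthogonal B (U ⊔ Y) := fun y hy z hz => by
      obtain ⟨a, ha, c, hc, rfl⟩ := Submodule.mem_sup.1 hz
      simp [(horthUp ha (hYUp hy)).1, hYorth c hc y hy]
    have h1 := Submodule.finrank_mono hle
    rw [LinearMap.BilinForm.finrank_orthogonal hN, H.dim] at h1
    have := Submodule.finrank_le (U ⊔ Y)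
    rw [H.dim] at this
    omega
  have htle2 := Submodule.finrank_sup_add_finrank_inf_eq U Y
  set u := Module.finrank F U
  set r := Module.finrank F Up
  set i := Module.finrank F Y
  set t := Module.finrank F (U ⊔ Y : Submodule F V)
  have hqD : 2 * q ^ D ≤ (q - 1) * q ^ D + 1 :=
    (Nat.mul_le_mul_right _ (by omega : 2 ≤ q - 1)).trans (Nat.le_succ _)
  by_cases hsmall : t ≤ D
  · refine hcount hcov ?_
    have h3 : q ^ t ≤ q ^ D := Nat.pow_le_pow_right (by omega) hsmall
    have h4 : q ^ r ≤ q ^ D := Nat.pow_le_pow_right (by omega) (by omega)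
    omega
  -- a plane is left
  have hr : r = 2 := by
    have hr0 : r ≠ 0 := by
      intro e
      exact hUne (Submodule.eq_top_of_finrank_eq (by rw [H.dim]; omega))
    have hr1 : r ≠ 1 := by
      intro e
      obtain ⟨b, hb0, hb⟩ := finrank_eq_one_iff'.1 e
      refine hb0 (Subtype.ext (hN.1 _ fun x => ?_))
      obtain ⟨a, ha, c, hc, rfl⟩ := hdec x
      obtain ⟨s, hs⟩ := hb ⟨c, hc⟩
      have hs : s • (b : V) = c := congrArg Subtype.val hs
      rw [map_add, (horthUp ha b.2).2, ← hs, map_smul, hA.self_eq_zero, smul_zero, add_zero]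
    omega
  obtain ⟨s, hs, hs0⟩ : ∃ s ∈ mixed, s ≠ 0 := by
    by_contra hc
    push Not at hc
    have hY0 : Y = ⊥ := Submodule.span_eq_bot.2 hc
    have : i = 0 := by rw [show i = Module.finrank F Y from rfl, hY0, finrank_bot]
    omega
  -- the hyperplane orthogonal to `s`
  have hperp : LinearMap.ker (B s) = U ⊔ Submodule.span F {s} := by
    refine (Submodule.eq_of_le_of_finrank_le ?_ ?_).symm
    · refine sup_le (fun a ha => LinearMap.mem_ker.2 (horthUp ha hs.1).2) ?_
      rw [Submodule.span_singleton_le_iff_mem]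
      exact LinearMap.mem_ker.2 (hA.self_eq_zero s)
    · have h1 := LinearMap.finrank_range_add_finrank_ker (B s)
      have h2 : LinearMap.range (B s) = ⊤ := by
        refine LinearMap.range_eq_top.2 fun a => ?_
        obtain ⟨y, hy⟩ := exists_B_ne_zero hN hs0
        exact ⟨(a / B s y) • y, by rw [map_smul, smul_eq_mul, div_mul_cancel₀ _ hy]⟩
      rw [h2, finrank_top, Module.finrank_self, H.dim] at h1
      have h3 := Submodule.finrank_sup_add_finrank_inf_eq U (Submodule.span F {s})
      have hdisj : U ⊓ Submodule.span F {s} = ⊥ := by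
        rw [eq_bot_iff]
        exact le_trans (inf_le_inf_left U
          ((Submodule.span_singleton_le_iff_mem s Up).2 hs.1)) hcompl.inf_eq_bot.le
      rw [hdisj, finrank_bot, finrank_span_singleton hs0] at h3
      omega
  obtain ⟨e, he, he0⟩ := Submodule.exists_mem_ne_zero_of_ne_bot (p := U) (by
    intro h; rw [show u = Module.finrank F U from rfl, h, finrank_bot] at hU2; omega)
  have hes : ∀ {a}, a ∈ U → B a s = 0 ∧ B s a = 0 := fun ha => horthUp ha hs.1
  have hgen : ∀ a ∈ U, a ≠ 0 → ∀ c : F, ρ (rt hA s (c • a) c) ω = ω := by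
    intro a ha ha0 c
    have h1 := (mem_fix_iff hA).1 (hall s hs a ha ha0 1) c
    have h2 := (mem_fix_iff hA).1 (hUF a ha) (-c)
    have heq : rt hA s (c • a) c =
        spTransv hA (a + (1 : F) • s) c * spTransv hA a (-c) := by
      refine SpB.ext' fun x => ?_
      rw [rt_smul hA (by simp [(hes ha).2]), mul_smul]
      simp only [spTransv_smul, map_add, map_smul, LinearMap.add_apply, LinearMap.smul_apply,
        smul_eq_mul, hA.self_eq_zero, (hes ha).1, mul_zero, add_zero]
      module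
    rw [heq, map_mul, Equiv.Perm.mul_apply, h2, h1]
  -- the transvections of `s`
  have hTd : ∀ d : F, d ≠ 0 → ρ (spTransv hA s (1 + d)) ω = ω := by
    intro d hd
    have h1 := hgen e he he0 1
    have h2 := hgen ((-d⁻¹) • e) (U.smul_mem _ he) (smul_ne_zero (by simp [hd]) he0) d
    rw [one_smul] at h1
    rw [smul_smul, mul_neg, mul_inv_cancel₀ hd, neg_one_smul] at h2
    have h : ρ (rt hA s e 1 * rt hA s (-e) d) ω = ω := by
      rw [map_mul, Equiv.Perm.mul_apply, h2, h1]
    rwa [rt_mul hA (hes he).2 (by simp [(hes he).2]), add_neg_cancel, map_neg, LinearMap.neg_apply,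
      hA.self_eq_zero, neg_zero, add_zero, rt_zero] at h
  obtain ⟨l, hl0, hl1⟩ : ∃ l : F, l ≠ 0 ∧ l ≠ 1 := by
    obtain ⟨l, hl⟩ : ∃ l, l ∉ ({0, 1} : Finset F) := by
      by_contra hc
      push Not at hc
      have := (Finset.card_le_card
        (fun x _ => hc x : (Finset.univ : Finset F) ⊆ {0, 1})).trans Finset.card_le_two
      rw [Finset.card_univ] at this
      omega
    simp only [Finset.mem_insert, Finset.mem_singleton, not_or] at hl
    exact ⟨l, hl.1, hl.2⟩
  have hTne : ∀ c : F, c ≠ 1 → ρ (spTransv hA s c) ω = ω := fun c hc => by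
    have := hTd (c - 1) (sub_ne_zero.2 hc)
    rwa [add_sub_cancel] at this
  have hT : ∀ c : F, ρ (spTransv hA s c) ω = ω := by
    intro c
    by_cases hc : c = 1
    · rw [hc, show (1 : F) = (1 - l) + l by ring, ← spTransv_add, map_mul, Equiv.Perm.mul_apply,
        hTne l hl1, hTne (1 - l) (by simp [hl0])]
    · exact hTne c hc
  refine no_full hA hN H.dim hm hq H.trans (by rw [← Nat.card_eq_fintype_card]; exact H.small)
    hs0 (ω := ω) fun w c hw => ?_
  have hw' : w ∈ U ⊔ Submodule.span F {s} := hperp ▸ LinearMap.mem_ker.2 hw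
  obtain ⟨a, ha, z, hz, rfl⟩ := Submodule.mem_sup.1 hw'
  obtain ⟨μ, rfl⟩ := Submodule.mem_span_singleton.1 hz
  rw [rt_add_self hA (hes ha).2]
  by_cases ha0 : a = 0
  · rw [ha0, rt_zero]; exact hT _
  have h := hgen a ha ha0 1
  rw [one_smul] at h
  have h' : ρ (spTransv hA s (c + 2 * μ - 1) * rt hA s a 1) ω = ω := by
    rw [map_mul, Equiv.Perm.mul_apply, h, hT]
  rwa [← rt_zero, rt_mul hA (map_zero _) (hes ha).2, zero_add, map_zero, add_zero, sub_add_cancel]
    at h'

end Hyp

/-- A non-trivial transitive action of `Sp` has at least `(q ^ (2 m) - 1) / (q - 1)` points. -/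
theorem degree_bound (hA : LinearMap.IsAlt B) (hN : B.Nondegenerate)
    (hdim : Module.finrank F V = 2 * m) (hm : 2 ≤ m) (hq : 3 ≤ Fintype.card F)
    (hexc : ¬(m = 2 ∧ Fintype.card F = 3)) [Fintype Ω] [Nontrivial Ω]
    (ρ : SpB B →* Equiv.Perm Ω) (htrans : ∀ a b : Ω, ∃ g, ρ g a = b) :
    Fintype.card F ^ (2 * m) - 1 ≤ Nat.card Ω * (Fintype.card F - 1) := by
  by_contra hlt
  exact (⟨hA, hN, hdim, hm, hq, hexc, htrans, inferInstance, Nat.lt_of_not_le hlt⟩ :
    Hyp ρ m).false_of_small

end Cfsg.Agent.MinDeg.Symp
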