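import Cfsg.Agent.Lib.MinDeg.SympOrbit
import Cfsg.Agent.Lib.MinDeg.SympFull

/-!
The numbers of conjugates of the invariants of an orbit of a radical: of a proper subgroup of `F`
under multiplication by squares, and of a subgroup of `W` under `Sp(W)`.
-/

set_option autoImplicit false

namespace Cfsg.Agent.MinDeg.Symp

open Cfsg.Agent.ClassicalSimple

variable {F : Type*} [Field F] [Fintype F]

omit [Fintype F] in
theorem mem_scaleL_mul {a : F} (ha : a ≠ 0) {L : AddSubgroup F} {x : F} :
    a * a * x ∈ scaleL a L ↔ x ∈ L := by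
  rw [mem_scaleL ha, mul_div_cancel_left₀ _ (mul_ne_zero ha ha)]

theorem index_scaleL {a : F} (ha : a ≠ 0) (L : AddSubgroup F) :
    (scaleL a L).index = L.index := by
  have h : Nat.card (scaleL a L) = Nat.card L :=
    Nat.card_congr ((L.equivMapOfInjective (AddMonoidHom.mulLeft (a * a))
      (mul_right_injective₀ (mul_ne_zero ha ha))).symm.toEquiv)
  have h1 := (scaleL a L).card_mul_index
  rw [h, ← L.card_mul_index] at h1
  exact Nat.eq_of_mul_eq_mul_left Nat.card_pos h1

/-- The part fixed by multiplication with `d` absorbs division by `d`. -/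
theorem mem_of_mul_mem {L : AddSubgroup F} {d : F} (hd : d ≠ 0) (h : ∀ l ∈ L, d * l ∈ L) {x : F}
    (hx : d * x ∈ L) : x ∈ L := by
  obtain ⟨⟨l, hl⟩, e⟩ := Finite.injective_iff_surjective.1
    (fun a b e => Subtype.ext (mul_left_cancel₀ hd (congrArg Subtype.val e :)) :
      Function.Injective fun l : L => (⟨d * l, h _ l.2⟩ : L)) ⟨d * x, hx⟩
  have : d * l = d * x := congrArg Subtype.val e
  rwa [← mul_left_cancel₀ hd this]

open Classical in
/-- The non-zero squares. -/
noncomputable def sqs (F : Type*) [Field F] [Fintype F] : Finset F :=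
  Finset.univ.image fun a : Fˣ => (a : F) * a

theorem card_sqs : Fintype.card F - 1 ≤ 2 * (sqs F).card ∧
    ((2 : F) = 0 → (sqs F).card = Fintype.card F - 1) := by
  classical
  have hu : Fintype.card Fˣ = Fintype.card F - 1 := Fintype.card_units F
  refine ⟨?_, fun h2 => ?_⟩
  · rw [← hu, ← Finset.card_univ, mul_comm]
    refine le_of_eq_of_le (Finset.card_eq_sum_card_image (fun a : Fˣ => (a : F) * a) _) ?_
    refine (Finset.sum_le_card_nsmul _ _ 2 fun x hx => ?_).trans_eq (smul_eq_mul _ _)
    obtain ⟨b, -, rfl⟩ := Finset.mem_image.1 hx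
    refine (Finset.card_le_card (t := {b, -b}) fun a ha => ?_).trans Finset.card_le_two
    rcases mul_self_eq_mul_self_iff.1 (Finset.mem_filter.1 ha).2 with h | h
    · simp [Units.ext h]
    · simp [show a = -b from Units.ext (by rw [Units.val_neg, h])]
  · rw [← hu, ← Finset.card_univ, sqs, Finset.card_image_of_injective]
    intro a b e
    rcases mul_self_eq_mul_self_iff.1 e with h | h
    · exact Units.ext h
    · exact Units.ext (h.trans (by linear_combination (-(b : F)) * h2))

open Classical in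
/-- Orbit–stabiliser for the squares acting on a proper subgroup. -/
theorem card_sqs_le {L : AddSubgroup F} (hL : L ≠ ⊤) :
    (sqs F).card ≤ (Lset L).card * (L.index - 1) := by
  obtain ⟨x₀, hx₀⟩ : ∃ x, x ∉ L := by
    by_contra h
    push Not at h
    exact hL ((AddSubgroup.eq_top_iff' L).2 h)
  let scaleS : F → AddSubgroup F := fun s => L.map (AddMonoidHom.mulLeft s)
  have hS : ∀ a : F, scaleS (a * a) = scaleL a L := fun a => rfl
  have himg : (sqs F).image scaleS ⊆ Lset L := by
    intro L' hL'
    obtain ⟨s, hs, rfl⟩ := Finset.mem_image.1 hL'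
    obtain ⟨a, -, rfl⟩ := Finset.mem_image.1 hs
    exact Finset.mem_image.2 ⟨a, Finset.mem_univ _, (hS _).symm⟩
  refine le_trans ?_ (Nat.mul_le_mul_right _ (Finset.card_le_card himg))
  rw [Finset.card_eq_sum_card_image scaleS (sqs F)]
  refine (Finset.sum_le_card_nsmul _ _ (L.index - 1) fun L' hL' => ?_).trans_eq (smul_eq_mul _ _)
  obtain ⟨s₀, hs₀, rfl⟩ := Finset.mem_image.1 hL'
  have hne : ∀ s ∈ sqs F, s ≠ 0 := by
    intro s hs
    obtain ⟨a, -, rfl⟩ := Finset.mem_image.1 hs
    exact mul_ne_zero a.ne_zero a.ne_zero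
  have hidx : (scaleS s₀).index = L.index := by
    obtain ⟨a, -, rfl⟩ := Finset.mem_image.1 hs₀
    rw [hS]
    exact index_scaleL a.ne_zero L
  set L' := scaleS s₀
  have : Finite (F ⧸ L') := Quotient.finite _
  have := Fintype.ofFinite (F ⧸ L')
  have hcard : Fintype.card (F ⧸ L') = L.index := by
    rw [← hidx, AddSubgroup.index, Nat.card_eq_fintype_card]
  rw [← hcard, ← Finset.card_univ,
    ← Finset.card_erase_of_mem (Finset.mem_univ (0 : F ⧸ L'))]
  refine Finset.card_le_card_of_injOn (fun s => ((s * x₀ : F) : F ⧸ L')) ?_ ?_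
  · intro s hs
    obtain ⟨hs1, hs2⟩ := Finset.mem_filter.1 (Finset.mem_coe.1 hs)
    refine Finset.mem_coe.2 (Finset.mem_erase.2 ⟨fun e => ?_, Finset.mem_univ _⟩)
    rw [QuotientAddGroup.eq_zero_iff, ← hs2] at e
    obtain ⟨l, hl, e⟩ := e
    exact hx₀ (mul_left_cancel₀ (hne s hs1) e ▸ hl)
  · intro s hs t ht e
    obtain ⟨hs1, hs2⟩ := Finset.mem_filter.1 (Finset.mem_coe.1 hs)
    obtain ⟨ht1, ht2⟩ := Finset.mem_filter.1 (Finset.mem_coe.1 ht)
    by_contra hst
    have hs0 := hne s hs1
    have ht0 := hne t ht1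
    rw [QuotientAddGroup.eq] at e
    -- `t / s` stabilises `L`
    have hstab : ∀ l ∈ L, t / s * l ∈ L := by
      intro l hl
      have : t * l ∈ scaleS s := by rw [hs2, ← ht2]; exact ⟨l, hl, rfl⟩
      obtain ⟨l', hl', e'⟩ := this
      have e' : s * l' = t * l := e'
      rwa [show t / s * l = l' by field_simp; linear_combination -e']
    refine hx₀ (mem_of_mul_mem (d := t / s - 1) (sub_ne_zero.2 ?_) (fun l hl => ?_) ?_)
    · rw [Ne, div_eq_one_iff_eq hs0]
      exact fun h => hst h.symm
    · rw [sub_mul, one_mul]; exact sub_mem (hstab l hl) hl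
    · rw [← hs2] at e
      obtain ⟨l, hl, e⟩ := e
      have e : s * l = -(s * x₀) + t * x₀ := e
      rwa [show (t / s - 1) * x₀ = l by field_simp; linear_combination -e]

/-- Every element is a difference of squares. -/
theorem eq_bot_of_mul_sq {L : AddSubgroup F} (hL : L ≠ ⊤)
    (h : ∀ a : F, a ≠ 0 → ∀ l ∈ L, a * a * l ∈ L) : L = ⊥ := by
  classical
  rw [AddSubgroup.eq_bot_iff_forall]
  intro l hl
  by_contra hl0
  refine hL ((AddSubgroup.eq_top_iff' L).2 fun x => ?_)
  have hsq : ∀ a : F, a * a * l ∈ L := fun a => by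
    by_cases ha : a = 0
    · simp [ha]
    · exact h a ha l hl
  by_cases h2 : (2 : F) = 0
  · obtain ⟨z, hz⟩ := FiniteField.isSquare_of_char_two
      (by by_contra hne; exact Ring.two_ne_zero hne h2) (x / l)
    have := hsq z
    rwa [← hz, div_mul_cancel₀ _ hl0] at this
  · have := sub_mem (hsq ((x / l + 1) / 2)) (hsq ((x / l - 1) / 2))
    have h4 : (4 : F) ≠ 0 := by
      rw [show (4 : F) = 2 * 2 by norm_num]; exact mul_ne_zero h2 h2
    rwa [show (x / l + 1) / 2 * ((x / l + 1) / 2) * l -
      (x / l - 1) / 2 * ((x / l - 1) / 2) * l = x by field_simp; ring] at this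

theorem index_ne {L : AddSubgroup F} (hL : L ≠ ⊤) : 2 ≤ L.index := by
  have h1 : L.index ≠ 1 := fun e => hL (AddSubgroup.index_eq_one.1 e)
  have h2 : L.index ≠ 0 := AddSubgroup.index_ne_zero_of_finite
  omega

open Classical in
theorem Lset_pos (L : AddSubgroup F) : 1 ≤ (Lset L).card :=
  Finset.card_pos.2 ⟨_, Finset.mem_image_of_mem _ (Finset.mem_univ (1 : Fˣ))⟩

open Classical in
theorem eq_bot_of_Lset {L : AddSubgroup F} (hL : L ≠ ⊤) (h : (Lset L).card ≤ 1) : L = ⊥ := by
  refine eq_bot_of_mul_sq hL fun a ha l hl => ?_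
  have e := Finset.card_le_one.1 h _
    (Finset.mem_image_of_mem _ (Finset.mem_univ (Units.mk0 a ha))) _
    (Finset.mem_image_of_mem _ (Finset.mem_univ (1 : Fˣ)))
  have : a * a * l ∈ scaleL ((Units.mk0 a ha : Fˣ) : F) L := (mem_scaleL_mul ha).2 hl
  rw [e, Units.val_one, mem_scaleL one_ne_zero] at this
  simpa using this

theorem index_bot' : (⊥ : AddSubgroup F).index = Fintype.card F := by
  rw [AddSubgroup.index_bot, Nat.card_eq_fintype_card]

/-- Twice the conjugates, weighted by the index, exceed `q + 2`. -/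
theorem Lset_weight (hq : 3 ≤ Fintype.card F) {L : AddSubgroup F} (hL : L ≠ ⊤) :
    Fintype.card F + 3 ≤ 2 * ((Lset L).card * L.index) := by
  have h1 := index_ne hL
  have h2 := Lset_pos L
  by_cases h : (Lset L).card ≤ 1
  · rw [eq_bot_of_Lset hL h, index_bot'] at *
    have : Fintype.card F + 3 ≤ 2 * (1 * Fintype.card F) := by omega
    exact this.trans (Nat.mul_le_mul_left _ (Nat.mul_le_mul_right _ (Lset_pos _)))
  · have h3 := card_sqs_le hL
    have h4 := (card_sqs (F := F)).1
    have h5 : (Lset L).card * L.index = (Lset L).card * (L.index - 1) + (Lset L).card := by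
      rw [Nat.mul_sub, mul_one, Nat.sub_add_cancel]
      exact Nat.le_mul_of_pos_right _ (by omega)
    omega

theorem Lset_weight_two (h2 : (2 : F) = 0) {L : AddSubgroup F} (hL : L ≠ ⊤) :
    Fintype.card F ≤ (Lset L).card * L.index := by
  have h1 := index_ne hL
  have h3 := card_sqs_le hL
  rw [(card_sqs (F := F)).2 h2] at h3
  have h4 := Lset_pos L
  have h5 : (Lset L).card * L.index = (Lset L).card * (L.index - 1) + (Lset L).card := by
    rw [Nat.mul_sub, mul_one, Nat.sub_add_cancel]
    exact Nat.le_mul_of_pos_right _ (by omega)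
  omega

theorem three_le_index {L : AddSubgroup F} (hL : L ≠ ⊤) (h2 : (2 : F) ≠ 0) : 3 ≤ L.index := by
  have h1 := index_ne hL
  by_contra hlt
  have hi : L.index = 2 := by omega
  have hdvd : 2 ∣ Fintype.card F := by
    rw [← Nat.card_eq_fintype_card, ← L.card_mul_index, hi]
    exact Dvd.intro_left _ rfl
  have hodd := FiniteField.odd_card_of_char_ne_two (F := F) fun hc => h2 (by
    haveI := ringChar.of_eq hc
    exact CharTwo.two_eq_zero)
  omega

/-- A square different from one stabilises `L`, unless `L` has many conjugates. -/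
theorem exists_stab (hq : 4 ≤ Fintype.card F) {L : AddSubgroup F} (hL : L ≠ ⊤) :
    (∃ a : F, a ≠ 0 ∧ a * a ≠ 1 ∧ ∀ x, x ∈ L → a * a * x ∈ L) ∨
      Fintype.card F + 2 ≤ (Lset L).card * L.index := by
  classical
  by_cases hc : ∃ a : F, a ≠ 0 ∧ a * a ≠ 1 ∧ ∀ x, x ∈ L → a * a * x ∈ L
  · exact Or.inl hc
  refine Or.inr ?_
  push Not at hc
  have hi : L ≠ ⊥ := by
    rintro rfl
    obtain ⟨a, ha, ha1⟩ : ∃ a : F, a ≠ 0 ∧ a * a ≠ 1 := by
      by_contra hcon
      push Not at hcon
      have hsub : (Finset.univ : Finset F) ⊆ {0, 1, -1} := fun a _ => by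
        rcases eq_or_ne a 0 with rfl | ha
        · simp
        · rcases mul_self_eq_one_iff.1 (hcon a ha) with rfl | rfl <;> simp
      have := (Finset.card_le_card hsub).trans Finset.card_le_three
      rw [Finset.card_univ] at this
      omega
    obtain ⟨x, hx, hx'⟩ := hc a ha ha1
    simp [(AddSubgroup.mem_bot).1 hx] at hx'
  -- the squares act semi-regularly on the conjugates
  have hinj : (sqs F).card ≤ (Lset L).card := by
    refine Finset.card_le_card_of_injOn (fun s => L.map (AddMonoidHom.mulLeft s)) ?_ ?_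
    · intro s hs
      obtain ⟨a, -, rfl⟩ := Finset.mem_image.1 (Finset.mem_coe.1 hs)
      exact Finset.mem_coe.2 (Finset.mem_image.2 ⟨a, Finset.mem_univ _, rfl⟩)
    · intro s hs t ht e
      obtain ⟨a, -, rfl⟩ := Finset.mem_image.1 (Finset.mem_coe.1 hs)
      obtain ⟨b, -, rfl⟩ := Finset.mem_image.1 (Finset.mem_coe.1 ht)
      by_contra hne
      obtain ⟨x, hx, hx'⟩ := hc ((a : F) / b) (div_ne_zero a.ne_zero b.ne_zero) (fun h => hne (by
        have := b.ne_zero
        field_simp at h
        linear_combination h))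
      have h1 : (a : F) * a * x ∈ L.map (AddMonoidHom.mulLeft ((a : F) * a)) := ⟨x, hx, rfl⟩
      have e : L.map (AddMonoidHom.mulLeft ((a : F) * a)) =
          L.map (AddMonoidHom.mulLeft ((b : F) * b)) := e
      rw [e] at h1
      obtain ⟨y, hy, ey⟩ := h1
      have ey : (b : F) * b * y = a * a * x := ey
      refine hx' ?_
      rwa [show (a : F) / b * (a / b) * x = y by
        have := b.ne_zero
        field_simp; linear_combination -ey]
  have h4 := card_sqs (F := F)
  by_cases h2 : (2 : F) = 0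
  · have := Nat.mul_le_mul hinj (index_ne hL)
    rw [h4.2 h2] at this
    omega
  · have h9 : 8 ≤ Fintype.card F := by
      -- `L` is a proper non-trivial subgroup
      obtain ⟨k, hk⟩ : ∃ k, k = Nat.card L := ⟨_, rfl⟩
      have h1 : 3 ≤ k := by
        have hpos : 1 < k := hk ▸ AddSubgroup.one_lt_card_iff_ne_bot L |>.2 hi
        by_contra hlt
        have hk2 : k = 2 := by omega
        have hdvd : 2 ∣ Fintype.card F := by
          rw [← Nat.card_eq_fintype_card, ← L.card_mul_index, ← hk, hk2]
          exact Dvd.intro _ rfl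
        have hodd := FiniteField.odd_card_of_char_ne_two (F := F) fun hc' => h2 (by
          haveI := ringChar.of_eq hc'
          exact CharTwo.two_eq_zero)
        omega
      have h3 := Nat.mul_le_mul h1 (three_le_index hL h2)
      rw [hk, L.card_mul_index, Nat.card_eq_fintype_card] at h3
      omega
    have := Nat.mul_le_mul hinj (three_le_index hL h2)
    omega

/-! ### Images in the complement -/

variable {V : Type*} [AddCommGroup V] [Module F V] [FiniteDimensional F V]
  {B : LinearMap.BilinForm F V} (hA : LinearMap.IsAlt B) (hN : B.Nondegenerate) {v v' : V}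
  (P : B v v' = 1)
include hA hN P

omit hA hN P [Fintype F] [FiniteDimensional F V] in
theorem mem_map_scaleW_one (g : SpB (BW B v v')) {S : AddSubgroup (Wsp B v v')}
    {w : Wsp B v v'} : g • w ∈ S.map (scaleW (1, g)) ↔ w ∈ S := by
  rw [mem_map_scaleW]
  have : scaleW ((1 : Fˣ), g)⁻¹ (g • w) = w := by
    show ((((1 : Fˣ)⁻¹)⁻¹ : Fˣ) : F) • (g⁻¹ • (g • w)) = w
    simp
  rw [this]

omit hA hN P [FiniteDimensional F V] [Fintype F] in
theorem map_scaleW_mul (g h : SpB (BW B v v')) (S : AddSubgroup (Wsp B v v')) :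
    (S.map (scaleW (1, g))).map (scaleW (1, h)) = S.map (scaleW (1, h * g)) := by
  rw [AddSubgroup.map_map]
  refine congrArg (fun f => AddSubgroup.map f S) (AddMonoidHom.ext fun w => ?_)
  show ((((1 : Fˣ))⁻¹ : Fˣ) : F) • (h • ((((1 : Fˣ))⁻¹ : Fˣ) : F) • (g • w)) = _
  simp [scaleW, mul_smul]

omit hA hN P in
theorem card_mem_Mset {S S' : AddSubgroup (Wsp B v v')} (h : S' ∈ Mset S) :
    Nat.card S' = Nat.card S := by
  obtain ⟨g, rfl⟩ := mem_Mset.1 h
  refine Nat.card_congr ((S.equivMapOfInjective _ fun a b e => ?_).symm.toEquiv)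
  simpa [scaleW] using e

open Classical in
/-- Incidences of non-zero vectors with the images, for a relation respected by `Sp(W)`. -/
theorem Mset_incidence [Fintype (Wsp B v v')] (S : AddSubgroup (Wsp B v v'))
    (R : AddSubgroup (Wsp B v v') → Wsp B v v' → Prop)
    (hR : ∀ (g : SpB (BW B v v')) T w, R T w → R (T.map (scaleW (1, g))) (g • w))
    {b k : ℕ} (hb : ∀ T ∈ Mset S, ((Finset.univ.erase 0).filter fun w => R T w).card ≤ b)
    {y : Wsp B v v'} (hy : y ≠ 0) (K : Finset (AddSubgroup (Wsp B v v'))) (hK : K ⊆ Mset S)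
    (hKy : ∀ T ∈ K, R T y) (hk : k ≤ K.card) :
    (Fintype.card (Wsp B v v') - 1) * k ≤ (Mset S).card * b := by
  have h := incidence_le' ((Finset.univ : Finset (Wsp B v v')).erase 0) (Mset S)
    (fun w T => R T w) (c := k) (b := b) (fun x hx => ?_) hb
  · rwa [Finset.card_erase_of_mem (Finset.mem_univ _), Finset.card_univ] at h
  · obtain ⟨g, -, hg⟩ := transvGroup_trans_vec (BW_isAlt hA v v') (BW_nondegenerate hA P hN) hy
      (Finset.mem_erase.1 hx).1
    refine hk.trans (Finset.card_le_card_of_injOn (fun T => T.map (scaleW (1, g))) ?_ ?_)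
    · intro T hT
      obtain ⟨g', hg'⟩ := mem_Mset.1 (hK (Finset.mem_coe.1 hT))
      refine Finset.mem_coe.2 (Finset.mem_filter.2 ⟨mem_Mset.2 ⟨g * g', ?_⟩, ?_⟩)
      · rw [← map_scaleW_mul, hg']
      · exact hg ▸ hR g T y (hKy T (Finset.mem_coe.1 hT))
    · intro T _ T' _ e
      ext w
      rw [← mem_map_scaleW_one g, ← mem_map_scaleW_one g (S := T')]
      exact iff_of_eq (congrArg (fun U => g • w ∈ U) e)

omit hA hN P in
theorem self_mem_Mset (S : AddSubgroup (Wsp B v v')) : S ∈ Mset S :=
  mem_Mset.2 ⟨1, by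
    ext w
    have := mem_map_scaleW_one (1 : SpB (BW B v v')) (S := S) (w := w)
    rwa [one_smul] at this⟩

omit hA hN P [Fintype F] [FiniteDimensional F V] in
open Classical in
theorem card_filter_addSub [Fintype (Wsp B v v')] (T : AddSubgroup (Wsp B v v')) :
    ((Finset.univ.erase 0).filter fun w => w ∈ T).card = Nat.card T - 1 := by
  rw [Finset.filter_erase, Finset.card_erase_of_mem (by simp), Nat.card_eq_fintype_card,
    ← Fintype.card_subtype]

/-- The images of a non-trivial subgroup cover `W`. -/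
theorem Mset_basic {S : AddSubgroup (Wsp B v v')} (hS : S ≠ ⊥) :
    Nat.card (Wsp B v v') - 1 + (Mset S).card ≤ (Mset S).card * Nat.card S := by
  classical
  have : Finite V := Module.finite_of_finite F
  have := Fintype.ofFinite (Wsp B v v')
  obtain ⟨y, hy, hy0⟩ : ∃ y ∈ S, y ≠ 0 := by
    by_contra h
    push Not at h
    exact hS ((AddSubgroup.eq_bot_iff_forall S).2 h)
  have h := Mset_incidence hA hN P S (fun T w => w ∈ T)
    (fun g T w => (mem_map_scaleW_one g).2) (b := Nat.card S - 1)
    (fun T hT => (card_filter_addSub T).le.trans (by rw [card_mem_Mset hT]))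
    hy0 {S} (Finset.singleton_subset_iff.2 (self_mem_Mset S))
    (fun T hT => (Finset.mem_singleton.1 hT).symm ▸ hy) (k := 1) (by simp)
  rw [mul_one, Nat.mul_sub, mul_one] at h
  have h2 : (Mset S).card ≤ (Mset S).card * Nat.card S := Nat.le_mul_of_pos_right _ Nat.card_pos
  rw [Nat.card_eq_fintype_card]
  omega

/-- A proper subgroup not contained in a line has two images through some vector. -/
theorem Mset_double {S : AddSubgroup (Wsp B v v')} (hS : S ≠ ⊤) {φ x : Wsp B v v'}
    (hφ : φ ∈ S) (hx : x ∈ S) (hi : LinearIndependent F ![φ, x]) :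
    2 * (Nat.card (Wsp B v v') - 1) + (Mset S).card ≤ (Mset S).card * Nat.card S := by
  classical
  have : Finite V := Module.finite_of_finite F
  have := Fintype.ofFinite (Wsp B v v')
  have hAW := BW_isAlt hA v v'
  have hNW := BW_nondegenerate hA P hN
  obtain ⟨y, hy, hy0, g, hgy, hgS⟩ : ∃ y ∈ S, y ≠ 0 ∧ ∃ g : SpB (BW B v v'), g • y = y ∧
      S.map (scaleW (1, g)) ≠ S := by
    by_contra hcon
    push Not at hcon
    -- `φ^⊥` lies in `S`
    have key : ∀ a b : Wsp B v v', a ∈ S → b ∈ S → LinearIndependent F ![a, b] →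
        ∀ z, BW B v v' a z = 0 → z ∈ S := by
      intro a b ha hb hab
      have ha0 : a ≠ 0 := by simpa using hab.ne_zero 0
      have h1 : ∀ u, BW B v v' a u = 0 → BW B v v' b u ≠ 0 → u ∈ S := by
        intro u hu hbu
        set t := spTransv hAW u (BW B v v' b u)⁻¹
        have e := hcon a ha ha0 t (by rw [spTransv_smul, hu, mul_zero, zero_smul, add_zero])
        have h' : t • b ∈ S := e ▸ (mem_map_scaleW_one t).2 hb
        have := sub_mem h' hb
        rwa [spTransv_smul, inv_mul_cancel₀ hbu, one_smul, add_sub_cancel_left] at this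
      intro z hz
      by_cases hbz : BW B v v' b z = 0
      · obtain ⟨u₀, hu0, hu1⟩ := exists_B_pair hNW hab 0 1
        have := sub_mem (h1 (u₀ + z) (by rw [map_add, hu0, hz, add_zero])
          (by rw [map_add, hu1, hbz, add_zero]; exact one_ne_zero)) (h1 u₀ hu0 (by rw [hu1]; exact one_ne_zero))
        simpa using this
      · exact h1 z hz hbz
    have hi' : LinearIndependent F ![x, φ] := by
      rw [LinearIndependent.pair_iff] at hi ⊢
      exact fun s t e => (hi t s (by rw [add_comm, e])).symm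
    obtain ⟨u, hu1, hu2⟩ := exists_B_pair hNW hi 1 0
    refine hS ((AddSubgroup.eq_top_iff' S).2 fun z => ?_)
    have h1 := key φ x hφ hx hi (z - BW B v v' φ z • u)
      (by rw [map_sub, map_smul, hu1, smul_eq_mul, mul_one, sub_self])
    have h2 := key x φ hx hφ hi' (BW B v v' φ z • u) (by rw [map_smul, hu2, smul_zero])
    simpa using add_mem h1 h2
  have h := Mset_incidence hA hN P S (fun T w => w ∈ T)
    (fun g T w => (mem_map_scaleW_one g).2) (b := Nat.card S - 1)
    (fun T hT => (card_filter_addSub T).le.trans (by rw [card_mem_Mset hT]))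
    hy0 {S.map (scaleW (1, g)), S} (fun T hT => ?_) (fun T hT => ?_) (k := 2)
    (Finset.card_pair hgS).ge
  · rw [Nat.mul_sub, mul_one] at h
    have h2 : (Mset S).card ≤ (Mset S).card * Nat.card S :=
      Nat.le_mul_of_pos_right _ Nat.card_pos
    rw [Nat.card_eq_fintype_card]
    omega
  · simp only [Finset.mem_insert, Finset.mem_singleton] at hT
    rcases hT with rfl | rfl
    · exact mem_Mset.2 ⟨g, rfl⟩
    · exact self_mem_Mset _
  · simp only [Finset.mem_insert, Finset.mem_singleton] at hT
    rcases hT with rfl | rfl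
    · exact hgy ▸ (mem_map_scaleW_one g).2 hy
    · exact hy

/-- A subgroup of a line which is not the line has two images in that line. -/
theorem Mset_line {S : AddSubgroup (Wsp B v v')} {s : Wsp B v v'} (hs : s ∈ S) (hs0 : s ≠ 0)
    (hline : ∀ z ∈ S, ∃ c : F, c • s = z) (hopen : ∃ a : F, a • s ∉ S) :
    2 * (Nat.card (Wsp B v v') - 1) ≤ (Mset S).card * (Fintype.card F - 1) := by
  classical
  have : Finite V := Module.finite_of_finite F
  have := Fintype.ofFinite (Wsp B v v')
  have hAW := BW_isAlt hA v v'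
  have hNW := BW_nondegenerate hA P hN
  obtain ⟨a, ha⟩ := hopen
  have ha0 : a ≠ 0 := fun e => ha (by rw [e, zero_smul]; exact zero_mem S)
  obtain ⟨g, -, hg⟩ := transvGroup_trans_vec hAW hNW hs0 (smul_ne_zero ha0 hs0)
  have hne : S.map (scaleW (1, g)) ≠ S := fun e => ha (hg ▸ e ▸ (mem_map_scaleW_one g).2 hs)
  rw [Nat.card_eq_fintype_card, mul_comm 2]
  refine Mset_incidence hA hN P S (fun T w => w ∈ Submodule.span F (T : Set (Wsp B v v')))
    (fun g T w hw => ?_) (b := Fintype.card F - 1) (fun T hT => ?_) hs0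
    {S.map (scaleW (1, g)), S} (fun T hT => ?_) (fun T hT => ?_) (Finset.card_pair hne).ge
  · induction hw using Submodule.span_induction with
    | mem z hz => exact Submodule.subset_span ((mem_map_scaleW_one g).2 hz)
    | zero => rw [smul_zero]; exact zero_mem _
    | add a b _ _ ea eb => rw [smul_add]; exact add_mem ea eb
    | smul c a _ ea => rw [smul_comm g c]; exact Submodule.smul_mem _ c ea
  · obtain ⟨g', rfl⟩ := mem_Mset.1 hT
    have hle : Submodule.span F ((S.map (scaleW (1, g'))) : Set (Wsp B v v')) ≤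
        Submodule.span F {g' • s} := by
      rw [Submodule.span_le]
      rintro _ ⟨z, hz, rfl⟩
      obtain ⟨c, rfl⟩ := hline z hz
      refine Submodule.mem_span_singleton.2 ⟨c, ?_⟩
      simp [scaleW, smul_comm g' c]
    refine (Finset.card_le_card (fun w hw => ?_)).trans
      (le_of_eq_of_le (Finset.card_erase_of_mem (s := (Finset.univ : Finset F).image
        fun c => c • (g' • s)) (a := 0) (Finset.mem_image.2 ⟨0, Finset.mem_univ _, zero_smul _ _⟩))
        (Nat.sub_le_sub_right (Finset.card_image_le.trans_eq Finset.card_univ) 1))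
    obtain ⟨h1, h2⟩ := Finset.mem_filter.1 hw
    obtain ⟨c, hc⟩ := Submodule.mem_span_singleton.1 (hle h2)
    exact Finset.mem_erase.2 ⟨(Finset.mem_erase.1 h1).1,
      Finset.mem_image.2 ⟨c, Finset.mem_univ _, hc⟩⟩
  · simp only [Finset.mem_insert, Finset.mem_singleton] at hT
    rcases hT with rfl | rfl
    · exact mem_Mset.2 ⟨g, rfl⟩
    · exact self_mem_Mset _
  · simp only [Finset.mem_insert, Finset.mem_singleton] at hT
    rcases hT with rfl | rfl
    · have h1 : a • s ∈ S.map (scaleW (1, g)) := hg ▸ (mem_map_scaleW_one g).2 hs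
      have h2 := Submodule.smul_mem (Submodule.span F ((S.map (scaleW (1, g))) :
        Set (Wsp B v v'))) a⁻¹ (Submodule.subset_span h1)
      rwa [inv_smul_smul₀ ha0] at h2
    · exact Submodule.subset_span hs

end Cfsg.Agent.MinDeg.Symp
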