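import Mathlib

/-!
Transvections `tv v φ : x ↦ x + (φ ⬝ x) v` in `SL_n` (the identity when `φ ⬝ v ≠ 0`), their
conjugation rule, and elementary linear algebra with the dot product.
-/

set_option autoImplicit false

open Matrix
open scoped MatrixGroups

namespace Cfsg.Agent.MinDeg

variable {ι F : Type*} [Fintype ι] [DecidableEq ι] [Field F]

theorem det_one_add_vecMulVec (v φ : ι → F) : (1 + vecMulVec v φ).det = 1 + φ ⬝ᵥ v := by
  rw [vecMulVec_eq (Fin 1), det_one_add_replicateCol_mul_replicateRow]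

open Classical in
/-- The transvection `x ↦ x + (φ ⬝ x) v`; the identity if `φ ⬝ v ≠ 0`. -/
noncomputable def tv (v φ : ι → F) : SpecialLinearGroup ι F :=
  if h : φ ⬝ᵥ v = 0 then ⟨1 + vecMulVec v φ, by rw [det_one_add_vecMulVec, h, add_zero]⟩ else 1

theorem tv_coe {v φ : ι → F} (h : φ ⬝ᵥ v = 0) :
    (tv v φ : Matrix ι ι F) = 1 + vecMulVec v φ := by
  unfold tv
  exact congrArg Subtype.val (dif_pos (c := φ ⬝ᵥ v = 0) h)

theorem tv_of_ne {v φ : ι → F} (h : φ ⬝ᵥ v ≠ 0) : tv v φ = 1 := by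
  unfold tv
  exact dif_neg h

theorem tv_mulVec {v φ : ι → F} (h : φ ⬝ᵥ v = 0) (x : ι → F) :
    (tv v φ : Matrix ι ι F) *ᵥ x = x + (φ ⬝ᵥ x) • v := by
  rw [tv_coe h, add_mulVec, one_mulVec, vecMulVec_mulVec]
  ext i; simp [mul_comm]

theorem vecMul_tv {v φ : ι → F} (h : φ ⬝ᵥ v = 0) (x : ι → F) :
    x ᵥ* (tv v φ : Matrix ι ι F) = x + (x ⬝ᵥ v) • φ := by
  rw [tv_coe h, vecMul_add, vecMul_one, vecMul_vecMulVec]

theorem tv_zero_left (φ : ι → F) : tv (0 : ι → F) φ = 1 := by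
  apply Subtype.ext
  show (tv (0 : ι → F) φ : Matrix ι ι F) = 1
  rw [tv_coe (dotProduct_zero φ)]
  ext i j; simp [vecMulVec_apply]

theorem tv_zero_right (v : ι → F) : tv v (0 : ι → F) = 1 := by
  apply Subtype.ext
  show (tv v (0 : ι → F) : Matrix ι ι F) = 1
  rw [tv_coe (zero_dotProduct v)]
  ext i j; simp [vecMulVec_apply]

theorem tv_add_left {v v' φ : ι → F} (h : φ ⬝ᵥ v = 0) (h' : φ ⬝ᵥ v' = 0) :
    tv (v + v') φ = tv v φ * tv v' φ := by
  apply Subtype.ext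
  show (tv (v + v') φ : Matrix ι ι F) = (tv v φ : Matrix ι ι F) * (tv v' φ : Matrix ι ι F)
  rw [tv_coe h, tv_coe h', tv_coe (by rw [dotProduct_add, h, h', add_zero]), add_vecMulVec,
    mul_add, mul_one, add_mul, one_mul, vecMulVec_mul_vecMulVec, h', zero_smul]
  have : vecMulVec v (0 : ι → F) = 0 := by ext i j; simp [vecMulVec_apply]
  rw [this, add_zero, add_assoc]

theorem tv_add_right {v φ φ' : ι → F} (h : φ ⬝ᵥ v = 0) (h' : φ' ⬝ᵥ v = 0) :
    tv v (φ + φ') = tv v φ * tv v φ' := by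
  apply Subtype.ext
  show (tv v (φ + φ') : Matrix ι ι F) = (tv v φ : Matrix ι ι F) * (tv v φ' : Matrix ι ι F)
  rw [tv_coe h, tv_coe h', tv_coe (by rw [add_dotProduct, h, h', add_zero]), vecMulVec_add,
    mul_add, mul_one, add_mul, one_mul, vecMulVec_mul_vecMulVec, h, zero_smul]
  have : vecMulVec v (0 : ι → F) = 0 := by ext i j; simp [vecMulVec_apply]
  rw [this, add_zero, add_assoc]

theorem tv_smul_comm {v φ : ι → F} (c : F) (h : φ ⬝ᵥ v = 0) :
    tv v (c • φ) = tv (c • v) φ := by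
  apply Subtype.ext
  show (tv v (c • φ) : Matrix ι ι F) = (tv (c • v) φ : Matrix ι ι F)
  rw [tv_coe (by rw [smul_dotProduct, h, smul_zero]),
    tv_coe (by rw [dotProduct_smul, h, smul_zero])]
  ext i j; simp [vecMulVec_apply, mul_comm, mul_left_comm]

theorem tv_neg_left {v φ : ι → F} (h : φ ⬝ᵥ v = 0) : tv (-v) φ = (tv v φ)⁻¹ := by
  apply eq_inv_of_mul_eq_one_left
  rw [← tv_add_left (by rw [dotProduct_neg, h, neg_zero]) h, neg_add_cancel, tv_zero_left]

theorem coe_mul' (g h : SpecialLinearGroup ι F) :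
    ((g * h : SpecialLinearGroup ι F) : Matrix ι ι F) = (g : Matrix ι ι F) * (h : Matrix ι ι F) :=
  rfl

theorem mulVec_mulVec_inv (g : SpecialLinearGroup ι F) (x : ι → F) :
    (g : Matrix ι ι F) *ᵥ (((g⁻¹ : SpecialLinearGroup ι F) : Matrix ι ι F) *ᵥ x) = x := by
  rw [mulVec_mulVec, ← coe_mul', mul_inv_cancel]; exact one_mulVec x

theorem inv_mulVec_mulVec (g : SpecialLinearGroup ι F) (x : ι → F) :
    ((g⁻¹ : SpecialLinearGroup ι F) : Matrix ι ι F) *ᵥ ((g : Matrix ι ι F) *ᵥ x) = x := by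
  rw [mulVec_mulVec, ← coe_mul', inv_mul_cancel]; exact one_mulVec x

theorem dot_conj (g : SpecialLinearGroup ι F) (v φ : ι → F) :
    (φ ᵥ* ((g⁻¹ : SpecialLinearGroup ι F) : Matrix ι ι F)) ⬝ᵥ ((g : Matrix ι ι F) *ᵥ v)
      = φ ⬝ᵥ v := by
  rw [← dotProduct_mulVec, inv_mulVec_mulVec]

theorem tv_conj (g : SpecialLinearGroup ι F) (v φ : ι → F) :
    g * tv v φ * g⁻¹ =
      tv ((g : Matrix ι ι F) *ᵥ v) (φ ᵥ* ((g⁻¹ : SpecialLinearGroup ι F) : Matrix ι ι F)) := by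
  by_cases h : φ ⬝ᵥ v = 0
  · apply Subtype.ext
    show (g : Matrix ι ι F) * (tv v φ : Matrix ι ι F) *
      ((g⁻¹ : SpecialLinearGroup ι F) : Matrix ι ι F) =
      ((tv ((g : Matrix ι ι F) *ᵥ v) (φ ᵥ* ((g⁻¹ : SpecialLinearGroup ι F) : Matrix ι ι F)) :
        SpecialLinearGroup ι F) : Matrix ι ι F)
    rw [tv_coe h, tv_coe (by rw [dot_conj, h]), mul_add, mul_one, add_mul, ← coe_mul',
      mul_inv_cancel, mul_vecMulVec, vecMulVec_mul]
    rfl
  · rw [tv_of_ne h, tv_of_ne (by rwa [dot_conj]), mul_one, mul_inv_cancel]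

theorem transvection_eq_tv {i j : ι} (hij : i ≠ j) (c : F) :
    SpecialLinearGroup.transvection hij c = tv (Pi.single i c) (Pi.single j 1) := by
  apply Subtype.ext
  show (SpecialLinearGroup.transvection hij c : Matrix ι ι F) =
    ((tv (Pi.single i c) (Pi.single j 1) : SpecialLinearGroup ι F) : Matrix ι ι F)
  rw [tv_coe (by simp [hij]), SpecialLinearGroup.transvection_coe]
  ext k l; simp [Matrix.single_apply, vecMulVec_apply, Pi.single_apply, eq_comm, ← ite_and, and_comm]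

omit [DecidableEq ι] in
/-- A vector outside a subspace is separated from it by a dot product. -/
theorem exists_dot {S : Submodule F (ι → F)} {φ : ι → F} (h : φ ∉ S) :
    ∃ χ : ι → F, (∀ x ∈ S, x ⬝ᵥ χ = 0) ∧ φ ⬝ᵥ χ = 1 := by
  classical
  obtain ⟨f, hf1, hf0⟩ := Submodule.exists_dual_map_eq_bot_of_notMem h inferInstance
  have key : ∀ x : ι → F, f x = x ⬝ᵥ (fun i => f (Pi.single i 1)) := by
    intro x
    conv_lhs => rw [pi_eq_sum_univ' x]
    simp [dotProduct]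
  refine ⟨(f φ)⁻¹ • fun i => f (Pi.single i 1), fun x hx => ?_, ?_⟩
  · rw [dotProduct_smul, ← key]
    have : f x ∈ S.map f := ⟨x, hx, rfl⟩
    rw [hf0, Submodule.mem_bot] at this
    rw [this, smul_zero]
  · rw [dotProduct_smul, ← key, smul_eq_mul, inv_mul_cancel₀ hf1]

omit [DecidableEq ι] in
/-- Anything killed by every vector that kills `S` lies in `S`. -/
theorem mem_of_forall_dot {S : Submodule F (ι → F)} {φ : ι → F}
    (h : ∀ χ : ι → F, (∀ x ∈ S, x ⬝ᵥ χ = 0) → φ ⬝ᵥ χ = 0) : φ ∈ S := by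
  by_contra hn
  obtain ⟨χ, h1, h2⟩ := exists_dot hn
  exact one_ne_zero (h2.symm.trans (h χ h1))

end Cfsg.Agent.MinDeg
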