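import Cfsg.Agent.Lib.MinDeg.UnitPoint

/-!
The lower bound for the degree of a non-trivial transitive action of a unitary group.
-/

set_option autoImplicit false
set_option linter.unusedSectionVars false

namespace Cfsg.Agent.MinDeg.Unitary

open Cfsg.Agent.ClassicalSimple Cfsg.Agent.MinDegree

variable {F V : Type*} [Field F] [Finite F] [AddCommGroup V] [Module F V] [FiniteDimensional F V]
  {σ : F →+* F} {h : V →ₛₗ[σ] V →ₗ[F] F}

variable (hh : IsUnitaryForm σ h)
include hh

/-- The size of a set of non-zero vectors closed under scalars. -/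
theorem dvd_ncard_scalar {q : ℕ} (hq : Nat.card F = q ^ 2) (S : Set V) (h0 : ∀ x ∈ S, x ≠ 0)
    (hS : ∀ x ∈ S, ∀ c : F, c ≠ 0 → c • x ∈ S) : q ^ 2 - 1 ∣ S.ncard := by
  classical
  have : Finite V := Module.finite_of_finite F
  have := Fintype.ofFinite V
  have := Fintype.ofFinite F
  rw [Set.ncard_eq_toFinset_card' S, Finset.card_eq_sum_card_image (fun x => Submodule.span F {x})]
  refine Finset.dvd_sum fun U hU => ?_
  obtain ⟨x, hx, rfl⟩ := Finset.mem_image.1 hU
  have hxS : x ∈ S := Set.mem_toFinset.1 hx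
  have e : (S.toFinset.filter fun y => Submodule.span F {y} = Submodule.span F {x}) =
      (Finset.univ : Finset Fˣ).image fun u : Fˣ => (u : F) • x := by
    ext y
    simp only [Finset.mem_filter, Set.mem_toFinset, Finset.mem_image, Finset.mem_univ, true_and]
    constructor
    · rintro ⟨-, hy⟩
      obtain ⟨z, hz⟩ := Submodule.span_singleton_eq_span_singleton.1 hy.symm
      exact ⟨z, hz⟩
    · rintro ⟨u, rfl⟩
      exact ⟨hS x hxS u u.ne_zero, Submodule.span_singleton_smul_eq u.isUnit x⟩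
  rw [e, Finset.card_image_of_injective _ fun a b hab =>
    Units.ext (smul_left_injective F (h0 x hxS) hab), Finset.card_univ, ← Nat.card_eq_fintype_card,
    Nat.card_units, hq]

theorem iso_succ : (isoV h).ncard + 1 = Nat.card {x : V // h x x = 0} := by
  have : Finite V := Module.finite_of_finite F
  rw [show isoV h = {x : V | h x x = 0} \ {0} by ext x; simp [isoV, and_comm]]
  exact Set.ncard_sdiff_singleton_add_one (by simp) (Set.toFinite _)

/-- The recursion for the number of isotropic vectors. -/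
theorem iso_rec {q D : ℕ} (hq : Nat.card F = q ^ 2) {v v' : V} (P : Pair h v v')
    (hD : Module.finrank F (Wsp h v v') = D) :
    (isoV h).ncard =
      q ^ 2 * (isoV (hW h v v')).ncard + (q ^ 2 - 1) + (q ^ 2 - 1) * q ^ (2 * D + 1) := by
  have h1 := card_zero_step (hh := hh) P hq
  have h2 := iso_succ hh
  have h3 := iso_succ (hW_isUnitary hh P)
  simp only [hW_apply] at h3
  rw [← h2, ← h3, hD] at h1
  have hq2 := two_le_q hq
  have hq0 : (q : ℤ) ≠ 0 := by omega
  zify [Nat.one_le_pow 2 q (by omega)]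
  refine mul_left_cancel₀ hq0 ?_
  push_cast at h1
  linear_combination h1

/-- The recursion for the number of vectors of norm one. -/
theorem norm_rec {q n : ℕ} (hq : Nat.card F = q ^ 2) (hn : Module.finrank F V = n)
    (hn1 : 1 ≤ n) (heven : Even n) :
    (normV h 1).ncard + q ^ (n - 1) = q ^ (2 * n - 1) := by
  obtain ⟨m, rfl⟩ : ∃ m, n = m + 1 := ⟨n - 1, by omega⟩
  have h1 := card_norm hh hq hn one_ne_zero (map_one σ)
  rw [heven.neg_one_pow] at h1
  rw [show 2 * (m + 1) - 1 = 2 * m + 1 by omega, Nat.add_sub_cancel]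
  zify
  linear_combination h1

/-- Inside a subgroup of prescribed invariants, annihilators commute with the action. -/
theorem imgs_annC_le (χ : AddChar F ℂ) (A : AddSubgroup V) :
    (imgs h (annC h χ A)).ncard ≤ (imgs h A).ncard := by
  have := finite_addSubgroup h
  have key : ∀ g : SUH h, subPerm g (annC h χ A) = annC h χ (subPerm g A) := by
    intro g
    ext φ
    rw [mem_subPerm]
    constructor
    · intro hφ w hw
      have h1 := hφ _ (mem_subPerm.1 hw)
      rwa [show h (g⁻¹ • φ) (g⁻¹ • w) = h φ w from uh_smul_smul ((g⁻¹ : SUH h) : UH h) φ w] at h1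
    · intro hφ w hw
      have h1 := hφ _ (smul_mem_subPerm.2 hw : g • w ∈ subPerm g A)
      rw [show h φ (g • w) = h (g⁻¹ • φ) (g⁻¹ • g • w) from
        (uh_smul_smul ((g⁻¹ : SUH h) : UH h) φ (g • w)).symm, inv_smul_smul] at h1
      exact h1
  refine le_trans (Set.ncard_le_ncard (t := (fun S => annC h χ S) '' imgs h A) ?_ (Set.toFinite _))
    (Set.ncard_image_le (Set.toFinite _))
  rintro T ⟨g, rfl⟩
  exact ⟨subPerm g A, ⟨g, rfl⟩, (key g).symm⟩

variable {Ω : Type*} {q D : ℕ} {ρ : SUH h →* Equiv.Perm Ω} (H : Hyp hh q D ρ)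
include H

/-- The points fixed by the transvection group of a mixed point. -/
theorem Hyp.fixed_lower {v v' : V} (P : Pair h v v') {ω : Ω} (hL : Lsub hh P ρ ω = ⊤) :
    (imgs (hW h v v') (Asub hh P ρ ω)).ncard * (orbR hh P ρ ω).ncard ≤
      {y | Lsub hh P ρ y = ⊤}.ncard := by
  classical
  have := H.fin
  have : Finite V := Module.finite_of_finite F
  have := finite_addSubgroup (hW h v v')
  choose g hg using fun T : imgs (hW h v v') (Asub hh P ρ ω) => T.2
  let y : imgs (hW h v v') (Asub hh P ρ ω) → Ω := fun T => ρ (blkW hh P (g T)) ω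
  have hy : ∀ T, Lsub hh P ρ (y T) = ⊤ ∧ Asub hh P ρ (y T) = T.1 := fun T =>
    ⟨(invs_blkW hh P ρ (g T) ω).1.trans hL, (invs_blkW hh P ρ (g T) ω).2.trans (hg T)⟩
  have hlen : ∀ T, (orbR hh P ρ (y T)).ncard = (orbR hh P ρ ω).ncard := by
    intro T
    have h1 := H.orbit_card hh P (y T)
    have h2 := H.orbit_card hh P ω
    have eA : Nat.card (Asub hh P ρ (y T)) = Nat.card (Asub hh P ρ ω) := by
      rw [(invs_blkW hh P ρ (g T) ω).2]
      exact (Nat.card_congr ((Asub hh P ρ ω).equivMapOfInjective (gHom (g T))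
        (fun a b e => MulAction.injective (g T) e)).toEquiv).symm
    rw [eA, (hy T).1, ← hL, ← h2] at h1
    exact Nat.eq_of_mul_eq_mul_right Nat.card_pos h1
  have := Fintype.ofFinite (imgs (hW h v v') (Asub hh P ρ ω))
  rw [← Nat.card_coe_set_eq (imgs (hW h v v') (Asub hh P ρ ω)),
    ← Nat.card_coe_set_eq (orbR hh P ρ ω), ← Nat.card_prod,
    ← Nat.card_coe_set_eq {y | Lsub hh P ρ y = ⊤}]
  have hcard : ∀ T, Nat.card (orbR hh P ρ (y T)) = Nat.card (orbR hh P ρ ω) := fun T => by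
    rw [Nat.card_coe_set_eq, Nat.card_coe_set_eq, hlen T]
  let f : (Σ T, orbR hh P ρ (y T)) → {z | Lsub hh P ρ z = ⊤} := fun p =>
    ⟨(p.2 : Ω), show Lsub hh P ρ (p.2 : Ω) = ⊤ by rw [(invs_orbR hh P ρ p.2.2).1, (hy p.1).1]⟩
  refine le_trans (le_of_eq ?_) (Nat.card_le_card_of_injective f ?_)
  · rw [Nat.card_sigma, Finset.sum_congr rfl (fun T _ => hcard T), Finset.sum_const,
      Finset.card_univ, smul_eq_mul, ← Nat.card_eq_fintype_card, ← Nat.card_prod]
  · rintro ⟨T, x⟩ ⟨T', x'⟩ e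
    have e : (x : Ω) = (x' : Ω) := congrArg Subtype.val e
    have a2 := (invs_orbR hh P ρ x.2).2
    have b2 := (invs_orbR hh P ρ x'.2).2
    rw [← e] at b2
    obtain rfl : T = T' := Subtype.ext (by rw [← (hy T).2, ← (hy T').2, ← a2, ← b2])
    rw [Subtype.ext e]

/-- The double count of vectors and the points their transvection groups fix. -/
theorem Hyp.double_count {v v' : V} (P : Pair h v v') :
    ∃ g : ℕ, Nat.card Ω * ((q ^ 2 - 1) * g) =
      (isoV h).ncard * {y | Lsub hh P ρ y = ⊤}.ncard := by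
  classical
  have : Finite V := Module.finite_of_finite F
  have := H.fin
  have := Fintype.ofFinite V
  have := Fintype.ofFinite Ω
  let R : V → Ω → Prop := fun u y => ∀ c : skewAdd σ, ρ (rt hh u 0 (c : F)) y = y
  have hfix : {y | Lsub hh P ρ y = ⊤} = {y | R v y} := by
    ext y
    show Lsub hh P ρ y = ⊤ ↔ R v y
    rw [AddSubgroup.eq_top_iff']
    exact forall_congr' fun c => rt_fixed_Lsub hh P ρ
  have hR : ∀ (g : SUH h) (u : V), u ∈ isoV h → ∀ y, R (g • u) (ρ g y) ↔ R u y := by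
    intro g u hu y
    refine forall_congr' fun c => ?_
    have e := rt_conj hh g (ok_skew hh hu.2 c)
    rw [smul_zero] at e
    rw [← e, map_mul, map_mul, map_inv]
    simp only [Equiv.Perm.mul_apply, Equiv.Perm.inv_def, Equiv.symm_apply_apply]
    exact (ρ g).injective.eq_iff
  -- the points fixed by a vector
  have ha : ∀ u ∈ isoV h, (Finset.univ.filter fun y => R u y).card = {y | R v y}.ncard := by
    intro u hu
    obtain ⟨g, rfl⟩ := trans_iso hh (by have := H.dim; have := H.three; omega)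
      (show v ∈ isoV h from ⟨P.ne_zero, P.left⟩) hu
    rw [Set.ncard_eq_toFinset_card']
    refine (Finset.card_equiv (ρ g) fun y => ?_).symm
    simpa using (hR g v ⟨P.ne_zero, P.left⟩ y).symm
  -- the vectors fixing a point
  obtain ⟨y₀, -⟩ := H.nontriv
  let S : Ω → Set V := fun y => {u | u ∈ isoV h ∧ R u y}
  have hb : ∀ y, ((isoV h).toFinset.filter fun u => R u y).card = (S y₀).ncard := by
    intro y
    obtain ⟨g, hg⟩ := H.trans y₀ y
    rw [Set.ncard_eq_toFinset_card']
    refine (Finset.card_equiv (MulAction.toPerm g : Equiv.Perm V) fun u => ?_).symm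
    have hiso : g • u ∈ isoV h ↔ u ∈ isoV h :=
      ⟨fun hu => by simpa using smul_iso g⁻¹ hu, smul_iso g⟩
    simp only [Set.mem_toFinset, Finset.mem_filter, MulAction.toPerm_apply, hiso]
    show u ∈ isoV h ∧ R u y₀ ↔ u ∈ isoV h ∧ R (g • u) y
    rw [← hg]
    exact and_congr_right fun hu => (hR g u hu y₀).symm
  have hdvd : q ^ 2 - 1 ∣ (S y₀).ncard := by
    refine dvd_ncard_scalar hh H.hq _ (fun u hu => hu.1.1) fun u hu t ht => ?_
    refine ⟨⟨smul_ne_zero ht hu.1.1, by simp [hu.1.2]⟩, fun c => ?_⟩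
    rw [rt_scale hh (ok_skew hh hu.1.2 c), smul_zero,
      show σ t * t * (c : F) = (c : F) * (σ t * t) from mul_comm _ _]
    exact hu.2 ⟨_, skew_mul_trace hh c (by rw [map_mul, hh.invol, mul_comm])⟩
  obtain ⟨g, hg⟩ := hdvd
  refine ⟨g, ?_⟩
  rw [hfix, ← hg, Nat.card_eq_fintype_card, ← Finset.card_univ,
    Set.ncard_eq_toFinset_card' (isoV h), ← smul_eq_mul, ← Finset.sum_const, ← smul_eq_mul,
    ← Finset.sum_const, ← Finset.sum_congr rfl (fun y _ => hb y),
    ← Finset.sum_congr rfl (fun u hu => ha u (Set.mem_toFinset.1 hu))]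
  exact (Finset.sum_card_bipartiteAbove_eq_sum_card_bipartiteBelow (fun u y => R u y)).symm

/-- No small action, with an exception over the field of four elements. -/
theorem Hyp.exception : q = 2 ∧ Even D ∧ (normV h 1).ncard ≤ 3 * Nat.card Ω := by
  classical
  have := H.fin
  have : Finite V := Module.finite_of_finite F
  have hq2 := two_le_q H.hq
  obtain ⟨v, v', P, ω, hL, hA⟩ := H.exists_mixed hh
  have hWu := hW_isUnitary hh P
  have hWd : Module.finrank F (Wsp h v v') = D := H.dimW hh P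
  have hWc : Nat.card (Wsp h v v') = q ^ (2 * D) := by
    rw [Module.natCard_eq_pow_finrank (K := F) (V := Wsp h v v'), hWd, H.hq, ← pow_mul]
  obtain ⟨χ, hχ⟩ : ∃ χ : AddChar F ℂ, χ ≠ 1 := by
    obtain ⟨χ, hχ⟩ := AddChar.exists_apply_ne_zero.2 (one_ne_zero : (1 : F) ≠ 0)
    exact ⟨χ, AddChar.ne_one_iff.2 ⟨1, hχ⟩⟩
  set A := Asub hh P ρ ω
  set B := annC (hW h v v') χ A
  have hBA : Nat.card B * Nat.card A = q ^ (2 * D) := (card_annC hWu hχ A).trans hWc
  have horb : (orbR hh P ρ ω).ncard = Nat.card B := by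
    have h1 := H.orbit_card hh P ω
    rw [hL, AddSubgroup.index_top, one_mul, ← hBA] at h1
    exact Nat.eq_of_mul_eq_mul_right Nat.card_pos h1
  have hB0 : B ≠ ⊥ := by
    intro e
    rw [e, AddSubgroup.card_bot, one_mul] at hBA
    exact hA (AddSubgroup.eq_top_of_card_eq A (hBA.trans hWc.symm))
  set Fx := {y | Lsub hh P ρ y = ⊤}
  have hBlow : (imgs (hW h v v') B).ncard * Nat.card B ≤ Fx.ncard :=
    (Nat.mul_le_mul_right _ (imgs_annC_le hWu χ A)).trans (by rw [← horb]; exact H.fixed_lower hh P hL)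
  obtain ⟨x, hx⟩ := H.exists_moved hh P
  have hfree := H.free_card hh P hx
  have hsum : Fx.ncard + q ^ (2 * D + 1) ≤ Nat.card Ω := by
    rw [← hfree, ← Set.ncard_univ, ← Set.ncard_union_eq ?_ (Set.toFinite _) (Set.toFinite _)]
    · exact Set.ncard_le_ncard (Set.subset_univ _) (Set.toFinite _)
    · rw [Set.disjoint_left]
      intro y hy hy'
      exact hx ((invs_orbR hh P ρ hy').1.symm.trans hy)
  set Q := q ^ 2 - 1 with hQ
  have hrec := iso_rec hh H.hq P hWd
  rw [← hQ] at hrec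
  rcases fixed_ineq hWu H.hq hWd H.three hB0 with hi | ⟨hqe, hDe, hi⟩
  · exfalso
    have h1 : q ^ 2 * (isoV (hW h v v')).ncard ≤ Fx.ncard * Q :=
      hi.trans (Nat.mul_le_mul_right _ hBlow)
    have hmul := Nat.mul_le_mul_right Q hsum
    rw [add_mul, mul_comm (q ^ (2 * D + 1)) Q] at hmul
    have hlt := H.small
    rw [← hQ] at hlt
    obtain ⟨k, hk⟩ : Q ∣ (isoV h).ncard :=
      dvd_ncard_scalar hh H.hq _ (fun x hx => hx.1) fun x hx c hc =>
        ⟨smul_ne_zero hc hx.1, by simp [hx.2]⟩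
    have hQ0 : 0 < Q := by
      have : 4 ≤ q ^ 2 := Nat.pow_le_pow_left hq2 2
      omega
    have hk1 : Nat.card Ω + 1 = k := by
      have a1 : Nat.card Ω * Q < k * Q := by rw [mul_comm k]; omega
      have a2 : k * Q ≤ (Nat.card Ω + 1) * Q := by rw [mul_comm k, add_mul, one_mul]; omega
      have := Nat.lt_of_mul_lt_mul_right a1
      have := Nat.le_of_mul_le_mul_right a2 hQ0
      omega
    obtain ⟨g, hg⟩ := H.double_count hh P
    rw [← hQ, hk, ← hk1] at hg
    have hg : Nat.card Ω * g = (Nat.card Ω + 1) * Fx.ncard := by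
      refine Nat.eq_of_mul_eq_mul_left hQ0 ?_
      linear_combination hg
    have hdvd : Nat.card Ω ∣ Fx.ncard :=
      (Nat.coprime_self_add_right.2 (Nat.coprime_one_right _)).dvd_of_dvd_mul_left ⟨g, hg.symm⟩
    have hpos : 0 < q ^ (2 * D + 1) := Nat.pow_pos (by omega)
    have hFx : 0 < Fx.ncard := (Set.ncard_pos (Set.toFinite _)).2 ⟨ω, hL⟩
    have := Nat.le_of_dvd hFx hdvd
    omega
  · refine ⟨hqe, hDe, ?_⟩
    subst hqe
    have h1 : 2 ^ 2 * (normV (hW h v v') 1).ncard ≤ Fx.ncard * 3 :=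
      hi.trans (Nat.mul_le_mul_right _ hBlow)
    have hn := norm_rec hh H.hq H.dim (by omega) (hDe.add even_two)
    have hnW := norm_rec hWu H.hq hWd (by have := H.three; omega) hDe
    have hD := H.three
    obtain ⟨m, rfl⟩ : ∃ m, D = m + 1 := ⟨D - 1, by omega⟩
    rw [show 2 * (m + 1 + 2) - 1 = 2 * m + 5 by omega, show m + 1 + 2 - 1 = m + 2 by omega] at hn
    rw [show 2 * (m + 1) - 1 = 2 * m + 1 by omega, Nat.add_sub_cancel] at hnW
    ring_nf at hn hnW hsum h1 ⊢
    omega

omit H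

/-- The degree bound. -/
theorem degree_bound {Ω : Type*} [Finite Ω] [Nontrivial Ω] {q n : ℕ} (hq : Nat.card F = q ^ 2)
    (hn : Module.finrank F V = n) (hn5 : 5 ≤ n) (ρ : SUH h →* Equiv.Perm Ω)
    (htrans : ∀ a b : Ω, ∃ g, ρ g a = b) :
    (isoV h).ncard ≤ Nat.card Ω * (q ^ 2 - 1) ∨
      (q = 2 ∧ Even n ∧ (normV h 1).ncard ≤ 3 * Nat.card Ω) := by
  obtain ⟨D, rfl⟩ : ∃ D, n = D + 2 := ⟨n - 2, by omega⟩
  refine or_iff_not_imp_left.2 fun hlt => ?_
  have H : Hyp hh q D ρ :=
    ⟨hq, hn, by omega, htrans, ‹_›, ‹_›, not_le.1 hlt⟩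
  obtain ⟨h1, h2, h3⟩ := H.exception hh
  exact ⟨h1, h2.add even_two, h3⟩

end Cfsg.Agent.MinDeg.Unitary
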