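import Mathlib

/-!
Inequalities between polynomials in `q` used for the minimal degree of the unitary groups.
-/

set_option autoImplicit false

namespace Cfsg.Agent.MinDeg.Unitary

theorem num_base {q : ℕ} (hq : 2 ≤ q) : 8 * (q ^ 2 + 1) ≤ 7 * q * (q ^ 2 - 1) := by
  obtain ⟨r, rfl⟩ : ∃ r, q = r + 2 := ⟨q - 2, by omega⟩
  have e : (r + 2) ^ 2 = r ^ 2 + 4 * r + 4 := by ring
  rw [e, show r ^ 2 + 4 * r + 4 - 1 = r ^ 2 + 4 * r + 3 by omega]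
  ring_nf
  omega

theorem num_iso_low {q D I : ℕ} (hq : 2 ≤ q) (hD : 4 ≤ D) (hI : q ^ (2 * D - 1) ≤ I + q ^ D) :
    7 * q ^ (2 * D - 1) ≤ 8 * I := by
  have h : 8 * q ^ D ≤ q ^ (2 * D - 1) := by
    rw [show 2 * D - 1 = (D - 1) + D by omega, pow_add]
    refine Nat.mul_le_mul_right _ ?_
    exact le_trans (by norm_num) ((Nat.pow_le_pow_left hq 3).trans
      (Nat.pow_le_pow_right (by omega) (by omega)))
  omega

/-- Many images through a vector, at least four dimensions. -/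
theorem num_images {q D I A M : ℕ} (hq : 2 ≤ q) (hD : 4 ≤ D)
    (hI : q ^ (2 * D - 1) ≤ I + q ^ D) (hA : A * A ≤ q ^ (2 * D))
    (h : I * q ^ (D - 2) ≤ M * A) (hA1 : 1 ≤ A) :
    A * (q ^ 2 + 1) ≤ M * (q ^ 2 - 1) := by
  refine Nat.le_of_mul_le_mul_left (?_ : 8 * A * (A * (q ^ 2 + 1)) ≤ 8 * A * (M * (q ^ 2 - 1)))
    (by omega)
  calc 8 * A * (A * (q ^ 2 + 1)) = A * A * (8 * (q ^ 2 + 1)) := by ring
    _ ≤ q ^ (2 * D) * (7 * q * (q ^ 2 - 1)) := Nat.mul_le_mul hA (num_base hq)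
    _ = 7 * q ^ (2 * D + 1) * (q ^ 2 - 1) := by ring
    _ ≤ 7 * (q ^ (2 * D - 1) * q ^ (D - 2)) * (q ^ 2 - 1) := by
        rw [← pow_add]
        exact Nat.mul_le_mul_right _ (Nat.mul_le_mul_left _
          (Nat.pow_le_pow_right (by omega) (by omega)))
    _ = 7 * q ^ (2 * D - 1) * q ^ (D - 2) * (q ^ 2 - 1) := by ring
    _ ≤ 8 * I * q ^ (D - 2) * (q ^ 2 - 1) :=
        Nat.mul_le_mul_right _ (Nat.mul_le_mul_right _ (num_iso_low hq hD hI))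
    _ = 8 * (I * q ^ (D - 2)) * (q ^ 2 - 1) := by ring
    _ ≤ 8 * (M * A) * (q ^ 2 - 1) := Nat.mul_le_mul_right _ (Nat.mul_le_mul_left _ h)
    _ = _ := by ring

/-- A square many images of a totally isotropic span. -/
theorem num_sq_images {q D I A M : ℕ} (hq : 2 ≤ q) (hD : 4 ≤ D)
    (hI : q ^ (2 * D - 1) ≤ I + q ^ D) (hA : A ≤ q ^ D)
    (h : q ^ 2 * I ≤ M * q ^ D) :
    A * (q ^ 2 + 1) ≤ M * (q ^ 2 - 1) := by
  refine Nat.le_of_mul_le_mul_left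
    (?_ : 8 * q ^ D * (A * (q ^ 2 + 1)) ≤ 8 * q ^ D * (M * (q ^ 2 - 1)))
    (Nat.mul_pos (by omega) (Nat.pow_pos (by omega)))
  calc 8 * q ^ D * (A * (q ^ 2 + 1)) = A * q ^ D * (8 * (q ^ 2 + 1)) := by ring
    _ ≤ q ^ D * q ^ D * (7 * q * (q ^ 2 - 1)) :=
        Nat.mul_le_mul (Nat.mul_le_mul_right _ hA) (num_base hq)
    _ = q ^ 2 * (7 * q ^ (2 * D - 1)) * (q ^ 2 - 1) := by
        rw [← pow_add, show D + D = (2 * D - 1) + 1 by omega, pow_succ]; ring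
    _ ≤ q ^ 2 * (8 * I) * (q ^ 2 - 1) :=
        Nat.mul_le_mul_right _ (Nat.mul_le_mul_left _ (num_iso_low hq hD hI))
    _ = 8 * (q ^ 2 * I) * (q ^ 2 - 1) := by ring
    _ ≤ 8 * (M * q ^ D) * (q ^ 2 - 1) := Nat.mul_le_mul_right _ (Nat.mul_le_mul_left _ h)
    _ = _ := by ring

/-- Few elements. -/
theorem num_small {q D C : ℕ} (hq : 2 ≤ q) (hD : 3 ≤ D) (hC : q ^ (2 * D - 1) ≤ C + q ^ D) :
    q ^ 2 * (q ^ 2 + 1) ≤ C := by
  have h1 : q ^ D * q ^ 2 ≤ q ^ (2 * D - 1) := by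
    rw [← pow_add]; exact Nat.pow_le_pow_right (by omega) (by omega)
  have h2 : q ^ 3 * (q ^ 2 - 1) ≤ q ^ D * (q ^ 2 - 1) :=
    Nat.mul_le_mul_right _ (Nat.pow_le_pow_right (by omega) hD)
  have h3 : q ^ D * (q ^ 2 - 1) + q ^ D = q ^ D * q ^ 2 := by
    rw [← Nat.mul_succ]
    congr 1
    have := Nat.one_le_pow 2 q (by omega)
    omega
  have h4 : q ^ 2 * (q ^ 2 + 1) ≤ q ^ 3 * (q ^ 2 - 1) := by
    rw [pow_succ q 2, mul_assoc]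
    refine Nat.mul_le_mul_left _ ?_
    have := num_base hq
    rw [mul_assoc 7 q] at this
    omega
  omega

/-- Few elements, four or more dimensions. -/
theorem num_line {q D C : ℕ} (hq : 2 ≤ q) (hD : 4 ≤ D) (hC : q ^ (2 * D - 1) ≤ C + q ^ D) :
    q ^ 4 * (q ^ 2 + 1) ≤ C := by
  have h1 : q ^ D * q ^ 3 ≤ q ^ (2 * D - 1) := by
    rw [← pow_add]; exact Nat.pow_le_pow_right (by omega) (by omega)
  have h2 : q ^ 4 * (q ^ 3 - 1) ≤ q ^ D * (q ^ 3 - 1) :=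
    Nat.mul_le_mul_right _ (Nat.pow_le_pow_right (by omega) hD)
  have h3 : q ^ D * (q ^ 3 - 1) + q ^ D = q ^ D * q ^ 3 := by
    rw [← Nat.mul_succ]
    congr 1
    have := Nat.one_le_pow 3 q (by omega)
    omega
  have h4 : q ^ 4 * (q ^ 2 + 1) ≤ q ^ 4 * (q ^ 3 - 1) := by
    refine Nat.mul_le_mul_left _ ?_
    have h5 : 2 * q ^ 2 ≤ q ^ 3 := by
      rw [pow_succ' q 2]; exact Nat.mul_le_mul_right _ hq
    have h6 : 4 ≤ q ^ 2 := Nat.pow_le_pow_left hq 2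
    omega
  omega

/-- The two classes in three dimensions. -/
theorem num_three_mixed {q I N M A : ℕ} (hq : 2 ≤ q) (hI : I + q ^ 3 + 1 = q ^ 5 + q ^ 2)
    (hN : N = q ^ 5 + q ^ 2) (h : I * q + N ≤ M * A) (hA : A * A ≤ q ^ 6) (hA1 : 1 ≤ A) :
    A * q ^ 2 ≤ M * (q ^ 2 - 1) := by
  refine Nat.le_of_mul_le_mul_left (?_ : A * (A * q ^ 2) ≤ A * (M * (q ^ 2 - 1))) hA1
  refine le_trans ?_ ((Nat.mul_le_mul_right (q ^ 2 - 1) h).trans (le_of_eq (by ring)))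
  refine (le_of_eq (by ring : A * (A * q ^ 2) = A * A * q ^ 2)).trans
    ((Nat.mul_le_mul_right _ hA).trans ?_)
  subst hN
  obtain ⟨r, rfl⟩ : ∃ r, q = r + 2 := ⟨q - 2, by omega⟩
  rw [show (r + 2) ^ 2 - 1 = r ^ 2 + 4 * r + 3 by ring_nf; omega]
  have hI' : I = r ^ 5 + 10 * r ^ 4 + 39 * r ^ 3 + 75 * r ^ 2 + 72 * r + 27 := by
    ring_nf at hI ⊢; omega
  subst hI'
  ring_nf
  omega

/-- Isotropic subgroups in three dimensions. -/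
theorem num_three_iso {q I M A : ℕ} (hq : 2 ≤ q) (hI : I + q ^ 3 + 1 = q ^ 5 + q ^ 2)
    (h : I * q ^ 2 ≤ M * A) (hA : A * A ≤ q ^ 6) (hA1 : 1 ≤ A) :
    A * q ^ 2 ≤ M * (q ^ 2 - 1) := by
  refine Nat.le_of_mul_le_mul_left (?_ : A * (A * q ^ 2) ≤ A * (M * (q ^ 2 - 1))) hA1
  refine le_trans ?_ ((Nat.mul_le_mul_right (q ^ 2 - 1) h).trans (le_of_eq (by ring)))
  refine (le_of_eq (by ring : A * (A * q ^ 2) = A * A * q ^ 2)).trans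
    ((Nat.mul_le_mul_right _ hA).trans ?_)
  obtain ⟨r, rfl⟩ : ∃ r, q = r + 2 := ⟨q - 2, by omega⟩
  rw [show (r + 2) ^ 2 - 1 = r ^ 2 + 4 * r + 3 by ring_nf; omega]
  have hI' : I = r ^ 5 + 10 * r ^ 4 + 39 * r ^ 3 + 75 * r ^ 2 + 72 * r + 27 := by
    ring_nf at hI ⊢; omega
  subst hI'
  ring_nf
  omega

/-- Lines of four dimensions. -/
theorem num_four_lines {q A M : ℕ} (hq : 2 ≤ q) (hA : A ≤ q ^ 4)
    (h : (q + 1) * (q ^ 3 + 1) ≤ M) : A * (q ^ 2 + 1) ≤ M * (q ^ 2 - 1) := by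
  refine (Nat.mul_le_mul_right _ hA).trans (le_trans ?_ (Nat.mul_le_mul_right _ h))
  obtain ⟨r, rfl⟩ : ∃ r, q = r + 2 := ⟨q - 2, by omega⟩
  rw [show (r + 2) ^ 2 - 1 = r ^ 2 + 4 * r + 3 by ring_nf; omega]
  ring_nf
  omega

end Cfsg.Agent.MinDeg.Unitary
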