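import Cfsg.Agent.Lib.MinDeg.UnitOrbit
import Cfsg.Agent.Lib.MinDeg.UnitNum

/-!
Class sizes in usable form, totally isotropic subspaces, and the number of images of an additive
subgroup through a vector under the radical of that vector.
-/

set_option autoImplicit false
set_option linter.unusedSectionVars false

namespace Cfsg.Agent.MinDeg.Unitary

open Cfsg.Agent.ClassicalSimple Cfsg.Agent.MinDegree

variable {F V : Type*} [Field F] [Finite F] [AddCommGroup V] [Module F V] [FiniteDimensional F V]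
  {σ : F →+* F} {h : V →ₛₗ[σ] V →ₗ[F] F}

variable (hh : IsUnitaryForm σ h) {q : ℕ} (hq : Nat.card F = q ^ 2)
include hh hq

/-- The class sizes. -/
theorem class_facts {D : ℕ} (hn : Module.finrank F V = D) (hD : 1 ≤ D) :
    q ^ (2 * D - 1) ≤ (isoV h).ncard + q ^ D ∧ (isoV h).ncard ≤ q ^ (2 * D - 1) + q ^ D ∧
      q ^ (2 * D - 1) ≤ (normV h 1).ncard + q ^ D ∧
      (Odd D → (isoV h).ncard ≤ (normV h 1).ncard ∧ (isoV h).ncard < q ^ (2 * D - 1)) ∧
      (D = 3 → (isoV h).ncard + q ^ 3 + 1 = q ^ 5 + q ^ 2 ∧ (normV h 1).ncard = q ^ 5 + q ^ 2) := by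
  obtain ⟨n, rfl⟩ : ∃ n, D = n + 1 := ⟨D - 1, by omega⟩
  have h1 := card_iso hh hq hn
  have h2 := card_norm hh hq hn one_ne_zero (map_one σ)
  rw [show 2 * (n + 1) - 1 = 2 * n + 1 by omega]
  have hq2 := two_le_q hq
  have e : (q : ℤ) ^ (n + 1) = q ^ n * q := pow_succ _ _
  have hp : (1 : ℤ) ≤ (q : ℤ) ^ n := one_le_pow₀ (by omega)
  have hpq : (q : ℤ) ^ n * 2 ≤ (q : ℤ) ^ n * q := mul_le_mul_of_nonneg_left (by omega) (by omega)
  zify
  rcases neg_one_pow_eq_or ℤ (n + 1) with hs | hs <;> rw [hs] at h1 h2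
  · refine ⟨by omega, by omega, by omega, fun hodd => ?_, fun h3 => ?_⟩
    · rw [hodd.neg_one_pow] at hs
      omega
    · obtain rfl : n = 2 := by omega
      norm_num at hs
  · refine ⟨by omega, by omega, by omega, fun _ => ⟨by omega, by omega⟩, fun h3 => ?_⟩
    obtain rfl : n = 2 := by omega
    norm_num at h1 h2 ⊢
    omega

omit hq in
theorem isoV_ne_zero : ∀ x ∈ isoV h, x ≠ 0 := fun _ hx => hx.1

omit hq in
theorem normV_ne_zero {c : F} (hc : c ≠ 0) : ∀ x ∈ normV h c, x ≠ 0 := fun x hx e => hc (by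
  have hx : h x x = c := hx
  rw [← hx, e, map_zero])

omit hq in
theorem iso_norm_disjoint {c : F} (hc : c ≠ 0) : Disjoint (isoV h) (normV h c) :=
  Set.disjoint_left.2 fun _ hx hx' => hc (Eq.trans (Eq.symm hx') hx.2)

/-- A vector of norm one. -/
theorem exists_norm_one {D : ℕ} (hn : Module.finrank F V = D) (hD : 1 ≤ D) :
    ∃ b : V, h b b = 1 := by
  obtain ⟨n, rfl⟩ : ∃ n, D = n + 1 := ⟨D - 1, by omega⟩
  have h2 := card_norm hh hq hn one_ne_zero (map_one σ)
  have hne : (normV h (1 : F)).Nonempty := by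
    refine Set.nonempty_of_ncard_ne_zero fun e => ?_
    rw [e] at h2
    have hq2 := two_le_q hq
    have hp : (1 : ℤ) ≤ (q : ℤ) ^ n := one_le_pow₀ (by omega)
    have : (q : ℤ) ^ (2 * n + 1) = q ^ n * (q ^ n * q) := by ring
    rw [this] at h2
    have hlt : (q : ℤ) ^ n * 2 ≤ (q : ℤ) ^ n * ((q : ℤ) ^ n * q) :=
      mul_le_mul_of_nonneg_left (by nlinarith) (by omega)
    rcases neg_one_pow_eq_or ℤ (n + 1) with hs | hs <;> rw [hs] at h2 <;> omega
  exact hne

omit hq in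
theorem span_orth {S : Set V} (hS : ∀ x ∈ S, ∀ y ∈ S, h x y = 0) {x y : V}
    (hx : x ∈ Submodule.span F S) (hy : y ∈ Submodule.span F S) : h x y = 0 := by
  have h1 : ∀ a ∈ Submodule.span F S, ∀ z ∈ S, h z a = 0 := fun a ha z hz =>
    (Submodule.span_le.2 fun z' hz' => hS z hz z' hz' :
      Submodule.span F S ≤ LinearMap.ker (h z)) ha
  exact (Submodule.span_le.2 fun z hz => hh.comm_zero (h1 x hx z hz) :
    Submodule.span F S ≤ LinearMap.ker (h x)) hy

omit hq in
theorem finrank_isotropic {U : Submodule F V} (hU : ∀ x ∈ U, ∀ y ∈ U, h x y = 0) :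
    2 * Module.finrank F U ≤ Module.finrank F V := by
  let b := Module.finBasis F U
  have hi : LinearIndependent F fun i => ((b i : U) : V) :=
    b.linearIndependent.map' U.subtype (Submodule.ker_subtype U)
  let T : V →ₗ[F] (Fin (Module.finrank F U) → F) := LinearMap.pi fun i => h (b i : V)
  have hT : LinearMap.range T = ⊤ := LinearMap.range_eq_top.2 fun a => by
    obtain ⟨y, hy⟩ := exists_eval_eq _ (linearIndependent_h hh hi) a
    exact ⟨y, funext hy⟩
  have h1 := LinearMap.finrank_range_add_finrank_ker T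
  rw [hT, finrank_top, Module.finrank_fin_fun] at h1
  have h2 : U ≤ LinearMap.ker T := fun x hx => LinearMap.mem_ker.2 (funext fun i => hU _ (b i).2 x hx)
  have := Submodule.finrank_mono h2
  omega

/-- Images of `A` through an isotropic `φ ∈ A` under the radical of `φ`. -/
theorem radical_images {D : ℕ} (hn : Module.finrank F V = D) (hD : 3 ≤ D)
    {L : AddSubgroup (skewAdd σ)} (hL : L ≠ ⊤) {A : AddSubgroup V}
    (hA : ∀ w ∈ A, ∀ w' ∈ A, ∃ l ∈ L, (l : F) = h w w' - h w' w)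
    {φ x : V} (hφA : φ ∈ A) (hφ : h φ φ = 0) (hxA : x ∈ A) (hφx : h φ x ≠ 0) :
    ∃ K : Set (AddSubgroup V), K ⊆ imgs h A ∧ (∀ T ∈ K, φ ∈ T) ∧ q ^ (D - 2) ≤ K.ncard ∧
      (D = 3 → (∀ y ∈ A, h y y = 0) → q ^ 2 ≤ K.ncard) := by
  have hφ0 : φ ≠ 0 := fun e => hφx (by simp [e])
  obtain ⟨φ', hφ', h1⟩ := exists_isotropic_partner hh hφ hφ0
  have P : Pair h φ φ' := ⟨hφ, hφ', h1⟩
  refine ⟨orbR hh P subPerm A, ?_, ?_, ?_⟩
  · rintro T ⟨r, rfl⟩
    exact subPerm_mem_imgs (self_mem_imgs A) _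
  · rintro T ⟨r, rfl⟩
    have e : Rad.toSU hh P r • φ = φ := rt_smul_v hh (Rad.toOk hh P r)
    have h' := (smul_mem_subPerm (g := Rad.toSU hh P r)).2 hφA
    rwa [e] at h' 
  set A'' := Asub hh P subPerm A
  set β := h φ x
  have hδ : ∀ w ∈ A'', ∃ γ : F, β • (w : V) + γ • φ ∈ A := by
    rintro w ⟨r, hr, rfl⟩
    refine ⟨r.c * β - h (r.w : V) x, ?_⟩
    have e : subPerm (Rad.toSU hh P r) A = A := hr
    have h2 : Rad.toSU hh P r • x ∈ A := e ▸ smul_mem_subPerm.2 hxA
    have h3 := sub_mem h2 hxA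
    rwa [Rad.toSU_apply, rt_smul hh (Rad.toOk hh P r), add_assoc, add_sub_cancel_left] at h3
  have hform : ∀ (w w' : Wsp h φ φ') (γ γ' : F),
      h (β • (w : V) + γ • φ) (β • (w' : V) + γ' • φ) = σ β * β * h (w : V) (w' : V) := by
    intro w w' γ γ'
    obtain ⟨a1, -, -, -⟩ := W_apply hh w'
    obtain ⟨-, -, b3, -⟩ := W_apply hh w
    simp only [map_add, map_smulₛₗ, LinearMap.add_apply, LinearMap.smul_apply, smul_eq_mul,
      RingHom.id_apply, hφ, a1, b3]
    ring
  have hd : Module.finrank F (Wsp h φ φ') = D - 2 := by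
    have := finrank_Wsp hh P
    omega
  have hcard : Nat.card (Wsp h φ φ') = q ^ (2 * (D - 2)) := by
    rw [Module.natCard_eq_pow_finrank (K := F) (V := Wsp h φ φ'), hd, hq, ← pow_mul]
  have hsq : Nat.card A'' * Nat.card A'' ≤ q ^ (2 * (D - 2)) := by
    rw [← hcard]
    refine card_sq_le (hW_isUnitary hh P) L hL (t := σ β * β) (by rw [map_mul, hh.invol, mul_comm])
      (mul_ne_zero ((map_ne_zero σ).2 hφx) hφx) A'' fun w hw w' hw' => ?_
    obtain ⟨γ, hγ⟩ := hδ w hw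
    obtain ⟨γ', hγ'⟩ := hδ w' hw'
    obtain ⟨l, hl, el⟩ := hA _ hγ _ hγ'
    refine ⟨l, hl, ?_⟩
    rw [el, hform, hform, hW_apply, hW_apply, mul_sub]
  have horb := ncard_orbR hh P subPerm hq A
  rw [hd] at horb
  have hL'' : Nat.card (Lsub hh P subPerm A) ≤ q :=
    (Nat.card_le_card_of_injective Subtype.val Subtype.val_injective).trans (skew_card hh hq).le
  have hm : q ^ (2 * (D - 2)) ≤ (orbR hh P subPerm A).ncard * Nat.card A'' := by
    refine Nat.le_of_mul_le_mul_right (?_ : q ^ (2 * (D - 2)) * q ≤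
      (orbR hh P subPerm A).ncard * Nat.card A'' * q) (by have := two_le_q hq; omega)
    rw [← pow_succ, ← horb, mul_assoc]
    exact Nat.mul_le_mul_left _ (Nat.mul_le_mul_left _ hL'')
  refine ⟨?_, fun hD3 hiso => ?_⟩
  · have hA'' : Nat.card A'' ≤ q ^ (D - 2) := by
      rw [← Nat.mul_self_le_mul_self_iff, ← pow_add, ← two_mul]
      exact hsq
    refine Nat.le_of_mul_le_mul_right (?_ : q ^ (D - 2) * q ^ (D - 2) ≤ _ * q ^ (D - 2))
      (Nat.pow_pos (by have := two_le_q hq; omega))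
    rw [← pow_add, ← two_mul]
    exact hm.trans (Nat.mul_le_mul_left _ hA'')
  · have hbot : A'' = ⊥ := by
      refine (AddSubgroup.eq_bot_iff_forall _).2 fun w hw => ?_
      obtain ⟨γ, hγ⟩ := hδ w hw
      have h2 := hiso _ hγ
      rw [hform] at h2
      have h3 : h (w : V) (w : V) = 0 :=
        (mul_eq_zero.1 h2).resolve_left (mul_ne_zero ((map_ne_zero σ).2 hφx) hφx)
      by_contra hw0
      refine hw0 ((hW_isUnitary hh P).sep w fun y => ?_)
      obtain ⟨c, rfl⟩ := exists_smul_eq_of_finrank_eq_one (K := F) (hd.trans (by omega)) hw0 y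
      rw [map_smul, hW_apply, h3, smul_zero]
    rw [hbot, AddSubgroup.card_bot, mul_one, hD3] at hm
    exact hm

end Cfsg.Agent.MinDeg.Unitary
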