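import Cfsg.Agent.Lib.MinDeg.UnitGeom

/-!
Numbers of isotropic vectors and of vectors of a given norm of a nondegenerate hermitian form, and
the bound `q^2` for additive subgroups without isotropic vectors.
-/

set_option autoImplicit false
set_option linter.unusedSectionVars false

namespace Cfsg.Agent.MinDeg.Unitary

open Cfsg.Agent.ClassicalSimple Cfsg.Agent.MinDegree

variable {F V : Type*} [Field F] [Finite F] [AddCommGroup V] [Module F V] [FiniteDimensional F V]
  {σ : F →+* F} {h : V →ₛₗ[σ] V →ₗ[F] F}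

variable (h) in
/-- The non-zero isotropic vectors. -/
def isoV : Set V := {x | x ≠ 0 ∧ h x x = 0}

variable (h) in
/-- The vectors of norm `c`. -/
def normV (c : F) : Set V := {x | h x x = c}

variable (hh : IsUnitaryForm σ h) {q : ℕ} (hq : Nat.card F = q ^ 2)
include hh

omit hq in
theorem skew_card (hq : Nat.card F = q ^ 2) : Nat.card (skewAdd σ) = q :=
  Nat.pow_left_injective two_ne_zero ((card_skew_sq hh).trans hq)

omit hh hq in
theorem two_le_q (hq : Nat.card F = q ^ 2) : 2 ≤ q := by
  have h1 := Finite.one_lt_card (α := F)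
  rw [hq] at h1
  by_contra hlt
  interval_cases q <;> simp at h1

/-- An isotropic vector killed by few functionals. -/
theorem exists_iso_ker {k : ℕ} (f : Fin k → Module.Dual F V)
    (hk : k + 2 ≤ Module.finrank F V) : ∃ s : V, s ≠ 0 ∧ h s s = 0 ∧ ∀ i, f i s = 0 := by
  obtain ⟨a, ha0, ha⟩ := exists_forall_eq_zero_notMem f (⊥ : Submodule F V)
    (by rw [finrank_bot, Fintype.card_fin]; omega)
  rw [Submodule.mem_bot] at ha
  by_cases hqa : h a a = 0
  · exact ⟨a, ha, hqa, ha0⟩
  obtain ⟨b, hb, hb0⟩ := exists_forall_eq_zero_notMem (Fin.cons (h a) f) (⊥ : Submodule F V)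
    (by rw [finrank_bot, Fintype.card_fin]; omega)
  rw [Submodule.mem_bot] at hb0
  have hab : h a b = 0 := hb 0
  have hfb : ∀ i, f i b = 0 := fun i => hb i.succ
  by_cases hqb : h b b = 0
  · exact ⟨b, hb0, hqb, hfb⟩
  obtain ⟨r, hr⟩ := hh.exists_norm_eq (c := -h a a / h b b) (by
    rw [map_div₀, map_neg, hh.σ_self, hh.σ_self])
  refine ⟨a + r • b, fun e => hqa ?_, ?_, fun i => by simp [ha0 i, hfb i]⟩
  · have := congrArg (h a) e
    simpa [hab] using this
  · simp only [map_add, map_smulₛₗ, LinearMap.add_apply, LinearMap.smul_apply, smul_eq_mul,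
      RingHom.id_apply, hab, hh.comm_zero hab, mul_zero, add_zero, zero_add, ← mul_assoc]
    rw [mul_comm r (σ r), hr, div_mul_cancel₀ _ hqb, add_neg_cancel]

theorem exists_pair (h2 : 2 ≤ Module.finrank F V) : ∃ v v', Pair h v v' := by
  obtain ⟨v, hv0, hv, -⟩ := exists_iso_ker hh (![] : Fin 0 → Module.Dual F V) (by omega)
  obtain ⟨v', hv', e⟩ := exists_isotropic_partner hh hv hv0
  exact ⟨v, v', hv, hv', e⟩

include hq

omit hh hq in
/-- The recursion for the zeros of the norm. -/
theorem card_zero_step {hh : IsUnitaryForm σ h} {v v' : V} (P : Pair h v v')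
    (hq : Nat.card F = q ^ 2) :
    (q : ℤ) * Nat.card {x : V // h x x = 0} =
      (q : ℤ) ^ 3 * Nat.card {w : Wsp h v v' // h (w : V) (w : V) = 0} +
        ((q : ℤ) ^ 2 - 1) * (q : ℤ) ^ (2 * Module.finrank F (Wsp h v v') + 2) := by
  classical
  obtain ⟨d, hd⟩ := hh.exists_trace_one
  let T : (F × F) × Wsp h v v' → Prop := fun z =>
    σ z.1.1 * z.1.2 + σ z.1.2 * z.1.1 + h (z.2 : V) (z.2 : V) = 0
  have e1 : {x : V // h x x = 0} ≃ {z // T z} :=
    (splitPair hh P).toEquiv.subtypeEquiv fun x => by
      show _ ↔ σ (h v' x) * h v x + σ (h v x) * h v' x + h (prW hh P x : V) (prW hh P x : V) = 0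
      rw [← form_pr hh P x x]
  let S : Type _ := (F × {w : Wsp h v v' // h (w : V) (w : V) = 0}) ⊕
    ({b : F // b ≠ 0} × Wsp h v v' × skewAdd σ)
  have hskew : ∀ (w : Wsp h v v') (a b : F), σ a * b + σ b * a + h (w : V) (w : V) = 0 →
      σ a * b + d * h (w : V) (w : V) ∈ skewAdd σ := fun w a b e => by
    rw [mem_skewAdd, map_add, map_mul, map_mul, hh.invol, hh.σ_self]
    linear_combination e + h (w : V) (w : V) * hd
  let f : {z // T z} → S := fun z => if hb : z.1.1.2 = 0 then
      Sum.inl (z.1.1.1, ⟨z.1.2, by simpa [T, hb] using z.2⟩)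
    else Sum.inr (⟨z.1.1.2, hb⟩, z.1.2, ⟨_, hskew z.1.2 z.1.1.1 z.1.1.2 z.2⟩)
  let g : S → {z // T z} := fun s => match s with
    | Sum.inl (a, w) => ⟨((a, 0), w.1), by simp [T, w.2]⟩
    | Sum.inr (b, w, t) => ⟨((σ (((t : F) - d * h (w : V) (w : V)) / b.1), b.1), w), by
        have := b.2
        have hσb : σ b.1 ≠ 0 := (map_ne_zero σ).2 b.2
        have ht := mem_skewAdd.1 t.2
        simp only [T, map_div₀, map_sub, map_mul, hh.invol, hh.σ_self]
        field_simp
        linear_combination ht - h (w : V) (w : V) * hd⟩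
  have e2 : {z // T z} ≃ S := by
    refine ⟨f, g, fun z => ?_, fun s => ?_⟩
    · obtain ⟨⟨⟨a, b⟩, w⟩, hz⟩ := z
      by_cases hb : b = 0
      · subst hb
        simp [f, g]
      · simp [f, g, hb, hh.invol, map_mul]
    · rcases s with ⟨a, w⟩ | ⟨⟨b, hb⟩, w, t⟩
      · simp [f, g]
      · simp only [f, g, hb, dite_false, hh.invol]
        congr 3
        refine Subtype.ext ?_
        show ((t : F) - d * h (w : V) (w : V)) / b * b + _ = _
        rw [div_mul_cancel₀ _ hb, sub_add_cancel]
  have : Finite V := Module.finite_of_finite F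
  have hb : (Nat.card {b : F // b ≠ 0} : ℤ) = (q : ℤ) ^ 2 - 1 := by
    have := Fintype.ofFinite F
    rw [Nat.card_eq_fintype_card, Fintype.card_subtype_compl, Fintype.card_subtype_eq,
      ← Nat.card_eq_fintype_card, hq, Nat.cast_sub (Nat.one_le_pow _ _ (by have := two_le_q hq; omega))]
    norm_num
  rw [Nat.card_congr (e1.trans e2), Nat.card_sum, Nat.card_prod, Nat.card_prod, Nat.card_prod,
    Module.natCard_eq_pow_finrank (K := F) (V := Wsp h v v'), hq, skew_card hh hq]
  push_cast
  rw [hb, ← pow_mul]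
  ring

omit hh hq in
/-- The number of zeros of the norm. -/
theorem card_zero (hq : Nat.card F = q ^ 2) (n : ℕ) : ∀ {V : Type _} [AddCommGroup V] [Module F V]
    [FiniteDimensional F V] {h : V →ₛₗ[σ] V →ₗ[F] F}, IsUnitaryForm σ h →
    Module.finrank F V = n →
    (q : ℤ) * Nat.card {x : V // h x x = 0} = (q : ℤ) ^ (2 * n) + (-q : ℤ) ^ n * ((q : ℤ) - 1) := by
  induction n using Nat.strong_induction_on with
  | _ n ih =>
  intro V _ _ _ h hh hn
  by_cases hn2 : n < 2
  · have hone : Nat.card {x : V // h x x = 0} = 1 := by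
      rw [Nat.card_eq_one_iff_unique]
      refine ⟨⟨fun x y => ?_⟩, ⟨⟨0, by simp⟩⟩⟩
      suffices hz : ∀ z : {x : V // h x x = 0}, (z : V) = 0 from
        Subtype.ext ((hz x).trans (hz y).symm)
      intro z
      by_contra hz
      have h1 : n = 1 := by
        have := (Module.finrank_pos_iff_exists_ne_zero (R := F) (M := V)).2 ⟨(z : V), hz⟩
        omega
      refine hz (hh.sep _ fun y => ?_)
      obtain ⟨c, hc⟩ := exists_smul_eq_of_finrank_eq_one (hn.trans h1) hz y
      rw [← hc, map_smul, z.2, smul_zero]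
    interval_cases n <;> rw [hone] <;> push_cast <;> ring
  obtain ⟨v, v', P⟩ := exists_pair hh (by omega)
  have hd := finrank_Wsp hh P
  have h1 := ih (n - 2) (by omega) (hW_isUnitary hh P) (by omega : Module.finrank F (Wsp h v v') = n - 2)
  rw [card_zero_step (hh := hh) P hq]
  simp only [hW_apply] at h1
  obtain ⟨m, rfl⟩ : ∃ m, n = m + 2 := ⟨n - 2, by omega⟩
  rw [Nat.add_sub_cancel] at h1
  rw [show Module.finrank F (Wsp h v v') = m by omega]
  linear_combination (q : ℤ) ^ 2 * h1

/-- The number of isotropic vectors. -/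
theorem card_iso {n : ℕ} (hn : Module.finrank F V = n + 1) :
    ((isoV h).ncard : ℤ) =
      (q : ℤ) ^ (2 * n + 1) + (-1) ^ (n + 1) * ((q : ℤ) ^ (n + 1) - (q : ℤ) ^ n) - 1 := by
  have : Finite V := Module.finite_of_finite F
  have h1 := card_zero hq (n + 1) hh hn
  have h2 : (isoV h).ncard + 1 = Nat.card {x : V // h x x = 0} := by
    rw [show isoV h = {x : V | h x x = 0} \ {0} by ext x; simp [isoV, and_comm]]
    exact Set.ncard_sdiff_singleton_add_one (by simp) (Set.toFinite _)
  rw [← h2] at h1
  push_cast at h1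
  have hq0 : (q : ℤ) ≠ 0 := by have := two_le_q hq; omega
  refine mul_left_cancel₀ hq0 ?_
  rw [neg_pow] at h1
  linear_combination h1

omit hq in
theorem mem_isoV {x : V} : x ∈ isoV h ↔ x ≠ 0 ∧ h x x = 0 := Iff.rfl

omit hq in
/-- All non-zero norm classes have the same size. -/
theorem card_norm_eq {c : F} (hc : c ≠ 0) (hσ : σ c = c) :
    (normV h c).ncard = (normV h 1).ncard := by
  obtain ⟨r, hr⟩ := hh.exists_norm_eq hσ
  have hr0 : r ≠ 0 := fun e => hc (by rw [← hr, e, mul_zero])
  rw [show normV h c = (fun x : V => r • x) '' normV h 1 from ?_]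
  · exact Set.ncard_image_of_injective _ (smul_right_injective V hr0)
  ext x
  constructor
  · intro hx
    refine ⟨r⁻¹ • x, ?_, smul_inv_smul₀ hr0 x⟩
    have hx : h x x = c := hx
    show h (r⁻¹ • x) (r⁻¹ • x) = 1
    simp [hx, ← hr]
    have : σ r ≠ 0 := (map_ne_zero σ).2 hr0
    field_simp
  · rintro ⟨y, hy, rfl⟩
    show h (r • y) (r • y) = c
    simp [show h y y = 1 from hy, ← hr]
    ring

omit hh in
/-- The number of non-zero fixed scalars. -/
theorem card_fixed (hh : IsUnitaryForm σ h) :
    Nat.card {c : F // c ≠ 0 ∧ σ c = c} = q - 1 := by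
  classical
  obtain ⟨θ, hθ0, hθ⟩ := hh.exists_skew
  have hσθ : σ θ = -θ := eq_neg_of_add_eq_zero_right hθ
  have := Fintype.ofFinite F
  have := Fintype.ofFinite (skewAdd σ)
  have hbij : Nat.card {c : F // c ≠ 0 ∧ σ c = c} = Nat.card {s : skewAdd σ // s ≠ 0} := by
    refine Nat.card_congr
      { toFun := fun c => ⟨⟨θ * c.1, ?_⟩, fun e => ?_⟩
        invFun := fun s => ⟨(s.1 : F) / θ, ?_, ?_⟩
        left_inv := fun c => Subtype.ext (by simp [hθ0])
        right_inv := fun s => Subtype.ext (Subtype.ext (by field_simp)) }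
    · rw [mem_skewAdd, map_mul, c.2.2, hσθ]; ring
    · exact mul_ne_zero hθ0 c.2.1 (congrArg Subtype.val e :)
    · exact div_ne_zero (fun e => s.2 (Subtype.ext e)) hθ0
    · rw [map_div₀, hσθ, eq_neg_of_add_eq_zero_right (mem_skewAdd.1 s.1.2), neg_div_neg_eq]
  rw [hbij, Nat.card_eq_fintype_card, Fintype.card_subtype_compl, Fintype.card_subtype_eq,
    ← Nat.card_eq_fintype_card, skew_card hh hq]

/-- The number of vectors of a non-zero norm. -/
theorem card_norm {n : ℕ} (hn : Module.finrank F V = n + 1) {c : F} (hc : c ≠ 0) (hσ : σ c = c) :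
    ((normV h c).ncard : ℤ) = (q : ℤ) ^ (2 * n + 1) - (-1) ^ (n + 1) * (q : ℤ) ^ n := by
  classical
  have : Finite V := Module.finite_of_finite F
  have := Fintype.ofFinite V
  have := Fintype.ofFinite F
  rw [card_norm_eq hh hc hσ]
  have h1 := card_zero hq (n + 1) hh hn
  let K := Finset.univ.filter fun c : F => c ≠ 0 ∧ σ c = c
  have hK : K.card = q - 1 := by
    rw [← card_fixed hq hh, Nat.card_eq_fintype_card, Fintype.card_subtype]
  have hpart : Fintype.card V =
      Nat.card {x : V // h x x = 0} + K.card * (normV h 1).ncard := by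
    rw [← Finset.card_univ, ← Finset.card_filter_add_card_filter_not (fun x : V => h x x = 0),
      Nat.card_eq_fintype_card, Fintype.card_subtype, ← smul_eq_mul K.card]
    congr 1
    rw [Finset.card_eq_sum_card_fiberwise (f := fun x : V => h x x) (t := K) fun x hx =>
      Finset.mem_filter.2 ⟨Finset.mem_univ _, (Finset.mem_filter.1 hx).2, hh.σ_self x⟩,
      ← Finset.sum_const]
    refine Finset.sum_congr rfl fun c hc => ?_
    obtain ⟨hc0, hcσ⟩ := (Finset.mem_filter.1 hc).2
    rw [← card_norm_eq hh hc0 hcσ, Set.ncard_eq_toFinset_card']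
    congr 1
    ext x
    simp only [Finset.mem_filter, Finset.mem_univ, true_and]
    rw [Set.mem_toFinset]
    show h x x ≠ 0 ∧ h x x = c ↔ h x x = c
    exact ⟨And.right, fun e => ⟨fun e0 => hc0 (e.symm.trans e0), e⟩⟩
  have hV : Fintype.card V = q ^ (2 * (n + 1)) := by
    rw [← Nat.card_eq_fintype_card, Module.natCard_eq_pow_finrank (K := F) (V := V), hn, hq,
      ← pow_mul]
  rw [hV, hK] at hpart
  have hq2 := two_le_q hq
  have hpart' := congrArg (Nat.cast : ℕ → ℤ) hpart
  push_cast [Nat.cast_sub (show 1 ≤ q by omega)] at hpart'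
  rw [neg_pow] at h1
  have hq0 : (q : ℤ) * ((q : ℤ) - 1) ≠ 0 := mul_ne_zero (by omega) (by omega)
  refine mul_left_cancel₀ hq0 ?_
  linear_combination (-(q : ℤ)) * hpart' - h1

/-- An additive subgroup without isotropic vectors has at most `q^2` elements; more generally
`q^2` times the part `S` of isotropic vectors. -/
theorem card_le_iso (A S : AddSubgroup V) (hS : S ≤ A)
    (hiso : ∀ x ∈ A, h x x = 0 → x ∈ S) : Nat.card A ≤ q ^ 2 * Nat.card S := by
  classical
  have := Fintype.ofFinite F
  obtain ⟨p, hp⟩ := CharP.exists F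
  have : Fact p.Prime := ⟨CharP.char_is_prime F p⟩
  let _ : Algebra (ZMod p) F := ZMod.algebra F p
  let _ : Module (ZMod p) V := Module.compHom V (algebraMap (ZMod p) F)
  have : IsScalarTower (ZMod p) F V := ⟨fun a b x => by
    show (a • b) • x = algebraMap (ZMod p) F a • b • x
    rw [smul_smul, Algebra.smul_def]⟩
  have : Finite V := Module.finite_of_finite F
  let A' : Submodule (ZMod p) V := AddSubgroup.toZModSubmodule p A
  let S' : Submodule (ZMod p) A' := (AddSubgroup.toZModSubmodule p S).comap A'.subtype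
  obtain ⟨C, hC⟩ := S'.exists_isCompl
  let K : Submodule (ZMod p) F :=
    AddSubgroup.toZModSubmodule p
      { carrier := {c | σ c = c}
        zero_mem' := map_zero σ
        add_mem' := fun {a b} ha hb => by
          show σ (a + b) = a + b
          rw [map_add, ha, hb]
        neg_mem' := fun {a} ha => by
          show σ (-a) = -a
          rw [map_neg, ha] }
  have hKmem : ∀ x : V, h x x ∈ K := fun x => hh.σ_self x
  set e := Module.finrank (ZMod p) K
  set r := Module.finrank (ZMod p) C
  have hKq : p ^ e = q := by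
    have h1 : Nat.card K = q := by
      have h2 := card_fixed hq hh
      have h3 : Nat.card {c : F // c ≠ 0 ∧ σ c = c} + 1 = Nat.card K := by
        show Nat.card {c : F // c ≠ 0 ∧ σ c = c} + 1 = Nat.card {c : F // σ c = c}
        have := Set.ncard_sdiff_singleton_add_one (a := (0 : F)) (s := {c : F | σ c = c})
          (map_zero σ) (Set.toFinite _)
        rwa [show ({c : F | σ c = c} \ {0}) = {c : F | c ≠ 0 ∧ σ c = c} by ext; simp [and_comm]]
          at this
      have := two_le_q hq
      omega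
    rw [← h1, Module.natCard_eq_pow_finrank (K := ZMod p) (V := K), Nat.card_zmod]
  have hA : Nat.card A = p ^ r * Nat.card S := by
    have h1 := Submodule.finrank_add_eq_of_isCompl hC
    have h2 : Nat.card S' = Nat.card S := Nat.card_congr
      { toFun := fun x => ⟨((x : A') : V), x.2⟩
        invFun := fun x => ⟨⟨(x : V), hS x.2⟩, x.2⟩
        left_inv := fun x => rfl
        right_inv := fun x => rfl }
    rw [← h2, show Nat.card A = Nat.card A' from rfl,
      Module.natCard_eq_pow_finrank (K := ZMod p) (V := A'),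
      Module.natCard_eq_pow_finrank (K := ZMod p) (V := S'), Nat.card_zmod, ← pow_add]
    congr 1
    omega
  rw [hA, ← hKq, ← pow_mul]
  refine Nat.mul_le_mul_right _ (Nat.pow_le_pow_right (Fact.out : p.Prime).pos ?_)
  by_contra hlt
  obtain ⟨π, hπ⟩ := K.subtype.exists_leftInverse_of_injective
    (LinearMap.ker_eq_bot.2 Subtype.val_injective)
  let bK := Module.finBasis (ZMod p) K
  let bC := Module.finBasis (ZMod p) C
  set coordV : C →ₗ[ZMod p] V := A'.subtype.comp C.subtype with hcoord
  let co : Fin r → Fin r → Fin e → ZMod p := fun i j s =>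
    bK.repr (π (h (coordV (bC i)) (coordV (bC j)))) s
  let P : Fin e → MvPolynomial (Fin r) (ZMod p) := fun s =>
    ∑ i, ∑ j, MvPolynomial.C (co i j s) * (MvPolynomial.X i * MvPolynomial.X j)
  have hdeg : ∀ s, (P s).totalDegree ≤ 2 := fun s =>
    MvPolynomial.totalDegree_finsetSum_le fun i _ =>
      MvPolynomial.totalDegree_finsetSum_le fun j _ => by
        refine (MvPolynomial.totalDegree_mul _ _).trans ?_
        rw [MvPolynomial.totalDegree_C, zero_add]
        exact (MvPolynomial.totalDegree_mul _ _).trans (by simp)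
  have hsum : (∑ s, (P s).totalDegree) < Fintype.card (Fin r) := by
    rw [Fintype.card_fin]
    refine lt_of_le_of_lt (Finset.sum_le_sum fun s _ => hdeg s) ?_
    simp only [Finset.sum_const, Finset.card_univ, Fintype.card_fin, smul_eq_mul]
    omega
  have heval : ∀ (c : Fin r → ZMod p) s,
      MvPolynomial.eval c (P s) = ∑ i, ∑ j, co i j s * (c i * c j) := fun c s => by
    simp [P]
  obtain ⟨c, hc0, hc⟩ : ∃ c : Fin r → ZMod p, c ≠ 0 ∧ ∀ s, MvPolynomial.eval c (P s) = 0 := by
    classical
    have hdvd := char_dvd_card_solutions_of_fintype_sum_lt p (f := P) hsum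
    by_contra hcon
    push Not at hcon
    replace hdvd : p ∣ Nat.card {x : Fin r → ZMod p // ∀ i, MvPolynomial.eval x (P i) = 0} := by
      rw [Nat.card_eq_fintype_card]; convert hdvd
    have hone : Nat.card {x : Fin r → ZMod p // ∀ i, MvPolynomial.eval x (P i) = 0} = 1 := by
      rw [Nat.card_eq_one_iff_unique]
      refine ⟨⟨fun x y => Subtype.ext ?_⟩, ⟨⟨0, fun s => by rw [heval]; simp⟩⟩⟩
      have key : ∀ z : {x : Fin r → ZMod p // ∀ i, MvPolynomial.eval x (P i) = 0}, z.1 = 0 := by
        intro z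
        by_contra hz
        obtain ⟨s, hs⟩ := hcon z.1 hz
        exact hs (z.2 s)
      rw [key x, key y]
    rw [hone] at hdvd
    exact (Fact.out : p.Prime).ne_one (Nat.dvd_one.1 hdvd)
  have hexp : ∀ y : C, h (coordV y) (coordV y) =
      ∑ i, ∑ j, (bC.repr y i * bC.repr y j) • h (coordV (bC i)) (coordV (bC j)) := by
    intro y
    have hy : coordV y = ∑ i, algebraMap (ZMod p) F (bC.repr y i) • coordV (bC i) := by
      conv_lhs => rw [← bC.sum_repr y]
      simp only [map_sum, map_smul, algebraMap_smul]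
    have hσp : ∀ a : ZMod p, σ (algebraMap (ZMod p) F a) = algebraMap (ZMod p) F a := fun a =>
      RingHom.congr_fun (Subsingleton.elim (σ.comp (algebraMap (ZMod p) F)) _) a
    rw [hy]
    simp only [map_sum, map_smulₛₗ, LinearMap.sum_apply, LinearMap.smul_apply, RingHom.id_apply,
      smul_eq_mul, hσp, Algebra.smul_def, map_mul, Finset.mul_sum]
    rw [Finset.sum_comm]
    exact Finset.sum_congr rfl fun i _ => Finset.sum_congr rfl fun j _ => by ring
  set x : C := ∑ i, c i • bC i with hx
  have hrepr : ∀ i, bC.repr x i = c i := fun i => by rw [hx, bC.repr_sum_self]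
  have hval : h (coordV x) (coordV x) = 0 := by
    have hK' : π (h (coordV x) (coordV x)) = ⟨_, hKmem (coordV x)⟩ :=
      LinearMap.congr_fun hπ ⟨_, hKmem (coordV x)⟩
    have key : π (h (coordV x) (coordV x)) = 0 := by
      refine bK.ext_elem fun s => ?_
      rw [map_zero, Finsupp.zero_apply, ← hc s, heval, hexp]
      simp only [map_sum, map_smul, Finsupp.finsetSum_apply, Finsupp.smul_apply, smul_eq_mul, hrepr,
        co]
      exact Finset.sum_congr rfl fun i _ => Finset.sum_congr rfl fun j _ => mul_comm _ _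
    rw [key] at hK'
    exact (congrArg Subtype.val hK').symm
  have hxS : (x : A') ∈ S' := hiso _ (x : A').2 hval
  have hx0 : x = 0 := Subtype.ext (Submodule.disjoint_def.1 hC.disjoint _ hxS x.2)
  exact hc0 (funext fun i => Fintype.linearIndependent_iff.1 bC.linearIndependent c hx0 i)

end Cfsg.Agent.MinDeg.Unitary
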