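import Cfsg.Agent.Lib.MinDeg.UnitIneq

/-!
A hermitian plane: orbits of vectors and images of additive subgroups which commute modulo a
subgroup of the skew scalars.
-/

set_option autoImplicit false
set_option linter.unusedSectionVars false

namespace Cfsg.Agent.MinDeg.Unitary

open Cfsg.Agent.ClassicalSimple Cfsg.Agent.MinDegree

variable {F V : Type*} [Field F] [Finite F] [AddCommGroup V] [Module F V] [FiniteDimensional F V]
  {σ : F →+* F} {h : V →ₛₗ[σ] V →ₗ[F] F}

/-- An element of `SU` followed by a scalar of norm one. -/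
noncomputable def gTwo (p : {a : F // σ a * a = 1} × SUH h) : V →+ V :=
  AddMonoidHom.mk' (fun w => (σ p.1.1 * σ p.1.1) • (p.2 • w)) fun a b => by
    rw [smul_add, smul_add]

variable (h) in
/-- The images of a subgroup under `SU` and scalars. -/
noncomputable def imgsTwo (A : AddSubgroup V) : Set (AddSubgroup V) :=
  Set.range fun p : {a : F // σ a * a = 1} × SUH h => A.map (gTwo p)

theorem imgsTwo_finite (A : AddSubgroup V) : (imgsTwo h A).Finite := by
  have := finite_addSubgroup h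
  exact Set.toFinite _

theorem imgsTwo_pos (A : AddSubgroup V) : 1 ≤ (imgsTwo h A).ncard :=
  (Set.ncard_pos (imgsTwo_finite A)).2 ⟨_, ⟨⟨⟨1, by simp⟩, 1⟩, rfl⟩⟩

/-- Non-zero vectors in images of `A` are few. -/
theorem imgsTwo_cover (A : AddSubgroup V) (C : Set V) (h0 : ∀ z ∈ C, z ≠ 0)
    (hC : ∀ z ∈ C, ∃ T ∈ imgsTwo h A, z ∈ T) :
    C.ncard ≤ (imgsTwo h A).ncard * (Nat.card A - 1) := by
  classical
  have : Finite V := Module.finite_of_finite F
  have := Fintype.ofFinite V
  have := finite_addSubgroup h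
  have := Fintype.ofFinite (AddSubgroup V)
  rw [Set.ncard_eq_toFinset_card' (imgsTwo h A), Set.ncard_eq_toFinset_card' C]
  refine le_trans (Finset.card_le_card (t := (imgsTwo h A).toFinset.biUnion fun T =>
    ((T : Set V) \ {0}).toFinset) fun z hz => ?_) (Finset.card_biUnion_le_card_mul _ _ _ ?_)
  · obtain ⟨T, hT, hzT⟩ := hC z (Set.mem_toFinset.1 hz)
    exact Finset.mem_biUnion.2 ⟨T, Set.mem_toFinset.2 hT,
      Set.mem_toFinset.2 ⟨hzT, h0 z (Set.mem_toFinset.1 hz)⟩⟩
  · intro T hT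
    obtain ⟨p, rfl⟩ := Set.mem_toFinset.1 hT
    rw [← Set.ncard_eq_toFinset_card', Set.ncard_sdiff_singleton_of_mem (zero_mem _)]
    refine Nat.sub_le_sub_right ?_ 1
    rw [AddSubgroup.coe_map]
    exact (Set.ncard_image_le (Set.toFinite _)).trans (Nat.card_coe_set_eq (A : Set V)).ge

/-- The vectors of `SU`-translates of `A`. -/
def orbV (h : V →ₛₗ[σ] V →ₗ[F] F) (x : V) : Set V := Set.range fun g : SUH h => g • x

theorem orbV_mem_imgs {A : AddSubgroup V} {x : V} (hx : x ∈ A) {z : V} (hz : z ∈ orbV h x) :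
    ∃ T ∈ imgsTwo h A, z ∈ T := by
  obtain ⟨g, rfl⟩ := hz
  exact ⟨_, ⟨⟨⟨1, by simp⟩, g⟩, rfl⟩, x, hx, by simp [gTwo]⟩

theorem orbV_form {x z : V} (hz : z ∈ orbV h x) : h z z = h x x := by
  obtain ⟨g, rfl⟩ := hz
  exact uh_smul_smul (g : UH h) x x

theorem orbV_ne_zero {x z : V} (hx : x ≠ 0) (hz : z ∈ orbV h x) : z ≠ 0 := by
  obtain ⟨g, rfl⟩ := hz
  exact fun e => hx ((smul_eq_zero_iff_eq g).1 e)

variable (hh : IsUnitaryForm σ h)
include hh

/-- The number of scalars of norm one. -/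
theorem card_norm_one_scalar {q : ℕ} (hq : Nat.card F = q ^ 2) :
    Nat.card {a : F // σ a * a = 1} = q + 1 := by
  classical
  have := Fintype.ofFinite F
  let N : Fˣ →* Fˣ := (Units.map σ.toMonoidHom) * MonoidHom.id _
  have hN : ∀ u : Fˣ, (N u : F) = σ (u : F) * (u : F) := fun u => rfl
  have hr : Nat.card N.range = q - 1 := by
    rw [← card_fixed hq hh]
    refine Nat.card_congr (Equiv.ofBijective
      (fun u => ⟨((u : Fˣ) : F), (u : Fˣ).ne_zero, ?_⟩) ⟨fun a b e =>
        Subtype.ext (Units.ext (congrArg Subtype.val e :)), ?_⟩)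
    · obtain ⟨x, hx⟩ := u.2
      rw [← hx, hN, map_mul, hh.invol, mul_comm]
    · rintro ⟨c, hc0, hc⟩
      obtain ⟨r, hr⟩ := hh.exists_norm_eq hc
      have hr0 : r ≠ 0 := fun e => hc0 (by rw [← hr, e, mul_zero])
      exact ⟨⟨Units.mk0 c hc0, Units.mk0 r hr0, Units.ext hr⟩, rfl⟩
  have hk : Nat.card N.ker = Nat.card {a : F // σ a * a = 1} := by
    refine Nat.card_congr (Equiv.ofBijective (fun u => ⟨((u : Fˣ) : F), ?_⟩) ⟨fun a b e =>
        Subtype.ext (Units.ext (congrArg Subtype.val e :)), ?_⟩)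
    · rw [← hN, MonoidHom.mem_ker.1 u.2, Units.val_one]
    · rintro ⟨c, hc⟩
      exact ⟨⟨Units.mk0 c (fun e => by simp [e] at hc), Units.ext hc⟩, rfl⟩
  have h1 := N.ker.index_mul_card
  rw [Subgroup.index_ker, hr, hk, Nat.card_units, hq] at h1
  have hq2 := two_le_q hq
  refine Nat.eq_of_mul_eq_mul_left (show 0 < q - 1 by omega) (h1.trans ?_)
  rw [mul_comm, ← Nat.sq_sub_sq, one_pow]

variable {q : ℕ} (hq : Nat.card F = q ^ 2) (h2 : Module.finrank F V = 2)
include hq h2

/-- Coordinates in a plane. -/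
theorem plane_coord {x x' : V} (P : Pair h x x') (z : V) : z = h x' z • x + h x z • x' := by
  have h0 : prW hh P z = 0 := by
    have := finrank_Wsp hh P
    have h0 : Module.finrank F (Wsp h x x') = 0 := by omega
    rw [Submodule.finrank_eq_zero] at h0
    exact Subtype.ext (by simpa [h0] using (prW hh P z).2)
  conv_lhs => rw [eq_pr hh P z, h0, Submodule.coe_zero, add_zero]

/-- Isotropic vectors have isotropic perpendicular lines. -/
theorem perp_mem_line {a y : V} (ha : h a a = 0) (ha0 : a ≠ 0) (hy : h a y = 0) :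
    ∃ k : F, y = k • a := by
  obtain ⟨a', ha', e⟩ := exists_isotropic_partner hh ha ha0
  refine ⟨h a' y, ?_⟩
  conv_lhs => rw [plane_coord hh hq h2 (⟨ha, ha', e⟩ : Pair h a a') y, hy, zero_smul, add_zero]

/-- Elements moving an isotropic vector inside a real plane. -/
theorem exists_real_move {x x' : V} (P : Pair h x x') {α c : F} (hα : σ α = α) (hc : c + σ c = 0)
    (hne : α ≠ 0 ∨ c ≠ 0) : ∃ g : SUH h, g • x = α • x + c • x' := by
  have Tx' : ∀ e : F, e + σ e = 0 → ∀ u w : F,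
      rt hh x' 0 e • (u • x + w • x') = u • x + (w + e * u) • x' := by
    intro e he u w
    rw [rt_smul hh ⟨P.right, by simp, by simpa using he⟩]
    simp only [map_add, map_smul, one_swap hh P, P.right, smul_eq_mul, map_zero,
      LinearMap.zero_apply, smul_zero, add_zero, sub_zero, mul_zero, mul_one]
    module
  have Tx : ∀ e : F, e + σ e = 0 → ∀ u w : F,
      rt hh x 0 e • (u • x + w • x') = (u + e * w) • x + w • x' := by
    intro e he u w
    rw [rt_smul hh ⟨P.left, by simp, by simpa using he⟩]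
    simp only [map_add, map_smul, P.one, P.left, smul_eq_mul, map_zero,
      LinearMap.zero_apply, smul_zero, add_zero, zero_add, sub_zero, mul_zero, mul_one]
    module
  have key : ∀ (α c : F), σ α = α → c + σ c = 0 → c ≠ 0 →
      ∃ g : SUH h, g • x = α • x + c • x' := by
    intro α c hα hc hc0
    have hd : (α - 1) / c + σ ((α - 1) / c) = 0 := by
      rw [map_div₀, map_sub, map_one, hα, eq_neg_of_add_eq_zero_right hc, div_neg, add_neg_cancel]
    refine ⟨rt hh x 0 ((α - 1) / c) * rt hh x' 0 c, ?_⟩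
    have e0 : rt hh x' 0 c • x = (1 : F) • x + c • x' := by simpa using Tx' c hc 1 0
    rw [mul_smul, e0, Tx _ hd, div_mul_cancel₀ _ hc0, add_sub_cancel]
  by_cases hc0 : c = 0
  swap
  · exact key α c hα hc hc0
  subst hc0
  obtain ⟨θ, hθ0, hθ⟩ := hh.exists_skew
  have hα0 : α ≠ 0 := by tauto
  obtain ⟨g, hg⟩ := key α θ hα hθ hθ0
  have he : -(θ / α) + σ (-(θ / α)) = 0 := by
    rw [map_neg, map_div₀, hα, eq_neg_of_add_eq_zero_right hθ, neg_div, neg_neg, neg_add_cancel]
  refine ⟨rt hh x' 0 (-(θ / α)) * g, ?_⟩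
  rw [mul_smul, hg, Tx' _ he, neg_mul, div_mul_cancel₀ _ hα0, add_neg_cancel]

/-- The non-zero vectors of a real plane, parametrised. -/
theorem exists_real_param {x x' : V} (P : Pair h x x') :
    ∃ (f : skewAdd σ × skewAdd σ → V) (θ : F), θ ≠ 0 ∧ θ + σ θ = 0 ∧
      (∀ p, f p = ((p.1 : F) / θ) • x + (p.2 : F) • x') ∧
      (∀ p, p ≠ 0 → ∃ g : SUH h, g • x = f p) ∧ Function.Injective f := by
  obtain ⟨θ, hθ0, hθ⟩ := hh.exists_skew
  refine ⟨fun p => ((p.1 : F) / θ) • x + (p.2 : F) • x', θ, hθ0, hθ, fun p => rfl,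
    fun p hp => ?_, ?_⟩
  · refine exists_real_move hh hq h2 P ?_ (mem_skewAdd.1 p.2.2) ?_
    · rw [map_div₀, eq_neg_of_add_eq_zero_right (mem_skewAdd.1 p.1.2),
        eq_neg_of_add_eq_zero_right hθ, neg_div_neg_eq]
    · by_contra hc
      push Not at hc
      exact hp (Prod.ext (Subtype.ext (by simpa [hθ0] using hc.1)) (Subtype.ext hc.2))
  · intro p p' e
    have e : ((p.1 : F) / θ) • x + (p.2 : F) • x' = ((p'.1 : F) / θ) • x + (p'.2 : F) • x' := e
    have e1 := congrArg (h x) e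
    have e2 := congrArg (h x') e
    simp only [map_add, map_smul, P.left, P.right, P.one, one_swap hh P, smul_eq_mul, mul_zero,
      mul_one, add_zero, zero_add] at e1 e2
    exact Prod.ext (Subtype.ext ((div_left_inj' hθ0).1 e2)) (Subtype.ext e1)

omit h2 in
theorem card_skew_pairs : Nat.card {p : skewAdd σ × skewAdd σ // p ≠ 0} = q ^ 2 - 1 := by
  classical
  have := Fintype.ofFinite (skewAdd σ)
  rw [Nat.card_eq_fintype_card, Fintype.card_subtype_compl, Fintype.card_subtype_eq,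
    Fintype.card_prod, ← Nat.card_eq_fintype_card, skew_card hh hq, sq]

/-- Orbits of isotropic vectors. -/
theorem iso_orbit {x : V} (hx : h x x = 0) (hx0 : x ≠ 0) : q ^ 2 - 1 ≤ (orbV h x).ncard := by
  have : Finite V := Module.finite_of_finite F
  obtain ⟨x', hx', e⟩ := exists_isotropic_partner hh hx hx0
  obtain ⟨f, θ, -, -, -, hg, hf⟩ := exists_real_param hh hq h2 (⟨hx, hx', e⟩ : Pair h x x')
  rw [← card_skew_pairs hh hq, ← Nat.card_coe_set_eq]
  refine Nat.card_le_card_of_injective (fun p => ⟨f p.1, hg p.1 p.2⟩) fun a b e => ?_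
  exact Subtype.ext (hf (congrArg Subtype.val e :))

/-- Only the identity fixes an anisotropic vector. -/
theorem fix_aniso {y : V} (hy : h y y ≠ 0) (g : SUH h) (hg : g • y = y) : g = 1 := by
  obtain ⟨z, hz, hz0⟩ := exists_forall_eq_zero_notMem ![h y] (⊥ : Submodule F V)
    (by rw [finrank_bot, Fintype.card_fin]; omega)
  have hz : h y z = 0 := hz 0
  have hz0 : z ≠ 0 := fun e => hz0 (by simp [e])
  have hy0 : y ≠ 0 := fun e => hy (by simp [e])
  have hi : LinearIndependent F ![y, z] := by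
    rw [LinearIndependent.pair_iff]
    intro a b e
    have e1 := congrArg (h y) e
    simp [hz, hy] at e1
    subst e1
    simpa [hz0] using e
  have hspan : ∀ x : V, ∃ a b : F, x = a • y + b • z := fun x => by
    have : x ∈ Submodule.span F (Set.range ![y, z]) := by
      rw [hi.span_eq_top_of_card_eq_finrank (by simp [h2])]; trivial
    rw [Matrix.range_cons, Matrix.range_cons, Matrix.range_empty, Set.union_empty,
      Set.singleton_union, Submodule.mem_span_pair] at this
    obtain ⟨a, b, e⟩ := this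
    exact ⟨a, b, e.symm⟩
  obtain ⟨a, b, hgz⟩ := hspan (g • z)
  have hyz : h y (g • z) = 0 := by
    conv_lhs => rw [← hg]
    exact (uh_smul_smul (g : UH h) y z).trans hz
  rw [hgz] at hyz
  simp [hz, hy] at hyz
  subst hyz
  rw [zero_smul, zero_add] at hgz
  have hzz : h z z ≠ 0 := by
    intro e
    obtain ⟨z', hz', e'⟩ := exists_isotropic_partner hh e hz0
    obtain ⟨k, hk⟩ := perp_mem_line hh hq h2 e hz0 (hh.comm_zero hz)
    exact hy (by rw [hk]; simp [e])
  have hb : σ b * b = 1 := by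
    have e := (uh_smul_smul (g : UH h) z z)
    rw [show (g : UH h) • z = g • z from rfl, hgz] at e
    simp only [map_smulₛₗ, LinearMap.smul_apply, smul_eq_mul, RingHom.id_apply] at e
    exact mul_right_cancel₀ hzz (by linear_combination e)
  obtain ⟨c, hc⟩ : ∃ c, c * h z z = b - 1 := ⟨(b - 1) / h z z, div_mul_cancel₀ _ hzz⟩
  have hσc : σ c * h z z = σ b - 1 := by
    have := congrArg σ hc
    rwa [map_mul, map_sub, map_one, hh.σ_self] at this
  have hc' : c + σ c + c * σ c * h z z = 0 := mul_right_cancel₀ hzz (by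
    linear_combination (1 + σ c * h z z) * hc + b * hσc + hb)
  have hgd : ((g : UH h) : V ≃ₗ[F] V) = (uDil hh z c hc' : V ≃ₗ[F] V) := by
    refine LinearEquiv.ext fun x => ?_
    obtain ⟨s, t, rfl⟩ := hspan x
    show g • (s • y + t • z) = uDil hh z c hc' • (s • y + t • z)
    rw [uDil_smul, smul_add, smul_comm g, smul_comm g, hg, hgz]
    simp only [map_add, map_smul, hh.comm_zero hz, smul_eq_mul, mul_zero, zero_add]
    rw [show c * (t * h z z) = t * (b - 1) by linear_combination t * hc]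
    module
  have hdet := mem_SUH.1 g.2
  rw [hgd, uDil_det, hc, add_sub_cancel] at hdet
  subst hdet
  refine Subtype.ext (UH.ext' fun x => ?_)
  obtain ⟨s, t, rfl⟩ := hspan x
  show g • (s • y + t • z) = (1 : UH h) • (s • y + t • z)
  rw [one_smul, smul_add, smul_comm g, smul_comm g, hg, hgz, one_smul]

/-- Orbits of anisotropic vectors. -/
theorem norm_orbit {y : V} (hy : h y y ≠ 0) : (q ^ 2 - 1) * q ≤ (orbV h y).ncard := by
  have : Finite V := Module.finite_of_finite F
  obtain ⟨x, x', P⟩ := exists_pair hh (by omega)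
  obtain ⟨f, θ, -, -, -, hg, hf⟩ := exists_real_param hh hq h2 P
  choose g hgx using fun p : {p : skewAdd σ × skewAdd σ // p ≠ 0} => hg p.1 p.2
  rw [← card_skew_pairs hh hq, ← skew_card hh hq, ← Nat.card_prod, ← Nat.card_coe_set_eq]
  refine Nat.card_le_card_of_injective
    (fun t => ⟨(g t.1 * rt hh x 0 (t.2 : F)) • y, _, rfl⟩) fun a b e => ?_
  have e : (g a.1 * rt hh x 0 (a.2 : F)) • y = (g b.1 * rt hh x 0 (b.2 : F)) • y :=
    congrArg Subtype.val e
  have e1 : g a.1 * rt hh x 0 (a.2 : F) = g b.1 * rt hh x 0 (b.2 : F) :=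
    (inv_mul_eq_one.1 (fix_aniso hh hq h2 hy _ (by rw [mul_smul, e, inv_smul_smul]))).symm
  have e2 := congrArg (fun k : SUH h => k • x) e1
  simp only [mul_smul, rt_smul_v hh (ok_skew hh P.left _), hgx] at e2
  have e3 : a.1 = b.1 := Subtype.ext (hf e2)
  rw [e3] at e1
  have e4 := congrArg (fun k : SUH h => k • x') (mul_left_cancel e1)
  simp only [rt_smul hh (ok_skew hh P.left _), P.one, map_zero, LinearMap.zero_apply, smul_zero,
    add_zero, sub_zero, mul_one, add_left_cancel_iff] at e4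
  exact Prod.ext e3 (Subtype.ext (smul_left_injective F P.ne_zero e4))

/-- In characteristic two, scalars of norm one move real planes apart. -/
theorem iso_images_two (hc2 : (2 : F) = 0) {A : AddSubgroup V} {x : V} (hxA : x ∈ A)
    (hx : h x x = 0) (hx0 : x ≠ 0) :
    ∃ C : Set V, (∀ z ∈ C, z ≠ 0 ∧ h z z = 0 ∧ ∃ T ∈ imgsTwo h A, z ∈ T) ∧
      C.ncard = (q + 1) * (q ^ 2 - 1) := by
  obtain ⟨x', hx', e⟩ := exists_isotropic_partner hh hx hx0
  have P : Pair h x x' := ⟨hx, hx', e⟩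
  obtain ⟨f, θ, hθ0, hθ, hfp, hg, hf⟩ := exists_real_param hh hq h2 P
  have hneg : ∀ t : F, -t = t := fun t => by linear_combination (-t) * hc2
  have hfix : ∀ c : skewAdd σ, σ (c : F) = c := fun c => by
    rw [eq_neg_of_add_eq_zero_right (mem_skewAdd.1 c.2), hneg]
  have hσθ : σ θ = θ := by rw [eq_neg_of_add_eq_zero_right hθ, hneg]
  let φ : {a : F // σ a * a = 1} × {p : skewAdd σ × skewAdd σ // p ≠ 0} → V := fun t =>
    (σ t.1.1 * σ t.1.1) • f t.2.1
  refine ⟨Set.range φ, ?_, ?_⟩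
  · rintro _ ⟨⟨a, p, hp⟩, rfl⟩
    obtain ⟨g, hgx⟩ := hg p hp
    have ha0 : σ a.1 ≠ 0 := fun e => by simpa [e] using a.2
    refine ⟨smul_ne_zero (mul_ne_zero ha0 ha0) ?_, ?_, A.map (gTwo (a, g)), ⟨(a, g), rfl⟩, x, hxA,
      ?_⟩
    · rw [← hgx]; exact fun e => hx0 ((smul_eq_zero_iff_eq g).1 e)
    · show h ((σ a.1 * σ a.1) • f p) ((σ a.1 * σ a.1) • f p) = 0
      simp [← hgx, show h (g • x) (g • x) = 0 from (uh_smul_smul (g : UH h) x x).trans hx]
    · show _ = (σ a.1 * σ a.1) • f p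
      rw [← hgx]; rfl
  · rw [← Nat.card_coe_set_eq, ← card_norm_one_scalar hh hq, ← card_skew_pairs hh hq,
      ← Nat.card_prod]
    refine (Nat.card_congr (Equiv.ofInjective φ ?_)).symm
    rintro ⟨a, p⟩ ⟨b, p'⟩ e
    have e : (σ a.1 * σ a.1) • f p.1 = (σ b.1 * σ b.1) • f p'.1 := e
    rw [hfp, hfp] at e
    have e1 := congrArg (h x) e
    have e2 := congrArg (h x') e
    simp only [smul_add, smul_smul, map_add, map_smul, P.left, P.right, P.one, one_swap hh P,
      smul_eq_mul, mul_zero, mul_one, add_zero, zero_add] at e1 e2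
    -- the ratio is fixed by `σ` and has norm one
    set k := (σ a.1 * σ a.1) / (σ b.1 * σ b.1) with hk
    have hb0 : σ b.1 ≠ 0 := fun e => by simpa [e] using b.2
    have hb0' : b.1 ≠ 0 := fun e => by simpa [e] using b.2
    have hkN : σ k * k = 1 := by
      rw [hk, map_div₀, map_mul, map_mul, hh.invol, hh.invol, div_mul_div_comm,
        div_eq_one_iff_eq (mul_ne_zero (mul_ne_zero hb0' hb0') (mul_ne_zero hb0 hb0))]
      linear_combination (σ a.1 * a.1 + σ b.1 * b.1) * a.2 - (σ a.1 * a.1 + σ b.1 * b.1) * b.2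
    have hkσ : σ k = k := by
      have k1 : k * ((p.1.1 : F) / θ) = (p'.1.1 : F) / θ := by
        rw [hk, div_mul_eq_mul_div, e2, mul_div_cancel_left₀ _ (mul_ne_zero hb0 hb0)]
      have k2 : k * (p.1.2 : F) = p'.1.2 := by
        rw [hk, div_mul_eq_mul_div, e1, mul_div_cancel_left₀ _ (mul_ne_zero hb0 hb0)]
      by_cases h0 : (p.1.2 : F) = 0
      · have h1 : (p.1.1 : F) / θ ≠ 0 := div_ne_zero (fun e => p.2 (Prod.ext (Subtype.ext e)
          (Subtype.ext h0))) hθ0
        rw [← mul_div_cancel_right₀ k h1, k1, map_div₀, map_div₀, map_div₀, hfix, hfix, hσθ]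
      · rw [← mul_div_cancel_right₀ k h0, k2, map_div₀, hfix, hfix]
    have hk1 : k = 1 := by
      rw [hkσ] at hkN
      rcases mul_self_eq_one_iff.1 hkN with h1 | h1
      · exact h1
      · rw [h1, hneg]
    have hab : a = b := by
      have e3 : σ a.1 * σ a.1 = σ b.1 * σ b.1 := (div_eq_one_iff_eq (mul_ne_zero hb0 hb0)).1 hk1
      rcases mul_self_eq_mul_self_iff.1 e3 with h1 | h1
      · exact Subtype.ext (σ.injective h1)
      · exact Subtype.ext (σ.injective (by rw [h1, hneg]))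
    subst hab
    rw [← hfp, ← hfp] at e
    exact Prod.ext rfl (Subtype.ext (hf (smul_right_injective V (mul_ne_zero hb0 hb0) e)))

/-- A subgroup inside an isotropic line has an image in each of them. -/
theorem line_imgsTwo {A : AddSubgroup V} {x : V} (hx : h x x = 0) (hx0 : x ≠ 0)
    (hA : ∀ y ∈ A, ∃ k : F, y = k • x) (hA0 : A ≠ ⊥) : q + 1 ≤ (imgsTwo h A).ncard := by
  classical
  obtain ⟨x', hx', e⟩ := exists_isotropic_partner hh hx hx0
  have P : Pair h x x' := ⟨hx, hx', e⟩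
  obtain ⟨θ, hθ0, hθ⟩ := hh.exists_skew
  have hmove : ∀ o : Option (skewAdd σ), ∃ g : SUH h, g • x =
      o.elim (θ • x') fun c => x + (c : F) • x' := by
    rintro (_ | c)
    · obtain ⟨g, hg⟩ := exists_real_move hh hq h2 P (map_zero σ) hθ (Or.inr hθ0)
      exact ⟨g, by simpa using hg⟩
    · obtain ⟨g, hg⟩ := exists_real_move hh hq h2 P (map_one σ) (mem_skewAdd.1 c.2) (Or.inl one_ne_zero)
      exact ⟨g, by simpa using hg⟩
  choose g hg using hmove
  obtain ⟨a₀, ha₀, ha₀0⟩ : ∃ a ∈ A, a ≠ 0 := by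
    by_contra hc
    push Not at hc
    exact hA0 ((AddSubgroup.eq_bot_iff_forall A).2 hc)
  obtain ⟨k, hk⟩ := hA a₀ ha₀
  have hk0 : k ≠ 0 := fun e => ha₀0 (by rw [hk, e, zero_smul])
  have := finite_addSubgroup h
  have : Finite (skewAdd σ) := inferInstance
  have := Fintype.ofFinite (skewAdd σ)
  have e1 : Nat.card (Option (skewAdd σ)) = q + 1 := by
    rw [Nat.card_eq_fintype_card, Fintype.card_option, ← Nat.card_eq_fintype_card, skew_card hh hq]
  rw [← e1, ← Nat.card_coe_set_eq]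
  refine Nat.card_le_card_of_injective
    (fun o => ⟨A.map (gTwo (⟨1, by simp⟩, g o)), ⟨_, rfl⟩⟩) fun o o' e => ?_
  have e : A.map (gTwo (⟨1, by simp⟩, g o)) = A.map (gTwo (⟨1, by simp⟩, g o')) :=
    congrArg Subtype.val e
  have hmem : k • (g o • x) ∈ A.map (gTwo (⟨1, by simp⟩, g o')) := by
    rw [← e]
    exact ⟨a₀, ha₀, by simp [gTwo, hk, smul_comm (g o) k]⟩
  obtain ⟨b, hb, eb⟩ := hmem
  obtain ⟨l, rfl⟩ := hA b hb
  have eb : l • (g o' • x) = k • (g o • x) := by simpa [gTwo, smul_comm (g o') l] using eb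
  rw [hg, hg] at eb
  have f1 := congrArg (h x) eb
  have f2 := congrArg (h x') eb
  rcases o with _ | c <;> rcases o' with _ | c' <;>
    simp only [Option.elim_none, Option.elim_some, map_smul, map_add, P.left, P.right, P.one,
      one_swap hh P, smul_eq_mul, mul_zero, mul_one, add_zero, zero_add] at f1 f2
  · rfl
  · rw [f2, zero_mul] at f1
    exact absurd f1.symm (mul_ne_zero hk0 hθ0)
  · exact absurd f2.symm hk0
  · subst f2
    exact congrArg some (Subtype.ext (mul_left_cancel₀ hk0 f1.symm))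

/-- A subgroup of a real plane whose commutators avoid a scalar is small. -/
theorem real_plane_small (hc2 : (2 : F) ≠ 0) {L : AddSubgroup (skewAdd σ)} (hL : L ≠ ⊤)
    {A : AddSubgroup V} (hA : ∀ w ∈ A, ∀ w' ∈ A, ∃ l ∈ L, (l : F) = h w w' - h w' w)
    (hsk : ∀ w ∈ A, ∀ w' ∈ A, h w w' + σ (h w w') = 0)
    {a b : V} (ha : a ∈ A) (hb : b ∈ A) (hab : h a b ≠ 0) :
    Nat.card A ≤ q := by
  have : Finite V := Module.finite_of_finite F
  obtain ⟨c, hc⟩ : ∃ c, c ∉ L := by
    by_contra hcon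
    push Not at hcon
    exact hL ((AddSubgroup.eq_top_iff' L).2 hcon)
  obtain ⟨ψ, hψ⟩ := AddChar.exists_apply_ne_zero.2
    (show (QuotientAddGroup.mk c : skewAdd σ ⧸ L) ≠ 0 from fun e => hc ((QuotientAddGroup.eq_zero_iff c).1 e))
  let sk : F →+ skewAdd σ ⧸ L := (QuotientAddGroup.mk' L).comp (AddMonoidHom.mk'
    (fun x => ⟨x - σ x, by rw [mem_skewAdd, map_sub, hh.invol]; ring⟩)
    fun a b => Subtype.ext (by simp only [AddSubgroup.coe_add, map_add]; ring))
  let χ : AddChar F ℂ := ψ.compAddMonoidHom sk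
  have hχ : χ ≠ 1 := by
    refine AddChar.ne_one_iff.2 ⟨(c : F) / 2, ?_⟩
    have e : sk ((c : F) / 2) = QuotientAddGroup.mk c := by
      refine congrArg (QuotientAddGroup.mk (s := L)) (Subtype.ext ?_)
      show (c : F) / 2 - σ ((c : F) / 2) = c
      rw [map_div₀, eq_neg_of_add_eq_zero_right (mem_skewAdd.1 c.2), map_ofNat]
      field_simp
      ring
    show ψ (sk _) ≠ 1
    rw [e]
    exact hψ
  have hsk0 : ∀ x : F, σ x = x → χ x = 1 := fun x hx => by
    show ψ (sk x) = 1
    have e : sk x = 0 := (QuotientAddGroup.eq_zero_iff _).2 (by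
      convert zero_mem L
      exact Subtype.ext (show x - σ x = 0 by rw [hx, sub_self]))
    rw [e, AddChar.map_zero_eq_one]
  have hAann : A ≤ annC h χ A := fun w hw w' hw' => by
    obtain ⟨l, hl, el⟩ := hA w hw w' hw'
    show ψ (sk (h w w')) = 1
    have e : sk (h w w') = 0 := by
      refine (QuotientAddGroup.eq_zero_iff _).2 ?_
      convert hl using 1
      exact Subtype.ext (by rw [el]; show h w w' - σ (h w w') = _; rw [← hh.swap])
    rw [e, AddChar.map_zero_eq_one]
  have hneg : ∀ w ∈ A, ∀ w' ∈ A, σ (h w w') = -h w w' := fun w hw w' hw' =>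
    eq_neg_of_add_eq_zero_right (hsk w hw w' hw')
  let f : (skewAdd σ × skewAdd σ) × A → annC h χ A := fun t =>
    ⟨(t.1.1 : F) • a + (t.1.2 : F) • b + (t.2 : V), add_mem (fun w hw => hsk0 _ (by
      simp only [map_add, map_smulₛₗ, LinearMap.add_apply, LinearMap.smul_apply, smul_eq_mul,
        RingHom.id_apply, map_mul, hh.invol, hneg a ha w hw, hneg b hb w hw,
        eq_neg_of_add_eq_zero_right (mem_skewAdd.1 t.1.1.2),
        eq_neg_of_add_eq_zero_right (mem_skewAdd.1 t.1.2.2), map_neg, neg_neg]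
      ring)) (hAann t.2.2)⟩
  have hf : Function.Injective f := by
    intro t t' e
    have e : (t.1.1 : F) • a + (t.1.2 : F) • b + (t.2 : V) =
        (t'.1.1 : F) • a + (t'.1.2 : F) • b + (t'.2 : V) := congrArg Subtype.val e
    have haa : h a a = 0 := by
      have := hsk a ha a ha
      rw [hh.σ_self, ← two_mul] at this
      exact (mul_eq_zero.1 this).resolve_left hc2
    have hbb : h b b = 0 := by
      have := hsk b hb b hb
      rw [hh.σ_self, ← two_mul] at this
      exact (mul_eq_zero.1 this).resolve_left hc2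
    have hba : h b a ≠ 0 := fun e => hab (hh.comm_zero e)
    have hd : ((t.2 : A) - t'.2 : A).1 = ((t'.1.1 : F) - t.1.1) • a + ((t'.1.2 : F) - t.1.2) • b := by
      rw [AddSubgroup.coe_sub]
      linear_combination (norm := module) e
    have z1 : ∀ (s : F) (u w : V), u ∈ A → w ∈ A → s + σ s = 0 → h u w ≠ 0 →
        s * h u w + σ (s * h u w) = 0 → s = 0 := by
      intro s u w hu hw hs hne e
      rw [map_mul, hneg u hu w hw, eq_neg_of_add_eq_zero_right hs, neg_mul_neg, ← two_mul] at e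
      exact (mul_eq_zero.1 ((mul_eq_zero.1 e).resolve_left hc2)).resolve_right hne
    have k1 := hsk a ha _ ((t.2 : A) - t'.2 : A).2
    have k2 := hsk b hb _ ((t.2 : A) - t'.2 : A).2
    rw [hd] at k1 k2
    simp only [map_add, map_smul, haa, hbb, smul_eq_mul, mul_zero, add_zero, zero_add] at k1 k2
    have hs : ∀ (u u' : skewAdd σ), ((u : F) - u') + σ ((u : F) - u') = 0 := fun u u' => by
      rw [map_sub]
      linear_combination mem_skewAdd.1 u.2 - mem_skewAdd.1 u'.2
    have e2 : t'.1.2 = t.1.2 := Subtype.ext (sub_eq_zero.1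
      (z1 _ a b ha hb (hs _ _) hab k1))
    have e1 : t'.1.1 = t.1.1 := Subtype.ext (sub_eq_zero.1
      (z1 _ b a hb ha (hs _ _) hba k2))
    rw [e1, e2, sub_self, sub_self, zero_smul, zero_smul, add_zero] at hd
    exact Prod.ext (Prod.ext e1.symm e2.symm) (sub_eq_zero.1 (Subtype.ext hd))
  have h1 := Nat.card_le_card_of_injective f hf
  rw [Nat.card_prod, Nat.card_prod, skew_card hh hq] at h1
  have h3 : Nat.card V = q ^ 4 := by rw [card_V hh hq, h2]
  have h4 := Nat.mul_le_mul_right (Nat.card A) h1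
  rw [card_annC hh hχ A, h3] at h4
  by_contra hlt
  push Not at hlt
  have := Nat.mul_lt_mul_of_pos_left (Nat.mul_lt_mul'' hlt hlt)
    (show 0 < q * q from Nat.mul_pos (by have := two_le_q hq; omega) (by have := two_le_q hq; omega))
  nlinarith

/-- A subgroup of anisotropic vectors of one norm is impossible. -/
theorem one_norm_false {L : AddSubgroup (skewAdd σ)} (hL : L ≠ ⊤) {A : AddSubgroup V}
    (hA : ∀ w ∈ A, ∀ w' ∈ A, ∃ l ∈ L, (l : F) = h w w' - h w' w)
    (hcard : Nat.card A = q ^ 2) {c : F} (hc : c ≠ 0)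
    (hn : ∀ a ∈ A, a ≠ 0 → h a a = c) : False := by
  classical
  have : Finite V := Module.finite_of_finite F
  have hq2 := two_le_q hq
  have := Fintype.ofFinite A
  have hA4 : 4 ≤ Fintype.card A := by
    rw [← Nat.card_eq_fintype_card, hcard]; exact Nat.pow_le_pow_left hq2 2
  have avoid : ∀ s : Finset A, s.card < Fintype.card A → ∃ a : A, a ∉ s := fun s hs => by
    by_contra hc'
    push Not at hc'
    exact absurd (Finset.card_le_card (fun a _ => hc' a : Finset.univ ⊆ s))
      (by rw [Finset.card_univ]; omega)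
  obtain ⟨a, ha⟩ := avoid {0} (by rw [Finset.card_singleton]; omega)
  obtain ⟨b, hb⟩ := avoid {0, a, -a} (Finset.card_le_three.trans_lt (by omega))
  simp only [Finset.mem_singleton, Finset.mem_insert, not_or] at ha hb
  obtain ⟨hb0, hba, hbna⟩ := hb
  have hne : ∀ u : A, u ≠ 0 → (u : V) ≠ 0 := fun u hu e => hu (Subtype.ext e)
  have hab : a + b ≠ 0 := fun e => hbna (eq_neg_of_add_eq_zero_right e)
  have hsum : ∀ u w : A, u ≠ 0 → w ≠ 0 → u + w ≠ 0 →
      h (u : V) (w : V) + h (w : V) (u : V) = -c := by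
    intro u w hu hw huw
    have e := hn _ (u + w).2 (hne _ huw)
    simp only [AddSubgroup.coe_add, map_add, LinearMap.add_apply, hn _ u.2 (hne _ hu),
      hn _ w.2 (hne _ hw)] at e
    linear_combination e
  have S1 := hsum a b ha hb0 hab
  have S2 := hsum a (-b) ha (neg_ne_zero.2 hb0) (by rw [← sub_eq_add_neg, sub_ne_zero]; exact Ne.symm hba)
  simp only [AddSubgroup.coe_neg, map_neg, LinearMap.neg_apply] at S2
  have h2c : (2 : F) * c = 0 := by linear_combination S1 + S2
  have hc2 : (2 : F) = 0 := (mul_eq_zero.1 h2c).resolve_right hc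
  by_cases hL0 : L = ⊥
  · obtain ⟨l, hl, el⟩ := hA _ a.2 _ b.2
    rw [hL0, AddSubgroup.mem_bot] at hl
    subst hl
    exact hc (by
      rw [AddSubgroup.coe_zero] at el
      linear_combination S1 + el - (h (b : V) (a : V)) * hc2)
  -- a third independent element
  have hq3 : 3 ≤ q := by
    have h1 : 2 ≤ Nat.card L := by
      have := L.one_lt_card_iff_ne_bot.2 hL0
      omega
    have h2 := L.card_mul_index
    rw [skew_card hh hq] at h2
    have h3 : 2 ≤ L.index := by
      have e1 : L.index ≠ 1 := fun e => hL (AddSubgroup.index_eq_one.1 e)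
      have e2 : L.index ≠ 0 := AddSubgroup.index_ne_zero_of_finite
      omega
    nlinarith
  obtain ⟨b', hb'⟩ := avoid {0, a, -a, -b, -(a + b), b} (Finset.card_le_six.trans_lt (by
    rw [← Nat.card_eq_fintype_card, hcard]
    have := Nat.pow_le_pow_left hq3 2
    omega))
  simp only [Finset.mem_insert, Finset.mem_singleton, not_or] at hb'
  obtain ⟨hb'0, -, hb'na, hb'nb, hb'nab, hb'b⟩ := hb'
  have T1 := hsum a b' ha hb'0 (fun e => hb'na (eq_neg_of_add_eq_zero_right e))
  have hbb' : b + b' ≠ 0 := fun e => hb'nb (eq_neg_of_add_eq_zero_right e)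
  have T2 := hsum a (b + b') ha hbb' (by
    rw [← add_assoc]; exact fun e => hb'nab (eq_neg_of_add_eq_zero_right e))
  simp only [AddSubgroup.coe_add, map_add, LinearMap.add_apply] at T2
  exact hc (by linear_combination S1 + T1 - T2)

/-- The dichotomy for the invariants of a moved point. -/
theorem plane_ineq {L : AddSubgroup (skewAdd σ)} (hL : L ≠ ⊤) {A : AddSubgroup V}
    (hA : ∀ w ∈ A, ∀ w' ∈ A, ∃ l ∈ L, (l : F) = h w w' - h w' w)
    {w : ℕ} (hw : q ≤ w) (hw' : L ≠ ⊥ → q + 1 ≤ w) :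
    (q + 1) * (q ^ 3 + 1) * Nat.card A ≤ w * (imgsTwo h A).ncard * q ^ 4 ∨
      (L = ⊥ ∧ Nat.card A = q ^ 2 ∧ (∀ a ∈ A, h a a = 0) ∧ q + 1 ≤ (imgsTwo h A).ncard) := by
  classical
  have : Finite V := Module.finite_of_finite F
  have hq2 := two_le_q hq
  set M := (imgsTwo h A).ncard
  have hM1 : 1 ≤ M := imgsTwo_pos A
  have hd0 : (q + 1) * (q ^ 3 + 1) = q ^ 4 + q ^ 3 + q + 1 := by ring
  rw [hd0]
  have hq3 : q + 1 ≤ q ^ 3 := by nlinarith
  by_cases hA0 : A = ⊥
  · left
    rw [hA0, AddSubgroup.card_bot, mul_one]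
    have e : q * q ^ 4 ≤ w * M * q ^ 4 :=
      Nat.mul_le_mul_right _ (hw.trans (Nat.le_mul_of_pos_right _ hM1))
    have : 2 * q ^ 4 ≤ q * q ^ 4 := Nat.mul_le_mul_right _ hq2
    have : q ^ 3 * 2 ≤ q ^ 4 := by rw [pow_succ q 3]; exact Nat.mul_le_mul_left _ hq2
    omega
  have hV : Nat.card V = q ^ 4 := by rw [card_V hh hq, h2]
  have hAq : Nat.card A ≤ q ^ 2 := by
    have := card_sq_le hh L hL (map_one σ) one_ne_zero A (fun x hx y hy => by
      simpa using hA x hx y hy)
    rw [hV] at this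
    by_contra hlt
    push Not at hlt
    have := Nat.mul_lt_mul'' hlt hlt
    rw [← pow_add, show 2 + 2 = 4 from rfl] at this
    omega
  -- enough images
  have big : L ≠ ⊥ → q + 1 ≤ M →
      (q ^ 4 + q ^ 3 + q + 1) * Nat.card A ≤ w * M * q ^ 4 := fun hL0 hM =>
    calc (q ^ 4 + q ^ 3 + q + 1) * Nat.card A ≤ (q ^ 4 + q ^ 3 + q + 1) * q ^ 2 :=
          Nat.mul_le_mul_left _ hAq
      _ ≤ (q + 1) * (q + 1) * q ^ 4 := by nlinarith
      _ ≤ w * M * q ^ 4 := Nat.mul_le_mul_right _ (Nat.mul_le_mul (hw' hL0) hM)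
  have huge : q + 2 ≤ M → (q ^ 4 + q ^ 3 + q + 1) * Nat.card A ≤ w * M * q ^ 4 := fun hM =>
    calc (q ^ 4 + q ^ 3 + q + 1) * Nat.card A ≤ (q ^ 4 + q ^ 3 + q + 1) * q ^ 2 :=
          Nat.mul_le_mul_left _ hAq
      _ ≤ q * (q + 2) * q ^ 4 := by nlinarith
      _ ≤ w * M * q ^ 4 := Nat.mul_le_mul_right _ (Nat.mul_le_mul hw hM)
  have half : Nat.card A ≠ q ^ 2 → q ≤ M →
      (q ^ 4 + q ^ 3 + q + 1) * Nat.card A ≤ w * M * q ^ 4 := fun hne hM => by
    refine le_trans ?_ (Nat.mul_le_mul_right _ (Nat.mul_le_mul hw hM))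
    refine Nat.le_of_mul_le_mul_left ?_ two_pos
    calc 2 * ((q ^ 4 + q ^ 3 + q + 1) * Nat.card A)
        = (q ^ 4 + q ^ 3 + q + 1) * (2 * Nat.card A) := by ring
      _ ≤ (q ^ 4 + q ^ 3 + q + 1) * q ^ 2 := Nat.mul_le_mul_left _ (card_half hh hq A hAq hne)
      _ ≤ 2 * q ^ 4 * q ^ 2 := Nat.mul_le_mul_right _ (by nlinarith)
      _ = 2 * (q * q * q ^ 4) := by ring
  have hcover : ∀ {C : Set V}, (∀ z ∈ C, z ≠ 0 ∧ ∃ T ∈ imgsTwo h A, z ∈ T) →
      ∀ k, k * (q ^ 2 - 1) ≤ C.ncard → k ≤ M := by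
    intro C hC k hk
    have h1 := imgsTwo_cover A C (fun z hz => (hC z hz).1) (fun z hz => (hC z hz).2)
    have h3 : C.ncard ≤ M * (q ^ 2 - 1) := h1.trans (Nat.mul_le_mul_left _ (by omega))
    have hpos : 0 < q ^ 2 - 1 := by
      have : 4 ≤ q ^ 2 := Nat.pow_le_pow_left hq2 2
      omega
    exact Nat.le_of_mul_le_mul_right (hk.trans h3) hpos
  have horb : ∀ a ∈ A, a ≠ 0 → ∀ z ∈ orbV h a, z ≠ 0 ∧ ∃ T ∈ imgsTwo h A, z ∈ T :=
    fun a ha ha0 z hz => ⟨orbV_ne_zero ha0 hz, orbV_mem_imgs ha hz⟩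
  have hdisj : ∀ {a b : V}, h a a ≠ h b b → Disjoint (orbV h a) (orbV h b) := fun hne =>
    Set.disjoint_left.2 fun z hz hz' => hne ((orbV_form hz).symm.trans (orbV_form hz'))
  obtain ⟨a₀, ha₀, ha₀0⟩ : ∃ a ∈ A, a ≠ 0 := by
    by_contra hc
    push Not at hc
    exact hA0 ((AddSubgroup.eq_bot_iff_forall A).2 hc)
  by_cases hnorm : ∃ b ∈ A, h b b ≠ 0
  · left
    obtain ⟨b, hb, hbb⟩ := hnorm
    have hb0 : b ≠ 0 := fun e => hbb (by simp [e])
    have hob := norm_orbit hh hq h2 hbb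
    rw [mul_comm] at hob
    have hMq : q ≤ M := hcover (horb b hb hb0) q hob
    by_cases hAc : Nat.card A = q ^ 2
    swap
    · exact half hAc hMq
    by_cases hsec : ∃ b' ∈ A, h b' b' ≠ 0 ∧ h b' b' ≠ h b b
    · obtain ⟨b', hb', hbb', hne⟩ := hsec
      have h3 := norm_orbit hh hq h2 hbb'
      refine huge ((show q + 2 ≤ q + q by omega).trans (hcover (C := orbV h b ∪ orbV h b')
        (fun z hz => hz.elim (horb b hb hb0 z) (horb b' hb' (fun e => hbb' (by simp [e])) z)) _ ?_))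
      rw [Set.ncard_union_eq (hdisj (Ne.symm hne)) (Set.toFinite _) (Set.toFinite _), add_mul]
      rw [mul_comm] at h3
      omega
    push Not at hsec
    by_cases hiso : ∃ a ∈ A, a ≠ 0 ∧ h a a = 0
    swap
    · push Not at hiso
      exact (one_norm_false hh hq h2 hL hA hAc hbb fun a ha ha0 => hsec a ha (hiso a ha ha0)).elim
    obtain ⟨a, ha, ha0, haa⟩ := hiso
    have hoa := iso_orbit hh hq h2 haa ha0
    by_cases hL0 : L = ⊥
    swap
    · refine big hL0 (hcover (C := orbV h b ∪ orbV h a)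
        (fun z hz => hz.elim (horb b hb hb0 z) (horb a ha ha0 z)) _ ?_)
      rw [Set.ncard_union_eq (hdisj (by rw [haa]; exact hbb)) (Set.toFinite _) (Set.toFinite _),
        add_mul, one_mul]
      omega
    obtain ⟨l, hl, el⟩ := hA a ha b hb
    rw [hL0, AddSubgroup.mem_bot] at hl
    subst hl
    have hr : h b a = h a b := by
      rw [AddSubgroup.coe_zero] at el
      linear_combination el
    by_cases hc2 : (2 : F) = 0
    · obtain ⟨C, hC, hCn⟩ := iso_images_two hh hq h2 hc2 ha haa ha0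
      refine huge ((show q + 2 ≤ q + (q + 1) by omega).trans (hcover (C := orbV h b ∪ C)
        (fun z hz => hz.elim (horb b hb hb0 z) fun hz => ⟨(hC z hz).1, (hC z hz).2.2⟩) _ ?_))
      rw [Set.ncard_union_eq ?_ (Set.toFinite _) (Set.toFinite _), add_mul, hCn]
      · omega
      · exact Set.disjoint_left.2 fun z hz hz' => hbb ((orbV_form hz).symm.trans (hC z hz').2.1)
    · exfalso
      have hab : h a b ≠ 0 := fun e => by
        obtain ⟨k, hk⟩ := perp_mem_line hh hq h2 haa ha0 e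
        exact hbb (by simp [hk, haa])
      have hp : h (b + a) (b + a) = h b b + 2 * h a b := by
        simp only [map_add, LinearMap.add_apply, haa, hr]; ring
      have hm : h (b - a) (b - a) = h b b - 2 * h a b := by
        simp only [map_sub, LinearMap.sub_apply, haa, hr]; ring
      have hab2 : (2 : F) * h a b ≠ 0 := mul_ne_zero hc2 hab
      have e1 : h (b + a) (b + a) = 0 := by
        by_contra e
        exact hab2 (by linear_combination (hsec _ (add_mem hb ha) e) - hp)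
      have e2 : h (b - a) (b - a) = 0 := by
        by_contra e
        exact hab2 (by linear_combination -(hsec _ (sub_mem hb ha) e) + hm)
      exact mul_ne_zero hc2 hbb (by linear_combination e1 + e2 - hp - hm)
  push Not at hnorm
  have hskew : ∀ x ∈ A, ∀ y ∈ A, h x y + σ (h x y) = 0 := by
    intro x hx y hy
    have e := hnorm _ (add_mem hx hy)
    simp only [map_add, LinearMap.add_apply, hnorm x hx, hnorm y hy] at e
    rw [← hh.swap x y]
    linear_combination e
  have hMq1 : q + 1 ≤ M := by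
    by_cases hz : ∀ x ∈ A, ∀ y ∈ A, h x y = 0
    · exact line_imgsTwo hh hq h2 (hnorm a₀ ha₀) ha₀0
        (fun y hy => perp_mem_line hh hq h2 (hnorm a₀ ha₀) ha₀0 (hz a₀ ha₀ y hy)) hA0
    push Not at hz
    obtain ⟨a, ha, b, hb, hab⟩ := hz
    by_cases hc2 : (2 : F) = 0
    · have ha0 : a ≠ 0 := fun e => hab (by simp [e])
      obtain ⟨C, hC, hCn⟩ := iso_images_two hh hq h2 hc2 ha (hnorm a ha) ha0
      exact hcover (fun z hz => ⟨(hC z hz).1, (hC z hz).2.2⟩) _ hCn.ge
    · have hsmall := real_plane_small hh hq h2 hc2 hL hA hskew ha hb hab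
      have h1 := imgsTwo_cover A _ (fun z hz => (horb a₀ ha₀ ha₀0 z hz).1)
        (fun z hz => (horb a₀ ha₀ ha₀0 z hz).2)
      have h3 : (q + 1) * (q - 1) ≤ M * (q - 1) := by
        rw [← Nat.sq_sub_sq, one_pow]
        exact ((iso_orbit hh hq h2 (hnorm a₀ ha₀) ha₀0).trans h1).trans
          (Nat.mul_le_mul_left _ (by omega))
      exact Nat.le_of_mul_le_mul_right h3 (by omega)
  by_cases hL0 : L = ⊥
  swap
  · exact Or.inl (big hL0 hMq1)
  by_cases hAc : Nat.card A = q ^ 2
  · exact Or.inr ⟨hL0, hAc, hnorm, hMq1⟩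
  · exact Or.inl (half hAc (by omega))

end Cfsg.Agent.MinDeg.Unitary
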