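import Cfsg.Agent.Lib.MinDeg.UnitBound
import Cfsg.Agent.Lib.MinDeg.UnitPlane

/-!
Small actions of the four-dimensional unitary group: classes of moved points.
-/

set_option autoImplicit false
set_option linter.unusedSectionVars false

namespace Cfsg.Agent.MinDeg.Unitary

open Cfsg.Agent.ClassicalSimple Cfsg.Agent.MinDegree

variable {F V : Type*} [Field F] [Finite F] [AddCommGroup V] [Module F V] [FiniteDimensional F V]
  {σ : F →+* F} {h : V →ₛₗ[σ] V →ₗ[F] F} {Ω : Type*}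

/-- A small non-trivial transitive action in dimension four. -/
structure HypF (hh : IsUnitaryForm σ h) (q : ℕ) (ρ : SUH h →* Equiv.Perm Ω) : Prop where
  hq : Nat.card F = q ^ 2
  dim : Module.finrank F V = 4
  trans : ∀ a b : Ω, ∃ g, ρ g a = b
  nontriv : Nontrivial Ω
  fin : Finite Ω
  small : Nat.card Ω < (q + 1) * (q ^ 3 + 1)

variable (hh : IsUnitaryForm σ h)
include hh

variable {v v' : V} (P : Pair h v v') {q : ℕ} {ρ : SUH h →* Equiv.Perm Ω}

/-- The Levi translates of the radical orbit of a point. -/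
def clsR (P : Pair h v v') (ρ : SUH h →* Equiv.Perm Ω) (ω : Ω) : Set Ω :=
  {z | ∃ (p : Fˣ × UH (hW h v v')) (b : SUH h), (b : UH h) = blk hh P p ∧
    z ∈ orbR hh P ρ (ρ b ω)}

include P in
theorem invs_clsR {ω z : Ω} (hz : z ∈ clsR hh P ρ ω) :
    ∃ p : Fˣ × UH (hW h v v'), Lsub hh P ρ z = scaleL hh (p.1 : F) (Lsub hh P ρ ω) ∧
      Asub hh P ρ z = (Asub hh P ρ ω).map (scW p) := by
  obtain ⟨p, b, hb, hz⟩ := hz
  obtain ⟨a1, a2⟩ := invs_orbR hh P ρ hz
  obtain ⟨b1, b2⟩ := invs_blk hh P ρ p b hb ω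
  exact ⟨p, a1.trans b1, a2.trans b2⟩

include P in
/-- Two classes are equal or disjoint. -/
theorem clsR_disjoint {ω x : Ω} (hx : x ∉ clsR hh P ρ ω) :
    Disjoint (clsR hh P ρ ω) (clsR hh P ρ x) := by
  rw [Set.disjoint_left]
  rintro z ⟨p, b, hb, r, hr⟩ ⟨p', b', hb', r', hr'⟩
  have hr : ρ (Rad.toSU hh P r) (ρ b ω) = z := hr
  have hr' : ρ (Rad.toSU hh P r') (ρ b' x) = z := hr'
  have hbi : ((b'⁻¹ : SUH h) : UH h) = blk hh P p'⁻¹ := by rw [Subgroup.coe_inv, hb', map_inv]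
  obtain ⟨o, e⟩ := blk_conj hh P p'⁻¹ b'⁻¹ hbi (r'⁻¹ * r)
  refine hx ⟨p'⁻¹ * p, b'⁻¹ * b, ?_, ⟨_, _, o.tr⟩, ?_⟩
  · rw [map_mul, ← hb, ← hbi, Subgroup.coe_mul]
  · show ρ (Rad.toSU hh P _) (ρ (b'⁻¹ * b) ω) = x
    rw [Rad.toSU_apply, ← e, ← Equiv.Perm.mul_apply, ← map_mul,
      show b'⁻¹ * Rad.toSU hh P (r'⁻¹ * r) * b'⁻¹⁻¹ * (b'⁻¹ * b) =
        b'⁻¹ * (Rad.toSU hh P r')⁻¹ * (Rad.toSU hh P r * b) by rw [map_mul, map_inv]; group]
    simp only [map_mul, map_inv, Equiv.Perm.mul_apply]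
    rw [hr, ← hr']
    simp

namespace HypF

variable (H : HypF hh q ρ)
include H

theorem two_le : 2 ≤ q := two_le_q H.hq

include P in
theorem dimW : Module.finrank F (Wsp h v v') = 2 := by
  have := finrank_Wsp hh P
  have := H.dim
  omega

include P in
theorem orbit_card (ω : Ω) :
    (orbR hh P ρ ω).ncard * Nat.card (Asub hh P ρ ω) = (Lsub hh P ρ ω).index * q ^ 4 := by
  have h1 := ncard_orbR hh P ρ H.hq ω
  rw [H.dimW hh P] at h1
  have h2 := (Lsub hh P ρ ω).card_mul_index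
  rw [skew_card hh H.hq] at h2
  refine Nat.eq_of_mul_eq_mul_right (m := Nat.card (Lsub hh P ρ ω)) Nat.card_pos ?_
  rw [mul_assoc, h1, pow_succ]
  linear_combination (q ^ 4) * h2.symm

include P in
/-- The length of a class. -/
theorem cls_count (ω : Ω) :
    (Lset hh (Lsub hh P ρ ω)).ncard * (Lsub hh P ρ ω).index *
        (imgsTwo (hW h v v') (Asub hh P ρ ω)).ncard * q ^ 4 ≤
      (clsR hh P ρ ω).ncard * Nat.card (Asub hh P ρ ω) := by
  classical
  have := H.fin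
  have : Finite V := Module.finite_of_finite F
  have hhW := hW_isUnitary hh P
  obtain ⟨b0, hb0⟩ := exists_norm_one hhW H.hq (H.dimW hh P) (by omega)
  have hdil : ∀ a : Fˣ, ∃ g : UH (hW h v v'),
      LinearMap.det ((g : Wsp h v v' ≃ₗ[F] Wsp h v v') : Wsp h v v' →ₗ[F] Wsp h v v') =
        σ (a : F) / a := by
    intro a
    have hc : (σ (a : F) / a - 1) + σ (σ (a : F) / a - 1) +
        (σ (a : F) / a - 1) * σ (σ (a : F) / a - 1) * hW h v v' b0 b0 = 0 := by
      rw [hb0, map_sub, map_div₀, map_one, hh.invol]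
      have := a.ne_zero
      have : σ (a : F) ≠ 0 := (map_ne_zero σ).2 this
      field_simp
      ring
    exact ⟨uDil hhW b0 _ hc, by rw [uDil_det, hb0, mul_one, add_sub_cancel]⟩
  choose g0 hg0 using hdil
  have hscal : ∀ a : {a : F // σ a * a = 1}, ∃ S : UH (hW h v v'),
      (∀ w : Wsp h v v', S • w = σ a.1 • w) ∧
      LinearMap.det ((S : Wsp h v v' ≃ₗ[F] Wsp h v v') : Wsp h v v' →ₗ[F] Wsp h v v') =
        σ a.1 * σ a.1 := by
    intro a
    refine ⟨uMk hhW (σ a.1 • (LinearMap.id : Wsp h v v' →ₗ[F] Wsp h v v')) fun x y => ?_, fun w => rfl, ?_⟩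
    · simp only [LinearMap.smul_apply, LinearMap.id_apply, map_smulₛₗ, smul_eq_mul,
        RingHom.id_apply, hh.invol]
      linear_combination (hW h v v' x y) * a.2
    · change LinearMap.det (σ a.1 • (LinearMap.id : Wsp h v v' →ₗ[F] Wsp h v v')) = _
      rw [LinearMap.det_smul, LinearMap.det_id, mul_one, H.dimW hh P, sq]
  choose S hS hSdet using hscal
  choose ra hra using fun L' : Lset hh (Lsub hh P ρ ω) => L'.2
  choose ga hga using fun T : imgsTwo (hW h v v') (Asub hh P ρ ω) => T.2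
  have hne : ∀ a : {a : F // σ a * a = 1}, a.1 ≠ 0 := fun a e => by simpa [e] using a.2
  let p : Lset hh (Lsub hh P ρ ω) × imgsTwo (hW h v v') (Asub hh P ρ ω) →
      Fˣ × UH (hW h v v') := fun t => (ra t.1 * Units.mk0 _ (hne (ga t.2).1),
        g0 (ra t.1) * (S (ga t.2).1 * ((ga t.2).2 : UH (hW h v v'))))
  have hdet : ∀ t, blk hh P (p t) ∈ SUH h := fun t => by
    rw [mem_SUH, blk_det]
    have e : LinearMap.det (((g0 (ra t.1) * (S (ga t.2).1 * ((ga t.2).2 : UH (hW h v v'))) :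
        UH (hW h v v')) : Wsp h v v' ≃ₗ[F] Wsp h v v') : Wsp h v v' →ₗ[F] Wsp h v v') =
        σ (ra t.1 : F) / ra t.1 * (σ (ga t.2).1.1 * σ (ga t.2).1.1) := by
      change LinearMap.det ((((g0 (ra t.1) : UH (hW h v v')) : Wsp h v v' ≃ₗ[F] Wsp h v v') :
        Wsp h v v' →ₗ[F] Wsp h v v').comp ((((S (ga t.2).1 : UH (hW h v v')) :
          Wsp h v v' ≃ₗ[F] Wsp h v v') : Wsp h v v' →ₗ[F] Wsp h v v').comp
          ((((ga t.2).2 : UH (hW h v v')) :
          Wsp h v v' ≃ₗ[F] Wsp h v v') : Wsp h v v' →ₗ[F] Wsp h v v'))) = _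
      rw [LinearMap.det_comp, LinearMap.det_comp, hg0, hSdet, mem_SUH.1 (ga t.2).2.2, mul_one]
    show ((ra t.1 : F) * (ga t.2).1.1) * (σ ((ra t.1 : F) * (ga t.2).1.1))⁻¹ * _ = 1
    rw [e, map_mul]
    have := (ra t.1).ne_zero
    have : σ (ra t.1 : F) ≠ 0 := (map_ne_zero σ).2 this
    have := hne (ga t.2).1
    have : σ (ga t.2).1.1 ≠ 0 := (map_ne_zero σ).2 this
    field_simp
    linear_combination (ga t.2).1.2
  let y : Lset hh (Lsub hh P ρ ω) × imgsTwo (hW h v v') (Asub hh P ρ ω) → Ω := fun t =>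
    ρ ⟨_, hdet t⟩ ω
  have hNL : ∀ (a : {a : F // σ a * a = 1}) (r : Fˣ), scaleL hh ((r * Units.mk0 _ (hne a) : Fˣ) : F)
      (Lsub hh P ρ ω) = scaleL hh (r : F) (Lsub hh P ρ ω) := by
    intro a r
    refine AddSubgroup.ext fun c => ?_
    rw [mem_scaleL hh (Units.ne_zero _), mem_scaleL hh (Units.ne_zero _)]
    refine exists_congr fun l => and_congr_right fun _ => ?_
    rw [Units.val_mul, Units.val_mk0, map_mul,
      show σ (r : F) * σ a.1 * ((r : F) * a.1) = σ (r : F) * r * (σ a.1 * a.1) by ring, a.2, mul_one]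
  have hy : ∀ t, Lsub hh P ρ (y t) = t.1.1 ∧
      Asub hh P ρ (y t) = (t.2.1).map (scW (ra t.1, g0 (ra t.1))) := by
    intro t
    obtain ⟨h1, h2⟩ := invs_blk hh P ρ (p t) ⟨_, hdet t⟩ rfl ω
    refine ⟨h1.trans ((hNL _ _).trans (hra t.1)), h2.trans ?_⟩
    conv_rhs => rw [← hga t.2]
    show _ = ((Asub hh P ρ ω).map (gTwo (ga t.2))).map _
    rw [AddSubgroup.map_map]
    refine congrArg (fun f => AddSubgroup.map f _) (AddMonoidHom.ext fun w => ?_)
    show σ ((ra t.1 : F) * (ga t.2).1.1) •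
        ((g0 (ra t.1) * (S (ga t.2).1 * ((ga t.2).2 : UH (hW h v v')))) • w) =
      σ (ra t.1 : F) • (g0 (ra t.1) •
        ((σ (ga t.2).1.1 * σ (ga t.2).1.1) • ((ga t.2).2 • w)))
    rw [mul_smul, mul_smul, hS, smul_comm (g0 (ra t.1)) (σ (ga t.2).1.1),
      smul_comm (g0 (ra t.1)) (σ (ga t.2).1.1 * σ (ga t.2).1.1), map_mul]
    simp only [mul_smul]
    rfl
  have hinv : ∀ t t', Lsub hh P ρ (y t) = Lsub hh P ρ (y t') →
      Asub hh P ρ (y t) = Asub hh P ρ (y t') → t = t' := by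
    intro t t' e1 e2
    rw [(hy t).1, (hy t').1] at e1
    have e1' : t.1 = t'.1 := Subtype.ext e1
    rw [(hy t).2, (hy t').2, e1'] at e2
    exact Prod.ext e1' (Subtype.ext (AddSubgroup.map_injective (scW_injective hh _) e2))
  have hlen : ∀ t, (orbR hh P ρ (y t)).ncard = (orbR hh P ρ ω).ncard := by
    intro t
    obtain ⟨h1', h2'⟩ := invs_blk hh P ρ (p t) ⟨_, hdet t⟩ rfl ω
    have h1 := H.orbit_card hh P (y t)
    have h2 := H.orbit_card hh P ω
    have eA : Nat.card (Asub hh P ρ (y t)) = Nat.card (Asub hh P ρ ω) := by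
      rw [h2']
      exact (Nat.card_congr (AddSubgroup.equivMapOfInjective _ _ (scW_injective hh _)).toEquiv).symm
    have eL : (Lsub hh P ρ (y t)).index = (Lsub hh P ρ ω).index := by
      have e : Nat.card (Lsub hh P ρ (y t)) = Nat.card (Lsub hh P ρ ω) := by
        rw [h1']
        refine (Nat.card_congr (AddSubgroup.equivMapOfInjective _ _ fun a b e =>
          Subtype.ext ?_).toEquiv).symm
        exact mul_right_cancel₀ (mul_ne_zero ((map_ne_zero σ).2 (Units.ne_zero _)) (Units.ne_zero _))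
          (congrArg Subtype.val e :)
      have h3 := (Lsub hh P ρ (y t)).card_mul_index
      rw [e, ← (Lsub hh P ρ ω).card_mul_index] at h3
      exact Nat.eq_of_mul_eq_mul_left Nat.card_pos h3
    rw [eA, eL, ← h2] at h1
    exact Nat.eq_of_mul_eq_mul_right Nat.card_pos h1
  have hsub : (Lset hh (Lsub hh P ρ ω)).ncard * (imgsTwo (hW h v v') (Asub hh P ρ ω)).ncard *
      (orbR hh P ρ ω).ncard ≤ (clsR hh P ρ ω).ncard := by
    have : Finite (AddSubgroup (Wsp h v v')) := finite_addSubgroup (hW h v v')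
    have : Finite (AddSubgroup (skewAdd σ)) :=
      Finite.of_injective (fun K : AddSubgroup (skewAdd σ) => (K : Set (skewAdd σ)))
        SetLike.coe_injective
    have := Fintype.ofFinite (Lset hh (Lsub hh P ρ ω) × imgsTwo (hW h v v') (Asub hh P ρ ω))
    rw [← Nat.card_coe_set_eq (Lset hh (Lsub hh P ρ ω)),
      ← Nat.card_coe_set_eq (imgsTwo (hW h v v') (Asub hh P ρ ω)), ← Nat.card_prod,
      ← Nat.card_coe_set_eq (orbR hh P ρ ω), ← Nat.card_prod,
      ← Nat.card_coe_set_eq (clsR hh P ρ ω)]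
    have hcard : ∀ t, Nat.card (orbR hh P ρ (y t)) = Nat.card (orbR hh P ρ ω) := fun t => by
      rw [Nat.card_coe_set_eq, Nat.card_coe_set_eq, hlen t]
    refine le_trans (le_of_eq ?_) (Nat.card_le_card_of_injective
      (fun z : Σ t, orbR hh P ρ (y t) =>
        (⟨(z.2 : Ω), p z.1, ⟨_, hdet z.1⟩, rfl, z.2.2⟩ : clsR hh P ρ ω)) ?_)
    · rw [Nat.card_sigma, Finset.sum_congr rfl (fun t _ => hcard t), Finset.sum_const,
        Finset.card_univ, smul_eq_mul, ← Nat.card_eq_fintype_card, ← Nat.card_prod]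
    · rintro ⟨t, x⟩ ⟨t', x'⟩ e
      have e : (x : Ω) = (x' : Ω) := congrArg Subtype.val e
      obtain ⟨a1, a2⟩ := invs_orbR hh P ρ x.2
      obtain ⟨b1, b2⟩ := invs_orbR hh P ρ x'.2
      rw [← e] at b1 b2
      obtain rfl := hinv t t' (a1.symm.trans b1) (a2.symm.trans b2)
      rw [Subtype.ext e]
  refine le_trans (le_of_eq ?_) (Nat.mul_le_mul_right _ hsub)
  conv_rhs => rw [mul_assoc, H.orbit_card hh P ω]
  ring

include P in
theorem cls_le (ω : Ω) : (clsR hh P ρ ω).ncard ≤ Nat.card Ω := by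
  have := H.fin
  rw [← Set.ncard_univ]
  exact Set.ncard_le_ncard (Set.subset_univ _) (Set.toFinite _)

include P in
/-- The invariants of a moved point, and the length of its class. -/
theorem moved_type {ω : Ω} (hL : Lsub hh P ρ ω ≠ ⊤) :
    (Lsub hh P ρ ω = ⊥ ∧ Nat.card (Asub hh P ρ ω) = q ^ 2 ∧
      ∀ a ∈ Asub hh P ρ ω, hW h v v' a a = 0) ∧
      q ^ 4 + q ^ 3 ≤ (clsR hh P ρ ω).ncard := by
  have : Finite V := Module.finite_of_finite F
  obtain ⟨hw1, hw2⟩ := Lset_weight hh H.hq hL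
  have hcc := H.cls_count hh P ω
  set A := Asub hh P ρ ω
  set L := Lsub hh P ρ ω
  set M := (imgsTwo (hW h v v') A).ncard
  set n := (clsR hh P ρ ω).ncard
  have hA1 : 0 < Nat.card A := Nat.card_pos
  rcases plane_ineq (hW_isUnitary hh P) H.hq (H.dimW hh P) hL
    (fun w hw w' hw' => comm_mem hh P ρ hw hw') hw1 hw2 with hi | ⟨h1, h2, h3, h4⟩
  · refine absurd H.small (not_lt.2 (le_trans ?_ (H.cls_le hh P ω)))
    exact Nat.le_of_mul_le_mul_right (hi.trans hcc) hA1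
  · refine ⟨⟨h1, h2, h3⟩, Nat.le_of_mul_le_mul_right (le_trans ?_ hcc) hA1⟩
    rw [h2]
    calc (q ^ 4 + q ^ 3) * q ^ 2 = q * (q + 1) * q ^ 4 := by ring
      _ ≤ _ := Nat.mul_le_mul_right _ (Nat.mul_le_mul hw1 h4)

include P in
theorem exists_moved : ∃ ω, Lsub hh P ρ ω ≠ ⊤ := by
  have hdim := H.dim
  by_contra hall
  push Not at hall
  obtain ⟨θ, hθ0, hθ⟩ := hh.exists_skew
  have hmem : rt hh v 0 θ ∈ ρ.ker := MonoidHom.mem_ker.2 (Equiv.ext fun ω =>
    (rt_fixed_Lsub hh P ρ (c := ⟨θ, hθ⟩)).1 (by rw [hall ω]; trivial))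
  have h3 : 3 ≤ Module.finrank F V := by omega
  rcases SUH_normal_eq_top_or_le_center hh h3 (SUH_perfect hh h3 (Or.inl (by omega))) ρ.ker
    with hK | hK
  · obtain ⟨ω₁, ω₂, hne⟩ := H.nontriv
    obtain ⟨g, hg⟩ := H.trans ω₁ ω₂
    have : ρ g = 1 := MonoidHom.mem_ker.1 (by rw [hK]; trivial)
    exact hne (by rw [← hg, this]; rfl)
  · obtain ⟨b, -, hb⟩ := (SUH_mem_center_iff hh h3 _).1 (hK hmem)
    have o := ok_skew hh P.left ⟨θ, hθ⟩
    have e1 := hb v
    rw [rt_smul_v hh o] at e1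
    have hb1 : b = 1 := (smul_left_injective F P.ne_zero ((one_smul F v).trans e1)).symm
    have e2 := hb v'
    rw [rt_smul hh o, hb1, one_smul, P.one] at e2
    simp [hθ0, P.ne_zero] at e2

include P in
/-- One class of moved points. -/
theorem moved_unique {ω x : Ω} (hω : Lsub hh P ρ ω ≠ ⊤) (hx : Lsub hh P ρ x ≠ ⊤) :
    x ∈ clsR hh P ρ ω := by
  have := H.fin
  by_contra hxo
  have h1 := Set.ncard_union_eq (clsR_disjoint hh P hxo) (Set.toFinite _) (Set.toFinite _)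
  have h2 : (clsR hh P ρ ω ∪ clsR hh P ρ x).ncard ≤ Nat.card Ω := by
    rw [← Set.ncard_univ]
    exact Set.ncard_le_ncard (Set.subset_univ _) (Set.toFinite _)
  have h3 := (H.moved_type hh P hω).2
  have h4 := (H.moved_type hh P hx).2
  have hsmall := H.small
  have hq2 := H.two_le hh
  have : q + 1 ≤ q ^ 4 := le_trans (show q + 1 ≤ q * q by nlinarith)
    (by rw [← sq]; exact Nat.pow_le_pow_right (by omega) (by omega))
  rw [show (q + 1) * (q ^ 3 + 1) = q ^ 4 + q ^ 3 + q + 1 by ring] at hsmall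
  omega

include P in
/-- A fixed point of the transvections is fixed by the radical. -/
theorem fixed_radical {y : Ω} (hy : Lsub hh P ρ y = ⊤) : Asub hh P ρ y = ⊤ := by
  classical
  have := H.fin
  have : Finite V := Module.finite_of_finite F
  have hWu := hW_isUnitary hh P
  have hW2 := H.dimW hh P
  by_contra hA
  set A := Asub hh P ρ y
  obtain ⟨χ, hχ⟩ : ∃ χ : AddChar F ℂ, χ ≠ 1 := by
    obtain ⟨χ, hχ⟩ := AddChar.exists_apply_ne_zero.2 (one_ne_zero : (1 : F) ≠ 0)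
    exact ⟨χ, AddChar.ne_one_iff.2 ⟨1, hχ⟩⟩
  set B := annC (hW h v v') χ A
  have hWc : Nat.card (Wsp h v v') = q ^ 4 := by rw [card_V hWu H.hq, hW2]
  have hBA : Nat.card B * Nat.card A = q ^ 4 := (card_annC hWu hχ A).trans hWc
  have horb : (orbR hh P ρ y).ncard = Nat.card B := by
    have h1 := H.orbit_card hh P y
    rw [hy, AddSubgroup.index_top, one_mul, ← hBA] at h1
    exact Nat.eq_of_mul_eq_mul_right Nat.card_pos h1
  obtain ⟨b, hb, hb0⟩ : ∃ b ∈ B, b ≠ 0 := by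
    by_contra hc
    push Not at hc
    have e : B = ⊥ := (AddSubgroup.eq_bot_iff_forall B).2 hc
    rw [e, AddSubgroup.card_bot, one_mul] at hBA
    exact hA (AddSubgroup.eq_top_of_card_eq A (hBA.trans hWc.symm))
  have hC : q ^ 2 - 1 ≤ (orbV (hW h v v') b).ncard := by
    by_cases hbb : hW h v v' b b = 0
    · exact iso_orbit hWu H.hq hW2 hbb hb0
    · exact le_trans (Nat.le_mul_of_pos_right _ (by have := H.two_le hh; omega))
        (norm_orbit hWu H.hq hW2 hbb)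
  have hinc : (orbV (hW h v v') b).ncard * 1 ≤
      (imgs (hW h v v') B).ncard * ((B : Set (Wsp h v v')) ∩ orbV (hW h v v') b).ncard :=
    imgs_mem_incidence B (orbV (hW h v v') b)
      (by rintro g x ⟨k, rfl⟩; exact ⟨g * k, mul_smul g k b⟩)
      (by rintro x ⟨k, rfl⟩ z ⟨l, rfl⟩; exact ⟨l * k⁻¹, by rw [mul_smul, inv_smul_smul]⟩)
      (y := b) ⟨1, one_smul _ b⟩ {B} (Set.singleton_subset_iff.2 (self_mem_imgs B))
      (fun T hT => Set.mem_singleton_iff.1 hT ▸ hb) (Set.ncard_singleton B).ge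
  have hB1 := ncard_inter_le B (orbV (hW h v v') b) fun z hz => orbV_ne_zero hb0 hz
  have hMB : q ^ 2 ≤ (imgs (hW h v v') B).ncard * Nat.card B := by
    have h1 := Nat.mul_le_mul_left (imgs (hW h v v') B).ncard hB1
    rw [mul_add, mul_one] at h1
    have := imgs_pos (h := hW h v v') B
    omega
  -- translates of the orbit
  have hlow : (imgs (hW h v v') A).ncard * (orbR hh P ρ y).ncard ≤
      {z | Lsub hh P ρ z = ⊤}.ncard := by
    have := finite_addSubgroup (hW h v v')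
    choose g hg using fun T : imgs (hW h v v') A => T.2
    let z : imgs (hW h v v') A → Ω := fun T => ρ (blkW hh P (g T)) y
    have hz : ∀ T, Lsub hh P ρ (z T) = ⊤ ∧ Asub hh P ρ (z T) = T.1 := fun T =>
      ⟨(invs_blkW hh P ρ (g T) y).1.trans hy, (invs_blkW hh P ρ (g T) y).2.trans (hg T)⟩
    have hlen : ∀ T, (orbR hh P ρ (z T)).ncard = (orbR hh P ρ y).ncard := by
      intro T
      have h1 := H.orbit_card hh P (z T)
      have h2 := H.orbit_card hh P y
      have eA : Nat.card (Asub hh P ρ (z T)) = Nat.card A := by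
        rw [(invs_blkW hh P ρ (g T) y).2]
        exact (Nat.card_congr (A.equivMapOfInjective (gHom (g T))
          (fun a b e => MulAction.injective (g T) e)).toEquiv).symm
      rw [eA, (hz T).1, ← hy, ← h2] at h1
      exact Nat.eq_of_mul_eq_mul_right Nat.card_pos h1
    have := Fintype.ofFinite (imgs (hW h v v') A)
    rw [← Nat.card_coe_set_eq (imgs (hW h v v') A), ← Nat.card_coe_set_eq (orbR hh P ρ y),
      ← Nat.card_prod, ← Nat.card_coe_set_eq {z | Lsub hh P ρ z = ⊤}]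
    have hcard : ∀ T, Nat.card (orbR hh P ρ (z T)) = Nat.card (orbR hh P ρ y) := fun T => by
      rw [Nat.card_coe_set_eq, Nat.card_coe_set_eq, hlen T]
    let f : (Σ T, orbR hh P ρ (z T)) → {u | Lsub hh P ρ u = ⊤} := fun p =>
      ⟨(p.2 : Ω), show Lsub hh P ρ (p.2 : Ω) = ⊤ by rw [(invs_orbR hh P ρ p.2.2).1, (hz p.1).1]⟩
    refine le_trans (le_of_eq ?_) (Nat.card_le_card_of_injective f ?_)
    · rw [Nat.card_sigma, Finset.sum_congr rfl (fun T _ => hcard T), Finset.sum_const,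
        Finset.card_univ, smul_eq_mul, ← Nat.card_eq_fintype_card, ← Nat.card_prod]
    · rintro ⟨T, x⟩ ⟨T', x'⟩ e
      have e : (x : Ω) = (x' : Ω) := congrArg Subtype.val e
      have a2 := (invs_orbR hh P ρ x.2).2
      have b2 := (invs_orbR hh P ρ x'.2).2
      rw [← e] at b2
      obtain rfl : T = T' := Subtype.ext (by rw [← (hz T).2, ← (hz T').2, ← a2, ← b2])
      rw [Subtype.ext e]
  rw [horb] at hlow
  have hFx : q ^ 2 ≤ {z | Lsub hh P ρ z = ⊤}.ncard :=
    hMB.trans ((Nat.mul_le_mul_right _ (imgs_annC_le hWu χ A)).trans hlow)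
  obtain ⟨ω, hω⟩ := H.exists_moved hh P
  have hN := (H.moved_type hh P hω).2
  have hdis : Disjoint {z | Lsub hh P ρ z = ⊤} (clsR hh P ρ ω) := by
    rw [Set.disjoint_left]
    intro z hz hz'
    obtain ⟨p, hp, -⟩ := invs_clsR hh P hz'
    have hz : Lsub hh P ρ z = ⊤ := hz
    refine hω ((AddSubgroup.eq_top_iff' _).2 fun c => ?_)
    have hc : (⟨(c : F) * (σ (p.1 : F) * (p.1 : F)),
        skew_mul_trace hh c (by rw [map_mul, hh.invol, mul_comm])⟩ : skewAdd σ) ∈
        scaleL hh (p.1 : F) (Lsub hh P ρ ω) := by rw [← hp, hz]; trivial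
    obtain ⟨l, hl, e⟩ := (mem_scaleL hh p.1.ne_zero).1 hc
    have : c = l := Subtype.ext (mul_right_cancel₀
      (mul_ne_zero ((map_ne_zero σ).2 p.1.ne_zero) p.1.ne_zero) e)
    exact this ▸ hl
  have h1 := Set.ncard_union_eq hdis (Set.toFinite _) (Set.toFinite _)
  have h2 : ({z | Lsub hh P ρ z = ⊤} ∪ clsR hh P ρ ω).ncard ≤ Nat.card Ω := by
    rw [← Set.ncard_univ]
    exact Set.ncard_le_ncard (Set.subset_univ _) (Set.toFinite _)
  have hsmall := H.small
  have hq2 := H.two_le hh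
  have : q + 1 ≤ q ^ 2 := by nlinarith
  rw [show (q + 1) * (q ^ 3 + 1) = q ^ 4 + q ^ 3 + q + 1 by ring] at hsmall
  omega

include P in
/-- All moved points are of one kind: isotropic lines or real planes. -/
theorem type_uniform {ω x : Ω} (hω : Lsub hh P ρ ω ≠ ⊤) (hx : Lsub hh P ρ x ≠ ⊤) :
    (∀ a ∈ Asub hh P ρ x, ∀ b ∈ Asub hh P ρ x, hW h v v' a b = 0) ↔
      ∀ a ∈ Asub hh P ρ ω, ∀ b ∈ Asub hh P ρ ω, hW h v v' a b = 0 := by
  obtain ⟨p, -, hp⟩ := invs_clsR hh P (H.moved_unique hh P hω hx)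
  have key : ∀ a b : Wsp h v v', hW h v v' (scW p a) (scW p b) =
      (p.1 : F) * σ (p.1 : F) * hW h v v' a b := by
    intro a b
    show hW h v v' (σ (p.1 : F) • (p.2 • a)) (σ (p.1 : F) • (p.2 • b)) = _
    simp only [map_smulₛₗ, LinearMap.smul_apply, smul_eq_mul, RingHom.id_apply, hh.invol]
    rw [show hW h v v' (p.2 • a) (p.2 • b) = hW h v v' a b from uh_smul_smul p.2 a b]
    ring
  rw [hp]
  constructor
  · intro hz a ha b hb
    have := hz _ ⟨a, ha, rfl⟩ _ ⟨b, hb, rfl⟩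
    rw [key] at this
    exact (mul_eq_zero.1 this).resolve_left
      (mul_ne_zero p.1.ne_zero ((map_ne_zero σ).2 p.1.ne_zero))
  · rintro hz _ ⟨a, ha, rfl⟩ _ ⟨b, hb, rfl⟩
    rw [key, hz a ha b hb, mul_zero]

end HypF

end Cfsg.Agent.MinDeg.Unitary
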