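import Cfsg.Agent.Lib.MinDeg.UnitBound
import Cfsg.Agent.Lib.ClassicalSimple.UnitaryMatrix

/-!
The minimal index of a proper subgroup of `PSU`.
-/

set_option autoImplicit false
set_option linter.unusedSectionVars false

namespace Cfsg.Agent.MinDeg.Unitary

open Cfsg.Agent.ClassicalSimple

section

variable {F V : Type*} [Field F] [Finite F] [AddCommGroup V] [Module F V] [FiniteDimensional F V]
  {σ : F →+* F} {h : V →ₛₗ[σ] V →ₗ[F] F}

/-- The stabiliser of the line of `v`. -/
def lineStab (h : V →ₛₗ[σ] V →ₗ[F] F) (v : V) : Subgroup (SUH h) where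
  carrier := {g | ∃ c : F, c ≠ 0 ∧ g • v = c • v}
  one_mem' := ⟨1, one_ne_zero, by rw [one_smul, one_smul]⟩
  mul_mem' := by
    rintro g k ⟨c, hc, e⟩ ⟨d, hd, e'⟩
    exact ⟨d * c, mul_ne_zero hd hc, by rw [mul_smul, e', smul_comm g, e, smul_smul]⟩
  inv_mem' := by
    rintro g ⟨c, hc, e⟩
    refine ⟨c⁻¹, inv_ne_zero hc, inv_smul_eq_iff.2 ?_⟩
    rw [smul_comm g, e, inv_smul_smul₀ hc]

variable (hh : IsUnitaryForm σ h)
include hh

/-- The index of a line stabiliser, from an orbit of vectors and the scalars which occur. -/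
theorem lineStab_index {v u : V} (huv : h u v = 1) (C : Set V) (hv : v ∈ C)
    (hinv : ∀ (g : SUH h), ∀ x ∈ C, g • x ∈ C)
    (htrans : ∀ x ∈ C, ∀ y ∈ C, ∃ g : SUH h, g • x = y) :
    (lineStab h v).index * {c : F | c • v ∈ C}.ncard = C.ncard := by
  classical
  have hv0 : v ≠ 0 := fun e => by simp [e] at huv
  let χ : lineStab h v →* Fˣ :=
    MonoidHom.toHomUnits
      { toFun := fun g => h u ((g : SUH h) • v)
        map_one' := by rw [OneMemClass.coe_one, one_smul]; exact huv
        map_mul' := fun g k => by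
          obtain ⟨c, -, hc⟩ := g.2
          obtain ⟨d, -, hd⟩ := k.2
          rw [Subgroup.coe_mul, mul_smul, hd, smul_comm (g : SUH h), hc, smul_smul]
          simp [huv, mul_comm] }
  have hχ : ∀ g : lineStab h v, (χ g : F) = h u ((g : SUH h) • v) := fun g => rfl
  have hχ' : ∀ g : lineStab h v, (g : SUH h) • v = (χ g : F) • v := fun g => by
    obtain ⟨c, -, hc⟩ := g.2
    rw [hχ, hc, map_smul, huv, smul_eq_mul, mul_one]
  have hker : χ.ker = (MulAction.stabilizer (SUH h) v).subgroupOf (lineStab h v) := by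
    ext g
    rw [MonoidHom.mem_ker, Subgroup.mem_subgroupOf, MulAction.mem_stabilizer_iff, hχ' g]
    constructor
    · intro e
      rw [e, Units.val_one, one_smul]
    · intro e
      exact Units.ext (smul_left_injective F hv0 (e.trans (one_smul F v).symm))
  have h1 : χ.ker.index = {c : F | c • v ∈ C}.ncard := by
    rw [Subgroup.index_ker, ← Nat.card_coe_set_eq {c : F | c • v ∈ C}]
    refine Nat.card_congr (Equiv.ofBijective (fun c => ⟨((c : Fˣ) : F), ?_⟩) ⟨?_, ?_⟩)
    · obtain ⟨g, hg⟩ := c.2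
      show ((c : Fˣ) : F) • v ∈ C
      rw [← hg, ← hχ' g]
      exact hinv _ _ hv
    · intro a b e
      exact Subtype.ext (Units.ext (congrArg Subtype.val e :))
    · rintro ⟨c, hc⟩
      have hc : c • v ∈ C := hc
      obtain ⟨g, hg⟩ := htrans v hv _ hc
      have hc0 : c ≠ 0 := fun e => hv0 ((smul_eq_zero_iff_eq g).1 (by rw [hg, e, zero_smul]))
      refine ⟨⟨Units.mk0 c hc0, ⟨g, c, hc0, hg⟩, Units.ext ?_⟩, rfl⟩
      show h u (g • v) = c
      rw [hg, map_smul, huv, smul_eq_mul, mul_one]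
  have hle : MulAction.stabilizer (SUH h) v ≤ lineStab h v := fun g hg =>
    ⟨1, one_ne_zero, by rw [one_smul]; exact hg⟩
  have h2 := Subgroup.relIndex_mul_index hle
  rw [Subgroup.relIndex, ← hker, h1, mul_comm] at h2
  rw [h2, MulAction.index_stabilizer]
  congr 1
  ext x
  exact ⟨fun ⟨g, e⟩ => e ▸ hinv g v hv, fun hx => htrans v hv x hx⟩

/-- A scalar element fixes every line. -/
theorem center_le_lineStab (h3 : 3 ≤ Module.finrank F V) (v : V) :
    Subgroup.center (SUH h) ≤ lineStab h v := fun g hg => by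
  obtain ⟨a, ha, e⟩ := (SUH_mem_center_iff hh h3 g).1 hg
  exact ⟨a, fun h0 => by simp [h0] at ha, e v⟩

theorem iso_point (h3 : 3 ≤ Module.finrank F V) {q : ℕ} (hq : Nat.card F = q ^ 2) :
    ∃ v : V, (lineStab h v).index * (q ^ 2 - 1) = (isoV h).ncard := by
  obtain ⟨v, v', P⟩ := exists_pair hh (by omega)
  have hv : v ∈ isoV h := ⟨P.ne_zero, P.left⟩
  refine ⟨v, ?_⟩
  have e : {c : F | c • v ∈ isoV h} = {0}ᶜ := by
    ext c
    simp [isoV, P.ne_zero, P.left]
  have := lineStab_index hh (u := v') (one_swap hh P) (isoV h) hv (fun g x hx => smul_iso g hx)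
    fun x hx y hy => trans_iso hh h3 hx hy
  rwa [e, Set.ncard_compl, Set.ncard_singleton, hq] at this

theorem norm_point (h3 : 3 ≤ Module.finrank F V) {q : ℕ} (hq : Nat.card F = q ^ 2) :
    ∃ v : V, (lineStab h v).index * (q + 1) = (normV h 1).ncard := by
  classical
  have := Fintype.ofFinite F
  obtain ⟨b, hb⟩ := exists_norm_one hh hq rfl (by omega)
  refine ⟨b, ?_⟩
  have := lineStab_index hh (u := b) hb (normV h 1) hb (fun g x hx => smul_norm g hx)
    fun x hx y hy => trans_norm hh h3 one_ne_zero hx hy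
  suffices e : {c : F | c • b ∈ normV h 1}.ncard = q + 1 by rwa [e] at this
  let N : Fˣ →* Fˣ := (Units.map σ.toMonoidHom) * MonoidHom.id _
  have hN : ∀ u : Fˣ, (N u : F) = σ (u : F) * (u : F) := fun u => rfl
  have hr : Nat.card N.range = q - 1 := by
    rw [← card_fixed hq hh]
    refine Nat.card_congr (Equiv.ofBijective
      (fun u => ⟨((u : Fˣ) : F), (u : Fˣ).ne_zero, ?_⟩) ⟨fun a b e =>
        Subtype.ext (Units.ext (congrArg Subtype.val e :)), ?_⟩)
    · obtain ⟨x, hx⟩ := u.2
      rw [← hx, hN, map_mul, hh.invol, mul_comm]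
    · rintro ⟨c, hc0, hc⟩
      obtain ⟨r, hr⟩ := hh.exists_norm_eq hc
      have hr0 : r ≠ 0 := fun e => hc0 (by rw [← hr, e, mul_zero])
      exact ⟨⟨Units.mk0 c hc0, Units.mk0 r hr0, Units.ext hr⟩, rfl⟩
  have hk : Nat.card N.ker = {c : F | c • b ∈ normV h 1}.ncard := by
    rw [← Nat.card_coe_set_eq]
    refine Nat.card_congr (Equiv.ofBijective
      (fun u => ⟨((u : Fˣ) : F), ?_⟩) ⟨fun a b e =>
        Subtype.ext (Units.ext (congrArg Subtype.val e :)), ?_⟩)
    · show h _ _ = (1 : F)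
      have e1 : σ ((u : Fˣ) : F) * ((u : Fˣ) : F) = 1 := by
        rw [← hN, MonoidHom.mem_ker.1 u.2, Units.val_one]
      simp [show h b b = 1 from hb, mul_comm ((u : Fˣ) : F), e1]
    · rintro ⟨c, hc⟩
      have hc' : σ c * c = 1 := by
        have : h (c • b) (c • b) = 1 := hc
        simpa [show h b b = 1 from hb, mul_comm c] using this
      have hc0 : c ≠ 0 := fun e => by simp [e] at hc'
      exact ⟨⟨Units.mk0 c hc0, Units.ext hc'⟩, rfl⟩
  have h1 := N.ker.index_mul_card
  rw [Subgroup.index_ker, hr, hk, Nat.card_units, hq] at h1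
  have hq2 := two_le_q hq
  refine Nat.eq_of_mul_eq_mul_left (show 0 < q - 1 by omega) (h1.trans ?_)
  rw [mul_comm, ← Nat.sq_sub_sq, one_pow]

/-- A proper subgroup has large index. -/
theorem index_bound {q n : ℕ} (hq : Nat.card F = q ^ 2) (hn : Module.finrank F V = n)
    (hn5 : 5 ≤ n) {H : Subgroup (SUH h)} (hH : H ≠ ⊤) :
    (isoV h).ncard ≤ H.index * (q ^ 2 - 1) ∨
      (q = 2 ∧ Even n ∧ (normV h 1).ncard ≤ 3 * H.index) := by
  classical
  have : Finite V := Module.finite_of_finite F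
  have : Finite (SUH h) :=
    Finite.of_injective (fun g : SUH h => fun x : V => g • x)
      fun a b e => Subtype.ext (UH.ext' fun x => congrFun e x)
  have : Nontrivial (SUH h ⧸ H) := by
    rw [← Finite.one_lt_card_iff_nontrivial]
    have h1 : H.index ≠ 1 := fun e => hH (Subgroup.index_eq_one.1 e)
    have h2 : H.index ≠ 0 := Subgroup.index_ne_zero_of_finite
    show 1 < H.index
    omega
  exact degree_bound hh hq hn hn5 (MulAction.toPermHom (SUH h) (SUH h ⧸ H))
    fun a b => MulAction.exists_smul_eq (SUH h) a b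

theorem iso_card_odd {q n : ℕ} (hq : Nat.card F = q ^ 2) (hn : Module.finrank F V = n)
    (hn1 : 1 ≤ n) (hodd : Odd n) :
    (isoV h).ncard = (q ^ n + 1) * (q ^ (n - 1) - 1) := by
  obtain ⟨m, rfl⟩ : ∃ m, n = m + 1 := ⟨n - 1, by omega⟩
  have h1 := card_iso hh hq hn
  rw [hodd.neg_one_pow] at h1
  rw [Nat.add_sub_cancel]
  zify [Nat.one_le_pow m q (by have := two_le_q hq; omega)]
  linear_combination h1

theorem iso_card_even {q n : ℕ} (hq : Nat.card F = q ^ 2) (hn : Module.finrank F V = n)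
    (hn1 : 1 ≤ n) (heven : Even n) :
    (isoV h).ncard = (q ^ n - 1) * (q ^ (n - 1) + 1) := by
  obtain ⟨m, rfl⟩ : ∃ m, n = m + 1 := ⟨n - 1, by omega⟩
  have h1 := card_iso hh hq hn
  rw [heven.neg_one_pow] at h1
  rw [Nat.add_sub_cancel]
  zify [Nat.one_le_pow (m + 1) q (by have := two_le_q hq; omega)]
  linear_combination h1

theorem norm_card_even {q n : ℕ} (hq : Nat.card F = q ^ 2) (hn : Module.finrank F V = n)
    (hn1 : 1 ≤ n) (heven : Even n) :
    (normV h 1).ncard = q ^ (n - 1) * (q ^ n - 1) := by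
  obtain ⟨m, rfl⟩ : ∃ m, n = m + 1 := ⟨n - 1, by omega⟩
  have h1 := card_norm hh hq hn one_ne_zero (map_one σ)
  rw [heven.neg_one_pow] at h1
  rw [Nat.add_sub_cancel]
  zify [Nat.one_le_pow (m + 1) q (by have := two_le_q hq; omega)]
  linear_combination h1

end

section

variable {F : Type*} [Field F] [Fintype F] {q : ℕ} (hF : Fintype.card F = q ^ 2) (n : ℕ)
include hF

/-- `SU` of the standard form mapped onto `PSU`. -/
noncomputable def toPSU : SUH (Forms.hermB hF n) →* Cfsg.PSU n F q :=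
  (QuotientGroup.mk' (Subgroup.center (Cfsg.SU n F q))).comp (suEquiv hF).symm.toMonoidHom

theorem toPSU_surjective : Function.Surjective (toPSU hF n) :=
  (QuotientGroup.mk'_surjective _).comp (suEquiv hF).symm.surjective

theorem toPSU_ker : (toPSU hF n).ker ≤ Subgroup.center (SUH (Forms.hermB hF n)) := by
  intro g hg
  have hg' : (suEquiv hF).symm g ∈ Subgroup.center (Cfsg.SU n F q) := by
    rw [← QuotientGroup.ker_mk' (Subgroup.center (Cfsg.SU n F q))]
    exact hg
  exact Subgroup.mem_center_iff.2 fun k => (suEquiv hF).symm.injective (by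
    rw [map_mul, map_mul]
    exact Subgroup.mem_center_iff.1 hg' ((suEquiv hF).symm k))

theorem psu_index (hn3 : 3 ≤ n) (v : Fin n → F) :
    ((lineStab (Forms.hermB hF n) v).map (toPSU hF n)).index =
      (lineStab (Forms.hermB hF n) v).index := by
  rw [Subgroup.index_map, sup_eq_left.2 ((toPSU_ker hF n).trans
      (center_le_lineStab (hermB_isUnitary hF) (by simpa using hn3) v)),
    MonoidHom.range_eq_top.2 (toPSU_surjective hF n), Subgroup.index_top, mul_one]

theorem psu_bound (hn5 : 5 ≤ n) {H : Subgroup (Cfsg.PSU n F q)} (hH : H ≠ ⊤) :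
    (isoV (Forms.hermB hF n)).ncard ≤ H.index * (q ^ 2 - 1) ∨
      (q = 2 ∧ Even n ∧ (normV (Forms.hermB hF n) 1).ncard ≤ 3 * H.index) := by
  have hf := toPSU_surjective hF n
  have h1 : H.comap (toPSU hF n) ≠ ⊤ := fun e => hH (by
    rw [← Subgroup.map_comap_eq_self_of_surjective hf H, e,
      Subgroup.map_top_of_surjective (toPSU hF n) hf])
  have h2 := index_bound (hermB_isUnitary hF) (q := q) (n := n)
    (by rw [Nat.card_eq_fintype_card, hF]) (by simp) hn5 h1
  rwa [Subgroup.index_comap_of_surjective H hf] at h2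

/-- The minimal index when the isotropic points are best. -/
theorem psu_min_index_iso (hn5 : 5 ≤ n) (hex : ¬(q = 2 ∧ Even n)) {N : ℕ}
    (hN : (isoV (Forms.hermB hF n)).ncard = N) :
    (∀ H : Subgroup (Cfsg.PSU n F q), H ≠ ⊤ → N / (q ^ 2 - 1) ≤ H.index) ∧
      ∃ H : Subgroup (Cfsg.PSU n F q), H.index = N / (q ^ 2 - 1) := by
  have hq : Nat.card F = q ^ 2 := by rw [Nat.card_eq_fintype_card, hF]
  refine ⟨fun H hH => ?_, ?_⟩
  · rcases psu_bound hF n hn5 hH with hb | ⟨h1, h2, -⟩
    · rw [hN] at hb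
      exact Nat.div_le_of_le_mul (hb.trans (mul_comm _ _).le)
    · exact absurd ⟨h1, h2⟩ hex
  · obtain ⟨v, hv⟩ := iso_point (hermB_isUnitary hF (n := n)) (by simp; omega) hq
    refine ⟨_, (psu_index hF n (by omega) v).trans ?_⟩
    have hq2 : 4 ≤ q ^ 2 := Nat.pow_le_pow_left (two_le_q hq) 2
    rw [← hN, ← hv, Nat.mul_div_cancel _ (by omega)]

end

section

variable {F : Type*} [Field F] [Fintype F] (hF : Fintype.card F = 2 ^ 2) (n : ℕ)
include hF

/-- The minimal index over the field of four elements in even dimension: the non-isotropic points. -/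
theorem psu_min_index_two (hn6 : 6 ≤ n) (heven : Even n) :
    (∀ H : Subgroup (Cfsg.PSU n F 2), H ≠ ⊤ → 2 ^ (n - 1) * (2 ^ n - 1) / 3 ≤ H.index) ∧
      ∃ H : Subgroup (Cfsg.PSU n F 2), H.index = 2 ^ (n - 1) * (2 ^ n - 1) / 3 := by
  have hq : Nat.card F = 2 ^ 2 := by rw [Nat.card_eq_fintype_card, hF]
  have hh := hermB_isUnitary hF (n := n)
  have hn : Module.finrank F (Fin n → F) = n := by simp
  have hN := norm_card_even hh hq hn (by omega) heven
  have hI := iso_card_even hh hq hn (by omega) heven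
  refine ⟨fun H hH => ?_, ?_⟩
  · have key : 2 ^ (n - 1) * (2 ^ n - 1) ≤ 3 * H.index := by
      rcases psu_bound hF n (by omega) hH with hb | ⟨-, -, hb⟩
      · rw [hI] at hb
        refine le_trans ?_ (hb.trans (mul_comm _ _).le)
        rw [mul_comm (2 ^ (n - 1)), mul_add, mul_one]
        exact Nat.le_add_right _ _
      · rwa [hN] at hb
    exact Nat.div_le_of_le_mul key
  · obtain ⟨v, hv⟩ := norm_point hh (by simp; omega) hq
    refine ⟨_, (psu_index hF n (by omega) v).trans ?_⟩
    rw [← hN, ← hv, Nat.mul_div_cancel _ (by omega)]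

end

end Cfsg.Agent.MinDeg.Unitary
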