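import Cfsg.Agent.Lib.MinDeg.UnitFour
import Cfsg.Agent.Lib.MinDeg.UnitMain

/-!
The totally isotropic lines of a four-dimensional hermitian space, and actions in which a point
is fixed by a whole radical.
-/

set_option autoImplicit false
set_option linter.unusedSectionVars false

namespace Cfsg.Agent.MinDeg.Unitary

open Cfsg.Agent.ClassicalSimple Cfsg.Agent.MinDegree
open scoped Pointwise

variable {F V : Type*} [Field F] [Finite F] [AddCommGroup V] [Module F V] [FiniteDimensional F V]
  {σ : F →+* F} {h : V →ₛₗ[σ] V →ₗ[F] F} {Ω : Type*}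

/-- An ordered basis of a totally isotropic line. -/
structure IsoPlane (h : V →ₛₗ[σ] V →ₗ[F] F) (a b : V) : Prop where
  fst_ne : a ≠ 0
  fst_iso : h a a = 0
  snd_iso : h b b = 0
  perp : h a b = 0
  indep : ∀ k : F, b ≠ k • a

theorem IsoPlane.linInd {a b : V} (hp : IsoPlane h a b) : LinearIndependent F ![a, b] := by
  rw [LinearIndependent.pair_iff' hp.fst_ne]
  exact fun k e => hp.indep k e.symm

theorem IsoPlane.finrank_span {a b : V} (hp : IsoPlane h a b) :
    Module.finrank F (Submodule.span F {a, b}) = 2 := by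
  rw [← Matrix.range_cons_cons_empty a b ![], finrank_span_eq_card hp.linInd, Fintype.card_fin]

theorem smul_span_SUH (g : SUH h) (s : Set V) :
    g • Submodule.span F s = Submodule.span F (g • s) := Submodule.smul_span g s

variable (hh : IsUnitaryForm σ h)
include hh

theorem IsoPlane.of_mem {a b : V} (hp : IsoPlane h a b) {x y : V}
    (hx : x ∈ Submodule.span F {a, b}) (hy : y ∈ Submodule.span F {a, b}) : h x y = 0 := by
  refine span_orth hh (fun u hu w hw => ?_) hx hy
  rcases hu with rfl | rfl <;> rcases hw with rfl | rfl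
  · exact hp.fst_iso
  · exact hp.perp
  · exact hh.comm_zero hp.perp
  · exact hp.snd_iso

variable {q : ℕ} (hq : Nat.card F = q ^ 2) (h4 : Module.finrank F V = 4)
include hq h4

/-- Second vectors of isotropic lines through a point. -/
theorem card_plane_snd {a : V} (ha0 : a ≠ 0) (ha : h a a = 0) :
    Nat.card {b : V // IsoPlane h a b} = q ^ 2 * ((q ^ 2 - 1) * (q + 1)) := by
  have : Finite V := Module.finite_of_finite F
  obtain ⟨a', ha', e⟩ := exists_isotropic_partner hh ha ha0
  have P : Pair h a a' := ⟨ha, ha', e⟩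
  have hW2 : Module.finrank F (Wsp h a a') = 2 := by
    have := finrank_Wsp hh P
    omega
  have hWu := hW_isUnitary hh P
  have hdecomp : ∀ b, h a b = 0 → b = h a' b • a + (prW hh P b : V) := fun b hb => by
    conv_lhs => rw [eq_pr hh P b, hb, zero_smul, add_zero]
  have e1 : {b : V // IsoPlane h a b} ≃ F × isoV (hW h a a') :=
    { toFun := fun b => (h a' b.1, ⟨prW hh P b.1, fun e0 => b.2.indep (h a' b.1) (by
          have := hdecomp _ b.2.perp
          rwa [e0, Submodule.coe_zero, add_zero] at this), by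
        have e2 := b.2.snd_iso
        rw [hdecomp _ b.2.perp] at e2
        obtain ⟨w1, -, w3, -⟩ := W_apply hh (prW hh P b.1)
        simpa [ha, w1, hh.comm_zero w1] using e2⟩)
      invFun := fun t => ⟨t.1 • a + (t.2.1 : V), by
        obtain ⟨w1, -, w3, -⟩ := W_apply hh t.2.1
        have hw : h (t.2.1 : V) (t.2.1 : V) = 0 := t.2.2.2
        refine ⟨ha0, ha, ?_, by simp [ha, w1], fun k ek => t.2.2.1 ?_⟩
        · simp [ha, w1, hh.comm_zero w1, hw]
        · have := congrArg (prW hh P) ek
          simpa [prW_v hh P, prW_coe hh P] using this⟩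
      left_inv := fun b => Subtype.ext (hdecomp _ b.2.perp).symm
      right_inv := fun t => by
        obtain ⟨-, w2, -, -⟩ := W_apply hh t.2.1
        refine Prod.ext ?_ (Subtype.ext ?_)
        · simp [one_swap hh P, w2]
        · show prW hh P (t.1 • a + (t.2.1 : V)) = t.2.1
          simp [prW_v hh P, prW_coe hh P] }
  rw [Nat.card_congr e1, Nat.card_prod, hq, Nat.card_coe_set_eq,
    iso_card_even hWu hq hW2 (by omega) even_two]
  norm_num

/-- The number of totally isotropic lines. -/
theorem line_index {a b : V} (hp : IsoPlane h a b) :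
    (MulAction.stabilizer (SUH h) (Submodule.span F {a, b})).index = (q + 1) * (q ^ 3 + 1) := by
  classical
  have : Finite V := Module.finite_of_finite F
  have : Finite (Submodule F V) :=
    Finite.of_injective (fun K : Submodule F V => (K : Set V)) SetLike.coe_injective
  have := Fintype.ofFinite (Submodule F V)
  set U₀ := Submodule.span F {a, b} with hU₀
  rw [MulAction.index_stabilizer]
  set O := MulAction.orbit (SUH h) U₀
  have hpair : ∀ {x y : V}, IsoPlane h x y → Submodule.span F {x, y} ∈ O := by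
    intro x y hxy
    obtain ⟨g, hg⟩ := trans_iso hh (by omega) (show a ∈ isoV h from ⟨hp.fst_ne, hp.fst_iso⟩)
      (show x ∈ isoV h from ⟨hxy.fst_ne, hxy.fst_iso⟩)
    have hxg : h x (g • b) = 0 := by
      rw [← hg]; exact (uh_smul_smul (g : UH h) a b).trans hp.perp
    have hi : LinearIndependent F ![x, g • b] := by
      rw [LinearIndependent.pair_iff' hxy.fst_ne]
      intro k e
      refine hp.indep k (MulAction.injective g ?_)
      show g • b = g • (k • a)
      rw [smul_comm g k, hg, e]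
    obtain ⟨g', c, hc, hgx, hgb⟩ := exists_point_map hh
      (show h (g • b) (g • b) = 0 from (uh_smul_smul (g : UH h) b b).trans hp.snd_iso) hxy.snd_iso hxg hxy.perp hi hxy.linInd
    refine ⟨g' * g, ?_⟩
    show (g' * g) • U₀ = _
    rw [hU₀, smul_span_SUH, Set.smul_set_insert, Set.smul_set_singleton, mul_smul, mul_smul,
      hg, hgx, hgb, Submodule.span_insert, Submodule.span_insert,
      Submodule.span_singleton_smul_eq (isUnit_iff_ne_zero.2 hc)]
  have hO : ∀ U ∈ O, Module.finrank F U = 2 ∧ ∀ x ∈ U, ∀ y ∈ U, h x y = 0 := by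
    rintro U ⟨g, rfl⟩
    have e : (g • U₀ : Submodule F V) = Submodule.span F {g • a, g • b} := by
      rw [hU₀, smul_span_SUH, Set.smul_set_insert, Set.smul_set_singleton]
    have hp' : IsoPlane h (g • a) (g • b) :=
      ⟨fun e0 => hp.fst_ne ((smul_eq_zero_iff_eq g).1 e0),
        (uh_smul_smul (g : UH h) a a).trans hp.fst_iso, (uh_smul_smul (g : UH h) b b).trans hp.snd_iso,
        (uh_smul_smul (g : UH h) a b).trans hp.perp, fun k ek => hp.indep k (MulAction.injective g (by
          show g • b = g • (k • a)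
          rw [ek, smul_comm g k]))⟩
    show Module.finrank F (g • U₀ : Submodule F V) = 2 ∧ _
    rw [e]
    exact ⟨hp'.finrank_span, fun x hx y hy => hp'.of_mem hh (e.le hx) (e.le hy)⟩
  -- pairs of independent vectors of a line
  have hfib : ∀ U ∈ O, Nat.card {p : V × V // IsoPlane h p.1 p.2 ∧ p.1 ∈ U ∧ p.2 ∈ U} =
      (q ^ 4 - 1) * (q ^ 4 - q ^ 2) := by
    intro U hU
    obtain ⟨hU2, hUiso⟩ := hO U hU
    have hUc : Nat.card U = q ^ 4 := by rw [card_submodule hh hq, hU2]
    have e : {p : V × V // IsoPlane h p.1 p.2 ∧ p.1 ∈ U ∧ p.2 ∈ U} ≃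
        Σ x : {x : U // x ≠ 0}, {y : U // ∀ k : F, y ≠ k • x.1} :=
      { toFun := fun p => ⟨⟨⟨p.1.1, p.2.2.1⟩, fun e0 => p.2.1.fst_ne (congrArg Subtype.val e0)⟩,
          ⟨⟨p.1.2, p.2.2.2⟩, fun k ek => p.2.1.indep k (congrArg Subtype.val ek)⟩⟩
        invFun := fun t => ⟨((t.1.1 : V), (t.2.1 : V)),
          ⟨fun e0 => t.1.2 (Subtype.ext e0), hUiso _ t.1.1.2 _ t.1.1.2, hUiso _ t.2.1.2 _ t.2.1.2,
            hUiso _ t.1.1.2 _ t.2.1.2, fun k ek => t.2.2 k (Subtype.ext ek)⟩, t.1.1.2, t.2.1.2⟩
        left_inv := fun p => rfl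
        right_inv := fun t => rfl }
    have := Fintype.ofFinite U
    have hy : ∀ x : {x : U // x ≠ 0}, Nat.card {y : U // ∀ k : F, y ≠ k • x.1} = q ^ 4 - q ^ 2 := by
      intro x
      have := Fintype.ofFinite F
      have e' : Finset.univ.filter (fun y : U => ∀ k : F, y ≠ k • x.1) =
          (Finset.univ.image fun k : F => k • x.1)ᶜ := by
        ext y
        simp [eq_comm]
      rw [Nat.card_eq_fintype_card, Fintype.card_subtype, e', Finset.card_compl,
        Finset.card_image_of_injective _ (smul_left_injective F x.2), Finset.card_univ,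
        ← Nat.card_eq_fintype_card, hUc, ← Nat.card_eq_fintype_card, hq]
    rw [Nat.card_congr e, Nat.card_sigma, Finset.sum_congr rfl (fun x _ => hy x), Finset.sum_const,
      Finset.card_univ, smul_eq_mul, Fintype.card_subtype_compl, Fintype.card_subtype_eq,
      ← Nat.card_eq_fintype_card, hUc]
  -- all pairs, counted in two ways
  have hall : Nat.card {p : V × V // IsoPlane h p.1 p.2} =
      O.ncard * ((q ^ 4 - 1) * (q ^ 4 - q ^ 2)) := by
    have := Fintype.ofFinite O
    let f : (Σ U : O, {p : V × V // IsoPlane h p.1 p.2 ∧ p.1 ∈ U.1 ∧ p.2 ∈ U.1}) →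
        {p : V × V // IsoPlane h p.1 p.2} := fun t => ⟨t.2.1, t.2.2.1⟩
    have hf : Function.Bijective f := by
      constructor
      · rintro ⟨⟨U, hU⟩, p, hp1, hp2, hp3⟩ ⟨⟨U', hU'⟩, p', hp1', hp2', hp3'⟩ e
        obtain rfl : p = p' := congrArg Subtype.val e
        have key : ∀ W ∈ O, p.1 ∈ W → p.2 ∈ W → Submodule.span F {p.1, p.2} = W :=
          fun W hW h1 h2 => Submodule.eq_of_le_of_finrank_eq
            (Submodule.span_le.2 (Set.insert_subset h1 (Set.singleton_subset_iff.2 h2)))
            (by rw [hp1.finrank_span, (hO W hW).1])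
        obtain rfl : U = U' := (key U hU hp2 hp3).symm.trans (key U' hU' hp2' hp3')
        rfl
      · rintro ⟨p, hp'⟩
        exact ⟨⟨⟨_, hpair hp'⟩, p, hp', Submodule.subset_span (by simp),
          Submodule.subset_span (by simp)⟩, rfl⟩
    rw [← Nat.card_congr (Equiv.ofBijective f hf), Nat.card_sigma,
      Finset.sum_congr rfl (fun U _ => hfib U.1 U.2), Finset.sum_const, Finset.card_univ,
      smul_eq_mul, ← Nat.card_eq_fintype_card, Nat.card_coe_set_eq]
  have hall' : Nat.card {p : V × V // IsoPlane h p.1 p.2} =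
      (isoV h).ncard * (q ^ 2 * ((q ^ 2 - 1) * (q + 1))) := by
    have e : {p : V × V // IsoPlane h p.1 p.2} ≃ Σ x : isoV h, {y : V // IsoPlane h x.1 y} :=
      { toFun := fun p => ⟨⟨p.1.1, p.2.fst_ne, p.2.fst_iso⟩, p.1.2, p.2⟩
        invFun := fun t => ⟨(t.1.1, t.2.1), t.2.2⟩
        left_inv := fun p => rfl
        right_inv := fun t => rfl }
    have := Fintype.ofFinite (isoV h)
    rw [Nat.card_congr e, Nat.card_sigma,
      Finset.sum_congr rfl (fun x _ => card_plane_snd hh hq h4 x.2.1 x.2.2), Finset.sum_const,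
      Finset.card_univ, smul_eq_mul, ← Nat.card_eq_fintype_card, Nat.card_coe_set_eq]
  have hI := iso_card_even hh hq h4 (by omega) (by decide)
  rw [show 4 - 1 = 3 from rfl] at hI
  rw [hall, hI] at hall'
  have hq2 := two_le_q hq
  have e4 : q ^ 4 - q ^ 2 = q ^ 2 * (q ^ 2 - 1) := by
    rw [Nat.mul_sub, mul_one, ← pow_add]
  have hp1 : 0 < q ^ 4 - 1 := by
    have : 2 ^ 4 ≤ q ^ 4 := Nat.pow_le_pow_left hq2 4
    omega
  have hp2 : 0 < q ^ 2 * (q ^ 2 - 1) := by
    have : 2 ^ 2 ≤ q ^ 2 := Nat.pow_le_pow_left hq2 2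
    exact Nat.mul_pos (by omega) (by omega)
  refine Nat.eq_of_mul_eq_mul_right (Nat.mul_pos hp1 hp2) ?_
  rw [e4] at hall'
  linear_combination hall'

omit hq in
theorem center_le_lineStabTwo (a b : V) :
    Subgroup.center (SUH h) ≤ MulAction.stabilizer (SUH h) (Submodule.span F {a, b}) := by
  intro g hg
  obtain ⟨c, hc, e⟩ := (SUH_mem_center_iff hh (by omega) g).1 hg
  have hc0 : c ≠ 0 := fun h0 => by simp [h0] at hc
  rw [MulAction.mem_stabilizer_iff, smul_span_SUH, Set.smul_set_insert,
    Set.smul_set_singleton, e, e, Submodule.span_insert, Submodule.span_insert,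
    Submodule.span_singleton_smul_eq (isUnit_iff_ne_zero.2 hc0),
    Submodule.span_singleton_smul_eq (isUnit_iff_ne_zero.2 hc0)]

omit hq h4

variable {ρ : SUH h →* Equiv.Perm Ω} (H : HypF hh q ρ)
include H

/-- No point is fixed by the whole radical of a point. -/
theorem HypF.no_radical_fixed {u₀ : V} (hu₀ : u₀ ∈ isoV h) (y : Ω)
    (hfix : ∀ (w : V) (c : F), Ok h u₀ w c → ρ (rt hh u₀ w c) y = y) : False := by
  classical
  have := H.fin
  have hdim := H.dim
  have hq := H.hq
  let RF : V → Prop := fun u => ∀ (w : V) (c : F), Ok h u w c → ρ (rt hh u w c) y = y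
  -- equivariance
  have hmove : ∀ g : SUH h, ρ g y = y → ∀ u, RF u → RF (g • u) := by
    intro g hg u hu w c o
    have o' : Ok h u (g⁻¹ • w) c := by
      have := o.map hh ((g⁻¹ : SUH h) : UH h)
      rwa [show ((g⁻¹ : SUH h) : UH h) • (g • u) = u from inv_smul_smul g u] at this
    have e := rt_conj hh g o'
    rw [smul_inv_smul] at e
    rw [← e, map_mul, map_mul, map_inv, Equiv.Perm.mul_apply, Equiv.Perm.mul_apply,
      show (ρ g)⁻¹ y = y from Equiv.Perm.inv_eq_iff_eq.2 hg.symm, hu _ _ o', hg]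
  have hscale : ∀ (t : F), t ≠ 0 → ∀ u, RF u → RF (t • u) := by
    intro t ht u hu w c o
    have o' : Ok h u w c := by
      have := o.scale hh t⁻¹
      rwa [inv_smul_smul₀ ht] at this
    rw [rt_scale hh o' t]
    exact hu _ _ (o'.scaled hh t)
  -- from one member to those not perpendicular to it
  have hspread : ∀ u w : V, u ∈ isoV h → w ∈ isoV h → RF u → RF w → h u w ≠ 0 →
      ∀ z ∈ isoV h, h u z ≠ 0 → RF z := by
    intro u w hu hw hRu hRw huw z hz huz
    set w₁ := (h u w)⁻¹ • w
    set z₁ := (h u z)⁻¹ • z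
    have hR1 : RF w₁ := hscale _ (inv_ne_zero huw) w hRw
    have P : Pair h u w₁ := ⟨hu.2, by simp [w₁, hw.2], by simp [w₁, inv_mul_cancel₀ huw]⟩
    have hz₁ : h z₁ z₁ = 0 := by simp [z₁, hz.2]
    have huz₁ : h u z₁ = 1 := by simp [z₁, inv_mul_cancel₀ huz]
    set d := prW hh P z₁
    obtain ⟨d1, d2, d3, d4⟩ := W_apply hh d
    have hzd : z₁ = h w₁ z₁ • u + w₁ + (d : V) := by
      conv_lhs => rw [eq_pr hh P z₁, huz₁, one_smul]
    have o : Ok h u (d : V) (h w₁ z₁) := by
      refine ⟨hu.2, d1, ?_⟩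
      have := form_pr hh P z₁ z₁
      rw [hz₁, huz₁, map_one] at this
      linear_combination -this
    have e : rt hh u (d : V) (h w₁ z₁) • w₁ = z₁ := by
      conv_rhs => rw [hzd]
      rw [rt_smul hh o, P.one, hh.comm_zero d2]
      module
    have := hmove _ (hRu _ _ o) w₁ hR1
    rw [e] at this
    have := hscale (h u z) huz _ this
    rwa [smul_inv_smul₀ huz] at this
  have hperp : ∀ u w : V, u ∈ isoV h → w ∈ isoV h → RF u → RF w → h u w = 0 := by
    intro u w hu hw hRu hRw
    by_contra huw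
    have hall : ∀ z ∈ isoV h, RF z := by
      intro z hz
      by_cases huz : h u z = 0
      swap
      · exact hspread u w hu hw hRu hRw huw z hz huz
      obtain ⟨x, hxu, hxz⟩ := exists_h_ne_ne' hh hu.1 hz.1
      obtain ⟨k, hk⟩ := exists_iso_add hh (y := x) hu.2 (fun e => hxu (hh.comm_zero e))
      have hux : h u (x + k • u) = h u x := by simp [hu.2]
      have hx' : x + k • u ∈ isoV h := ⟨fun e => hxu (by rw [← hux, e, map_zero]), hk⟩
      have hR := hspread u w hu hw hRu hRw huw _ hx' (by rw [hux]; exact hxu)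
      refine hspread _ u hx' hu hR hRu (fun e => hxu (hux.symm.trans (hh.comm_zero e))) z hz fun e => hxz ?_
      have := hh.comm_zero e
      simpa [hh.comm_zero huz] using this
    obtain ⟨ω₁, ω₂, hne⟩ := H.nontriv
    have hK : ∀ g : SUH h, ρ g y = y := by
      let K : Subgroup (SUH h) :=
        { carrier := {g | ρ g y = y}
          one_mem' := by simp
          mul_mem' := fun {a b} ha hb => by
            show ρ (a * b) y = y
            rw [map_mul, Equiv.Perm.mul_apply, hb, ha]
          inv_mem' := fun {a} ha => by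
            show ρ a⁻¹ y = y
            rw [map_inv, Equiv.Perm.inv_eq_iff_eq]
            exact ha.symm }
      intro g
      have hg : (g : UH h) ∈ K.map (SUH h).subtype := by
        refine (Subgroup.closure_le _).2 ?_ (show (g : UH h) ∈ uRootGroup hh by
          rw [← SUH_eq_uRootGroup hh (by omega)]; exact g.2)
        rintro _ ⟨x, d, c, hx, hd, hc, rfl⟩
        refine ⟨⟨_, uRootElt_det hh hx hd hc⟩, ?_, rfl⟩
        by_cases hx0 : x = 0
        · show ρ _ y = y
          rw [show (⟨_, uRootElt_det hh hx hd hc⟩ : SUH h) = 1 from Subtype.ext (UH.ext' fun z => by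
            rw [uRootElt_smul, hx0]; simp)]
          simp
        · show ρ _ y = y
          have o : Ok h x d c := ⟨hx, hd, hc⟩
          have := hall x ⟨hx0, hx⟩ d c o
          rwa [rt_eq hh o] at this
      obtain ⟨k, hk, ek⟩ := hg
      rwa [show k = g from Subtype.ext ek] at hk
    refine hne ?_
    obtain ⟨g₁, hg₁⟩ := H.trans y ω₁
    obtain ⟨g₂, hg₂⟩ := H.trans y ω₂
    rw [← hg₁, ← hg₂, hK, hK]
  -- the stabiliser fixes the span
  let S : Set V := {u | u ∈ isoV h ∧ RF u}
  have hu₀S : u₀ ∈ S := ⟨hu₀, hfix⟩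
  set U := Submodule.span F S
  have hUiso : ∀ a ∈ U, ∀ b ∈ U, h a b = 0 := fun a ha b hb =>
    span_orth hh (fun u hu w hw => hperp u w hu.1 hw.1 hu.2 hw.2) ha hb
  let _ : MulAction (SUH h) Ω := MulAction.compHom Ω ρ
  have hd : Nat.card Ω = (MulAction.stabilizer (SUH h) y).index := by
    rw [MulAction.index_stabilizer, ← Set.ncard_univ]
    congr 1
    refine (Set.eq_univ_iff_forall.2 fun z => ?_).symm
    obtain ⟨g, hg⟩ := H.trans y z
    exact ⟨g, hg⟩
  have hStab : ∀ g ∈ MulAction.stabilizer (SUH h) y, ∀ u ∈ S, g • u ∈ S := fun g hg u hu =>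
    ⟨smul_iso g hu.1, hmove g hg u hu.2⟩
  have : Finite (SUH h) := by
    have : Finite V := Module.finite_of_finite F
    exact Finite.of_injective (fun g : SUH h => fun x : V => g • x)
      fun a b e => Subtype.ext (UH.ext' fun x => congrFun e x)
  have hbound : ∀ M : Subgroup (SUH h), MulAction.stabilizer (SUH h) y ≤ M →
      (q + 1) * (q ^ 3 + 1) ≤ M.index → False := by
    intro M hM hMi
    have := H.small
    have := Nat.le_of_dvd (Nat.pos_of_ne_zero Subgroup.index_ne_zero_of_finite)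
      (Subgroup.index_dvd_of_le hM)
    omega
  by_cases hone : ∀ b ∈ S, ∃ k : F, b = k • u₀
  · -- a point
    obtain ⟨u₁, hu₁, e⟩ := exists_isotropic_partner hh hu₀.2 hu₀.1
    refine hbound (lineStab h u₀) (fun g hg => ?_) ?_
    · obtain ⟨k, hk⟩ := hone _ (hStab g hg u₀ hu₀S)
      exact ⟨k, fun h0 => (smul_iso g hu₀).1 (by rw [hk, h0, zero_smul]), hk⟩
    · have hi := lineStab_index hh (u := u₁) (one_swap hh (⟨hu₀.2, hu₁, e⟩ : Pair h u₀ u₁))
        (isoV h) hu₀ (fun g x hx => smul_iso g hx)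
        (fun x hx z hz => trans_iso hh (by omega) hx hz)
      have hset : {c : F | c • u₀ ∈ isoV h} = {0}ᶜ := by
        ext c
        simp [isoV, hu₀.1, hu₀.2]
      rw [hset, Set.ncard_compl, Set.ncard_singleton, hq, iso_card_even hh hq hdim (by omega)
        (by decide)] at hi
      have hq2 := two_le_q hq
      have hQ : 0 < q ^ 2 - 1 := by
        have : 2 ^ 2 ≤ q ^ 2 := Nat.pow_le_pow_left hq2 2
        omega
      refine Nat.le_of_mul_le_mul_right ?_ hQ
      rw [hi, show 4 - 1 = 3 from rfl, show q ^ 4 - 1 = (q ^ 2 + 1) * (q ^ 2 - 1) by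
        rw [← Nat.sq_sub_sq, ← pow_mul, one_pow]]
      calc (q + 1) * (q ^ 3 + 1) * (q ^ 2 - 1) ≤ (q ^ 2 + 1) * (q ^ 3 + 1) * (q ^ 2 - 1) :=
            Nat.mul_le_mul_right _ (Nat.mul_le_mul_right _ (by nlinarith))
        _ = (q ^ 2 + 1) * (q ^ 2 - 1) * (q ^ 3 + 1) := by ring
  · -- a line
    push Not at hone
    obtain ⟨b, hbS, hb⟩ := hone
    have hp : IsoPlane h u₀ b :=
      ⟨hu₀.1, hu₀.2, hbS.1.2, hperp u₀ b hu₀ hbS.1 hu₀S.2 hbS.2, hb⟩
    have hle : Submodule.span F {u₀, b} ≤ U :=
      Submodule.span_mono (Set.insert_subset hu₀S (Set.singleton_subset_iff.2 hbS))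
    have heq : Submodule.span F {u₀, b} = U := by
      refine Submodule.eq_of_le_of_finrank_le hle ?_
      have := finrank_isotropic hh hUiso
      rw [hp.finrank_span]
      omega
    refine hbound (MulAction.stabilizer (SUH h) (Submodule.span F {u₀, b})) (fun g hg => ?_)
      (line_index hh hq hdim hp).ge
    rw [MulAction.mem_stabilizer_iff, heq, smul_span_SUH]
    refine congrArg _ (Set.ext fun x => ?_)
    rw [Set.mem_smul_set_iff_inv_smul_mem]
    exact ⟨fun hx => smul_inv_smul g x ▸ hStab g hg _ hx, fun hx => hStab g⁻¹ (inv_mem hg) _ hx⟩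

/-- No transvection group fixes a point. -/
theorem HypF.all_moved {v v' : V} (P : Pair h v v') (y : Ω) : Lsub hh P ρ y ≠ ⊤ := by
  intro hL
  have hA := H.fixed_radical hh P hL
  refine H.no_radical_fixed hh ⟨P.ne_zero, P.left⟩ y fun w c o => ?_
  have hw : w = (prW hh P w : V) + h v' w • v := by
    conv_lhs => rw [eq_pr hh P w, o.vw, zero_smul, add_zero]
    exact add_comm _ _
  rw [hw] at o ⊢
  obtain ⟨o', e'⟩ := rt_add_self hh _ o
  rw [e']
  obtain ⟨r', hr', er'⟩ := (mem_Asub hh P ρ).1 (show prW hh P w ∈ Asub hh P ρ y by rw [hA]; trivial)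
  let r1 : Rad hh v v' := ⟨prW hh P w, _, o'.tr⟩
  have hd : (r1 * r'⁻¹).w = 0 := by simp [Rad.mul_w, Rad.inv_w, r1, er']
  have hc' : (r1 * r'⁻¹).c ∈ skewAdd σ := by
    have := (r1 * r'⁻¹).ok
    rw [hd] at this
    simpa [mem_skewAdd] using this
  have h1 : r1 * r'⁻¹ ∈ stabR hh P ρ y := by
    have h0 : (⟨_, hc'⟩ : skewAdd σ) ∈ Lsub hh P ρ y := by rw [hL]; trivial
    rw [show r1 * r'⁻¹ = zc hh ⟨_, hc'⟩ from Rad.ext hd rfl]
    exact h0
  have hmem : r1 ∈ stabR hh P ρ y := by simpa using mul_mem h1 hr'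
  exact hmem

end Cfsg.Agent.MinDeg.Unitary
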