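import Cfsg.Agent.Lib.MinDeg.UnitFourU

/-!
The minimal index of a proper subgroup of `PSU₄`.
-/

set_option autoImplicit false
set_option linter.unusedSectionVars false

namespace Cfsg.Agent.MinDeg.Unitary

open Cfsg.Agent.ClassicalSimple Cfsg.Agent.MinDegree

variable {F V : Type*} [Field F] [Finite F] [AddCommGroup V] [Module F V] [FiniteDimensional F V]
  {σ : F →+* F} {h : V →ₛₗ[σ] V →ₗ[F] F} {Ω : Type*}

variable (hh : IsUnitaryForm σ h)
include hh

variable {q : ℕ} {ρ : SUH h →* Equiv.Perm Ω} (H : HypF hh q ρ)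
include H

set_option maxHeartbeats 1000000 in
/-- The elements of the radical of a line, not the identity, which fix a point. -/
theorem HypF.line_count (y : Ω) {e₁ e₂ : V} (hp : IsoPlane h e₁ e₂) :
    ∃ (ux : F × F → V × V) (N : ℕ) (B : Subgroup (SUH h)), Nat.card B = N + 1 ∧
      (∀ p, p ≠ 0 → IsoPlane h (ux p).1 (ux p).2 ∧
        (setE hh ρ y (ux p).1 (ux p).2 ⊆ B) ∧
        (∃ φ : B →* Multiplicative (skewAdd σ), ∀ g : B,
          g ∈ φ.ker ↔ (g : SUH h) ∈ setE hh ρ y (ux p).1 (ux p).2)) ∧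
      (∃ p, p ≠ 0 ∧ setE hh ρ y (ux p).1 (ux p).2 = setE hh ρ y e₁ e₂) ∧
      ∑ᶠ p ∈ ({0}ᶜ : Set (F × F)), ((setE hh ρ y (ux p).1 (ux p).2).ncard - 1) =
        N * ((q + 1) * (q ^ 2 - 1)) := by
  classical
  have hq := H.hq
  have h4 := H.dim
  have : Finite V := Module.finite_of_finite F
  have := Fintype.ofFinite F
  have : Finite (SUH h) :=
    Finite.of_injective (fun g : SUH h => fun x : V => g • x)
      fun a b e => Subtype.ext (UH.ext' fun x => congrFun e x)
  set U := Submodule.span F {e₁, e₂} with hU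
  have he1 : e₁ ∈ U := Submodule.subset_span (by simp)
  have he2 : e₂ ∈ U := Submodule.subset_span (by simp)
  obtain ⟨f₁, hf11, hf12⟩ := exists_h_pair hh hp.linInd 1 0
  obtain ⟨f₂, hf21, hf22⟩ := exists_h_pair hh hp.linInd 0 1
  let ι : F × F →ₗ[F] V :=
    { toFun := fun p => p.1 • f₁ + p.2 • f₂
      map_add' := fun a b => by
        simp only [Prod.fst_add, Prod.snd_add, add_smul]; abel
      map_smul' := fun c a => by
        simp only [Prod.smul_fst, Prod.smul_snd, smul_eq_mul, mul_smul, smul_add, RingHom.id_apply] }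
  have hι : ∀ p : F × F, ι p = p.1 • f₁ + p.2 • f₂ := fun p => rfl
  have he1ι : ∀ p, h e₁ (ι p) = p.1 := fun p => by simp [hι, hf11, hf21]
  have he2ι : ∀ p, h e₂ (ι p) = p.2 := fun p => by simp [hι, hf12, hf22]
  -- the vectors of the line belonging to a vector of the complement
  let uu : F × F → V := fun p => σ p.2 • e₁ - σ p.1 • e₂
  have huU : ∀ p, uu p ∈ U := fun p =>
    sub_mem (Submodule.smul_mem _ _ he1) (Submodule.smul_mem _ _ he2)
  have huι : ∀ p r : F × F, h (uu p) (ι r) = p.2 * r.1 - p.1 * r.2 := fun p r => by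
    simp only [uu, map_sub, map_smulₛₗ, LinearMap.sub_apply, LinearMap.smul_apply, he1ι, he2ι,
      smul_eq_mul, RingHom.id_apply, hh.invol]
  let oth : F × F → F × F := fun p => if p.1 = 0 then (1, 0) else (0, 1)
  let ux : F × F → V × V := fun p => (uu p, uu (oth p))
  have hdet : ∀ p : F × F, p ≠ 0 → (oth p).2 * p.1 - (oth p).1 * p.2 ≠ 0 := by
    intro p hp0
    by_cases h1 : p.1 = 0
    · have h2 : p.2 ≠ 0 := fun h2 => hp0 (Prod.ext h1 h2)
      simp [oth, h1, h2]
    · simp [oth, h1]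
  have hux : ∀ p, p ≠ 0 → IsoPlane h (uu p) (uu (oth p)) := by
    intro p hp0
    refine ⟨fun e => ?_, hp.of_mem hh (huU _) (huU _), hp.of_mem hh (huU _) (huU _),
      hp.of_mem hh (huU _) (huU _), fun k e => hdet p hp0 ?_⟩
    · have := huι p (oth p)
      rw [e, map_zero, LinearMap.zero_apply] at this
      exact hdet p hp0 (by linear_combination this)
    · rw [← huι, e, map_smulₛₗ, LinearMap.smul_apply, huι, smul_eq_mul]
      ring
  have hspan : ∀ p, p ≠ 0 → Submodule.span F {uu p, uu (oth p)} = U := fun p hp0 =>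
    Submodule.eq_of_le_of_finrank_eq (Submodule.span_le.2 (Set.insert_subset (huU _)
      (Set.singleton_subset_iff.2 (huU _)))) (by rw [(hux p hp0).finrank_span, hp.finrank_span])
  -- the stabiliser in the radical
  let B : Subgroup (SUH h) :=
    { carrier := {g | ρ g y = y ∧ InU U g}
      one_mem' := ⟨by simp, InU.one hh U⟩
      mul_mem' := fun {a b} ha hb => ⟨by rw [map_mul, Equiv.Perm.mul_apply, hb.1, ha.1],
        (InU.mul hh ha.2 hb.2).1⟩
      inv_mem' := fun {a} ha => ⟨by rw [map_inv, Equiv.Perm.inv_eq_iff_eq, ha.1],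
        InU.inv hh ha.2⟩ }
  have hB : ∀ g, g ∈ B ↔ ρ g y = y ∧ InU U g := fun g => Iff.rfl
  have hchar : ∀ p, p ≠ 0 → ∀ g, g ∈ setE hh ρ y (uu p) (uu (oth p)) ↔
      g ∈ B ∧ h (ι p) (g • ι p - ι p) = 0 := by
    intro p hp0 g
    rw [mem_setE_iff hh hq h4 (hux p hp0) (z := ι p) (by rw [huι]; ring)
      (by rw [huι]; exact hdet p hp0), hspan p hp0, hB, and_assoc]
  have hskew : ∀ g ∈ B, ∀ a b : V, h a (g • b - b) + σ (h b (g • a - a)) = 0 := by
    intro g hg a b
    have e1 : h (g • a) (g • b) = h a b := uh_smul_smul (g : UH h) a b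
    have e2 : h (g • a - a) (g • b - b) = 0 := hp.of_mem hh (hg.2.1 a) (hg.2.1 b)
    rw [← hh.swap b (g • a - a)]
    simp only [map_sub, LinearMap.sub_apply] at e2 ⊢
    linear_combination e1 - e2
  refine ⟨ux, Nat.card {g : SUH h // g ∈ B ∧ g ≠ 1}, B, ?_, fun p hp0 => ⟨hux p hp0, ?_, ?_⟩,
    ?_, ?_⟩
  · have e : {g : SUH h // g ∈ B ∧ g ≠ 1} ≃ {g : B // g ≠ 1} :=
      { toFun := fun g => ⟨⟨g.1, g.2.1⟩, fun e => g.2.2 (congrArg Subtype.val e)⟩
        invFun := fun g => ⟨g.1.1, g.1.2, fun e => g.2 (Subtype.ext e)⟩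
        left_inv := fun g => rfl
        right_inv := fun g => rfl }
    have := Fintype.ofFinite B
    rw [Nat.card_congr e, Nat.card_eq_fintype_card, Nat.card_eq_fintype_card,
      Fintype.card_subtype_compl, Fintype.card_subtype_eq]
    have : 0 < Fintype.card B := Fintype.card_pos
    omega
  · exact fun g hg => ((hchar p hp0 g).1 hg).1
  · refine ⟨MonoidHom.mk' (fun g : B => Multiplicative.ofAdd
      (⟨h (ι p) ((g : SUH h) • ι p - ι p), mem_skewAdd.2 (hskew _ g.2 _ _)⟩ : skewAdd σ))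
      (fun a b => ?_), fun g => ?_⟩
    · rw [← ofAdd_add]
      refine congrArg _ (Subtype.ext ?_)
      show h (ι p) (((a * b : B) : SUH h) • ι p - ι p) = _
      rw [Subgroup.coe_mul, (InU.mul hh a.2.2 b.2.2).2, map_add]
      rfl
    · rw [MonoidHom.mem_ker, hchar p hp0, MonoidHom.mk'_apply, ofAdd_eq_one, Subtype.ext_iff]
      exact ⟨fun e => ⟨g.2, e⟩, fun e => e.2⟩
  · have hp0 : ((0, 1) : F × F) ≠ 0 := by simp
    refine ⟨(0, 1), hp0, ?_⟩
    ext g
    show g ∈ setE hh ρ y (uu (0, 1)) (uu (oth (0, 1))) ↔ _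
    rw [hchar _ hp0, mem_setE_iff hh hq h4 hp (z := ι (0, 1)) (by simp [hι, hf21])
      (by simp [hι, hf22]), ← hU, hB, and_assoc]
  -- double counting
  let zero : F × F → SUH h → Prop := fun p g => h (ι p) (g • ι p - ι p) = 0
  let B1 : Finset (SUH h) := (Set.toFinite {g : SUH h | g ∈ B ∧ g ≠ 1}).toFinset
  have hB1 : B1.card = Nat.card {g : SUH h // g ∈ B ∧ g ≠ 1} := by
    rw [← Set.ncard_eq_toFinset_card _ (Set.toFinite _)]
    exact (Nat.card_coe_set_eq _).symm
  have hrow : ∀ p, p ≠ 0 →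
      (B1.filter fun g => zero p g).card = (setE hh ρ y (uu p) (uu (oth p))).ncard - 1 := by
    intro p hp0
    have h1 : (1 : SUH h) ∈ setE hh ρ y (uu p) (uu (oth p)) :=
      (hchar p hp0 1).2 ⟨one_mem B, by simp⟩
    rw [← Set.ncard_sdiff_singleton_of_mem h1, ← Set.ncard_coe_finset]
    congr 1
    ext g
    simp only [Finset.coe_filter, Set.mem_ofPred_eq, Set.mem_sdiff, Set.mem_singleton_iff, B1,
      Set.Finite.mem_toFinset, hchar p hp0, zero]
    tauto
  obtain ⟨θ, hθ0, hθ⟩ := hh.exists_skew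
  have hσθ : σ θ = -θ := eq_neg_of_add_eq_zero_right hθ
  have hcol : ∀ g ∈ B1, ((Finset.univ.filter fun p : F × F => p ≠ 0).filter fun p => zero p g).card =
      (q + 1) * (q ^ 2 - 1) := by
    intro g hg
    obtain ⟨hgB, hg1⟩ := (Set.toFinite {g : SUH h | g ∈ B ∧ g ≠ 1}).mem_toFinset.1 hg
    let d : V →ₗ[F] V := ((g : UH h) : V ≃ₗ[F] V).toLinearMap - LinearMap.id
    let HH : F × F →ₛₗ[σ] F × F →ₗ[F] F := (θ • (h.comp ι).compl₂ (d.comp ι))
    have hHH : ∀ p r, HH p r = θ * h (ι p) (g • ι r - ι r) := fun p r => rfl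
    have hU' : IsUnitaryForm σ HH := by
      refine ⟨fun p r => ?_, hh.invol, hh.ne_id, fun p hp' => ?_⟩
      · rw [hHH, hHH, map_mul, hσθ]
        linear_combination θ * (hskew g hgB (ι r) (ι p))
      by_contra hp0
      have hk : ∀ r, h (ι p) (g • ι r - ι r) = 0 := fun r => by
        have := hp' r
        rw [hHH] at this
        exact (mul_eq_zero.1 this).resolve_left hθ0
      obtain ⟨-, s, c, o, e⟩ := (hchar p hp0 g).2 ⟨hgB, hk p⟩
      -- the image of `ι p` vanishes
      have hdp : g • ι p - ι p = 0 := by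
        refine hh.sep _ fun w => ?_
        obtain ⟨a, b, hw⟩ : ∃ a b : F, w - a • f₁ - b • f₂ ∈ U := by
          refine ⟨h e₁ w, h e₂ w, perp_mem_plane hh hq h4 hp ?_ ?_⟩
          · simp [hf11, hf21]
          · simp [hf12, hf22]
        have e0 : w = ι (a, b) + (w - a • f₁ - b • f₂) := by rw [hι]; abel
        rw [e0, map_add, hp.of_mem hh (hgB.2.1 _) hw, add_zero]
        have := hskew g hgB (ι (a, b)) (ι p)
        rw [hk, map_zero, add_zero] at this
        rw [hh.swap, this, map_zero]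
      have hs : s = 0 := by
        rw [e, rt_smul hh o, huι, show p.2 * p.1 - p.1 * p.2 = 0 by ring] at hdp
        simp only [map_smulₛₗ, LinearMap.smul_apply, smul_eq_mul, huι, zero_smul, add_zero,
          mul_zero, zero_sub, add_sub_cancel_left, neg_smul, neg_eq_zero] at hdp
        rcases smul_eq_zero.1 hdp with h1 | h1
        · simpa [hdet p hp0] using h1
        · exact absurd h1 (hux p hp0).fst_ne
      subst hs
      rw [zero_smul] at o e
      have hc : c + σ c = 0 := by simpa using o.tr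
      have hc0 := H.no_rt hh (u := uu p) ⟨(hux p hp0).fst_ne, (hux p hp0).fst_iso⟩ y hc
        (by rw [← e]; exact hgB.1)
      exact hg1 (by rw [e, hc0, rt_zero hh (hux p hp0).fst_iso])
    have hI := iso_card_even hU' hq (show Module.finrank F (F × F) = 2 by simp) (by omega) even_two
    have : (q + 1) * (q ^ 2 - 1) = (q ^ 2 - 1) * (q ^ (2 - 1) + 1) := by
      rw [show (2 : ℕ) - 1 = 1 from rfl, pow_one, mul_comm]
    rw [this, ← hI, ← Set.ncard_coe_finset]
    congr 1
    ext p
    simp only [Finset.coe_filter, Finset.mem_filter, Finset.mem_univ, true_and,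
      Set.mem_ofPred_eq, zero, isoV, hHH]
    simp [hθ0]
  rw [show ({0}ᶜ : Set (F × F)) = ↑(Finset.univ.filter fun p : F × F => p ≠ 0) by ext; simp,
    finsum_mem_coe_finset, Finset.sum_congr rfl fun p hp' => (hrow p (Finset.mem_filter.1 hp').2).symm,
    ← hB1, ← smul_eq_mul, ← Finset.sum_const, ← Finset.sum_congr rfl hcol]
  exact Finset.sum_card_bipartiteAbove_eq_sum_card_bipartiteBelow zero

/-- No small action. -/
theorem HypF.false : False := by
  classical
  have hq := H.hq
  have hq2 := H.two_le hh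
  have : Finite V := Module.finite_of_finite F
  have := Fintype.ofFinite F
  have : Finite (SUH h) :=
    Finite.of_injective (fun g : SUH h => fun x : V => g • x)
      fun a b e => Subtype.ext (UH.ext' fun x => congrFun e x)
  have hcardP : ({0}ᶜ : Set (F × F)).ncard = q ^ 4 - 1 := by
    rw [Set.ncard_compl, Set.ncard_singleton, Nat.card_prod, hq, ← pow_add]
  have e4 : q ^ 4 - 1 = (q ^ 2 + 1) * (q ^ 2 - 1) := by
    rw [← Nat.sq_sub_sq, ← pow_mul, one_pow]
  have hQ : 0 < q ^ 2 - 1 := by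
    have : 2 ^ 2 ≤ q ^ 2 := Nat.pow_le_pow_left hq2 2
    omega
  rcases H.dichotomy hh with ⟨hval, y, u, x, hp, hbig⟩ | ⟨hc2, hval⟩
  · obtain ⟨ux, N, B, hBN, hE, ⟨p₀, hp₀, hp₀E⟩, hsum⟩ := H.line_count hh y hp
    have hB2 : q ^ 2 ≤ Nat.card B := by
      rw [← hbig, ← hp₀E]
      exact (Set.ncard_le_ncard (hE p₀ hp₀).2.1 (Set.toFinite _)).trans
        (Nat.card_coe_set_eq (B : Set (SUH h))).ge
    have hker : ∀ p, p ≠ 0 → q ^ 2 = (setE hh ρ y (ux p).1 (ux p).2).ncard ∧
        (setE hh ρ y (ux p).1 (ux p).2).ncard ∣ Nat.card B := by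
      intro p hp0
      obtain ⟨hpl, hsub, φ, hφ⟩ := hE p hp0
      have e : Nat.card φ.ker = (setE hh ρ y (ux p).1 (ux p).2).ncard := by
        rw [← Nat.card_coe_set_eq]
        exact Nat.card_congr
          { toFun := fun g => ⟨g.1.1, (hφ g.1).1 g.2⟩
            invFun := fun g => ⟨⟨g.1, hsub g.2⟩, (hφ ⟨g.1, hsub g.2⟩).2 g.2⟩
            left_inv := fun g => rfl
            right_inv := fun g => rfl }
      refine ⟨?_, e ▸ Subgroup.card_subgroup_dvd_card _⟩
      have hle : Nat.card B ≤ q * (setE hh ρ y (ux p).1 (ux p).2).ncard := by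
        rw [← e, ← φ.ker.index_mul_card, Subgroup.index_ker]
        refine Nat.mul_le_mul_right _ ?_
        rw [← skew_card hh hq]
        exact Nat.card_le_card_of_injective (fun t => Multiplicative.toAdd (t : Multiplicative (skewAdd σ)))
          fun a b hab => Subtype.ext (Multiplicative.toAdd.injective hab)
      rcases hval y _ _ hpl with h1 | h1
      · rw [h1, mul_one] at hle
        have : q * 2 ≤ q * q := Nat.mul_le_mul_left _ hq2
        rw [sq] at hB2
        omega
      · exact h1.symm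
    rw [finsum_mem_congr rfl (fun p hp' => by rw [← (hker p hp').1]),
      finsum_mem_eq_finite_toFinset_sum _ (Set.toFinite _), Finset.sum_const, smul_eq_mul,
      ← Set.ncard_eq_toFinset_card _ (Set.toFinite _), hcardP, e4, ← mul_assoc] at hsum
    have hN : (q ^ 2 + 1) * (q ^ 2 - 1) = N * (q + 1) := Nat.eq_of_mul_eq_mul_right hQ hsum
    have hfac : q ^ 2 - 1 = (q - 1) * (q + 1) := by
      rw [mul_comm, ← Nat.sq_sub_sq, one_pow]
    rw [hfac, ← mul_assoc] at hN
    have hN' : (q ^ 2 + 1) * (q - 1) = N := Nat.eq_of_mul_eq_mul_right (by omega) hN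
    obtain ⟨hp1, hdvd⟩ := hker p₀ hp₀
    rw [← hp1, hBN, ← hN'] at hdvd
    obtain ⟨r, rfl⟩ : ∃ r, q = r + 1 := ⟨q - 1, by omega⟩
    rw [Nat.add_sub_cancel, show ((r + 1) ^ 2 + 1) * r + 1 = (r + 1) ^ 2 * r + (r + 1) by ring,
      Nat.dvd_add_right (dvd_mul_right _ _)] at hdvd
    have h3 := Nat.le_of_dvd (by omega) hdvd
    have h4 : (r + 1) * 2 ≤ (r + 1) * (r + 1) := Nat.mul_le_mul_left _ hq2
    rw [sq] at h3
    omega
  · obtain ⟨v, v', P⟩ := exists_pair hh (by have := H.dim; omega)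
    obtain ⟨x, hx0, hx, -⟩ := exists_iso_ker (hW_isUnitary hh P)
      (![] : Fin 0 → Module.Dual F (Wsp h v v')) (by have := H.dimW hh P; omega)
    obtain ⟨y, -⟩ := H.nontriv
    obtain ⟨w1, -, -, -⟩ := W_apply hh x
    have hp : IsoPlane h v (x : V) := ⟨P.ne_zero, P.left, hx, w1, fun k ek => hx0 (by
      have := congrArg (prW hh P) ek
      simpa [prW_v hh P, prW_coe hh P] using this)⟩
    obtain ⟨ux, N, B, -, hE, -, hsum⟩ := H.line_count hh y hp
    rw [finsum_mem_congr rfl (fun p hp' => by rw [hval y _ _ (hE p hp').1]),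
      finsum_mem_eq_finite_toFinset_sum _ (Set.toFinite _), Finset.sum_const, smul_eq_mul,
      ← Set.ncard_eq_toFinset_card _ (Set.toFinite _), hcardP, e4] at hsum
    have hN : (q ^ 2 + 1) * (q - 1) = N * (q + 1) := Nat.eq_of_mul_eq_mul_right hQ (by
      linear_combination hsum)
    have hev : q % 2 = 0 := by
      have hch : ringChar F = 2 := by
        have h2 := (ringChar.spec F 2).1 (by exact_mod_cast hc2)
        rcases (Nat.dvd_prime Nat.prime_two).1 h2 with h3 | h3
        · exact absurd h3 (CharP.ringChar_ne_one)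
        · exact h3
      have h2 := FiniteField.even_card_of_char_two hch
      rw [← Nat.card_eq_fintype_card, hq, Nat.pow_mod] at h2
      rcases Nat.mod_two_eq_zero_or_one q with h3 | h3
      · exact h3
      · simp [h3] at h2
    have hdvd : q + 1 ∣ 4 := by
      have hz : ((q + 1 : ℕ) : ℤ) ∣ 4 := ⟨(q : ℤ) ^ 2 - 2 * q + 3 - N, by
        have := congrArg (Nat.cast : ℕ → ℤ) hN
        push_cast [Nat.cast_sub (show 1 ≤ q by omega)] at this ⊢
        linear_combination -this⟩
      exact_mod_cast hz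
    have hle := Nat.le_of_dvd (by omega) hdvd
    have : q ≤ 3 := by omega
    interval_cases q <;> omega

omit H

/-- A proper subgroup of `SU₄` has index at least the number of lines. -/
theorem index_bound_four (hq : Nat.card F = q ^ 2) (hn : Module.finrank F V = 4)
    {K : Subgroup (SUH h)} (hK : K ≠ ⊤) : (q + 1) * (q ^ 3 + 1) ≤ K.index := by
  classical
  have : Finite V := Module.finite_of_finite F
  have : Finite (SUH h) :=
    Finite.of_injective (fun g : SUH h => fun x : V => g • x)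
      fun a b e => Subtype.ext (UH.ext' fun x => congrFun e x)
  have hnt : Nontrivial (SUH h ⧸ K) := by
    rw [← Finite.one_lt_card_iff_nontrivial]
    have h1 : K.index ≠ 1 := fun e => hK (Subgroup.index_eq_one.1 e)
    have h2 : K.index ≠ 0 := Subgroup.index_ne_zero_of_finite
    show 1 < K.index
    omega
  by_contra hlt
  exact HypF.false hh (ρ := MulAction.toPermHom (SUH h) (SUH h ⧸ K))
    ⟨hq, hn, fun a b => MulAction.exists_smul_eq (SUH h) a b, hnt, inferInstance, not_le.1 hlt⟩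

omit hh

section

open scoped Pointwise

/-- The minimal index of a proper subgroup of `PSU₄`. -/
theorem psu_four_min_index {K : Type*} [Field K] [Fintype K] {q : ℕ}
    (hF : Fintype.card K = q ^ 2) :
    (∀ H : Subgroup (Cfsg.PSU 4 K q), H ≠ ⊤ → (q + 1) * (q ^ 3 + 1) ≤ H.index) ∧
      ∃ H : Subgroup (Cfsg.PSU 4 K q), H.index = (q + 1) * (q ^ 3 + 1) := by
  have hq : Nat.card K = q ^ 2 := by rw [Nat.card_eq_fintype_card, hF]
  have hh := hermB_isUnitary hF (n := 4)
  have hn : Module.finrank K (Fin 4 → K) = 4 := by simp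
  have hf := toPSU_surjective hF 4
  refine ⟨fun H hH => ?_, ?_⟩
  · have h1 : H.comap (toPSU hF 4) ≠ ⊤ := fun e => hH (by
      rw [← Subgroup.map_comap_eq_self_of_surjective hf H, e,
        Subgroup.map_top_of_surjective (toPSU hF 4) hf])
    have h2 := index_bound_four hh hq hn h1
    rwa [Subgroup.index_comap_of_surjective H hf] at h2
  · obtain ⟨v, v', P⟩ := exists_pair hh (by omega)
    obtain ⟨x, hx0, hx, -⟩ := exists_iso_ker (hW_isUnitary hh P)
      (![] : Fin 0 → Module.Dual K (Wsp (Forms.hermB hF 4) v v'))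
      (by have := finrank_Wsp hh P; omega)
    obtain ⟨w1, -, -, -⟩ := W_apply hh x
    have hp : IsoPlane (Forms.hermB hF 4) v (x : Fin 4 → K) :=
      ⟨P.ne_zero, P.left, hx, w1, fun k ek => hx0 (by
        have := congrArg (prW hh P) ek
        simpa [prW_v hh P, prW_coe hh P] using this)⟩
    refine ⟨(MulAction.stabilizer (SUH (Forms.hermB hF 4))
      (Submodule.span K {v, (x : Fin 4 → K)})).map (toPSU hF 4), ?_⟩
    rw [Subgroup.index_map, sup_eq_left.2 ((toPSU_ker hF 4).trans
        (center_le_lineStabTwo hh hn v (x : Fin 4 → K))),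
      MonoidHom.range_eq_top.2 hf, Subgroup.index_top, mul_one, line_index hh hq hn hp]

end

end Cfsg.Agent.MinDeg.Unitary
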