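import Cfsg.Agent.Lib.MinDeg.UnitFourLines

/-!
No small action of the four-dimensional unitary group: counting in the abelian radical of a line.
-/

set_option autoImplicit false
set_option linter.unusedSectionVars false

namespace Cfsg.Agent.MinDeg.Unitary

open Cfsg.Agent.ClassicalSimple Cfsg.Agent.MinDegree

variable {F V : Type*} [Field F] [Finite F] [AddCommGroup V] [Module F V] [FiniteDimensional F V]
  {σ : F →+* F} {h : V →ₛₗ[σ] V →ₗ[F] F} {Ω : Type*}

variable (hh : IsUnitaryForm σ h)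
include hh

/-- The elements `rt u (s x) c` fixing a point. -/
def setE (ρ : SUH h →* Equiv.Perm Ω) (y : Ω) (u x : V) : Set (SUH h) :=
  {g | ρ g y = y ∧ ∃ s c : F, Ok h u (s • x) c ∧ g = rt hh u (s • x) c}

/-- The radical of the line `U`. -/
def InU (U : Submodule F V) (g : SUH h) : Prop :=
  (∀ z : V, g • z - z ∈ U) ∧ ∀ z ∈ U, g • z = z

theorem InU.mul {U : Submodule F V} {g g' : SUH h} (hg : InU U g) (hg' : InU U g') :
    InU U (g * g') ∧ ∀ z : V, (g * g') • z - z = (g • z - z) + (g' • z - z) := by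
  have e : ∀ z : V, (g * g') • z - z = (g • z - z) + (g' • z - z) := fun z => by
    have h1 : g' • z = z + (g' • z - z) := (add_sub_cancel _ _).symm
    rw [mul_smul]
    conv_lhs => rw [h1, smul_add, hg.2 _ (hg'.1 z)]
    abel
  exact ⟨⟨fun z => by rw [e]; exact add_mem (hg.1 z) (hg'.1 z), fun z hz => by
    rw [mul_smul, hg'.2 z hz, hg.2 z hz]⟩, e⟩

theorem InU.one (U : Submodule F V) : InU U (1 : SUH h) :=
  ⟨fun z => by simp, fun z _ => one_smul _ z⟩

theorem InU.inv {U : Submodule F V} {g : SUH h} (hg : InU U g) : InU U g⁻¹ := by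
  constructor
  · intro z
    have := hg.1 (g⁻¹ • z)
    rw [smul_inv_smul] at this
    simpa using neg_mem this
  · intro z hz
    rw [inv_smul_eq_iff, hg.2 z hz]

/-- In dimension four a vector perpendicular to a totally isotropic line lies on it. -/
theorem perp_mem_plane {q : ℕ} (hq : Nat.card F = q ^ 2) (h4 : Module.finrank F V = 4) {u x z : V}
    (hp : IsoPlane h u x) (hu : h u z = 0) (hx : h x z = 0) :
    z ∈ Submodule.span F {u, x} := by
  obtain ⟨u', hu', e⟩ := exists_isotropic_partner hh hp.fst_iso hp.fst_ne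
  have P : Pair h u u' := ⟨hp.fst_iso, hu', e⟩
  have hW2 : Module.finrank F (Wsp h u u') = 2 := by
    have := finrank_Wsp hh P
    omega
  have hdecomp : ∀ b, h u b = 0 → b = h u' b • u + (prW hh P b : V) := fun b hb => by
    conv_lhs => rw [eq_pr hh P b, hb, zero_smul, add_zero]
  have hxe := hdecomp x hp.perp
  have hze := hdecomp z hu
  have hxw0' : prW hh P x ≠ 0 := fun e0 => hp.indep (h u' x) (by
    rwa [e0, Submodule.coe_zero, add_zero] at hxe)
  generalize prW hh P x = xw at hxe hxw0'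
  generalize prW hh P z = zw at hze
  obtain ⟨a1, -, -, -⟩ := W_apply hh xw
  obtain ⟨b1, -, -, -⟩ := W_apply hh zw
  have hxw0 : xw ≠ 0 := hxw0'
  have hxx : hW h u u' xw xw = 0 := by
    have := hp.snd_iso
    rw [hxe] at this
    simpa [hp.fst_iso, a1, hh.comm_zero a1] using this
  have hxz : hW h u u' xw zw = 0 := by
    rw [hxe, hze] at hx
    simpa [hp.fst_iso, b1, hh.comm_zero a1] using hx
  obtain ⟨m, hm⟩ := perp_mem_line (hW_isUnitary hh P) hq hW2 hxx hxw0 hxz
  rw [Submodule.mem_span_pair]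
  refine ⟨h u' z - m * h u' x, m, ?_⟩
  generalize h u' x = kx at hxe ⊢
  generalize h u' z = kz at hze ⊢
  rw [hxe, hze, hm, Submodule.coe_smul]
  module

/-- Membership in `setE` through the form on a complement. -/
theorem mem_setE_iff {q : ℕ} (hq : Nat.card F = q ^ 2) (h4 : Module.finrank F V = 4)
    {ρ : SUH h →* Equiv.Perm Ω} {y : Ω} {u x z : V} (hp : IsoPlane h u x) (huz : h u z = 0)
    (hxz : h x z ≠ 0) (g : SUH h) :
    g ∈ setE hh ρ y u x ↔
      ρ g y = y ∧ InU (Submodule.span F {u, x}) g ∧ h z (g • z - z) = 0 := by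
  have hu : u ∈ Submodule.span F {u, x} := Submodule.subset_span (by simp)
  have hx : x ∈ Submodule.span F {u, x} := Submodule.subset_span (by simp)
  constructor
  · rintro ⟨hy, s, c, o, rfl⟩
    refine ⟨hy, ⟨fun w => ?_, fun w hw => ?_⟩, ?_⟩
    · rw [rt_smul hh o, add_assoc, add_sub_cancel_left]
      exact add_mem (Submodule.smul_mem _ _ (Submodule.smul_mem _ _ hx)) (Submodule.smul_mem _ _ hu)
    · rw [rt_smul hh o, hp.of_mem hh hu hw, hp.of_mem hh (Submodule.smul_mem _ s hx) hw]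
      simp
    · rw [rt_smul hh o, huz]
      simp [hh.comm_zero huz]
  · rintro ⟨hy, ⟨hd, hfix⟩, hzd⟩
    obtain ⟨α, β, hz⟩ := Submodule.mem_span_pair.1 (hd z)
    have hzx : h z x ≠ 0 := fun e => hxz (hh.comm_zero e)
    have hβ : β = 0 := by
      rw [← hz] at hzd
      simpa [hh.comm_zero huz, hzx] using hzd
    subst hβ
    rw [zero_smul, add_zero] at hz
    obtain ⟨f, hf1, hf2⟩ := exists_h_pair hh hp.linInd 1 0
    obtain ⟨γ, s, hf⟩ := Submodule.mem_span_pair.1 (hd f)
    have hid : ∀ a b : V, h a (g • b - b) + h (g • a - a) b = 0 := by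
      intro a b
      have e1 : h (g • a) (g • b) = h a b := uh_smul_smul (g : UH h) a b
      have e2 : h (g • a - a) (g • b - b) = 0 := hp.of_mem hh (hd a) (hd b)
      simp only [map_sub, LinearMap.sub_apply] at e2 ⊢
      linear_combination e1 - e2
    have hfu : h f u = 1 := by rw [hh.swap, hf1, map_one]
    have hγ : γ + σ γ = 0 := by
      have e := hid f f
      rw [← hf] at e
      simpa [hf1, hf2, hfu, hh.comm_zero hf2] using e
    have hα : α = -(σ s * h x z) := by
      have e := hid f z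
      rw [← hf, ← hz] at e
      simp [huz, hfu] at e
      linear_combination e
    have o : Ok h u (s • x) γ :=
      ⟨hp.fst_iso, by simp [hp.perp], by simpa [hp.snd_iso] using hγ⟩
    refine ⟨hy, s, γ, o, su_ext hh fun w => ?_⟩
    have agree : ∀ w ∈ Submodule.span F {u, x}, g • w = rt hh u (s • x) γ • w := fun w hw => by
      rw [hfix w hw, rt_smul hh o, hp.of_mem hh hu hw, hp.of_mem hh (Submodule.smul_mem _ s hx) hw]
      simp
    have agf : g • f = rt hh u (s • x) γ • f := by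
      rw [rt_smul hh o, hf1, sub_eq_iff_eq_add'.1 hf.symm]
      simp [hf2]
      abel
    have agz : g • z = rt hh u (s • x) γ • z := by
      rw [rt_smul hh o, huz, sub_eq_iff_eq_add'.1 hz.symm, hα]
      simp
    set a := h u w
    set b := h x (w - a • f) / h x z
    have hw : w - a • f - b • z ∈ Submodule.span F {u, x} := by
      refine perp_mem_plane hh hq h4 hp ?_ ?_
      · simp [a, hf1, huz]
      · rw [map_sub, map_smul, smul_eq_mul, div_mul_cancel₀ _ hxz, sub_self]
    have e : w = a • f + b • z + (w - a • f - b • z) := by abel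
    rw [e, smul_add, smul_add, smul_add, smul_add, smul_comm g, smul_comm g,
      smul_comm (rt hh u (s • x) γ), smul_comm (rt hh u (s • x) γ), agree _ hw, agf, agz]

/-- Changing the second vector within the line. -/
theorem setE_shift {ρ : SUH h →* Equiv.Perm Ω} {y : Ω} {u x : V} (κ : F) :
    setE hh ρ y u (x + κ • u) = setE hh ρ y u x := by
  have key : ∀ (x : V) (κ : F), setE hh ρ y u (x + κ • u) ⊆ setE hh ρ y u x := by
    rintro x κ g ⟨hy, s, c, o, rfl⟩
    rw [smul_add, smul_smul] at o hy ⊢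
    obtain ⟨o', e⟩ := rt_add_self hh _ o
    exact ⟨hy, s, _, o', e⟩
  refine Set.Subset.antisymm (key x κ) ?_
  have := key (x + κ • u) (-κ)
  rwa [neg_smul, add_neg_cancel_right] at this

/-- Transport of `setE`. -/
theorem setE_ncard_map {ρ : SUH h →* Equiv.Perm Ω} (g : SUH h) (y : Ω) (u x : V) :
    (setE hh ρ (ρ g y) (g • u) (g • x)).ncard = (setE hh ρ y u x).ncard := by
  rw [← Set.ncard_image_of_injective (setE hh ρ y u x)
    (f := fun k => g * k * g⁻¹) fun a b e => mul_left_cancel (mul_right_cancel e)]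
  congr 1
  ext k
  constructor
  · rintro ⟨hy, s, c, o, rfl⟩
    have o' : Ok h u (s • x) c := by
      have := o.map hh ((g⁻¹ : SUH h) : UH h)
      rwa [show ((g⁻¹ : SUH h) : UH h) • (g • u) = u from inv_smul_smul g u,
        show ((g⁻¹ : SUH h) : UH h) • (s • g • x) = s • x by
          rw [smul_comm]; exact congrArg _ (inv_smul_smul g x)] at this
    have e := rt_conj hh g o'
    rw [smul_comm g s x] at e
    refine ⟨rt hh u (s • x) c, ⟨?_, s, c, o', rfl⟩, e⟩
    rw [← e, map_mul, map_mul, map_inv, Equiv.Perm.mul_apply, Equiv.Perm.mul_apply,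
      Equiv.Perm.inv_def, Equiv.symm_apply_apply] at hy
    exact (ρ g).injective hy
  · rintro ⟨k, ⟨hy, s, c, o, rfl⟩, rfl⟩
    have e := rt_conj hh g o
    rw [smul_comm g s x] at e
    refine ⟨?_, s, c, ?_, e⟩
    · simp only [map_mul, map_inv, Equiv.Perm.mul_apply, Equiv.Perm.inv_def,
        Equiv.symm_apply_apply, hy]
    · have := o.map hh (g : UH h)
      rwa [smul_comm] at this

variable {q : ℕ} {ρ : SUH h →* Equiv.Perm Ω} (H : HypF hh q ρ)
include H

theorem HypF.invs {v v' : V} (P : Pair h v v') (y : Ω) :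
    Lsub hh P ρ y = ⊥ ∧ Nat.card (Asub hh P ρ y) = q ^ 2 ∧
      ∀ a ∈ Asub hh P ρ y, hW h v v' a a = 0 :=
  (H.moved_type hh P (H.all_moved hh P y)).1

theorem HypF.no_rt {u : V} (hu : u ∈ isoV h) (y : Ω) {c : F} (hc : c + σ c = 0)
    (hy : ρ (rt hh u 0 c) y = y) : c = 0 := by
  obtain ⟨u', hu', e⟩ := exists_isotropic_partner hh hu.2 hu.1
  have P : Pair h u u' := ⟨hu.2, hu', e⟩
  have h1 : (⟨c, hc⟩ : skewAdd σ) ∈ Lsub hh P ρ y := (rt_fixed_Lsub hh P ρ).2 hy
  rw [(H.invs hh P y).1, AddSubgroup.mem_bot] at h1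
  exact congrArg Subtype.val h1

/-- `setE` is a set of scalars. -/
theorem HypF.setE_card {v v' : V} (P : Pair h v v') (y : Ω) {x : Wsp h v v'}
    (hx : hW h v v' x x = 0) (hx0 : x ≠ 0) :
    (setE hh ρ y v (x : V)).ncard = {s : F | s • x ∈ Asub hh P ρ y}.ncard := by
  obtain ⟨hL, -, -⟩ := H.invs hh P y
  have hx' : h (x : V) (x : V) = 0 := hx
  have hf : ∀ s ∈ {s : F | s • x ∈ Asub hh P ρ y}, ∃ g ∈ setE hh ρ y v (x : V),
      ∃ c, Ok h v (s • (x : V)) c ∧ g = rt hh v (s • (x : V)) c := by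
    intro s hs
    obtain ⟨r, hr, er⟩ := hs
    have o : Ok h v (s • (x : V)) r.c := by
      have := r.toOk hh P
      rwa [er, Submodule.coe_smul] at this
    have hr' : ρ (rt hh v (s • (x : V)) r.c) y = y := by
      rw [mem_stabR, Rad.toSU_apply, er, Submodule.coe_smul] at hr
      exact hr
    exact ⟨_, ⟨hr', s, r.c, o, rfl⟩, r.c, o, rfl⟩
  choose f hfE fc hfo hfeq using hf
  symm
  refine Set.ncard_congr f hfE ?_ ?_
  · intro s t hs ht e
    rw [hfeq, hfeq] at e
    have e1 := congrArg (fun g : SUH h => prW hh P (g • v')) e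
    simp only [rt_smul hh (hfo s hs), rt_smul hh (hfo t ht), P.one, one_smul, map_add, map_smul,
      prW_v' hh P, prW_v hh P, prW_coe hh P, smul_zero, add_zero, zero_add] at e1
    exact smul_left_injective F hx0 e1
  · rintro g ⟨hy, s, c, o, rfl⟩
    have o' : Ok h v ((s • x : Wsp h v v') : V) c := by rwa [Submodule.coe_smul]
    have hs : s • x ∈ Asub hh P ρ y := ⟨⟨s • x, c, o'.tr⟩, by
      rw [mem_stabR, Rad.toSU_apply]; exact hy, rfl⟩
    refine ⟨s, hs, ?_⟩
    have hc : fc s hs = c := by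
      have hmem := (hfE s hs).1
      rw [hfeq] at hmem
      let r₁ : Rad hh v v' := ⟨s • x, c, o'.tr⟩
      have o2 : Ok h v ((s • x : Wsp h v v') : V) (fc s hs) := by
        rw [Submodule.coe_smul]; exact hfo s hs
      let r₂ : Rad hh v v' := ⟨s • x, fc s hs, o2.tr⟩
      have h1 : r₁ ∈ stabR hh P ρ y := by rw [mem_stabR, Rad.toSU_apply]; exact hy
      have h2 : r₂ ∈ stabR hh P ρ y := by rw [mem_stabR, Rad.toSU_apply]; exact hmem
      have h3 := mul_mem h2 (inv_mem h1)
      have hd : (r₂ * r₁⁻¹).w = 0 := by simp [Rad.mul_w, Rad.inv_w, r₁, r₂]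
      have hc' : (r₂ * r₁⁻¹).c ∈ skewAdd σ := by
        have := (r₂ * r₁⁻¹).ok
        rw [hd] at this
        simpa [mem_skewAdd] using this
      have h4 : (⟨_, hc'⟩ : skewAdd σ) ∈ Lsub hh P ρ y := by
        rw [mem_Lsub]
        rwa [show (zc hh (⟨_, hc'⟩ : skewAdd σ) : Rad hh v v') = r₂ * r₁⁻¹ from
          Rad.ext hd.symm rfl]
      rw [hL, AddSubgroup.mem_bot] at h4
      have h5 : (r₂ * r₁⁻¹).c = 0 := congrArg Subtype.val h4
      have h6 : r₂ * r₁⁻¹ = 1 := Rad.ext hd h5
      exact congrArg Rad.c (mul_inv_eq_one.1 h6)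
    rw [hfeq s hs, hc]

/-- The value of `setE` in a line type or a plane type. -/
theorem HypF.setE_values {v v' : V} (P : Pair h v v') (y : Ω) :
    ((∀ a ∈ Asub hh P ρ y, ∀ b ∈ Asub hh P ρ y, hW h v v' a b = 0) →
      (∀ x : Wsp h v v', hW h v v' x x = 0 → x ≠ 0 →
          (setE hh ρ y v (x : V)).ncard = 1 ∨ (setE hh ρ y v (x : V)).ncard = q ^ 2) ∧
        ∃ x : Wsp h v v', hW h v v' x x = 0 ∧ x ≠ 0 ∧
          (setE hh ρ y v (x : V)).ncard = q ^ 2) ∧
    (¬(∀ a ∈ Asub hh P ρ y, ∀ b ∈ Asub hh P ρ y, hW h v v' a b = 0) →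
      (2 : F) = 0 ∧ ∀ x : Wsp h v v', hW h v v' x x = 0 → x ≠ 0 →
        (setE hh ρ y v (x : V)).ncard = q) := by
  classical
  have : Finite V := Module.finite_of_finite F
  obtain ⟨hL, hc, hiso⟩ := H.invs hh P y
  have hWu := hW_isUnitary hh P
  have hW2 := H.dimW hh P
  have hq2 := H.two_le hh
  have hcomm : ∀ a ∈ Asub hh P ρ y, ∀ b ∈ Asub hh P ρ y,
      hW h v v' a b = hW h v v' b a := by
    intro a ha b hb
    obtain ⟨l, hl, el⟩ := comm_mem hh P ρ ha hb
    rw [hL, AddSubgroup.mem_bot] at hl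
    rw [hl, AddSubgroup.coe_zero] at el
    exact sub_eq_zero.1 el.symm
  set A := Asub hh P ρ y
  constructor
  · intro hz
    obtain ⟨a₀, ha₀, ha₀0⟩ : ∃ a ∈ A, a ≠ 0 := by
      by_contra hcc
      push Not at hcc
      rw [(AddSubgroup.eq_bot_iff_forall A).2 hcc, AddSubgroup.card_bot] at hc
      have : 4 ≤ q ^ 2 := Nat.pow_le_pow_left hq2 2
      omega
    have hsub : (A : Set (Wsp h v v')) ⊆ Set.range fun s : F => s • a₀ := fun b hb => by
      obtain ⟨k, rfl⟩ := perp_mem_line hWu H.hq hW2 (hiso a₀ ha₀) ha₀0 (hz a₀ ha₀ b hb)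
      exact ⟨k, rfl⟩
    have hAeq : (A : Set (Wsp h v v')) = Set.range fun s : F => s • a₀ := by
      refine Set.eq_of_subset_of_ncard_le hsub ?_ (Set.toFinite _)
      rw [Set.ncard_range_of_injective (smul_left_injective F ha₀0), H.hq, ← Nat.card_coe_set_eq]
      exact hc.ge
    have hmem : ∀ z, z ∈ A ↔ ∃ s : F, s • a₀ = z := fun z => by
      rw [← SetLike.mem_coe, hAeq]; rfl
    refine ⟨fun x hx hx0 => ?_, a₀, hiso a₀ ha₀, ha₀0, ?_⟩
    · rw [H.setE_card hh P y hx hx0]
      by_cases hk : ∃ k : F, k • a₀ = x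
      · obtain ⟨k, rfl⟩ := hk
        right
        rw [show {s : F | s • k • a₀ ∈ A} = Set.univ from Set.eq_univ_of_forall fun s =>
          (hmem _).2 ⟨s * k, mul_smul s k a₀⟩, Set.ncard_univ, H.hq]
      · left
        rw [show {s : F | s • x ∈ A} = {0} from ?_, Set.ncard_singleton]
        ext s
        refine ⟨fun hs => ?_, fun hs => by rw [Set.mem_singleton_iff.1 hs]; simp⟩
        by_contra hs0
        obtain ⟨t, ht⟩ := (hmem _).1 hs
        exact hk ⟨s⁻¹ * t, by rw [mul_smul, ht, inv_smul_smul₀ hs0]⟩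
    · rw [H.setE_card hh P y (hiso a₀ ha₀) ha₀0,
        show {s : F | s • a₀ ∈ A} = Set.univ from Set.eq_univ_of_forall fun s =>
          (hmem _).2 ⟨s, rfl⟩, Set.ncard_univ, H.hq]
  · intro hz
    push Not at hz
    obtain ⟨a, ha, b, hb, hab⟩ := hz
    set r := hW h v v' a b with hr
    have hskew : ∀ w ∈ A, ∀ w' ∈ A, hW h v v' w w' + σ (hW h v v' w w') = 0 := by
      intro w hw w' hw'
      have e := hiso _ (add_mem hw hw')
      simp only [map_add, LinearMap.add_apply, hiso w hw, hiso w' hw'] at e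
      rw [← hWu.swap w w']
      linear_combination e
    have hfix : ∀ w ∈ A, ∀ w' ∈ A, σ (hW h v v' w w') = hW h v v' w w' := fun w hw w' hw' => by
      rw [← hWu.swap, hcomm w' hw' w hw]
    have hc2 : (2 : F) = 0 := by
      have e := hskew a ha b hb
      rw [hfix a ha b hb, ← two_mul] at e
      exact (mul_eq_zero.1 e).resolve_right hab
    have hneg : ∀ t : F, -t = t := fun t => by linear_combination (-t) * hc2
    have hsk : ∀ t : F, t + σ t = 0 ↔ σ t = t := fun t =>
      ⟨fun e => by rw [eq_neg_of_add_eq_zero_right e, hneg], fun e => by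
        rw [e, ← two_mul, hc2, zero_mul]⟩
    refine ⟨hc2, fun x hx hx0 => ?_⟩
    have hσr : σ r = r := hfix a ha b hb
    have P' : Pair (hW h v v') a (r⁻¹ • b) :=
      ⟨hiso a ha, by simp [hiso b hb], by
        simp only [map_smul, smul_eq_mul]; exact inv_mul_cancel₀ hab⟩
    have hcoord : ∀ z, z = hW h v v' (r⁻¹ • b) z • a + (hW h v v' a z / r) • b := fun z => by
      conv_lhs => rw [plane_coord hWu H.hq hW2 P' z, smul_smul, ← div_eq_mul_inv]
    have hAmem : ∀ z, z ∈ A ↔
        σ (hW h v v' (r⁻¹ • b) z) = hW h v v' (r⁻¹ • b) z ∧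
          σ (hW h v v' a z / r) = hW h v v' a z / r := by
      have hsub : ∀ z ∈ A, σ (hW h v v' (r⁻¹ • b) z) = hW h v v' (r⁻¹ • b) z ∧
          σ (hW h v v' a z / r) = hW h v v' a z / r := fun z hz' => by
        constructor
        · simp only [map_smulₛₗ, LinearMap.smul_apply, smul_eq_mul, map_inv₀, hσr, map_mul,
            hfix b hb z hz', RingHom.id_apply]
        · rw [map_div₀, hfix a ha z hz', hσr]
      intro z
      refine ⟨hsub z, fun hz' => ?_⟩
      let f : skewAdd σ × skewAdd σ → Wsp h v v' := fun t => (t.1 : F) • a + (t.2 : F) • b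
      have hsubA : (A : Set (Wsp h v v')) ⊆ Set.range f := fun w hw => by
        obtain ⟨w1, w2⟩ := hsub w hw
        exact ⟨(⟨_, (hsk _).2 w1⟩, ⟨_, (hsk _).2 w2⟩), (hcoord w).symm⟩
      have hAeq : (A : Set (Wsp h v v')) = Set.range f := by
        refine Set.eq_of_subset_of_ncard_le hsubA ?_ (Set.toFinite _)
        rw [← Set.image_univ]
        refine le_trans (Set.ncard_image_le (Set.toFinite _)) ?_
        rw [Set.ncard_univ, Nat.card_prod, skew_card hh H.hq, ← Nat.card_coe_set_eq, ← sq]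
        exact hc.ge
      rw [← SetLike.mem_coe, hAeq]
      exact ⟨(⟨_, (hsk _).2 hz'.1⟩, ⟨_, (hsk _).2 hz'.2⟩), (hcoord z).symm⟩
    set x1 := hW h v v' (r⁻¹ • b) x with hx1def
    set x2 := hW h v v' a x / r with hx2def
    have hrel : σ x1 * x2 = σ x2 * x1 := by
      have e : hW h v v' (x1 • a + x2 • b) (x1 • a + x2 • b) = 0 := by
        rw [hx1def, hx2def, ← hcoord x]; exact hx
      simp only [map_add, map_smulₛₗ, LinearMap.add_apply,
        LinearMap.smul_apply, smul_eq_mul, RingHom.id_apply, hiso a ha, hiso b hb,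
        hcomm b hb a ha, ← hr, mul_zero, add_zero, zero_add] at e
      exact mul_right_cancel₀ hab (by linear_combination e + (-(σ x2 * x1) * r) * hc2)
    obtain ⟨t, ht0, ht1, ht2⟩ : ∃ t : F, t ≠ 0 ∧ σ (x1 / t) = x1 / t ∧ σ (x2 / t) = x2 / t := by
      by_cases h1 : x1 = 0
      · have h2 : x2 ≠ 0 := fun h2 => hx0 (by
          rw [hcoord x, ← hx1def, ← hx2def, h1, h2, zero_smul, zero_smul, add_zero])
        exact ⟨x2, h2, by rw [h1, zero_div, map_zero], by rw [div_self h2, map_one]⟩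
      · refine ⟨x1, h1, by rw [div_self h1, map_one], ?_⟩
        rw [map_div₀, div_eq_div_iff ((map_ne_zero σ).2 h1) h1]
        linear_combination -hrel
    rw [H.setE_card hh P y hx hx0]
    have hiff : {s : F | s • x ∈ A} = (fun e : skewAdd σ => (e : F) / t) '' Set.univ := by
      ext s
      simp only [Set.mem_ofPred_eq, hAmem, map_smul, smul_eq_mul, Set.image_univ, Set.mem_range,
        mul_div_assoc, ← hx1def, ← hx2def]
      constructor
      · rintro ⟨h1, h2⟩
        refine ⟨⟨s * t, (hsk _).2 ?_⟩, by simp [ht0]⟩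
        by_cases hx1 : x1 = 0
        · have hx2 : x2 ≠ 0 := fun hx2 => hx0 (by
            rw [hcoord x, ← hx1def, ← hx2def, hx1, hx2, zero_smul, zero_smul, add_zero])
          rw [show s * t = s * x2 / (x2 / t) by field_simp, map_div₀, h2, ht2]
        · rw [show s * t = s * x1 / (x1 / t) by field_simp, map_div₀, h1, ht1]
      · rintro ⟨e, rfl⟩
        have he := (hsk _).1 (mem_skewAdd.1 e.2)
        exact ⟨by rw [div_mul_eq_mul_div, mul_div_assoc, map_mul, he, ht1],
          by rw [div_mul_eq_mul_div, mul_div_assoc, map_mul, he, ht2]⟩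
    rw [hiff, Set.ncard_image_of_injective _ (fun e e' he => Subtype.ext
      ((div_left_inj' ht0).1 he)), Set.ncard_univ, skew_card hh H.hq]

/-- All values of `setE`. -/
theorem HypF.dichotomy :
    ((∀ (y : Ω) (u x : V), IsoPlane h u x →
        (setE hh ρ y u x).ncard = 1 ∨ (setE hh ρ y u x).ncard = q ^ 2) ∧
      ∃ (y : Ω) (u x : V), IsoPlane h u x ∧ (setE hh ρ y u x).ncard = q ^ 2) ∨
    ((2 : F) = 0 ∧ ∀ (y : Ω) (u x : V), IsoPlane h u x → (setE hh ρ y u x).ncard = q) := by
  obtain ⟨v, v', P⟩ := exists_pair hh (by have := H.dim; omega)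
  obtain ⟨y₀, -⟩ := H.nontriv
  have hmain : ∀ (y : Ω) (u x : V), IsoPlane h u x → ∃ (y' : Ω) (w : Wsp h v v'),
      hW h v v' w w = 0 ∧ w ≠ 0 ∧
        (setE hh ρ y u x).ncard = (setE hh ρ y' v (w : V)).ncard := by
    intro y u x hp
    obtain ⟨g, hg⟩ := trans_iso hh (by have := H.dim; omega)
      (show v ∈ isoV h from ⟨P.ne_zero, P.left⟩) (show u ∈ isoV h from ⟨hp.fst_ne, hp.fst_iso⟩)
    set x₀ := g⁻¹ • x
    have hgx : g • x₀ = x := smul_inv_smul g x
    have hp0 : h v x₀ = 0 := by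
      have := hp.perp
      rw [← hg, ← hgx] at this
      rwa [show h (g • v) (g • x₀) = h v x₀ from uh_smul_smul (g : UH h) v x₀] at this
    have hx00 : h x₀ x₀ = 0 := by
      have := hp.snd_iso
      rw [← hgx] at this
      rwa [show h (g • x₀) (g • x₀) = h x₀ x₀ from uh_smul_smul (g : UH h) x₀ x₀] at this
    have hd : x₀ = (prW hh P x₀ : V) + h v' x₀ • v := by
      conv_lhs => rw [eq_pr hh P x₀, hp0, zero_smul, add_zero]
      exact add_comm _ _
    refine ⟨ρ g⁻¹ y, prW hh P x₀, ?_, fun e => ?_, ?_⟩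
    · rw [hd] at hx00
      obtain ⟨w1, -, -, -⟩ := W_apply hh (prW hh P x₀)
      simpa [P.left, w1, hh.comm_zero w1] using hx00
    · rw [e, Submodule.coe_zero, zero_add] at hd
      refine hp.indep (h v' x₀) ?_
      rw [← hgx, ← hg]
      conv_lhs => rw [hd]
      rw [smul_comm]
    · rw [← setE_shift hh (h v' x₀) (x := (prW hh P x₀ : V)), ← hd,
        ← setE_ncard_map hh g (ρ g⁻¹ y) v x₀, hg, hgx, ← Equiv.Perm.mul_apply, ← map_mul,
        mul_inv_cancel, map_one, Equiv.Perm.one_apply]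
  by_cases hz : ∀ a ∈ Asub hh P ρ y₀, ∀ b ∈ Asub hh P ρ y₀, hW h v v' a b = 0
  · refine Or.inl ⟨fun y u x hp => ?_, ?_⟩
    · obtain ⟨y', w, hw, hw0, e⟩ := hmain y u x hp
      rw [e]
      exact ((H.setE_values hh P y').1 ((H.type_uniform hh P (H.all_moved hh P y₀)
        (H.all_moved hh P y')).2 hz)).1 w hw hw0
    · obtain ⟨w, hw, hw0, e⟩ := ((H.setE_values hh P y₀).1 hz).2
      obtain ⟨w1, -, -, -⟩ := W_apply hh w
      exact ⟨y₀, v, w, ⟨P.ne_zero, P.left, hw, w1, fun k ek => hw0 (by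
        have := congrArg (prW hh P) ek
        simpa [prW_v hh P, prW_coe hh P] using this)⟩, e⟩
  · refine Or.inr ⟨((H.setE_values hh P y₀).2 hz).1, fun y u x hp => ?_⟩
    obtain ⟨y', w, hw, hw0, e⟩ := hmain y u x hp
    rw [e]
    exact ((H.setE_values hh P y').2 fun hz' => hz ((H.type_uniform hh P (H.all_moved hh P y₀)
      (H.all_moved hh P y')).1 hz')).2 w hw hw0

end Cfsg.Agent.MinDeg.Unitary
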