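import Cfsg.Agent.Lib.MinDegree.Unitary

/-!
Geometry for the minimal degree of the unitary groups: root elements `rt v w a`, the complement of
a hyperbolic pair, the radical `Rad` of a point as a group, and the homomorphism from
`F^* × U(W)` to `U(V)`.
-/

set_option autoImplicit false

namespace Cfsg.Agent.MinDeg.Unitary

open Cfsg.Agent.ClassicalSimple Cfsg.Agent.MinDegree

set_option linter.unusedSectionVars false

variable {F V : Type*} [Field F] [Finite F] [AddCommGroup V] [Module F V] [FiniteDimensional F V]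
  {σ : F →+* F} {h : V →ₛₗ[σ] V →ₗ[F] F}

variable (h) in
/-- The parameters of a root element. -/
structure Ok (v w : V) (a : F) : Prop where
  vv : h v v = 0
  vw : h v w = 0
  tr : a + σ a + h w w = 0

variable (hh : IsUnitaryForm σ h)

open Classical in
/-- A root element of `SU`, the identity for wrong parameters. -/
noncomputable def rt (v w : V) (a : F) : SUH h :=
  if o : Ok h v w a then suElt hh v w a o.vv o.vw o.tr else 1

include hh

theorem rt_eq {v w : V} {a : F} (o : Ok h v w a) :
    rt hh v w a = suElt hh v w a o.vv o.vw o.tr := by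
  rw [rt, dif_pos o]

theorem rt_smul {v w : V} {a : F} (o : Ok h v w a) (x : V) :
    rt hh v w a • x = x + h v x • w + (a * h v x - h w x) • v := by
  rw [rt_eq hh o, suElt_smul]

theorem rt_smul_v {v w : V} {a : F} (o : Ok h v w a) : rt hh v w a • v = v := by
  rw [rt_smul hh o, o.vv, hh.comm_zero o.vw]
  simp

omit [FiniteDimensional F V] in
theorem ok_zero {v : V} (hv : h v v = 0) : Ok h v 0 0 := ⟨hv, by simp, by simp⟩

theorem ok_skew {v : V} (hv : h v v = 0) (c : skewAdd σ) : Ok h v 0 (c : F) :=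
  ⟨hv, by simp, by simpa using mem_skewAdd.1 c.2⟩

theorem Ok.mul {v w w' : V} {a a' : F} (o : Ok h v w a) (o' : Ok h v w' a') :
    Ok h v (w + w') (a + a' - h w w') :=
  ⟨o.vv, by simp [o.vw, o'.vw], by
    simp only [map_sub, map_add, LinearMap.add_apply, ← hh.swap]
    linear_combination o.tr + o'.tr⟩

theorem rt_mul {v w w' : V} {a a' : F} (o : Ok h v w a) (o' : Ok h v w' a') :
    rt hh v w a * rt hh v w' a' = rt hh v (w + w') (a + a' - h w w') := by
  refine su_ext hh fun x => ?_
  rw [mul_smul, rt_smul hh o', rt_smul hh o, rt_smul hh (o.mul hh o')]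
  simp only [map_add, map_smul, LinearMap.add_apply, smul_eq_mul, o.vv, o'.vw, hh.comm_zero o.vw,
    mul_zero, add_zero]
  module

theorem rt_zero {v : V} (hv : h v v = 0) : rt hh v 0 0 = 1 :=
  su_ext hh fun x => by simp [rt_smul hh (ok_zero hh hv)]

theorem Ok.map {v w : V} {a : F} (o : Ok h v w a) (g : UH h) : Ok h (g • v) (g • w) a :=
  ⟨by rw [uh_smul_smul, o.vv], by rw [uh_smul_smul, o.vw], by rw [uh_smul_smul]; exact o.tr⟩

theorem rt_conj (g : SUH h) {v w : V} {a : F} (o : Ok h v w a) :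
    g * rt hh v w a * g⁻¹ = rt hh (g • v) (g • w) a := by
  refine Subtype.ext ?_
  rw [rt_eq hh o]
  rw [show rt hh (g • v) (g • w) a = suElt hh (g • v) (g • w) a _ _ _ from rt_eq hh (o.map hh (g : UH h))]
  exact uRootElt_conj hh (g : UH h) o.vv o.vw o.tr

theorem Ok.scale {v w : V} {a : F} (o : Ok h v w a) (t : F) :
    Ok h (t • v) w a := ⟨by simp [o.vv], by simp [o.vw], o.tr⟩

theorem Ok.scaled {v w : V} {a : F} (o : Ok h v w a) (t : F) :
    Ok h v (σ t • w) (σ t * t * a) :=
  ⟨o.vv, by simp [o.vw], by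
    simp only [map_smulₛₗ, LinearMap.smul_apply, smul_eq_mul, RingHom.id_apply, map_mul, hh.invol]
    linear_combination σ t * t * o.tr⟩

theorem rt_scale {v w : V} {a : F} (o : Ok h v w a) (t : F) :
    rt hh (t • v) w a = rt hh v (σ t • w) (σ t * t * a) := by
  refine su_ext hh fun x => ?_
  rw [rt_smul hh (o.scale hh t), rt_smul hh (o.scaled hh t)]
  simp only [map_smulₛₗ, LinearMap.smul_apply, smul_eq_mul, hh.invol]
  module

theorem Ok.shift {v w : V} {a : F} (o : Ok h v w a) (κ : F) :
    Ok h v (w + κ • v) (a + (κ - σ κ)) :=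
  ⟨o.vv, by simp [o.vw, o.vv], by
    simp only [map_add, map_smulₛₗ, LinearMap.add_apply, LinearMap.smul_apply, smul_eq_mul,
      RingHom.id_apply, o.vv, o.vw, hh.comm_zero o.vw, map_sub, hh.invol]
    linear_combination o.tr⟩

/-- A component along `v` moves to the scalar. -/
theorem rt_add_self {v w : V} {a : F} (κ : F) (o : Ok h v (w + κ • v) a) :
    Ok h v w (a + (κ - σ κ)) ∧ rt hh v (w + κ • v) a = rt hh v w (a + (κ - σ κ)) := by
  have o' : Ok h v w (a + (κ - σ κ)) := by
    have h1 : h v w = 0 := by simpa [o.vv] using o.vw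
    refine ⟨o.vv, h1, ?_⟩
    have := o.tr
    simp only [map_add, map_smulₛₗ, LinearMap.add_apply, LinearMap.smul_apply, smul_eq_mul,
      RingHom.id_apply, o.vv, h1, hh.comm_zero h1] at this
    simp only [map_add, map_sub, hh.invol]
    linear_combination this
  refine ⟨o', su_ext hh fun x => ?_⟩
  rw [rt_smul hh o, rt_smul hh o']
  simp only [map_add, map_smulₛₗ, LinearMap.add_apply, LinearMap.smul_apply, smul_eq_mul]
  module

/-- A root element of one line is one of an orthogonal line. -/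
theorem rt_swap {z v : V} (hz : h z z = 0) (hv : h v v = 0) (hzv : h z v = 0) :
    rt hh z v 0 = rt hh v (-z) 0 := by
  refine su_ext hh fun x => ?_
  rw [rt_smul hh ⟨hz, hzv, by simp [hv]⟩,
    rt_smul hh ⟨hv, by simp [hh.comm_zero hzv], by simp [hz]⟩]
  simp
  module

/-! ### The complement of a hyperbolic pair -/

omit hh [FiniteDimensional F V] in
variable (h) in
/-- The vectors orthogonal to a pair. -/
def Wsp (v v' : V) : Submodule F V := LinearMap.ker (h v) ⊓ LinearMap.ker (h v')

omit hh [FiniteDimensional F V] in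
theorem mem_Wsp {v v' x : V} : x ∈ Wsp h v v' ↔ h v x = 0 ∧ h v' x = 0 := by
  simp [Wsp]

omit hh [FiniteDimensional F V] in
variable (h) in
/-- The form on the complement. -/
noncomputable abbrev hW (v v' : V) : Wsp h v v' →ₛₗ[σ] Wsp h v v' →ₗ[F] F :=
  (h.comp (Wsp h v v').subtype).compl₂ (Wsp h v v').subtype

omit hh [FiniteDimensional F V] in
theorem hW_apply {v v' : V} (x y : Wsp h v v') : hW h v v' x y = h (x : V) (y : V) := rfl

omit hh [FiniteDimensional F V] in
variable (h) in
/-- A hyperbolic pair. -/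
structure Pair (v v' : V) : Prop where
  left : h v v = 0
  right : h v' v' = 0
  one : h v v' = 1

section Pairing

variable {v v' : V} (P : Pair h v v')
include P

theorem one_swap : h v' v = 1 := by rw [hh.swap, P.one, map_one]

omit hh [FiniteDimensional F V] in
theorem Pair.ne_zero : v ≠ 0 := by
  rintro rfl
  simpa using P.one

omit [FiniteDimensional F V] P in
theorem W_apply (w : Wsp h v v') :
    h v (w : V) = 0 ∧ h v' (w : V) = 0 ∧ h (w : V) v = 0 ∧ h (w : V) v' = 0 := by
  obtain ⟨h1, h2⟩ := mem_Wsp.1 w.2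
  exact ⟨h1, h2, hh.comm_zero h1, hh.comm_zero h2⟩

theorem pr_mem (x : V) : x - h v' x • v - h v x • v' ∈ Wsp h v v' := by
  refine mem_Wsp.2 ⟨?_, ?_⟩ <;>
    simp [P.left, P.right, P.one, one_swap hh P]

/-- The component map to the complement. -/
def prW : V →ₗ[F] Wsp h v v' where
  toFun x := ⟨x - h v' x • v - h v x • v', pr_mem hh P x⟩
  map_add' x y := Subtype.ext (by simp [add_smul]; abel)
  map_smul' c x := Subtype.ext (by simp [mul_smul]; module)

theorem coe_prW (x : V) : (prW hh P x : V) = x - h v' x • v - h v x • v' := rfl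

theorem eq_pr (x : V) : x = h v' x • v + h v x • v' + (prW hh P x : V) := by
  rw [coe_prW]; abel

theorem prW_coe (w : Wsp h v v') : prW hh P (w : V) = w := by
  obtain ⟨h1, h2, -, -⟩ := W_apply hh w
  exact Subtype.ext (by simp [coe_prW, h1, h2])

theorem prW_v : prW hh P v = 0 :=
  Subtype.ext (by simp [coe_prW, P.left, one_swap hh P])

theorem prW_v' : prW hh P v' = 0 :=
  Subtype.ext (by simp [coe_prW, P.right, P.one])

theorem hW_isUnitary : IsUnitaryForm σ (hW h v v') where
  swap x y := hh.swap _ _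
  invol := hh.invol
  ne_id := hh.ne_id
  sep w hw := by
    refine Subtype.ext (hh.sep _ fun x => ?_)
    obtain ⟨-, -, h3, h4⟩ := W_apply hh w
    have : h (w : V) (prW hh P x : V) = 0 := hw (prW hh P x)
    rw [eq_pr hh P x]
    simp [h3, h4, this]

/-- Coordinates with respect to a pair. -/
noncomputable def splitPair : V ≃ₗ[F] (F × F) × Wsp h v v' where
  toFun x := ((h v' x, h v x), prW hh P x)
  invFun p := p.1.1 • v + p.1.2 • v' + (p.2 : V)
  map_add' x y := by simp
  map_smul' c x := by simp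
  left_inv x := (eq_pr hh P x).symm
  right_inv p := by
    obtain ⟨h1, h2, -, -⟩ := W_apply hh p.2
    refine Prod.ext (Prod.ext ?_ ?_) ?_
    · simp [P.right, one_swap hh P, h2]
    · simp [P.left, P.one, h1]
    · simp [prW_v hh P, prW_v' hh P, prW_coe hh P]

theorem finrank_Wsp : Module.finrank F (Wsp h v v') + 2 = Module.finrank F V := by
  rw [(splitPair hh P).finrank_eq, Module.finrank_prod, Module.finrank_prod, Module.finrank_self]
  omega

/-- The value of the form in the coordinates. -/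
theorem form_pr (x y : V) : h x y = σ (h v' x) * h v y + σ (h v x) * h v' y +
    h (prW hh P x : V) (prW hh P y : V) := by
  obtain ⟨a1, a2, -, -⟩ := W_apply hh (prW hh P y)
  obtain ⟨-, -, b3, b4⟩ := W_apply hh (prW hh P x)
  conv_lhs => rw [eq_pr hh P x, eq_pr hh P y]
  simp only [map_add, map_smulₛₗ, LinearMap.add_apply, LinearMap.smul_apply, smul_eq_mul,
    RingHom.id_apply, P.left, P.right, P.one, one_swap hh P, a1, a2, b3, b4]
  ring

/-- The map `a ⊕ g` on `(F v + F v') ⊕ W`. -/
noncomputable def blkLin (p : Fˣ × UH (hW h v v')) : V →ₗ[F] V where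
  toFun x := ((p.1 : F) * h v' x) • v + ((σ (p.1 : F))⁻¹ * h v x) • v' +
    ((p.2 • prW hh P x : Wsp h v v') : V)
  map_add' x y := by
    simp only [map_add, smul_add, Submodule.coe_add]
    module
  map_smul' c x := by
    simp only [map_smul, smul_eq_mul, RingHom.id_apply, smul_comm p.2 c, Submodule.coe_smul]
    module

theorem blkLin_coord (p : Fˣ × UH (hW h v v')) (x : V) :
    h v' (blkLin hh P p x) = (p.1 : F) * h v' x ∧
      h v (blkLin hh P p x) = (σ (p.1 : F))⁻¹ * h v x ∧
      prW hh P (blkLin hh P p x) = p.2 • prW hh P x := by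
  obtain ⟨a1, a2, -, -⟩ := W_apply hh (p.2 • prW hh P x)
  refine ⟨?_, ?_, ?_⟩
  · simp [blkLin, P.right, one_swap hh P, a2]
  · simp [blkLin, P.left, P.one, a1]
  · simp only [blkLin, LinearMap.coe_mk, AddHom.coe_mk, map_add, map_smul, prW_v hh P,
      prW_v' hh P, smul_zero, zero_add, prW_coe hh P]

theorem blkLin_isom (p : Fˣ × UH (hW h v v')) (x y : V) :
    h (blkLin hh P p x) (blkLin hh P p y) = h x y := by
  obtain ⟨x1, x2, x3⟩ := blkLin_coord hh P p x
  obtain ⟨y1, y2, y3⟩ := blkLin_coord hh P p y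
  rw [form_pr hh P (blkLin hh P p x), form_pr hh P x, x1, x2, x3, y1, y2, y3,
    ← hW_apply (p.2 • prW hh P x) (p.2 • prW hh P y), uh_smul_smul, hW_apply, map_mul, map_mul,
    map_inv₀, hh.invol]
  have := p.1.ne_zero
  have : σ (p.1 : F) ≠ 0 := (map_ne_zero σ).2 this
  field_simp

/-- The homomorphism from `F^* × U(W)`. -/
noncomputable def blk : Fˣ × UH (hW h v v') →* UH h where
  toFun p := uMk hh (blkLin hh P p) (blkLin_isom hh P p)
  map_one' := UH.ext' fun x => by
    rw [uMk_smul, one_smul]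
    conv_rhs => rw [eq_pr hh P x]
    simp [blkLin]
  map_mul' p r := UH.ext' fun x => by
    obtain ⟨r1, r2, r3⟩ := blkLin_coord hh P r x
    rw [mul_smul, uMk_smul, uMk_smul, uMk_smul]
    simp only [blkLin, LinearMap.coe_mk, AddHom.coe_mk] at r1 r2 r3 ⊢
    rw [r1, r2, r3, Prod.fst_mul, Prod.snd_mul, mul_smul p.2 r.2, Units.val_mul, map_mul, mul_inv]
    simp only [mul_assoc]

theorem blk_smul (p : Fˣ × UH (hW h v v')) (x : V) : blk hh P p • x = blkLin hh P p x := rfl

theorem blk_v (p : Fˣ × UH (hW h v v')) : blk hh P p • v = (p.1 : F) • v := by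
  simp [blk_smul, blkLin, P.left, one_swap hh P, prW_v hh P]

theorem blk_W (p : Fˣ × UH (hW h v v')) (w : Wsp h v v') :
    blk hh P p • (w : V) = ((p.2 • w : Wsp h v v') : V) := by
  obtain ⟨h1, h2, -, -⟩ := W_apply hh w
  simp [blk_smul, blkLin, h1, h2, prW_coe hh P]

theorem blk_det (p : Fˣ × UH (hW h v v')) :
    LinearMap.det ((blk hh P p : V ≃ₗ[F] V) : V →ₗ[F] V) =
      (p.1 : F) * (σ (p.1 : F))⁻¹ *
        LinearMap.det ((p.2 : Wsp h v v' ≃ₗ[F] Wsp h v v') : Wsp h v v' →ₗ[F] Wsp h v v') := by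
  let e := splitPair hh P
  change LinearMap.det (blkLin hh P p) = _
  rw [← LinearMap.det_conj (blkLin hh P p) e]
  have : (e : V →ₗ[F] (F × F) × Wsp h v v') ∘ₗ blkLin hh P p ∘ₗ
      (e.symm : (F × F) × Wsp h v v' →ₗ[F] V) =
      LinearMap.prodMap (LinearMap.prodMap ((p.1 : F) • LinearMap.id) ((σ (p.1 : F))⁻¹ • LinearMap.id))
        ((p.2 : Wsp h v v' ≃ₗ[F] Wsp h v v') : Wsp h v v' →ₗ[F] Wsp h v v') := by
    refine LinearMap.ext fun z => ?_
    obtain ⟨x1, x2, x3⟩ := blkLin_coord hh P p (e.symm z)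
    have hz : e (e.symm z) = z := e.apply_symm_apply z
    refine Prod.ext (Prod.ext ?_ ?_) ?_
    · exact x1.trans (congrArg (fun t => (p.1 : F) * t) (congrArg (fun z => z.1.1) hz))
    · exact x2.trans (congrArg (fun t => (σ (p.1 : F))⁻¹ * t)
        (congrArg (fun z => z.1.2) hz))
    · exact x3.trans (congrArg (fun t => p.2 • t) (congrArg Prod.snd hz))
  rw [this, LinearMap.det_prodMap, LinearMap.det_prodMap, LinearMap.det_smul, LinearMap.det_smul,
    LinearMap.det_id, mul_one, Module.finrank_self, pow_one, pow_one, mul_one]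

/-- The embedding of `SU(W)`. -/
noncomputable def blkW : SUH (hW h v v') →* SUH h :=
  ((blk hh P).comp ((MonoidHom.inr Fˣ (UH (hW h v v'))).comp (SUH (hW h v v')).subtype)).codRestrict
    (SUH h) fun g => by
      rw [mem_SUH]
      simp [blk_det, mem_SUH.1 g.2]

theorem blkW_W (g : SUH (hW h v v')) (w : Wsp h v v') :
    blkW hh P g • (w : V) = ((g • w : Wsp h v v') : V) :=
  blk_W hh P _ w

theorem blkW_v (g : SUH (hW h v v')) : blkW hh P g • v = v :=
  (blk_v hh P ((1 : Fˣ), (g : UH (hW h v v')))).trans (by simp)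

end Pairing

/-! ### The radical of a point -/

omit [Finite F] [FiniteDimensional F V] hh in
/-- The radical of `v` in coordinates. -/
@[ext]
structure Rad (hh : IsUnitaryForm σ h) (v v' : V) where
  /-- The component in the complement. -/
  w : Wsp h v v'
  /-- The scalar. -/
  c : F
  ok : c + σ c + h (w : V) (w : V) = 0

variable {v v' : V}

instance : Mul (Rad hh v v') :=
  ⟨fun r s => ⟨r.w + s.w, r.c + s.c - h (r.w : V) (s.w : V), by
    simp only [Submodule.coe_add, map_sub, map_add, LinearMap.add_apply, ← hh.swap]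
    linear_combination r.ok + s.ok⟩⟩

instance : Inv (Rad hh v v') :=
  ⟨fun r => ⟨-r.w, σ r.c, by
    simp only [Submodule.coe_neg, map_neg, LinearMap.neg_apply, neg_neg, hh.invol]
    linear_combination r.ok⟩⟩

instance : One (Rad hh v v') := ⟨⟨0, 0, by simp⟩⟩

theorem Rad.mul_w (r s : Rad hh v v') : (r * s).w = r.w + s.w := rfl

theorem Rad.mul_c (r s : Rad hh v v') : (r * s).c = r.c + s.c - h (r.w : V) (s.w : V) := rfl

theorem Rad.one_w : (1 : Rad hh v v').w = 0 := rfl

theorem Rad.one_c : (1 : Rad hh v v').c = 0 := rfl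

theorem Rad.inv_w (r : Rad hh v v') : r⁻¹.w = -r.w := rfl

theorem Rad.inv_c (r : Rad hh v v') : r⁻¹.c = σ r.c := rfl

instance : Group (Rad hh v v') :=
  Group.ofLeftAxioms
    (fun a b c => Rad.ext (add_assoc _ _ _) (by
      simp only [Rad.mul_c, Rad.mul_w, Submodule.coe_add, map_add, LinearMap.add_apply]
      ring))
    (fun a => Rad.ext (zero_add _) (by simp [Rad.mul_c, Rad.one_c, Rad.one_w]))
    (fun a => Rad.ext (by simp [Rad.mul_w, Rad.inv_w, Rad.one_w]) (by
      simp only [Rad.mul_c, Rad.inv_c, Rad.inv_w, Rad.one_c, Submodule.coe_neg, map_neg,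
        LinearMap.neg_apply]
      linear_combination a.ok))

variable (P : Pair h v v')
include P

theorem Rad.toOk (r : Rad hh v v') : Ok h v (r.w : V) r.c :=
  ⟨P.left, (W_apply hh r.w).1, r.ok⟩

/-- The radical inside `SU`. -/
noncomputable def Rad.toSU : Rad hh v v' →* SUH h where
  toFun r := rt hh v (r.w : V) r.c
  map_one' := by
    rw [Rad.one_w, Rad.one_c, Submodule.coe_zero, rt_zero hh P.left]
  map_mul' r s := by
    rw [Rad.mul_w, Rad.mul_c, Submodule.coe_add, rt_mul hh (Rad.toOk hh P r) (Rad.toOk hh P s)]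

theorem Rad.toSU_apply (r : Rad hh v v') : Rad.toSU hh P r = rt hh v (r.w : V) r.c := rfl

theorem Rad.toSU_injective : Function.Injective (Rad.toSU hh P) := by
  rw [injective_iff_map_eq_one]
  intro r hr
  obtain ⟨h1, h2, h3, h4⟩ := W_apply hh r.w
  have e := congrArg (fun g : SUH h => g • v') hr
  simp only [Rad.toSU_apply, rt_smul hh (Rad.toOk hh P r), one_smul, P.one, h4, mul_one, sub_zero,
    add_assoc, add_eq_left] at e
  have e1 := congrArg (prW hh P) e
  simp only [map_add, map_smul, prW_coe hh P, prW_v hh P, smul_zero, add_zero, map_zero] at e1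
  have hw : r.w = 0 := by simpa using e1
  have hc : r.c = 0 := by
    have := congrArg (h v') e
    simpa [h2, one_swap hh P] using this
  exact Rad.ext hw hc

/-- Conjugation of the radical by `a ⊕ g`. -/
theorem blk_conj (p : Fˣ × UH (hW h v v')) (b : SUH h) (hb : (b : UH h) = blk hh P p)
    (r : Rad hh v v') :
    Ok h v ((σ (p.1 : F) • (p.2 • r.w) : Wsp h v v') : V) (σ (p.1 : F) * (p.1 : F) * r.c) ∧
      b * Rad.toSU hh P r * b⁻¹ =
        rt hh v ((σ (p.1 : F) • (p.2 • r.w) : Wsp h v v') : V) (σ (p.1 : F) * (p.1 : F) * r.c) := by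
  have o := (Rad.toOk hh P r).map hh (b : UH h)
  have ev : (b : UH h) • v = (p.1 : F) • v := by rw [hb, blk_v hh P]
  have ew : (b : UH h) • (r.w : V) = ((p.2 • r.w : Wsp h v v') : V) := by rw [hb, blk_W hh P]
  rw [ev, ew] at o
  have o1 : Ok h v ((p.2 • r.w : Wsp h v v') : V) r.c :=
    ⟨P.left, (W_apply hh _).1, o.tr⟩
  refine ⟨?_, ?_⟩
  · rw [Submodule.coe_smul]
    exact o1.scaled hh _
  · rw [Rad.toSU_apply, rt_conj hh b (Rad.toOk hh P r),
      show b • v = (p.1 : F) • v from ev,
      show b • (r.w : V) = ((p.2 • r.w : Wsp h v v') : V) from ew, Submodule.coe_smul,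
      rt_scale hh o1]

end Cfsg.Agent.MinDeg.Unitary
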