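import Cfsg.Agent.Lib.MinDeg.UnitClasses

/-!
The number of images of an additive subgroup `A` of a hermitian space, against its order: for a
subgroup with small commutators (moved points) and for an arbitrary one (fixed points).
-/

set_option autoImplicit false
set_option linter.unusedSectionVars false

namespace Cfsg.Agent.MinDeg.Unitary

open Cfsg.Agent.ClassicalSimple Cfsg.Agent.MinDegree

variable {F V : Type*} [Field F] [Finite F] [AddCommGroup V] [Module F V] [FiniteDimensional F V]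
  {σ : F →+* F} {h : V →ₛₗ[σ] V →ₗ[F] F}

variable (h) in
/-- The span of the isotropic elements of a subgroup. -/
def isoSpan (A : AddSubgroup V) : Submodule F V := Submodule.span F {x | x ∈ A ∧ h x x = 0}

theorem isoSpan_subPerm (g : SUH h) (A : AddSubgroup V) :
    isoSpan h (subPerm g A) = (isoSpan h A).map ((g : UH h) : V ≃ₗ[F] V).toLinearMap := by
  rw [isoSpan, isoSpan, Submodule.map_span]
  congr 1
  ext x
  constructor
  · rintro ⟨⟨y, hy, rfl⟩, hx⟩
    exact ⟨y, ⟨hy, (uh_smul_smul (g : UH h) y y).symm.trans hx⟩, rfl⟩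
  · rintro ⟨y, ⟨hy, hyy⟩, rfl⟩
    exact ⟨⟨y, hy, rfl⟩, (uh_smul_smul (g : UH h) y y).trans hyy⟩

theorem mem_isoSpan_subPerm {g : SUH h} {A : AddSubgroup V} {x : V} (hx : x ∈ isoSpan h A) :
    g • x ∈ isoSpan h (subPerm g A) := by
  rw [isoSpan_subPerm]
  exact ⟨x, hx, rfl⟩

variable (hh : IsUnitaryForm σ h) {q : ℕ} (hq : Nat.card F = q ^ 2)
include hh hq

omit hq in
/-- The class of a vector. -/
theorem exists_class (h3 : 3 ≤ Module.finrank F V) {y : V} (hy : y ≠ 0) :
    ∃ C : Set V, y ∈ C ∧ (∀ x ∈ C, x ≠ 0) ∧ (∀ g : SUH h, ∀ x ∈ C, g • x ∈ C) ∧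
      (∀ x ∈ C, ∀ x' ∈ C, ∃ g : SUH h, g • x = x') ∧
      ((h y y = 0 ∧ C = isoV h) ∨ (h y y ≠ 0 ∧ C = normV h (h y y) ∧
        C.ncard = (normV h 1).ncard)) := by
  by_cases h0 : h y y = 0
  · exact ⟨isoV h, ⟨hy, h0⟩, fun _ hx => hx.1, fun g x hx => smul_iso g hx,
      fun x hx x' hx' => trans_iso hh h3 hx hx', Or.inl ⟨h0, rfl⟩⟩
  · exact ⟨normV h (h y y), rfl, normV_ne_zero hh h0, fun g x hx => smul_norm g hx,
      fun x hx x' hx' => trans_norm hh h3 h0 hx hx',
      Or.inr ⟨h0, rfl, card_norm_eq hh h0 (hh.σ_self y)⟩⟩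

omit hq in
/-- `k` images through an isotropic vector, and one through one of another norm. -/
theorem two_classes [Finite V] (h3 : 3 ≤ Module.finrank F V) {A : AddSubgroup V} {φ y : V}
    (hφA : φ ∈ A) (hφ : φ ∈ isoV h) (hyA : y ∈ A) (hy : h y y ≠ 0)
    {K : Set (AddSubgroup V)} (hK : K ⊆ imgs h A) (hKφ : ∀ T ∈ K, φ ∈ T) {k : ℕ}
    (hk : k ≤ K.ncard) :
    (isoV h).ncard * k + (normV h 1).ncard + (imgs h A).ncard ≤
      (imgs h A).ncard * Nat.card A := by
  have h1 := imgs_mem_incidence A (isoV h) (fun g x hx => smul_iso g hx)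
    (fun x hx x' hx' => trans_iso hh h3 hx hx') hφ K hK hKφ hk
  have h2 := imgs_mem_incidence A (normV h (h y y)) (fun g x hx => smul_norm g hx)
    (fun x hx x' hx' => trans_norm hh h3 hy hx hx') (y := y) rfl {A}
    (Set.singleton_subset_iff.2 (self_mem_imgs A))
    (fun T hT => (Set.mem_singleton_iff.1 hT).symm ▸ hyA) (k := 1) (Set.ncard_singleton A).ge
  rw [mul_one, card_norm_eq hh hy (hh.σ_self y)] at h2
  have h3' := Nat.mul_le_mul_left (imgs h A).ncard (ncard_inter_le₂ A (isoV h) (normV h (h y y))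
    (isoV_ne_zero hh) (normV_ne_zero hh hy) (iso_norm_disjoint hh hy))
  rw [Nat.mul_add, Nat.mul_add, mul_one] at h3'
  omega

omit hq in
/-- `k` images through an isotropic vector. -/
theorem one_class [Finite V] (h3 : 3 ≤ Module.finrank F V) {A : AddSubgroup V} {φ : V}
    (hφ : φ ∈ isoV h)
    {K : Set (AddSubgroup V)} (hK : K ⊆ imgs h A) (hKφ : ∀ T ∈ K, φ ∈ T) {k : ℕ}
    (hk : k ≤ K.ncard) :
    (isoV h).ncard * k + (imgs h A).ncard ≤ (imgs h A).ncard * Nat.card A := by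
  have h1 := imgs_mem_incidence A (isoV h) (fun g x hx => smul_iso g hx)
    (fun x hx x' hx' => trans_iso hh h3 hx hx') hφ K hK hKφ hk
  have h2 := Nat.mul_le_mul_left (imgs h A).ncard (ncard_inter_le A (isoV h) (isoV_ne_zero hh))
  rw [Nat.mul_add, mul_one] at h2
  omega

theorem card_submodule (U : Submodule F V) : Nat.card U = q ^ (2 * Module.finrank F U) := by
  rw [Module.natCard_eq_pow_finrank (K := F) (V := U), hq, ← pow_mul]

theorem card_V : Nat.card V = q ^ (2 * Module.finrank F V) := by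
  rw [Module.natCard_eq_pow_finrank (K := F) (V := V), hq, ← pow_mul]

/-- A subgroup contained in a totally isotropic span, at least two-dimensional. -/
theorem span_images {D : ℕ} (hn : Module.finrank F V = D) (hD : 3 ≤ D) {A : AddSubgroup V}
    (horth : ∀ φ ∈ A, h φ φ = 0 → ∀ x ∈ A, h φ x = 0) {φ : V} (hφA : φ ∈ A) (hφ : φ ∈ isoV h)
    (ht : 2 ≤ Module.finrank F (isoSpan h A)) (hA : Nat.card A ≤ q ^ D) :
    Nat.card A * (q ^ 2 + 1) ≤ (imgs h A).ncard * (q ^ 2 - 1) := by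
  have : Finite V := Module.finite_of_finite F
  set t := Module.finrank F (isoSpan h A)
  have hTI : ∀ x ∈ isoSpan h A, ∀ y ∈ isoSpan h A, h x y = 0 := fun x hx y hy =>
    span_orth hh (fun a ha b hb => horth a ha.1 ha.2 b hb.1) hx hy
  have ht2 : 2 * t ≤ D := hn ▸ finrank_isotropic hh hTI
  have hrank : ∀ T ∈ imgs h A, Module.finrank F (isoSpan h T) = t := by
    rintro T ⟨g, rfl⟩
    rw [isoSpan_subPerm]
    exact LinearEquiv.finrank_map_eq ((g : UH h) : V ≃ₗ[F] V) _
  set K : Set (AddSubgroup V) := {T | T ∈ imgs h A ∧ φ ∈ T}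
  set k := K.ncard
  have hKfin : K.Finite := (@Set.toFinite _ _ (@Subtype.finite _ (finite_addSubgroup h) _))
  have : Finite (AddSubgroup V) := finite_addSubgroup h
  obtain ⟨φ', hφ', h1⟩ := exists_isotropic_partner hh hφ.2 hφ.1
  have P : Pair h φ φ' := ⟨hφ.2, hφ', h1⟩
  have hWd : Module.finrank F (Wsp h φ φ') = D - 2 := by
    have := finrank_Wsp hh P
    omega
  set I' := (isoV (hW h φ φ')).ncard
  have hcount : q ^ 2 * I' ≤ k * (q ^ (2 * t) - q ^ 2) := by
    obtain ⟨x₀, ⟨hx₀A, hx₀⟩, hx₀φ⟩ : ∃ x ∈ {x | x ∈ A ∧ h x x = 0}, x ∉ Submodule.span F {φ} := by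
      by_contra hc
      push Not at hc
      have h2 : t ≤ Module.finrank F (Submodule.span F {φ}) :=
        Submodule.finrank_mono (Submodule.span_le.2 fun x hx => hc x hx)
      rw [finrank_span_singleton hφ.1] at h2
      omega
    let f : F × Wsp h φ φ' → V := fun p => p.1 • φ + (p.2 : V)
    have hf : Function.Injective f := fun p r e => by
      have e1 := congrArg (h φ') e
      have e2 := congrArg (prW hh P) e
      simp only [f, map_add, map_smul, smul_eq_mul, one_swap hh P, mul_one, (W_apply hh p.2).2.1,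
        (W_apply hh r.2).2.1, add_zero, prW_v hh P, smul_zero, zero_add, prW_coe hh P] at e1 e2
      exact Prod.ext e1 e2
    have hsub : f '' (Set.univ ×ˢ isoV (hW h φ φ')) ⊆
        ⋃ T ∈ K, (isoSpan h T : Set V) \ (Submodule.span F {φ} : Set V) := by
      rintro _ ⟨⟨a, w⟩, ⟨-, hw0, hww⟩, rfl⟩
      obtain ⟨w1, w2, w3, -⟩ := W_apply hh w
      have hnot : f (a, w) ∉ Submodule.span F {φ} := by
        rw [Submodule.mem_span_singleton]
        rintro ⟨c, hc⟩
        have e2 := congrArg (prW hh P) hc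
        simp [f, prW_v hh P, prW_coe hh P] at e2
        exact hw0 e2.symm
      have hff : h (f (a, w)) (f (a, w)) = 0 := by
        have hww : h (w : V) (w : V) = 0 := hww
        simp [f, hφ.2, w1, w3, hww]
      have hφf : h φ (f (a, w)) = 0 := by simp [f, hφ.2, w1]
      have hi : ∀ z : V, z ∉ Submodule.span F {φ} → LinearIndependent F ![φ, z] := fun z hz =>
        (LinearIndependent.pair_iff' hφ.1).2 fun c e => hz (Submodule.mem_span_singleton.2 ⟨c, e⟩)
      obtain ⟨g, c, hc, hgφ, hgx⟩ := exists_point_map hh hx₀ hff (horth φ hφA hφ.2 x₀ hx₀A) hφf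
        (hi x₀ hx₀φ) (hi _ hnot)
      refine Set.mem_iUnion₂.2 ⟨subPerm g A, ⟨⟨g, rfl⟩, ?_⟩, ?_, hnot⟩
      · have h' := (smul_mem_subPerm (g := g)).2 hφA
        rwa [hgφ] at h'
      · have h' := Submodule.smul_mem _ c⁻¹ (mem_isoSpan_subPerm (g := g)
          (show x₀ ∈ isoSpan h A from Submodule.subset_span ⟨hx₀A, hx₀⟩))
        rwa [hgx, inv_smul_smul₀ hc] at h'
    have h2 := Set.ncard_le_ncard hsub (Set.toFinite _)
    rw [Set.ncard_image_of_injective _ hf, Set.ncard_prod, Set.ncard_univ, hq] at h2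
    refine h2.trans ?_
    have hKc : k = hKfin.toFinset.card := Set.ncard_eq_toFinset_card K hKfin
    rw [hKc]
    have hU : (⋃ T ∈ K, (isoSpan h T : Set V) \ (Submodule.span F {φ} : Set V)) =
        ⋃ T ∈ hKfin.toFinset, (isoSpan h T : Set V) \ (Submodule.span F {φ} : Set V) := by
      simp
    rw [hU]
    refine (Finset.set_ncard_biUnion_le _ _).trans ((Finset.sum_le_card_nsmul _ _ _ fun T hT => ?_).trans
      (smul_eq_mul _ _).le)
    obtain ⟨hT, hφT⟩ := (Set.Finite.mem_toFinset _).1 hT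
    have hle : Submodule.span F {φ} ≤ isoSpan h T := (Submodule.span_singleton_le_iff_mem _ _).2
      (Submodule.subset_span ⟨hφT, hφ.2⟩)
    rw [Set.ncard_sdiff (fun x hx => hle hx) (Set.toFinite _)]
    refine le_of_eq ?_
    rw [← Nat.card_coe_set_eq, ← Nat.card_coe_set_eq]
    show Nat.card (isoSpan h T) - Nat.card (Submodule.span F {φ}) = _
    rw [card_submodule hh hq, card_submodule hh hq, hrank T hT, finrank_span_singleton hφ.1,
      mul_one]
  have hout : (isoV h).ncard * k ≤ (imgs h A).ncard * (q ^ (2 * t) - 1) := by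
    refine imgs_incidence A (isoV h) (fun T x => x ∈ isoSpan h T)
      (fun g T x hx => mem_isoSpan_subPerm hx)
      (fun x hx x' hx' => trans_iso hh (by omega) hx hx') hφ K (fun T hT => hT.1)
      (fun T hT => Submodule.subset_span ⟨hT.2, hφ.2⟩) le_rfl fun T hT => ?_
    rw [← hrank T hT, ← card_submodule hh hq]
    refine le_trans (Set.ncard_le_ncard (t := (isoSpan h T : Set V) \ {0})
      (fun x hx => ⟨hx.2, hx.1.1⟩) (Set.toFinite _)) (le_of_eq ?_)
    rw [Set.ncard_sdiff_singleton_of_mem (zero_mem _ : (0 : V) ∈ (isoSpan h T : Set V)),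
      ← Nat.card_coe_set_eq]
    rfl
  have hq2 := two_le_q hq
  have hsplit : q ^ (2 * t) - q ^ 2 = q ^ 2 * (q ^ (2 * (t - 1)) - 1) := by
    rw [Nat.mul_sub, mul_one, ← pow_add]
    congr 2
    omega
  rw [hsplit, mul_left_comm] at hcount
  have hcount' : I' ≤ k * (q ^ (2 * (t - 1)) - 1) :=
    Nat.le_of_mul_le_mul_left hcount (Nat.pow_pos (by omega))
  have hI := (class_facts hh hq hn (by omega)).1
  by_cases hD4 : D = 4
  · subst hD4
    obtain ht' : t = 2 := by omega
    rw [ht'] at hcount' hout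
    norm_num at hcount' hout
    have hI4 := card_iso hh hq (n := 3) hn
    have hI2 := card_iso (hW_isUnitary hh P) hq (n := 1) (hWd.trans rfl)
    norm_num at hI4 hI2
    have hI2' : I' + q + 1 = q ^ 3 + q ^ 2 := by zify; omega
    have hI4' : (isoV h).ncard + q ^ 3 + 1 = q ^ 7 + q ^ 4 := by zify; omega
    have hk : q + 1 ≤ k := by
      refine Nat.le_of_mul_le_mul_right (?_ : (q + 1) * (q ^ 2 - 1) ≤ k * (q ^ 2 - 1)) ?_
      · refine le_trans (le_of_eq ?_) hcount'
        have hI2'' := hI2'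
        obtain ⟨Q, hQ⟩ : ∃ Q, q ^ 2 = Q + 1 := ⟨q ^ 2 - 1, by
          have : 1 ≤ q ^ 2 := Nat.one_le_pow _ _ (by omega)
          omega⟩
        rw [show q ^ 3 = q * q ^ 2 by ring, hQ] at hI2''
        rw [hQ, Nat.add_sub_cancel]
        linarith
      · have : 4 ≤ q ^ 2 := Nat.pow_le_pow_left hq2 2
        omega
    refine num_four_lines hq2 hA ?_
    refine Nat.le_of_mul_le_mul_right (?_ : (q + 1) * (q ^ 3 + 1) * (q ^ 4 - 1) ≤
      (imgs h A).ncard * (q ^ 4 - 1)) ?_
    · refine le_trans ?_ hout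
      refine le_trans (le_of_eq ?_) (Nat.mul_le_mul_left _ hk)
      obtain ⟨Q, hQ⟩ : ∃ Q, q ^ 4 = Q + 1 := ⟨q ^ 4 - 1, by
        have : 1 ≤ q ^ 4 := Nat.one_le_pow _ _ (by omega)
        omega⟩
      rw [show q ^ 7 = q ^ 3 * q ^ 4 by ring, hQ] at hI4'
      rw [hQ, Nat.add_sub_cancel, show (isoV h).ncard = (q ^ 3 + 1) * Q by linarith]
      ring
    · have : 2 ^ 4 ≤ q ^ 4 := Nat.pow_le_pow_left hq2 4
      omega
  have hk : q ^ 2 ≤ k := by
    have h4 : 4 ≤ q ^ 2 := Nat.pow_le_pow_left hq2 2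
    by_contra hlt
    have h5 : k ≤ q ^ 2 - 1 := by omega
    by_cases hD5 : D = 5
    · subst hD5
      obtain ht' : t = 2 := by omega
      rw [ht'] at hcount'
      norm_num at hcount'
      have hI3 := ((class_facts (hW_isUnitary hh P) hq hWd (by omega)).2.2.2.2 (by omega)).1
      have h6 := hcount'.trans (Nat.mul_le_mul h5 (le_refl (q ^ 2 - 1)))
      obtain ⟨Q, hQ⟩ : ∃ Q, q ^ 2 = Q + 1 := ⟨q ^ 2 - 1, by omega⟩
      rw [hQ, Nat.add_sub_cancel] at h6
      have h7 : 2 * (q ^ 2 * q ^ 2) ≤ q ^ 5 := by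
        rw [show q ^ 5 = q * (q ^ 2 * q ^ 2) by ring]
        exact Nat.mul_le_mul_right _ hq2
      have h8 : q ^ 3 ≤ q ^ 2 * q ^ 2 := by
        rw [← pow_add]; exact Nat.pow_le_pow_right (by omega) (by omega)
      rw [hQ] at h7 h8 hI3
      nlinarith
    · have hI' := (class_facts (hW_isUnitary hh P) hq hWd (by omega)).1
      have h6 : I' ≤ (q ^ 2 - 1) * q ^ (D - 2) := by
        refine hcount'.trans (Nat.mul_le_mul h5 ((Nat.sub_le _ _).trans ?_))
        exact Nat.pow_le_pow_right (by omega) (by omega)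
      have h7 : q ^ 2 * q ^ (D - 2) < q ^ (2 * (D - 2) - 1) := by
        rw [← pow_add]
        exact Nat.pow_lt_pow_right (by omega) (by omega)
      rw [Nat.sub_mul, one_mul] at h6
      have : q ^ (D - 2) ≤ q ^ 2 * q ^ (D - 2) := Nat.le_mul_of_pos_left _ (by omega)
      omega
  refine num_sq_images hq2 (by omega) hI hA ?_
  calc q ^ 2 * (isoV h).ncard ≤ k * (isoV h).ncard := Nat.mul_le_mul_right _ hk
    _ ≤ (imgs h A).ncard * (q ^ (2 * t) - 1) := (mul_comm _ _).trans_le hout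
    _ ≤ (imgs h A).ncard * q ^ D := Nat.mul_le_mul_left _
        ((Nat.sub_le _ _).trans (Nat.pow_le_pow_right (by omega) ht2))

/-- A proper divisor of a power of a prime is at most half of it. -/
theorem card_half (A : AddSubgroup V) {e : ℕ} (hle : Nat.card A ≤ q ^ e) (hne : Nat.card A ≠ q ^ e) :
    2 * Nat.card A ≤ q ^ e := by
  have : Finite V := Module.finite_of_finite F
  obtain ⟨p, hp⟩ := CharP.exists F
  have := Fintype.ofFinite F
  obtain ⟨j, hpp, hj⟩ := FiniteField.card F p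
  rw [← Nat.card_eq_fintype_card, hq] at hj
  obtain ⟨m, -, hm⟩ := (Nat.dvd_prime_pow hpp).1 (hj ▸ dvd_pow_self q two_ne_zero : q ∣ p ^ (j : ℕ))
  have hdvd : Nat.card A ∣ p ^ ((j : ℕ) * Module.finrank F V) := by
    rw [pow_mul, ← hj, ← hq, ← Module.natCard_eq_pow_finrank (K := F) (V := V)]
    exact A.card_addSubgroup_dvd_card
  obtain ⟨a, -, ha⟩ := (Nat.dvd_prime_pow hpp).1 hdvd
  rw [hm, ← pow_mul, ha] at hle hne ⊢
  have hlt : a < m * e := by
    have := (Nat.pow_le_pow_iff_right hpp.one_lt).1 hle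
    exact lt_of_le_of_ne this fun e' => hne (e' ▸ rfl)
  calc 2 * p ^ a ≤ p * p ^ a := Nat.mul_le_mul_right _ hpp.two_le
    _ = p ^ (a + 1) := (pow_succ' p a).symm
    _ ≤ p ^ (m * e) := Nat.pow_le_pow_right hpp.pos hlt

/-- A subgroup whose isotropic span is a line. -/
theorem line_images {D : ℕ} (hn : Module.finrank F V = D) (hD : 3 ≤ D)
    (L : AddSubgroup (skewAdd σ)) {A : AddSubgroup V}
    (hA : ∀ w ∈ A, ∀ w' ∈ A, ∃ l ∈ L, (l : F) = h w w' - h w' w)
    (horth : ∀ φ ∈ A, h φ φ = 0 → ∀ x ∈ A, h φ x = 0) {φ : V} (hφA : φ ∈ A) (hφ : φ ∈ isoV h)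
    (ht : Module.finrank F (isoSpan h A) = 1) (hAD : Nat.card A ≤ q ^ D) :
    Nat.card A * (q ^ 2 + 1) ≤ (imgs h A).ncard * (q ^ 2 - 1) ∨
      D = 3 ∧ (Nat.card A * q ^ 2 ≤ (imgs h A).ncard * (q ^ 2 - 1) ∨
        L ≠ ⊥ ∧ Nat.card A * q ^ 3 ≤ (q + 1) * ((imgs h A).ncard * (q ^ 2 - 1))) := by
  have : Finite V := Module.finite_of_finite F
  have : Finite (AddSubgroup V) := finite_addSubgroup h
  have hq2 := two_le_q hq
  have hb : ∀ T ∈ imgs h A, {x ∈ isoV h | x ∈ isoSpan h T}.ncard ≤ q ^ 2 - 1 := by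
    rintro T ⟨g, rfl⟩
    refine le_trans (Set.ncard_le_ncard (t := (isoSpan h (subPerm g A) : Set V) \ {0})
      (fun x hx => ⟨hx.2, hx.1.1⟩) (Set.toFinite _)) (le_of_eq ?_)
    rw [Set.ncard_sdiff_singleton_of_mem (zero_mem _ : (0 : V) ∈ (isoSpan h (subPerm g A) : Set V)),
      ← Nat.card_coe_set_eq]
    show Nat.card (isoSpan h (subPerm g A)) - 1 = _
    rw [card_submodule hh hq, isoSpan_subPerm,
      LinearEquiv.finrank_map_eq ((g : UH h) : V ≃ₗ[F] V), ht, mul_one]
  have hinc : ∀ K : Set (AddSubgroup V), K ⊆ imgs h A → (∀ T ∈ K, φ ∈ isoSpan h T) →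
      (isoV h).ncard * K.ncard ≤ (imgs h A).ncard * (q ^ 2 - 1) := fun K hK hKφ =>
    imgs_incidence A (isoV h) (fun T x => x ∈ isoSpan h T) (fun g T x hx => mem_isoSpan_subPerm hx)
      (fun x hx x' hx' => trans_iso hh (by omega) hx hx') hφ K hK hKφ le_rfl hb
  have hone := hinc {A} (Set.singleton_subset_iff.2 (self_mem_imgs A))
    fun T hT => (Set.mem_singleton_iff.1 hT).symm ▸ Submodule.subset_span ⟨hφA, hφ.2⟩
  rw [Set.ncard_singleton, mul_one] at hone
  have hI := (class_facts hh hq hn (by omega)).1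
  by_cases hD4 : 4 ≤ D
  · refine Or.inl ((Nat.mul_le_mul_right _ ?_).trans ((num_line hq2 hD4 hI).trans hone))
    let S : AddSubgroup V := A ⊓ (isoSpan h A).toAddSubgroup
    refine (card_le_iso hh hq A S inf_le_left fun x hxA hx => ⟨hxA,
      Submodule.subset_span ⟨hxA, hx⟩⟩).trans ?_
    have hS : Nat.card S ≤ q ^ 2 := by
      have := AddSubgroup.card_dvd_of_le (inf_le_right : S ≤ (isoSpan h A).toAddSubgroup)
      refine le_of_le_of_eq (Nat.le_of_dvd Nat.card_pos this) ?_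
      show Nat.card (isoSpan h A) = _
      rw [card_submodule hh hq, ht, mul_one]
    calc q ^ 2 * Nat.card S ≤ q ^ 2 * q ^ 2 := Nat.mul_le_mul_left _ hS
      _ = q ^ 4 := by rw [← pow_add]
  obtain rfl : D = 3 := by omega
  refine Or.inr ⟨rfl, ?_⟩
  have hI3 := ((class_facts hh hq hn (by omega)).2.2.2.2 rfl).1
  have h23 : q ^ 3 ≤ q ^ 4 := Nat.pow_le_pow_right (by omega) (by omega)
  have h45 : 2 * q ^ 4 ≤ q ^ 5 := by
    rw [pow_succ' q 4]; exact Nat.mul_le_mul_right _ hq2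
  by_cases hhalf : Nat.card A = q ^ 3
  swap
  · refine Or.inl (le_trans ?_ hone)
    have h1 := Nat.mul_le_mul_right (q ^ 2) (card_half hh hq A hAD hhalf)
    rw [← pow_add, mul_assoc] at h1
    norm_num at h1
    have h2 : 1 ≤ q ^ 2 := Nat.one_le_pow _ _ (by omega)
    have h16 : 2 ^ 4 ≤ q ^ 4 := Nat.pow_le_pow_left hq2 4
    omega
  by_cases hL : L = ⊥
  swap
  · refine Or.inr ⟨hL, le_trans ?_ (Nat.mul_le_mul_left _ hone)⟩
    rw [hhalf, ← pow_add]
    norm_num
    obtain ⟨r, rfl⟩ : ∃ r, q = r + 2 := ⟨q - 2, by omega⟩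
    have hI' : (isoV h).ncard = r ^ 5 + 10 * r ^ 4 + 39 * r ^ 3 + 75 * r ^ 2 + 72 * r + 27 := by
      ring_nf at hI3 ⊢; omega
    rw [hI']
    ring_nf
    omega
  refine Or.inl ?_
  obtain ⟨a, haA, ha⟩ : ∃ a ∈ A, a ∉ isoSpan h A := by
    by_contra hc
    push Not at hc
    have h1 : Nat.card A ≤ Nat.card (isoSpan h A) :=
      Nat.card_le_card_of_injective (fun x => ⟨x.1, hc x.1 x.2⟩)
        fun x y e => Subtype.ext (congrArg Subtype.val e :)
    rw [hhalf, card_submodule hh hq, ht, mul_one] at h1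
    have := Nat.pow_lt_pow_right (a := q) (by omega) (show 2 < 3 by omega)
    omega
  have haa : h a a ≠ 0 := fun e => ha (Submodule.subset_span ⟨haA, e⟩)
  have hφa : h φ a = 0 := horth φ hφA hφ.2 a haA
  have hi : LinearIndependent F ![φ, a] := (LinearIndependent.pair_iff' hφ.1).2 fun c e => haa (by
    rw [← e]; simp [hφ.2])
  obtain ⟨y, hy1, hy0⟩ := exists_h_pair hh hi 1 0
  obtain ⟨k, hk⟩ := exists_iso_add hh (y := y) hφ.2 (fun e => by
    rw [hh.comm_zero e] at hy1
    exact one_ne_zero hy1.symm)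
  have hφy : h φ (y + k • φ) = 1 := by simp [hy1, hφ.2]
  have hay : h (y + k • φ) a = 0 := by
    simp [hh.comm_zero hy0, hφa]
  obtain ⟨μ, hμ0, hμ⟩ : ∃ μ : F, μ ≠ 0 ∧ σ μ * σ μ ≠ μ * μ := by
    by_contra hc
    push Not at hc
    obtain ⟨b, hb⟩ := hh.ne_id
    have hb0 : b ≠ 0 := fun e => hb (by rw [e, map_zero])
    rcases mul_self_eq_mul_self_iff.1 (hc b hb0) with e | e
    · exact hb e
    by_cases h2 : (2 : F) = 0
    · exact hb (e.trans (by linear_combination (-b) * h2))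
    have hb1 : b + 1 ≠ 0 := fun e1 => hb (by
      rw [show b = -1 by linear_combination e1, map_neg, map_one])
    have h1 := hc (b + 1) hb1
    rw [map_add, map_one, e] at h1
    exact (mul_ne_zero (mul_ne_zero h2 h2) hb0) (by linear_combination -h1)
  have hσμ : σ μ ≠ 0 := (map_ne_zero σ).2 hμ0
  set lam := σ μ / μ with hlam
  have hd : (lam - 1) / h a a + σ ((lam - 1) / h a a) +
      (lam - 1) / h a a * σ ((lam - 1) / h a a) * h a a = 0 := by
    rw [hlam, map_div₀, map_sub, map_div₀, map_one, hh.invol, hh.σ_self]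
    field_simp
    ring
  let g : SUH h := ⟨uTorus hh hφ.2 hk hφy hμ0 * uDil hh a _ hd, by
    rw [mem_SUH]
    change LinearMap.det ((((uTorus hh hφ.2 hk hφy hμ0 : UH h) : V ≃ₗ[F] V) : V →ₗ[F] V).comp
      ((uDil hh a _ hd : V ≃ₗ[F] V) : V →ₗ[F] V)) = 1
    rw [LinearMap.det_comp, uTorus_det, uDil_det, div_mul_cancel₀ _ haa, add_sub_cancel, hlam]
    field_simp⟩
  have hgφ : g • φ = μ • φ := by
    show (uTorus hh hφ.2 hk hφy hμ0 * uDil hh a _ hd) • φ = _
    rw [mul_smul, uDil_smul, hh.comm_zero hφa, mul_zero, zero_smul, add_zero, uTorus_smul, hφ.2,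
      hh.swap φ (y + k • φ), hφy, map_one, mul_one, mul_zero, zero_smul, add_zero]
    module
  have hga : g • a = lam • a := by
    show (uTorus hh hφ.2 hk hφy hμ0 * uDil hh a _ hd) • a = _
    rw [mul_smul, uDil_smul, div_mul_cancel₀ _ haa, show a + (lam - 1) • a = lam • a by module,
      uTorus_smul, map_smul, map_smul, hay, hφa]
    simp
  have hne : subPerm g A ≠ A := by
    intro e
    have h' : lam • a ∈ A := hga ▸ e ▸ (smul_mem_subPerm (g := g)).2 haA
    obtain ⟨l, hl, el⟩ := hA a haA _ h'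
    rw [hL, AddSubgroup.mem_bot] at hl
    subst hl
    simp only [ZeroMemClass.coe_zero, map_smul, map_smulₛₗ, LinearMap.smul_apply, smul_eq_mul,
      hlam, map_div₀, hh.invol] at el
    field_simp at el
    exact hμ (sub_eq_zero.1 ((mul_eq_zero.1 (by linear_combination -el :
      h a a * (σ μ * σ μ - μ * μ) = 0)).resolve_left haa))
  have hK := hinc {A, subPerm g A} (fun T hT => ?_) (fun T hT => ?_)
  · rw [Set.ncard_pair hne.symm] at hK
    refine le_trans ?_ hK
    rw [hhalf, ← pow_add]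
    norm_num
    have h16 : 2 ^ 4 ≤ q ^ 4 := Nat.pow_le_pow_left hq2 4
    have h1 : 1 ≤ q ^ 2 := Nat.one_le_pow _ _ (by omega)
    omega
  · rcases hT with rfl | rfl
    exacts [self_mem_imgs _, ⟨g, rfl⟩]
  · rcases hT with rfl | rfl
    · exact Submodule.subset_span ⟨hφA, hφ.2⟩
    · have h' := Submodule.smul_mem _ μ⁻¹ (mem_isoSpan_subPerm (g := g)
        (show φ ∈ isoSpan h A from Submodule.subset_span ⟨hφA, hφ.2⟩))
      rwa [hgφ, inv_smul_smul₀ hμ0] at h'

/-- The bound for the images of a subgroup with small commutators. -/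
theorem moved_ineq {D : ℕ} (hn : Module.finrank F V = D) (hD : 3 ≤ D)
    {L : AddSubgroup (skewAdd σ)} (hL : L ≠ ⊤) {A : AddSubgroup V} (hA0 : A ≠ ⊥)
    (hA : ∀ w ∈ A, ∀ w' ∈ A, ∃ l ∈ L, (l : F) = h w w' - h w' w) :
    Nat.card A * (q ^ 2 + 1) ≤ (imgs h A).ncard * (q ^ 2 - 1) ∨
      D = 3 ∧ (Nat.card A * q ^ 2 ≤ (imgs h A).ncard * (q ^ 2 - 1) ∨
        L ≠ ⊥ ∧ Nat.card A * q ^ 3 ≤ (q + 1) * ((imgs h A).ncard * (q ^ 2 - 1))) := by
  have : Finite V := Module.finite_of_finite F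
  have hq2 := two_le_q hq
  have hsq : Nat.card A * Nat.card A ≤ q ^ (2 * D) := by
    rw [← hn, ← card_V hh hq]
    refine card_sq_le hh L hL (t := 1) (map_one σ) one_ne_zero A fun w hw w' hw' => ?_
    simpa using hA w hw w' hw'
  have hAD : Nat.card A ≤ q ^ D := by
    rw [← Nat.mul_self_le_mul_self_iff, ← pow_add, ← two_mul]
    exact hsq
  obtain ⟨hI, -, hN, -, hD3⟩ := class_facts hh hq hn (by omega)
  by_cases hsmall : Nat.card A ≤ q ^ 2
  · obtain ⟨y, hyA, hy0⟩ : ∃ y ∈ A, y ≠ 0 := by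
      by_contra hc
      push Not at hc
      exact hA0 ((AddSubgroup.eq_bot_iff_forall A).2 hc)
    obtain ⟨C, hyC, hC0, hCinv, hCtr, hC⟩ := exists_class hh (by omega : 3 ≤ Module.finrank F V) hy0
    have hCcard : q ^ (2 * D - 1) ≤ C.ncard + q ^ D := by
      rcases hC with ⟨-, rfl⟩ | ⟨-, -, e⟩
      · exact hI
      · rw [e]; exact hN
    have h1 := imgs_mem_incidence A C hCinv hCtr hyC {A}
      (Set.singleton_subset_iff.2 (self_mem_imgs A))
      (fun T hT => (Set.mem_singleton_iff.1 hT).symm ▸ hyA) (k := 1) (Set.ncard_singleton A).ge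
    rw [mul_one] at h1
    have h2 := ncard_inter_le A C hC0
    refine Or.inl ((Nat.mul_le_mul_right _ hsmall).trans ((num_small hq2 hD hCcard).trans
      (h1.trans (Nat.mul_le_mul_left _ (by omega)))))
  obtain ⟨φ, hφA, hφ⟩ : ∃ φ ∈ A, φ ∈ isoV h := by
    by_contra hc
    push Not at hc
    refine hsmall ((card_le_iso hh hq A ⊥ bot_le fun x hxA hx => ?_).trans (by simp))
    by_contra hx0
    exact hc x hxA ⟨hx0, hx⟩
  have h3 : 3 ≤ Module.finrank F V := by omega
  by_cases horth : ∀ φ ∈ A, h φ φ = 0 → ∀ x ∈ A, h φ x = 0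
  swap
  · push Not at horth
    obtain ⟨φ, hφA, hφ, x, hxA, hφx⟩ := horth
    have hφV : φ ∈ isoV h := ⟨fun e => hφx (by simp [e]), hφ⟩
    obtain ⟨K, hK, hKφ, hk, hk3⟩ := radical_images hh hq hn hD hL hA hφA hφ hxA hφx
    by_cases hD4 : 4 ≤ D
    · have h1 := one_class hh h3 hφV hK hKφ hk
      exact Or.inl (num_images hq2 hD4 hI hsq (le_trans (Nat.le_add_right _ _) h1) Nat.card_pos)
    obtain rfl : D = 3 := by omega
    refine Or.inr ⟨rfl, Or.inl ?_⟩
    obtain ⟨hI3, hN3⟩ := hD3 rfl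
    by_cases hiso : ∀ y ∈ A, h y y = 0
    · have h1 := one_class hh h3 hφV hK hKφ (hk3 rfl hiso)
      exact num_three_iso hq2 hI3 (le_trans (Nat.le_add_right _ _) h1) hsq Nat.card_pos
    · push Not at hiso
      obtain ⟨y, hyA, hy⟩ := hiso
      have h1 := two_classes hh h3 hφA hφV hyA hy hK hKφ hk
      norm_num at h1
      exact num_three_mixed hq2 hI3 hN3 (le_trans (Nat.le_add_right _ _) h1) hsq Nat.card_pos
  have hne : isoSpan h A ≠ ⊥ := fun e => hφ.1 ((Submodule.mem_bot F).1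
    (e ▸ Submodule.subset_span ⟨hφA, hφ.2⟩))
  have ht := Submodule.one_le_finrank_iff.2 hne
  by_cases ht1 : Module.finrank F (isoSpan h A) = 1
  · exact line_images hh hq hn hD L hA horth hφA hφ ht1 hAD
  · exact Or.inl (span_images hh hq hn hD horth hφA hφ (by omega) hAD)

/-- A second image through an isotropic vector. -/
theorem second_image {D : ℕ} (hn : Module.finrank F V = D) (hD : 3 ≤ D) {A : AddSubgroup V}
    (hiso : ∀ y ∈ A, h y y = 0) (hbig : q ^ 2 < Nat.card A) :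
    ∃ φ ∈ isoV h, ∃ K : Set (AddSubgroup V), K ⊆ imgs h A ∧ (∀ T ∈ K, φ ∈ T) ∧ 2 ≤ K.ncard := by
  have : Finite V := Module.finite_of_finite F
  have : Finite (AddSubgroup V) := finite_addSubgroup h
  suffices hkey : ∃ φ, φ ∈ isoV h ∧ φ ∈ A ∧ ∃ g : SUH h, g • φ = φ ∧ subPerm g A ≠ A by
    obtain ⟨φ, hφ, hφA, g, hgφ, hne⟩ := hkey
    refine ⟨φ, hφ, {A, subPerm g A}, ?_, ?_, (Set.ncard_pair hne.symm).ge⟩
    · rintro T (rfl | rfl)
      exacts [self_mem_imgs _, ⟨g, rfl⟩]
    · rintro T (rfl | rfl)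
      · exact hφA
      · have h' := (smul_mem_subPerm (g := g)).2 hφA
        rwa [hgφ] at h'
  by_cases horth : ∀ φ ∈ A, ∀ x ∈ A, h φ x = 0
  swap
  · push Not at horth
    obtain ⟨φ, hφA, x, hxA, hφx⟩ := horth
    have hφ := hiso φ hφA
    have hφ0 : φ ≠ 0 := fun e => hφx (by simp [e])
    obtain ⟨φ', hφ', h1⟩ := exists_isotropic_partner hh hφ hφ0
    have P : Pair h φ φ' := ⟨hφ, hφ', h1⟩
    obtain ⟨w, hw⟩ := exists_norm_one (hW_isUnitary hh P) hq (D := D - 2)
      (by have := finrank_Wsp hh P; omega) (by omega)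
    have hw : h (w : V) (w : V) = 1 := hw
    obtain ⟨d, hd⟩ := hh.exists_trace_one
    obtain ⟨a1, -, a3, -⟩ := W_apply hh w
    have o : Ok h φ (w : V) (-d) := ⟨hφ, a1, by rw [hw, map_neg]; linear_combination -hd⟩
    refine ⟨φ, ⟨hφ0, hφ⟩, hφA, rt hh φ (w : V) (-d), rt_smul_v hh o, fun e => ?_⟩
    have h2 : rt hh φ (w : V) (-d) • x ∈ A := e ▸ smul_mem_subPerm.2 hxA
    have h3 := hiso _ (sub_mem h2 hxA)
    rw [rt_smul hh o, add_assoc, add_sub_cancel_left] at h3
    simp only [map_add, map_smulₛₗ, LinearMap.add_apply, LinearMap.smul_apply, smul_eq_mul,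
      RingHom.id_apply, hφ, a1, a3, hw, mul_zero, add_zero, mul_one] at h3
    exact mul_ne_zero hφx ((map_ne_zero σ).2 hφx) (by linear_combination h3)
  obtain ⟨φ, hφA, hφ0⟩ : ∃ φ ∈ A, φ ≠ 0 := by
    by_contra hc
    push Not at hc
    rw [(AddSubgroup.eq_bot_iff_forall A).2 hc, AddSubgroup.card_bot] at hbig
    have : 1 ≤ q ^ 2 := Nat.one_le_pow _ _ (by have := two_le_q hq; omega)
    omega
  obtain ⟨x, hxA, hxφ⟩ : ∃ x ∈ A, x ∉ Submodule.span F {φ} := by
    by_contra hc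
    push Not at hc
    have h1 : Nat.card A ≤ Nat.card (Submodule.span F {φ}) :=
      Nat.card_le_card_of_injective (fun x => ⟨x.1, hc x.1 x.2⟩)
        fun x y e => Subtype.ext (congrArg Subtype.val e :)
    rw [card_submodule hh hq, finrank_span_singleton hφ0, mul_one] at h1
    omega
  have hi : LinearIndependent F ![φ, x] := (LinearIndependent.pair_iff' hφ0).2 fun c e =>
    hxφ (Submodule.mem_span_singleton.2 ⟨c, e⟩)
  obtain ⟨y, hy0, hy1⟩ := exists_h_pair hh hi 0 1
  obtain ⟨k, hk⟩ := exists_iso_add hh (y := y) (hiso x hxA) (fun e => by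
    rw [hh.comm_zero e] at hy1
    exact zero_ne_one hy1)
  have hφx' : h φ (y + k • x) = 0 := by simp [hy0, horth φ hφA x hxA]
  have hxx' : h x (y + k • x) = 1 := by simp [hy1, hiso x hxA]
  obtain ⟨g, c, hc, hgx, hfix⟩ := exists_move hh (hiso x hxA) hk (by rw [hxx']; exact one_ne_zero)
  refine ⟨φ, ⟨hφ0, hiso φ hφA⟩, hφA, g, hfix φ (hh.comm_zero (horth φ hφA x hxA))
    (hh.comm_zero hφx'), fun e => ?_⟩
  have h2 : c • (y + k • x) ∈ A := hgx ▸ e ▸ smul_mem_subPerm.2 hxA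
  have h3 := horth x hxA _ h2
  rw [map_smul, hxx', smul_eq_mul, mul_one] at h3
  exact hc h3

omit hq in
/-- A subgroup with one non-zero norm has at most four elements. -/
theorem card_le_four [Finite V] {A : AddSubgroup V} {c : F} (hc : c ≠ 0)
    (hA : ∀ x ∈ A, x ≠ 0 → h x x = c) : Nat.card A ≤ 4 := by
  classical
  by_contra hlt
  obtain ⟨y, hyA, hy0⟩ : ∃ y ∈ A, y ≠ 0 := by
    by_contra hc'
    push Not at hc'
    rw [(AddSubgroup.eq_bot_iff_forall A).2 hc', AddSubgroup.card_bot] at hlt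
    omega
  have hpick : ∀ s : Finset V, s.card ≤ 4 → ∃ z ∈ A, z ∉ s := fun s hs => by
    by_contra hc'
    push Not at hc'
    have h1 : Nat.card A ≤ Nat.card s := Nat.card_le_card_of_injective
      (fun x => ⟨x.1, hc' x.1 x.2⟩) fun x z e => Subtype.ext (congrArg Subtype.val e :)
    rw [Nat.card_eq_fintype_card (α := s), Fintype.card_coe] at h1
    omega
  have htr : ∀ a ∈ A, ∀ b ∈ A, a ≠ 0 → b ≠ 0 → a + b ≠ 0 → h a b + h b a = -c := by
    intro a ha b hb ha0 hb0 hab
    have e := hA _ (add_mem ha hb) hab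
    simp only [map_add, LinearMap.add_apply, hA a ha ha0, hA b hb hb0] at e
    linear_combination e
  obtain ⟨z, hzA, hz⟩ := hpick {0, y, -y} (Finset.card_le_three.trans (by omega))
  simp only [Finset.mem_insert, Finset.mem_singleton, not_or] at hz
  obtain ⟨hz0, hzy, hzy'⟩ := hz
  have hyz : y + z ≠ 0 := fun e => hzy' (eq_neg_of_add_eq_zero_right e)
  have h2 : (2 : F) = 0 := by
    have e1 := htr y hyA z hzA hy0 hz0 hyz
    have e2 := htr y hyA (-z) (neg_mem hzA) hy0 (neg_ne_zero.2 hz0)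
      (fun e => hzy (add_neg_eq_zero.1 e).symm)
    simp only [map_neg, LinearMap.neg_apply] at e2
    exact (mul_eq_zero.1 (by linear_combination e1 + e2 : c * 2 = 0)).resolve_left hc
  obtain ⟨w, hwA, hw⟩ := hpick {0, y, z, -(y + z)} Finset.card_le_four
  simp only [Finset.mem_insert, Finset.mem_singleton, not_or] at hw
  obtain ⟨hw0, hwy, hwz, hwyz⟩ := hw
  have hsum : y + z + w ≠ 0 := fun e => hwyz (eq_neg_of_add_eq_zero_right e)
  have hneg : ∀ x : V, -x = x := fun x => by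
    rw [neg_eq_iff_add_eq_zero, ← two_smul F x, h2, zero_smul]
  have e := htr (y + z) (add_mem hyA hzA) w hwA hyz hw0 hsum
  have e1 := htr y hyA w hwA hy0 hw0 (fun e => hwy ((eq_neg_of_add_eq_zero_right e).trans (hneg y)))
  have e2 := htr z hzA w hwA hz0 hw0 (fun e => hwz ((eq_neg_of_add_eq_zero_right e).trans (hneg z)))
  simp only [map_add, LinearMap.add_apply] at e
  exact hc (by linear_combination e1 + e2 - e)

/-- The bound for the images of a fixed part. -/
theorem fixed_ineq {D : ℕ} (hn : Module.finrank F V = D) (hD : 3 ≤ D) {A : AddSubgroup V}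
    (hA0 : A ≠ ⊥) :
    q ^ 2 * (isoV h).ncard ≤ (imgs h A).ncard * Nat.card A * (q ^ 2 - 1) ∨
      q = 2 ∧ Even D ∧
        q ^ 2 * (normV h 1).ncard ≤ (imgs h A).ncard * Nat.card A * (q ^ 2 - 1) := by
  have : Finite V := Module.finite_of_finite F
  have hq2 := two_le_q hq
  have h3 : 3 ≤ Module.finrank F V := by omega
  obtain ⟨hI, hI', hN, hodd, -⟩ := class_facts hh hq hn (by omega)
  set M := (imgs h A).ncard
  set I := (isoV h).ncard
  set N := (normV h 1).ncard
  obtain ⟨Q, hQ⟩ : ∃ Q, q ^ 2 = Q + 1 :=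
    ⟨q ^ 2 - 1, by have : 1 ≤ q ^ 2 := Nat.one_le_pow _ _ (by omega); omega⟩
  have hQ3 : 3 ≤ Q := by have : 4 ≤ q ^ 2 := Nat.pow_le_pow_left hq2 2; omega
  have hqD : 4 * q ^ D ≤ q ^ (2 * D - 1) := by
    rw [show 2 * D - 1 = (D - 1) + D by omega, pow_add]
    refine Nat.mul_le_mul_right _ ((Nat.pow_le_pow_left hq2 2).trans ?_)
    exact Nat.pow_le_pow_right (by omega) (by omega)
  rw [hQ, Nat.add_sub_cancel]
  by_cases hbig : Nat.card A ≤ q ^ 2
  · have hfin : ∀ C, C + M ≤ M * Nat.card A → (Q + 1) * C ≤ M * Nat.card A * Q := by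
      intro C hC
      have h1 : M * Nat.card A ≤ M * (Q + 1) := Nat.mul_le_mul_left _ (hQ ▸ hbig)
      nlinarith
    have hcls : ∀ y ∈ A, y ≠ 0 → (h y y = 0 → I + M ≤ M * Nat.card A) ∧
        (h y y ≠ 0 → N + M ≤ M * Nat.card A) := by
      intro y hyA hy0
      obtain ⟨C, hyC, hC0, hCinv, hCtr, hC⟩ := exists_class hh h3 hy0
      have h1 := imgs_mem_incidence A C hCinv hCtr hyC {A}
        (Set.singleton_subset_iff.2 (self_mem_imgs A))
        (fun T hT => (Set.mem_singleton_iff.1 hT).symm ▸ hyA) (k := 1) (Set.ncard_singleton A).ge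
      have h2 := Nat.mul_le_mul_left M (ncard_inter_le A C hC0)
      rw [mul_one] at h1
      rw [Nat.mul_add, mul_one] at h2
      have hle : C.ncard + M ≤ M * Nat.card A := le_trans (Nat.add_le_add_right h1 _) h2
      rcases hC with ⟨h0, rfl⟩ | ⟨h0, -, e⟩
      · exact ⟨fun _ => hle, fun h' => absurd h0 h'⟩
      · rw [e] at hle
        exact ⟨fun h' => absurd h' h0, fun _ => hle⟩
    by_cases hiso : ∃ y ∈ A, y ≠ 0 ∧ h y y = 0
    · obtain ⟨y, hyA, hy0, hy⟩ := hiso
      exact Or.inl (hfin I ((hcls y hyA hy0).1 hy))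
    push Not at hiso
    obtain ⟨y, hyA, hy0⟩ : ∃ y ∈ A, y ≠ 0 := by
      by_contra hc
      push Not at hc
      exact hA0 ((AddSubgroup.eq_bot_iff_forall A).2 hc)
    have hN1 := hfin N ((hcls y hyA hy0).2 (hiso y hyA hy0))
    rcases Nat.even_or_odd D with hev | hod
    swap
    · exact Or.inl (le_trans (Nat.mul_le_mul_left _ (hodd hod).1) hN1)
    by_cases hq2' : q = 2
    · exact Or.inr ⟨hq2', hev, hN1⟩
    refine Or.inl ?_
    by_cases hone : ∀ z ∈ A, z ≠ 0 → h z z = h y y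
    · have h4 := card_le_four hh (hiso y hyA hy0) hone
      have h5 := (hcls y hyA hy0).2 (hiso y hyA hy0)
      have h6 := Nat.mul_le_mul_left M h4
      have hQ8 : 8 ≤ Q := by
        have : 9 ≤ q ^ 2 := Nat.pow_le_pow_left (show 3 ≤ q by omega) 2
        omega
      have hD4 : 4 ≤ D := by
        rcases hev with ⟨m, rfl⟩
        omega
      have hqD' : 27 * q ^ D ≤ q ^ (2 * D - 1) := by
        rw [show 2 * D - 1 = (D - 1) + D by omega, pow_add]
        refine Nat.mul_le_mul_right _ ((Nat.pow_le_pow_left (show 3 ≤ q by omega) 3).trans ?_)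
        exact Nat.pow_le_pow_right (by omega) (by omega)
      have h7 : 27 * I ≤ 32 * N := by omega
      -- `4 N ≤ 3 M |A|`
      have h8 : 4 * N ≤ 3 * (M * Nat.card A) := by omega
      nlinarith
    · push Not at hone
      obtain ⟨z, hzA, hz0, hz⟩ := hone
      have hd : Disjoint (normV h (h y y)) (normV h (h z z)) :=
        Set.disjoint_left.2 fun x hx hx' => hz (Eq.trans (Eq.symm hx') hx)
      have hinc : ∀ u ∈ A, h u u ≠ 0 → N ≤ M * ((A : Set V) ∩ normV h (h u u)).ncard := by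
        intro u hu hu0
        have := imgs_mem_incidence A (normV h (h u u)) (fun g x hx => smul_norm g hx)
          (fun x hx x' hx' => trans_norm hh h3 hu0 hx hx') (y := u) rfl {A}
          (Set.singleton_subset_iff.2 (self_mem_imgs A))
          (fun T hT => (Set.mem_singleton_iff.1 hT).symm ▸ hu) (k := 1) (Set.ncard_singleton A).ge
        rwa [mul_one, card_norm_eq hh hu0 (hh.σ_self u)] at this
      have h5 := Nat.mul_le_mul_left M (ncard_inter_le₂ A _ _ (normV_ne_zero hh (hiso y hyA hy0))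
        (normV_ne_zero hh (hiso z hzA hz0)) hd)
      rw [Nat.mul_add, Nat.mul_add, mul_one] at h5
      have h6 := hinc y hyA (hiso y hyA hy0)
      have h7 := hinc z hzA (hiso z hzA hz0)
      exact le_trans (Nat.mul_le_mul_left _ (by omega : I ≤ 2 * N))
        (hfin (2 * N) (by omega))
  push Not at hbig
  obtain ⟨φ, hφA, hφ⟩ : ∃ φ ∈ A, φ ∈ isoV h := by
    by_contra hc
    push Not at hc
    refine (not_le.2 hbig) ((card_le_iso hh hq A ⊥ bot_le fun x hxA hx => ?_).trans (by simp))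
    by_contra hx0
    exact hc x hxA ⟨hx0, hx⟩
  refine Or.inl ?_
  by_cases hiso : ∀ y ∈ A, h y y = 0
  · obtain ⟨φ', hφ', K, hK, hKφ, hk⟩ := second_image hh hq hn hD hiso hbig
    have h1 := one_class hh h3 hφ' hK hKφ hk
    calc (Q + 1) * I ≤ 2 * Q * I := Nat.mul_le_mul_right _ (by omega)
      _ = I * 2 * Q := by ring
      _ ≤ M * Nat.card A * Q :=
        Nat.mul_le_mul_right _ ((Nat.le_add_right _ M).trans h1)
  · push Not at hiso
    obtain ⟨y, hyA, hy⟩ := hiso
    have h1 := two_classes hh h3 hφA hφ hyA hy (Set.singleton_subset_iff.2 (self_mem_imgs A))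
      (fun T hT => (Set.mem_singleton_iff.1 hT).symm ▸ hφA) (k := 1) (Set.ncard_singleton A).ge
    have h2 : I ≤ N * Q := le_trans (by omega : I ≤ N * 3) (Nat.mul_le_mul_left _ hQ3)
    calc (Q + 1) * I = I * Q + I := by ring
      _ ≤ I * Q + N * Q := Nat.add_le_add_left h2 _
      _ = (I * 1 + N) * Q := by ring
      _ ≤ M * Nat.card A * Q := Nat.mul_le_mul_right _ ((Nat.le_add_right _ M).trans h1)

end Cfsg.Agent.MinDeg.Unitary
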