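import Cfsg.Agent.Lib.MinDeg.UnitIneq

/-!
In a small action of a unitary group, a point moved by some transvection of `v` lies in one
regular orbit of the radical of `v`.
-/

set_option autoImplicit false
set_option linter.unusedSectionVars false

namespace Cfsg.Agent.MinDeg.Unitary

open Cfsg.Agent.ClassicalSimple Cfsg.Agent.MinDegree

variable {F V : Type*} [Field F] [Finite F] [AddCommGroup V] [Module F V] [FiniteDimensional F V]
  {σ : F →+* F} {h : V →ₛₗ[σ] V →ₗ[F] F} {Ω : Type*}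

/-- A small non-trivial transitive action. -/
structure Hyp (hh : IsUnitaryForm σ h) (q D : ℕ) (ρ : SUH h →* Equiv.Perm Ω) : Prop where
  hq : Nat.card F = q ^ 2
  dim : Module.finrank F V = D + 2
  three : 3 ≤ D
  trans : ∀ a b : Ω, ∃ g, ρ g a = b
  nontriv : Nontrivial Ω
  fin : Finite Ω
  small : Nat.card Ω * (q ^ 2 - 1) < (isoV h).ncard

variable (hh : IsUnitaryForm σ h)
include hh

/-- The conjugates of `L`. -/
noncomputable def Lset (L : AddSubgroup (skewAdd σ)) : Set (AddSubgroup (skewAdd σ)) :=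
  Set.range fun a : Fˣ => scaleL hh (a : F) L

theorem Lset_weight {q : ℕ} (hq : Nat.card F = q ^ 2) {L : AddSubgroup (skewAdd σ)} (hL : L ≠ ⊤) :
    q ≤ (Lset hh L).ncard * L.index ∧ (L ≠ ⊥ → q + 1 ≤ (Lset hh L).ncard * L.index) := by
  classical
  have := Fintype.ofFinite F
  have : Finite (AddSubgroup (skewAdd σ)) :=
    Finite.of_injective (fun K : AddSubgroup (skewAdd σ) => (K : Set (skewAdd σ)))
      SetLike.coe_injective
  have := Fintype.ofFinite (AddSubgroup (skewAdd σ))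
  have hi2 : 2 ≤ L.index := by
    have h1 : L.index ≠ 1 := fun e => hL (AddSubgroup.index_eq_one.1 e)
    have h2 : L.index ≠ 0 := AddSubgroup.index_ne_zero_of_finite
    omega
  let K := Finset.univ.filter fun c : F => c ≠ 0 ∧ σ c = c
  have hK : K.card = q - 1 := by
    rw [← card_fixed hq hh, Nat.card_eq_fintype_card, Fintype.card_subtype]
  have hroot : ∀ t ∈ K, ∃ a : Fˣ, σ (a : F) * (a : F) = t := fun t ht => by
    obtain ⟨ht0, htσ⟩ := (Finset.mem_filter.1 ht).2
    obtain ⟨r, hr⟩ := hh.exists_norm_eq htσ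
    exact ⟨Units.mk0 r fun e => ht0 (by rw [← hr, e, mul_zero]), hr⟩
  choose root hr using hroot
  let f : F → AddSubgroup (skewAdd σ) := fun t =>
    if ht : t ∈ K then scaleL hh (root t ht : F) L else L
  have hmemf : ∀ t ∈ K, ∀ c : skewAdd σ, c ∈ f t ↔ ∃ l ∈ L, (c : F) = (l : F) * t := by
    intro t ht c
    simp only [f, dif_pos ht]
    rw [mem_scaleL hh (Units.ne_zero _), hr t ht]
  obtain ⟨x₀, hx₀⟩ : ∃ x, x ∉ L := by
    by_contra hc
    push Not at hc
    exact hL ((AddSubgroup.eq_top_iff' L).2 hc)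
  have himg : ↑(K.image f) ⊆ Lset hh L := by
    intro L' hL'
    obtain ⟨t, ht, rfl⟩ := Finset.mem_image.1 (Finset.mem_coe.1 hL')
    simp only [f, dif_pos ht]
    exact ⟨_, rfl⟩
  have hfib : ∀ L' ∈ K.image f, (K.filter fun t => f t = L').card ≤ L.index - 1 := by
    intro L' hL'
    obtain ⟨t₀, ht₀, rfl⟩ := Finset.mem_image.1 hL'
    have hidx : (f t₀).index = L.index := by
      have e : Nat.card (f t₀) = Nat.card L := by
        simp only [f, dif_pos ht₀]
        refine (Nat.card_congr (L.equivMapOfInjective _ fun a b e => Subtype.ext ?_).toEquiv).symm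
        exact mul_right_cancel₀ (mul_ne_zero ((map_ne_zero σ).2 (Units.ne_zero _)) (Units.ne_zero _))
          (congrArg Subtype.val e :)
      have h1 := (f t₀).card_mul_index
      rw [e, ← L.card_mul_index] at h1
      exact Nat.eq_of_mul_eq_mul_left Nat.card_pos h1
    have := Fintype.ofFinite (skewAdd σ ⧸ f t₀)
    have hcard : Fintype.card (skewAdd σ ⧸ f t₀) = L.index := by
      rw [← hidx, AddSubgroup.index, Nat.card_eq_fintype_card]
    rw [← hcard, ← Finset.card_univ, ← Finset.card_erase_of_mem (Finset.mem_univ (0 : skewAdd σ ⧸ f t₀))]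
    let z : F → skewAdd σ := fun t =>
      if ht : σ t = t then ⟨(x₀ : F) * t, skew_mul_trace hh x₀ ht⟩ else 0
    refine Finset.card_le_card_of_injOn (fun t => ((z t : skewAdd σ) : skewAdd σ ⧸ f t₀)) ?_ ?_
    · intro t ht
      obtain ⟨htK, hte⟩ := Finset.mem_filter.1 (Finset.mem_coe.1 ht)
      obtain ⟨ht0, htσ⟩ := (Finset.mem_filter.1 htK).2
      refine Finset.mem_coe.2 (Finset.mem_erase.2 ⟨fun e => ?_, Finset.mem_univ _⟩)
      rw [QuotientAddGroup.eq_zero_iff, ← hte, hmemf t htK] at e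
      obtain ⟨l, hl, e⟩ := e
      simp only [z, dif_pos htσ] at e
      exact hx₀ (Subtype.ext (mul_right_cancel₀ ht0 e) ▸ hl)
    · intro t ht s hs e
      obtain ⟨htK, hte⟩ := Finset.mem_filter.1 (Finset.mem_coe.1 ht)
      obtain ⟨hsK, hse⟩ := Finset.mem_filter.1 (Finset.mem_coe.1 hs)
      obtain ⟨ht0, htσ⟩ := (Finset.mem_filter.1 htK).2
      obtain ⟨hs0, hsσ⟩ := (Finset.mem_filter.1 hsK).2
      by_contra hne
      rw [QuotientAddGroup.eq, ← hte, hmemf t htK] at e
      obtain ⟨l, hl, e⟩ := e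
      simp only [z, dif_pos htσ, dif_pos hsσ, AddSubgroup.coe_add, AddSubgroup.coe_neg] at e
      -- `s / t` stabilises `L`
      have hστ : σ (s / t - 1) = s / t - 1 := by rw [map_sub, map_div₀, hsσ, htσ, map_one]
      let m : L → L := fun l => ⟨⟨((l : skewAdd σ) : F) * (s / t - 1),
        skew_mul_trace hh (l : skewAdd σ) hστ⟩, by
        obtain ⟨l', hl', el⟩ := (hmemf t htK ⟨((l : skewAdd σ) : F) * s,
          skew_mul_trace hh (l : skewAdd σ) hsσ⟩).1 (by
            rw [hte, ← hse, hmemf s hsK]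
            exact ⟨_, l.2, rfl⟩)
        have h2 := sub_mem hl' l.2
        convert h2 using 1
        refine Subtype.ext ?_
        show ((l : skewAdd σ) : F) * (s / t - 1) = (l' : F) - ((l : skewAdd σ) : F)
        have el : ((l : skewAdd σ) : F) * s = (l' : F) * t := el
        field_simp
        linear_combination el⟩
      have hne' : s / t - 1 ≠ 0 := sub_ne_zero.2 fun h1 => hne ((div_eq_one_iff_eq ht0).1 h1).symm
      have hm : Function.Injective m := fun a b e => Subtype.ext (Subtype.ext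
        (mul_right_cancel₀ hne' (congrArg (fun x : L => ((x : skewAdd σ) : F)) e :)))
      obtain ⟨y, hy⟩ := Finite.injective_iff_surjective.1 hm ⟨l, hl⟩
      have hy : ((y : skewAdd σ) : F) * (s / t - 1) = (l : F) :=
        congrArg (fun x : L => ((x : skewAdd σ) : F)) hy
      refine hx₀ ?_
      have : x₀ = (y : skewAdd σ) := Subtype.ext (mul_right_cancel₀ hne' (by
        rw [hy]
        field_simp
        linear_combination e))
      rw [this]
      exact y.2
  have hmain : q - 1 ≤ (K.image f).card * (L.index - 1) := by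
    rw [← hK, Finset.card_eq_sum_card_image f K]
    exact (Finset.sum_le_card_nsmul _ _ _ hfib).trans (smul_eq_mul _ _).le
  have hle : (K.image f).card ≤ (Lset hh L).ncard := by
    rw [← Set.ncard_coe_finset]
    exact Set.ncard_le_ncard himg (Set.toFinite _)
  have hpos : 1 ≤ (Lset hh L).ncard :=
    (Set.ncard_pos (Set.toFinite _)).2 ⟨_, (⟨1, rfl⟩ : scaleL hh ((1 : Fˣ) : F) L ∈ Lset hh L)⟩
  have h1 : q - 1 ≤ (Lset hh L).ncard * (L.index - 1) :=
    hmain.trans (Nat.mul_le_mul_right _ hle)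
  have h2 : (Lset hh L).ncard * L.index =
      (Lset hh L).ncard * (L.index - 1) + (Lset hh L).ncard := by
    rw [Nat.mul_sub, mul_one, Nat.sub_add_cancel]
    exact Nat.le_mul_of_pos_right _ (by omega)
  refine ⟨by omega, fun hL0 => ?_⟩
  by_contra hlt
  have hone : (Lset hh L).ncard ≤ 1 := by omega
  obtain ⟨l₀, hl₀, hl₀0⟩ : ∃ l ∈ L, l ≠ 0 := by
    by_contra hc
    push Not at hc
    exact hL0 ((AddSubgroup.eq_bot_iff_forall L).2 hc)
  have hl₀F : (l₀ : F) ≠ 0 := fun e => hl₀0 (Subtype.ext e)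
  refine hx₀ ?_
  by_cases hxz : x₀ = 0
  · exact hxz ▸ zero_mem L
  set t := (x₀ : F) / (l₀ : F) with ht
  have htσ : σ t = t := by
    rw [ht, map_div₀, eq_neg_of_add_eq_zero_right (mem_skewAdd.1 x₀.2),
      eq_neg_of_add_eq_zero_right (mem_skewAdd.1 l₀.2), neg_div_neg_eq]
  have htK : t ∈ K := Finset.mem_filter.2
    ⟨Finset.mem_univ _, div_ne_zero (fun e => hxz (Subtype.ext e)) hl₀F, htσ⟩
  have hsame : f t = scaleL hh ((1 : Fˣ) : F) L :=
    (Set.ncard_le_one (Set.toFinite _)).1 hone _ (himg (Finset.mem_coe.2 (Finset.mem_image_of_mem f htK)))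
      _ ⟨1, rfl⟩
  have hx : x₀ ∈ f t := (hmemf t htK x₀).2 ⟨l₀, hl₀, by rw [ht, mul_div_cancel₀ _ hl₀F]⟩
  rw [hsame, mem_scaleL hh (by simp)] at hx
  obtain ⟨l, hl, e⟩ := hx
  exact (Subtype.ext (by simpa using e) : x₀ = l) ▸ hl

variable {v v' : V} (P : Pair h v v') {q D : ℕ} {ρ : SUH h →* Equiv.Perm Ω}

namespace Hyp

variable (H : Hyp hh q D ρ)
include H P

theorem dimW : Module.finrank F (Wsp h v v') = D := by
  have := finrank_Wsp hh P
  have := H.dim
  omega

theorem orbit_card (ω : Ω) :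
    (orbR hh P ρ ω).ncard * Nat.card (Asub hh P ρ ω) =
      (Lsub hh P ρ ω).index * q ^ (2 * D) := by
  have h1 := ncard_orbR hh P ρ H.hq ω
  rw [H.dimW hh P, pow_succ] at h1
  have h2 := (Lsub hh P ρ ω).card_mul_index
  rw [skew_card hh H.hq] at h2
  refine Nat.eq_of_mul_eq_mul_right (m := Nat.card (Lsub hh P ρ ω)) Nat.card_pos ?_
  rw [mul_assoc, h1, ← h2]
  ring

/-- All conjugates of the invariants of a point have as long orbits. -/
theorem conj_count (ω : Ω) :
    (Lset hh (Lsub hh P ρ ω)).ncard * (imgs (hW h v v') (Asub hh P ρ ω)).ncard *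
      (orbR hh P ρ ω).ncard ≤ Nat.card Ω := by
  classical
  have := H.fin
  have := Fintype.ofFinite Ω
  have : Finite V := Module.finite_of_finite F
  have hhW := hW_isUnitary hh P
  obtain ⟨b0, hb0⟩ := exists_norm_one hhW H.hq (H.dimW hh P) (by have := H.three; omega)
  have hdil : ∀ a : Fˣ, ∃ g : UH (hW h v v'),
      LinearMap.det ((g : Wsp h v v' ≃ₗ[F] Wsp h v v') : Wsp h v v' →ₗ[F] Wsp h v v') =
        σ (a : F) / a := by
    intro a
    have hc : (σ (a : F) / a - 1) + σ (σ (a : F) / a - 1) +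
        (σ (a : F) / a - 1) * σ (σ (a : F) / a - 1) * hW h v v' b0 b0 = 0 := by
      rw [hb0, map_sub, map_div₀, map_one, hh.invol]
      have := a.ne_zero
      have : σ (a : F) ≠ 0 := (map_ne_zero σ).2 this
      field_simp
      ring
    exact ⟨uDil hhW b0 _ hc, by rw [uDil_det, hb0, mul_one, add_sub_cancel]⟩
  choose g0 hg0 using hdil
  choose ra hra using fun L' : Lset hh (Lsub hh P ρ ω) => L'.2
  choose ga hga using fun S : imgs (hW h v v') (Asub hh P ρ ω) => S.2
  let p : Lset hh (Lsub hh P ρ ω) × imgs (hW h v v') (Asub hh P ρ ω) →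
      Fˣ × UH (hW h v v') := fun t => (ra t.1, g0 (ra t.1) * (ga t.2 : UH (hW h v v')))
  have hdet : ∀ t, blk hh P (p t) ∈ SUH h := fun t => by
    rw [mem_SUH, blk_det]
    have e : LinearMap.det (((g0 (ra t.1) * (ga t.2 : UH (hW h v v')) : UH (hW h v v')) :
        Wsp h v v' ≃ₗ[F] Wsp h v v') : Wsp h v v' →ₗ[F] Wsp h v v') = σ (ra t.1 : F) / ra t.1 := by
      change LinearMap.det ((((g0 (ra t.1) : UH (hW h v v')) : Wsp h v v' ≃ₗ[F] Wsp h v v') :
        Wsp h v v' →ₗ[F] Wsp h v v').comp (((ga t.2 : UH (hW h v v')) :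
          Wsp h v v' ≃ₗ[F] Wsp h v v') : Wsp h v v' →ₗ[F] Wsp h v v')) = _
      rw [LinearMap.det_comp, hg0, mem_SUH.1 (ga t.2).2, mul_one]
    show (ra t.1 : F) * (σ (ra t.1 : F))⁻¹ * _ = 1
    rw [e]
    have := (ra t.1).ne_zero
    have : σ (ra t.1 : F) ≠ 0 := (map_ne_zero σ).2 this
    field_simp
  let y : Lset hh (Lsub hh P ρ ω) × imgs (hW h v v') (Asub hh P ρ ω) → Ω := fun t =>
    ρ ⟨_, hdet t⟩ ω
  have hy : ∀ t, Lsub hh P ρ (y t) = t.1.1 ∧
      Asub hh P ρ (y t) = (t.2.1).map (scW (ra t.1, g0 (ra t.1))) := by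
    intro t
    obtain ⟨h1, h2⟩ := invs_blk hh P ρ (p t) ⟨_, hdet t⟩ rfl ω
    refine ⟨h1.trans (hra t.1), h2.trans ?_⟩
    conv_rhs => rw [← hga t.2]
    show _ = ((Asub hh P ρ ω).map (gHom (ga t.2))).map _
    rw [AddSubgroup.map_map]
    refine congrArg (fun f => AddSubgroup.map f _) (AddMonoidHom.ext fun w => ?_)
    show σ (ra t.1 : F) • ((g0 (ra t.1) * (ga t.2 : UH (hW h v v'))) • w) =
      σ (ra t.1 : F) • (g0 (ra t.1) • ((ga t.2 : UH (hW h v v')) • w))
    rw [mul_smul]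
  have hinv : ∀ t t', Lsub hh P ρ (y t) = Lsub hh P ρ (y t') →
      Asub hh P ρ (y t) = Asub hh P ρ (y t') → t = t' := by
    intro t t' e1 e2
    rw [(hy t).1, (hy t').1] at e1
    have e1' : t.1 = t'.1 := Subtype.ext e1
    rw [(hy t).2, (hy t').2, e1'] at e2
    exact Prod.ext e1' (Subtype.ext (AddSubgroup.map_injective (scW_injective hh _) e2))
  have hlen : ∀ t, (orbR hh P ρ (y t)).ncard = (orbR hh P ρ ω).ncard := by
    intro t
    have h1 := H.orbit_card hh P (y t)
    have h2 := H.orbit_card hh P ω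
    have eA : Nat.card (Asub hh P ρ (y t)) = Nat.card (Asub hh P ρ ω) := by
      rw [(hy t).2, ← hga t.2]
      exact ((Nat.card_congr ((Asub hh P ρ ω).equivMapOfInjective (gHom (ga t.2))
        (fun a b e => MulAction.injective (ga t.2) e)).toEquiv).trans
        (Nat.card_congr (AddSubgroup.equivMapOfInjective _ _ (scW_injective hh _)).toEquiv)).symm
    have eL : (Lsub hh P ρ (y t)).index = (Lsub hh P ρ ω).index := by
      have e : Nat.card (Lsub hh P ρ (y t)) = Nat.card (Lsub hh P ρ ω) := by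
        rw [(hy t).1, ← hra t.1]
        refine (Nat.card_congr (AddSubgroup.equivMapOfInjective _ _ fun a b e =>
          Subtype.ext ?_).toEquiv).symm
        exact mul_right_cancel₀ (mul_ne_zero ((map_ne_zero σ).2 (Units.ne_zero _)) (Units.ne_zero _))
          (congrArg Subtype.val e :)
      have h3 := (Lsub hh P ρ (y t)).card_mul_index
      rw [e, ← (Lsub hh P ρ ω).card_mul_index] at h3
      exact Nat.eq_of_mul_eq_mul_left Nat.card_pos h3
    rw [eA, eL, ← h2] at h1
    exact Nat.eq_of_mul_eq_mul_right Nat.card_pos h1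
  have : Finite (AddSubgroup (Wsp h v v')) := finite_addSubgroup (hW h v v')
  have : Finite (AddSubgroup (skewAdd σ)) :=
    Finite.of_injective (fun K : AddSubgroup (skewAdd σ) => (K : Set (skewAdd σ)))
      SetLike.coe_injective
  have := Fintype.ofFinite (Lset hh (Lsub hh P ρ ω) × imgs (hW h v v') (Asub hh P ρ ω))
  rw [← Nat.card_coe_set_eq (Lset hh (Lsub hh P ρ ω)),
    ← Nat.card_coe_set_eq (imgs (hW h v v') (Asub hh P ρ ω)), ← Nat.card_prod,
    ← Nat.card_coe_set_eq (orbR hh P ρ ω), ← Nat.card_prod]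
  have hcard : ∀ t, Nat.card (orbR hh P ρ (y t)) = Nat.card (orbR hh P ρ ω) := fun t => by
    rw [Nat.card_coe_set_eq, Nat.card_coe_set_eq, hlen t]
  refine le_trans (le_of_eq ?_) (Nat.card_le_card_of_injective
    (fun z : Σ t, orbR hh P ρ (y t) => (z.2 : Ω)) ?_)
  · rw [Nat.card_sigma, Finset.sum_congr rfl (fun t _ => hcard t), Finset.sum_const,
      Finset.card_univ, smul_eq_mul, ← Nat.card_eq_fintype_card, ← Nat.card_prod]
  · rintro ⟨t, x⟩ ⟨t', x'⟩ e
    have e : (x : Ω) = (x' : Ω) := e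
    obtain ⟨a1, a2⟩ := invs_orbR hh P ρ x.2
    obtain ⟨b1, b2⟩ := invs_orbR hh P ρ x'.2
    rw [← e] at b1 b2
    obtain rfl := hinv t t' (a1.symm.trans b1) (a2.symm.trans b2)
    rw [Subtype.ext e]

/-- The size of `Ω`. -/
theorem card_lt : Nat.card Ω * (q ^ 2 - 1) < q ^ (2 * D + 3) + q ^ (D + 2) ∧
    (D = 3 → Nat.card Ω * (q ^ 2 - 1) < q ^ 9) := by
  obtain ⟨-, h2, -, h4, -⟩ := class_facts hh H.hq H.dim (by omega)
  rw [show 2 * (D + 2) - 1 = 2 * D + 3 by omega] at h2 h4
  refine ⟨lt_of_lt_of_le H.small h2, fun hD => ?_⟩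
  subst hD
  exact H.small.trans (h4 (by decide)).2

theorem too_many (h1 : q ^ (2 * D + 1) * (q ^ 2 + 1) ≤ Nat.card Ω * (q ^ 2 - 1)) : False := by
  have h2 := (H.card_lt hh P).1
  have hq2 := two_le_q H.hq
  have h3 : q ^ (D + 2) ≤ q ^ (2 * D + 1) :=
    Nat.pow_le_pow_right (by omega) (by have := H.three; omega)
  rw [mul_add, mul_one, ← pow_add, show 2 * D + 1 + 2 = 2 * D + 3 by omega] at h1
  omega

theorem too_many' (h1 : q ^ (2 * D) * (q ^ 3 + 1) ≤ Nat.card Ω * (q ^ 2 - 1)) : False := by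
  have h2 := (H.card_lt hh P).1
  have hq2 := two_le_q H.hq
  have h3 : q ^ (D + 2) ≤ q ^ (2 * D) :=
    Nat.pow_le_pow_right (by omega) (by have := H.three; omega)
  rw [mul_add, mul_one, ← pow_add] at h1
  omega

/-- Moved points are in regular orbits. -/
theorem moved_free {ω : Ω} (hL : Lsub hh P ρ ω ≠ ⊤) :
    Asub hh P ρ ω = ⊥ ∧ Lsub hh P ρ ω = ⊥ := by
  have hq2 := two_le_q H.hq
  have : Finite V := Module.finite_of_finite F
  obtain ⟨hw1, hw2⟩ := Lset_weight hh H.hq hL
  have hcc := H.conj_count hh P ω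
  have horb := H.orbit_card hh P ω
  set A := Asub hh P ρ ω
  set L := Lsub hh P ρ ω
  set M := (imgs (hW h v v') A).ncard
  -- the basic count
  have hd : (Lset hh L).ncard * L.index * M * q ^ (2 * D) ≤ Nat.card Ω * Nat.card A :=
    calc (Lset hh L).ncard * L.index * M * q ^ (2 * D)
        = (Lset hh L).ncard * M * (L.index * q ^ (2 * D)) := by ring
      _ = (Lset hh L).ncard * M * (orbR hh P ρ ω).ncard * Nat.card A := by rw [← horb]; ring
      _ ≤ Nat.card Ω * Nat.card A := Nat.mul_le_mul_right _ hcc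
  set Q := q ^ 2 - 1
  by_cases hA : A = ⊥
  · refine ⟨hA, by_contra fun hL0 => H.too_many' hh P ?_⟩
    rw [hA, AddSubgroup.card_bot, mul_one] at hd
    have hM : 1 ≤ M := imgs_pos A
    calc q ^ (2 * D) * (q ^ 3 + 1)
      _ ≤ q ^ (2 * D) * ((q + 1) * Q) := by
          refine Nat.mul_le_mul_left _ ?_
          obtain ⟨r, rfl⟩ : ∃ r, q = r + 2 := ⟨q - 2, by omega⟩
          rw [show Q = r ^ 2 + 4 * r + 3 by
            show (r + 2) ^ 2 - 1 = _
            ring_nf; omega]
          ring_nf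
          omega
      _ ≤ q ^ (2 * D) * ((Lset hh L).ncard * L.index * M * Q) :=
          Nat.mul_le_mul_left _ (Nat.mul_le_mul_right _
            ((hw2 hL0).trans (Nat.le_mul_of_pos_right _ hM)))
      _ = (Lset hh L).ncard * L.index * M * q ^ (2 * D) * Q := by ring
      _ ≤ Nat.card Ω * Q := Nat.mul_le_mul_right _ hd
  exfalso
  have hineq := moved_ineq (hW_isUnitary hh P) H.hq (H.dimW hh P) H.three hL hA
    (fun w hw w' hw' => comm_mem hh P ρ hw hw')
  have hA1 : 0 < Nat.card A := Nat.card_pos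
  rcases hineq with hi | ⟨hD3, hi | ⟨hL0, hi⟩⟩
  · refine H.too_many hh P (Nat.le_of_mul_le_mul_left ?_ hA1)
    calc Nat.card A * (q ^ (2 * D + 1) * (q ^ 2 + 1))
        = q * q ^ (2 * D) * (Nat.card A * (q ^ 2 + 1)) := by ring
      _ ≤ (Lset hh L).ncard * L.index * q ^ (2 * D) * (M * Q) :=
          Nat.mul_le_mul (Nat.mul_le_mul_right _ hw1) hi
      _ = (Lset hh L).ncard * L.index * M * q ^ (2 * D) * Q := by ring
      _ ≤ Nat.card Ω * Nat.card A * Q := Nat.mul_le_mul_right _ hd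
      _ = Nat.card A * (Nat.card Ω * Q) := by ring
  · subst hD3
    refine absurd ((H.card_lt hh P).2 rfl) (not_lt.2 (Nat.le_of_mul_le_mul_left ?_ hA1))
    calc Nat.card A * q ^ 9 = q * q ^ (2 * 3) * (Nat.card A * q ^ 2) := by ring
      _ ≤ (Lset hh L).ncard * L.index * q ^ (2 * 3) * (M * Q) :=
          Nat.mul_le_mul (Nat.mul_le_mul_right _ hw1) hi
      _ = (Lset hh L).ncard * L.index * M * q ^ (2 * 3) * Q := by ring
      _ ≤ Nat.card Ω * Nat.card A * Q := Nat.mul_le_mul_right _ hd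
      _ = Nat.card A * (Nat.card Ω * Q) := by ring
  · subst hD3
    refine absurd ((H.card_lt hh P).2 rfl) (not_lt.2 (Nat.le_of_mul_le_mul_left ?_ hA1))
    calc Nat.card A * q ^ 9 = q ^ (2 * 3) * (Nat.card A * q ^ 3) := by ring
      _ ≤ q ^ (2 * 3) * ((q + 1) * (M * Q)) := Nat.mul_le_mul_left _ hi
      _ ≤ q ^ (2 * 3) * ((Lset hh L).ncard * L.index * (M * Q)) :=
          Nat.mul_le_mul_left _ (Nat.mul_le_mul_right _ (hw2 hL0))
      _ = (Lset hh L).ncard * L.index * M * q ^ (2 * 3) * Q := by ring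
      _ ≤ Nat.card Ω * Nat.card A * Q := Nat.mul_le_mul_right _ hd
      _ = Nat.card A * (Nat.card Ω * Q) := by ring

/-- A regular orbit has `q ^ (2 D + 1)` points. -/
theorem free_card {ω : Ω} (hL : Lsub hh P ρ ω ≠ ⊤) :
    (orbR hh P ρ ω).ncard = q ^ (2 * D + 1) := by
  obtain ⟨h1, h2⟩ := H.moved_free hh P hL
  have h := H.orbit_card hh P ω
  rw [h1, h2, AddSubgroup.card_bot, mul_one, AddSubgroup.index_bot, skew_card hh H.hq] at h
  rw [h]
  ring

/-- There is at most one regular orbit. -/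
theorem free_unique {ω x : Ω} (hω : Lsub hh P ρ ω ≠ ⊤) (hx : Lsub hh P ρ x ≠ ⊤) :
    x ∈ orbR hh P ρ ω := by
  have := H.fin
  by_contra hxo
  refine H.too_many hh P ?_
  have hdis : Disjoint (orbR hh P ρ ω) (orbR hh P ρ x) := by
    rw [Set.disjoint_left]
    rintro y ⟨r, hr⟩ ⟨s, hs⟩
    refine hxo ⟨s⁻¹ * r, ?_⟩
    have e : ρ (Rad.toSU hh P s) x = ρ (Rad.toSU hh P r) ω := hs.trans hr.symm
    show ρ (Rad.toSU hh P (s⁻¹ * r)) ω = x
    rw [map_mul, map_mul, Equiv.Perm.mul_apply, ← e, map_inv, map_inv, Equiv.Perm.inv_def,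
      Equiv.symm_apply_apply]
  have h1 := Set.ncard_union_eq hdis (Set.toFinite _) (Set.toFinite _)
  rw [H.free_card hh P hω, H.free_card hh P hx] at h1
  have h2 : q ^ (2 * D + 1) + q ^ (2 * D + 1) ≤ Nat.card Ω := by
    rw [← h1, ← Set.ncard_univ]
    exact Set.ncard_le_ncard (Set.subset_univ _) (Set.toFinite _)
  refine le_trans ?_ (Nat.mul_le_mul_right _ h2)
  rw [← two_mul, mul_comm 2 (q ^ (2 * D + 1)), mul_assoc]
  refine Nat.mul_le_mul_left _ ?_
  have : 4 ≤ q ^ 2 := Nat.pow_le_pow_left (two_le_q H.hq) 2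
  omega

end Hyp

end Cfsg.Agent.MinDeg.Unitary
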