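import Cfsg.Agent.Lib.MinDeg.UnitTools

/-!
A permutation representation of the unitary group restricted to the radical of a point: the
invariants `Lsub` (part of the centre fixing a point) and `Asub` (image of the stabiliser in the
complement), orbit lengths and equivariance under `F^* × U(W)`.
-/

set_option autoImplicit false
set_option linter.unusedSectionVars false

namespace Cfsg.Agent.MinDeg.Unitary

open Cfsg.Agent.ClassicalSimple Cfsg.Agent.MinDegree

variable {F V : Type*} [Field F] [Finite F] [AddCommGroup V] [Module F V] [FiniteDimensional F V]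
  {σ : F →+* F} {h : V →ₛₗ[σ] V →ₗ[F] F}

variable (hh : IsUnitaryForm σ h) {v v' : V} (P : Pair h v v') {Ω : Type*}
  (ρ : SUH h →* Equiv.Perm Ω)

/-- The central element of the radical. -/
def zc (c : skewAdd σ) : Rad hh v v' := ⟨0, (c : F), by simpa using mem_skewAdd.1 c.2⟩

include hh

theorem zc_add (c d : skewAdd σ) :
    (zc hh (c + d) : Rad hh v v') = zc hh c * zc hh d :=
  Rad.ext (add_zero _).symm (by simp [zc, Rad.mul_c])

theorem zc_zero : (zc hh 0 : Rad hh v v') = 1 := Rad.ext rfl rfl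

theorem zc_mul (c : skewAdd σ) (r : Rad hh v v') :
    zc hh c * r = r * zc hh c := Rad.ext (add_comm _ _) (by simp [zc, Rad.mul_c]; ring)

include P

/-- The stabiliser in the radical. -/
noncomputable def stabR (ω : Ω) : Subgroup (Rad hh v v') where
  carrier := {r | ρ (Rad.toSU hh P r) ω = ω}
  one_mem' := by simp
  mul_mem' {a b} ha hb := by
    show ρ (Rad.toSU hh P (a * b)) ω = ω
    rw [map_mul, map_mul, Equiv.Perm.mul_apply, hb, ha]
  inv_mem' {a} ha := by
    show ρ (Rad.toSU hh P a⁻¹) ω = ω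
    rw [map_inv, map_inv, Equiv.Perm.inv_eq_iff_eq]
    exact ha.symm

theorem mem_stabR {ω : Ω} {r : Rad hh v v'} :
    r ∈ stabR hh P ρ ω ↔ ρ (Rad.toSU hh P r) ω = ω := Iff.rfl

/-- The part of the centre fixing a point. -/
noncomputable def Lsub (ω : Ω) : AddSubgroup (skewAdd σ) where
  carrier := {c | zc hh c ∈ stabR hh P ρ ω}
  zero_mem' := by rw [Set.mem_ofPred_eq, zc_zero]; exact one_mem _
  add_mem' {a b} ha hb := by rw [Set.mem_ofPred_eq, zc_add]; exact mul_mem ha hb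
  neg_mem' {a} ha := by
    rw [Set.mem_ofPred_eq, show (zc hh (-a) : Rad hh v v') = (zc hh a)⁻¹ from
      eq_inv_of_mul_eq_one_left (by rw [← zc_add, neg_add_cancel, zc_zero])]
    exact inv_mem ha

/-- The image of the stabiliser in the complement. -/
noncomputable def Asub (ω : Ω) : AddSubgroup (Wsp h v v') where
  carrier := {w | ∃ r ∈ stabR hh P ρ ω, r.w = w}
  zero_mem' := ⟨1, one_mem _, rfl⟩
  add_mem' {a b} := by
    rintro ⟨r, hr, rfl⟩ ⟨s, hs, rfl⟩
    exact ⟨r * s, mul_mem hr hs, rfl⟩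
  neg_mem' {a} := by
    rintro ⟨r, hr, rfl⟩
    exact ⟨r⁻¹, inv_mem hr, rfl⟩

theorem mem_Lsub {ω : Ω} {c : skewAdd σ} : c ∈ Lsub hh P ρ ω ↔ zc hh c ∈ stabR hh P ρ ω := Iff.rfl

theorem mem_Asub {ω : Ω} {w : Wsp h v v'} :
    w ∈ Asub hh P ρ ω ↔ ∃ r ∈ stabR hh P ρ ω, r.w = w := Iff.rfl

theorem rt_fixed_Lsub {ω : Ω} {c : skewAdd σ} :
    c ∈ Lsub hh P ρ ω ↔ ρ (rt hh v 0 (c : F)) ω = ω := by
  rw [mem_Lsub, mem_stabR, Rad.toSU_apply]
  rfl

/-- Commutators of two stabiliser elements. -/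
theorem comm_mem {ω : Ω} {w w' : Wsp h v v'} (hw : w ∈ Asub hh P ρ ω)
    (hw' : w' ∈ Asub hh P ρ ω) :
    ∃ l ∈ Lsub hh P ρ ω, (l : F) = h (w : V) (w' : V) - h (w' : V) (w : V) := by
  obtain ⟨r, hr, rfl⟩ := hw
  obtain ⟨s, hs, rfl⟩ := hw'
  refine ⟨⟨h (r.w : V) (s.w : V) - h (s.w : V) (r.w : V), ?_⟩, ?_, rfl⟩
  · rw [mem_skewAdd, map_sub, ← hh.swap, ← hh.swap]; ring
  · rw [mem_Lsub]
    have e : (zc hh ⟨h (r.w : V) (s.w : V) - h (s.w : V) (r.w : V), by
        rw [mem_skewAdd, map_sub, ← hh.swap, ← hh.swap]; ring⟩ : Rad hh v v') =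
        (s * r) * (r * s)⁻¹ := by
      rw [eq_mul_inv_iff_mul_eq]
      refine Rad.ext ?_ ?_
      · simp [zc, Rad.mul_w, add_comm]
      · simp [zc, Rad.mul_c]; ring
    rw [e]
    exact mul_mem (mul_mem hs hr) (inv_mem (mul_mem hr hs))

/-- The orbit of the radical. -/
noncomputable def orbR (ω : Ω) : Set Ω := Set.range fun r => ρ (Rad.toSU hh P r) ω

theorem self_mem_orbR (ω : Ω) : ω ∈ orbR hh P ρ ω := ⟨1, by simp⟩

theorem stabR_smul {ω : Ω} (r s : Rad hh v v') :
    s ∈ stabR hh P ρ (ρ (Rad.toSU hh P r) ω) ↔ r⁻¹ * s * r ∈ stabR hh P ρ ω := by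
  simp only [mem_stabR, map_mul, map_inv, Equiv.Perm.mul_apply, Equiv.Perm.inv_def,
    Equiv.symm_apply_eq]

theorem invs_orbR {ω x : Ω} (hx : x ∈ orbR hh P ρ ω) :
    Lsub hh P ρ x = Lsub hh P ρ ω ∧ Asub hh P ρ x = Asub hh P ρ ω := by
  obtain ⟨r, rfl⟩ := hx
  constructor
  · ext c
    rw [mem_Lsub, stabR_smul, mem_Lsub, mul_assoc, zc_mul, inv_mul_cancel_left]
  · ext w
    simp only [mem_Asub, stabR_smul]
    constructor
    · rintro ⟨s, hs, rfl⟩
      exact ⟨_, hs, by simp [Rad.mul_w, Rad.inv_w]⟩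
    · rintro ⟨s, hs, rfl⟩
      exact ⟨r * s * r⁻¹, by simpa [mul_assoc] using hs, by simp [Rad.mul_w, Rad.inv_w]⟩

variable {q : ℕ} (hq : Nat.card F = q ^ 2)
include hq

theorem card_Rad : Nat.card (Rad hh v v') = q ^ (2 * Module.finrank F (Wsp h v v') + 1) := by
  obtain ⟨d, hd⟩ := hh.exists_trace_one
  have e : Rad hh v v' ≃ Wsp h v v' × skewAdd σ :=
    { toFun := fun r => (r.w, ⟨r.c + d * h (r.w : V) (r.w : V), by
        rw [mem_skewAdd, map_add, map_mul, hh.σ_self]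
        linear_combination r.ok + h (r.w : V) (r.w : V) * hd⟩)
      invFun := fun p => ⟨p.1, (p.2 : F) - d * h (p.1 : V) (p.1 : V), by
        rw [map_sub, map_mul, hh.σ_self]
        linear_combination mem_skewAdd.1 p.2.2 - h (p.1 : V) (p.1 : V) * hd⟩
      left_inv := fun r => Rad.ext rfl (by simp)
      right_inv := fun p => Prod.ext rfl (Subtype.ext (by simp)) }
  rw [Nat.card_congr e, Nat.card_prod, Module.natCard_eq_pow_finrank (K := F) (V := Wsp h v v'),
    hq, skew_card hh hq, ← pow_mul, pow_succ]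

theorem card_stabR (ω : Ω) :
    Nat.card (stabR hh P ρ ω) = Nat.card (Asub hh P ρ ω) * Nat.card (Lsub hh P ρ ω) := by
  let π : stabR hh P ρ ω →* Multiplicative (Asub hh P ρ ω) :=
    { toFun := fun r => Multiplicative.ofAdd ⟨r.1.w, r.1, r.2, rfl⟩
      map_one' := rfl
      map_mul' := fun r s => rfl }
  have hsurj : Function.Surjective π := fun w => by
    obtain ⟨⟨w, r, hr, rfl⟩, rfl⟩ := Multiplicative.ofAdd.surjective w
    exact ⟨⟨r, hr⟩, rfl⟩
  have hker : Nat.card π.ker = Nat.card (Lsub hh P ρ ω) := by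
    have hw : ∀ r : π.ker, r.1.1.w = 0 := fun r =>
      congrArg (fun x => ((Multiplicative.toAdd x : Asub hh P ρ ω) : Wsp h v v'))
        (MonoidHom.mem_ker.1 r.2)
    refine Nat.card_congr
      { toFun := fun r => ⟨⟨r.1.1.c, ?_⟩, ?_⟩
        invFun := fun c => ⟨⟨zc hh c.1, c.2⟩, MonoidHom.mem_ker.2 rfl⟩
        left_inv := fun r => Subtype.ext (Subtype.ext (Rad.ext (hw r).symm rfl))
        right_inv := fun c => Subtype.ext (Subtype.ext rfl) }
    · have := r.1.1.ok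
      rw [hw r] at this
      simpa [mem_skewAdd] using this
    · rw [mem_Lsub]
      convert r.1.2 using 1
      exact Rad.ext (hw r).symm rfl
  rw [Subgroup.card_eq_card_quotient_mul_card_subgroup π.ker, hker,
    Nat.card_congr (QuotientGroup.quotientKerEquivOfSurjective π hsurj).toEquiv,
    Nat.card_congr Multiplicative.toAdd]

/-- Orbit lengths. -/
theorem ncard_orbR (ω : Ω) :
    (orbR hh P ρ ω).ncard * (Nat.card (Asub hh P ρ ω) * Nat.card (Lsub hh P ρ ω)) =
      q ^ (2 * Module.finrank F (Wsp h v v') + 1) := by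
  let _ : MulAction (Rad hh v v') Ω := MulAction.compHom Ω (ρ.comp (Rad.toSU hh P))
  have e1 : MulAction.stabilizer (Rad hh v v') ω = stabR hh P ρ ω := by
    ext r
    exact Iff.rfl
  have e2 : MulAction.orbit (Rad hh v v') ω = orbR hh P ρ ω := rfl
  rw [← card_Rad hh P hq, ← card_stabR hh P ρ hq, ← e2, ← MulAction.index_stabilizer, e1, mul_comm]
  exact Subgroup.card_mul_index _

omit hq

/-! ### Equivariance -/

omit P in
/-- Scaling of the centre. -/
def scaleL (a : F) (L : AddSubgroup (skewAdd σ)) : AddSubgroup (skewAdd σ) :=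
  L.map (AddMonoidHom.mk'
    (fun c : skewAdd σ => (⟨(c : F) * (σ a * a),
      skew_mul_trace hh c (by rw [map_mul, hh.invol, mul_comm])⟩ : skewAdd σ))
    fun c d => Subtype.ext (by simp [add_mul]))

omit P in
theorem mem_scaleL {a : F} (ha : a ≠ 0) {L : AddSubgroup (skewAdd σ)} {c : skewAdd σ} :
    c ∈ scaleL hh a L ↔ ∃ l ∈ L, (c : F) = (l : F) * (σ a * a) := by
  constructor
  · rintro ⟨l, hl, rfl⟩
    exact ⟨l, hl, rfl⟩
  · rintro ⟨l, hl, e⟩
    exact ⟨l, hl, Subtype.ext e.symm⟩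

omit P in
/-- The map induced on the complement. -/
noncomputable def scW (p : Fˣ × UH (hW h v v')) : Wsp h v v' →+ Wsp h v v' :=
  AddMonoidHom.mk' (fun w => σ (p.1 : F) • (p.2 • w)) fun a b => by rw [smul_add, smul_add]

omit P in
theorem scW_injective (p : Fˣ × UH (hW h v v')) : Function.Injective (scW p) := fun a b e => by
  have e : σ (p.1 : F) • (p.2 • a) = σ (p.1 : F) • (p.2 • b) := e
  exact MulAction.injective p.2
    (smul_right_injective _ ((map_ne_zero σ).2 p.1.ne_zero) e)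

theorem invs_blk (p : Fˣ × UH (hW h v v')) (b : SUH h) (hb : (b : UH h) = blk hh P p) (ω : Ω) :
    Lsub hh P ρ (ρ b ω) = scaleL hh (p.1 : F) (Lsub hh P ρ ω) ∧
      Asub hh P ρ (ρ b ω) = (Asub hh P ρ ω).map (scW p) := by
  have key : ∀ (p : Fˣ × UH (hW h v v')) (b : SUH h), (b : UH h) = blk hh P p → ∀ (y : Ω)
      (r : Rad hh v v'), r ∈ stabR hh P ρ y → ∃ r' ∈ stabR hh P ρ (ρ b y),
        r'.w = σ (p.1 : F) • (p.2 • r.w) ∧ r'.c = σ (p.1 : F) * (p.1 : F) * r.c := by
    intro p b hb y r hr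
    obtain ⟨o, e⟩ := blk_conj hh P p b hb r
    refine ⟨⟨_, _, o.tr⟩, ?_, rfl, rfl⟩
    rw [mem_stabR, Rad.toSU_apply, ← e, map_mul, map_mul, map_inv]
    simp only [Equiv.Perm.mul_apply, Equiv.Perm.inv_def, Equiv.symm_apply_apply]
    rw [show ρ (Rad.toSU hh P r) y = y from hr]
  have hb' : ((b⁻¹ : SUH h) : UH h) = blk hh P p⁻¹ := by rw [Subgroup.coe_inv, hb, map_inv]
  have hback : ρ b⁻¹ (ρ b ω) = ω := by simp
  constructor
  · ext c
    rw [mem_scaleL hh p.1.ne_zero]
    constructor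
    · intro hc
      obtain ⟨r', hr', e1, e2⟩ := key _ _ hb' _ _ hc
      rw [hback] at hr'
      refine ⟨⟨r'.c, ?_⟩, ?_, ?_⟩
      · have := r'.ok
        rw [e1] at this
        simpa [mem_skewAdd, zc] using this
      · rw [mem_Lsub]
        convert hr' using 1
        refine Rad.ext (Eq.trans ?_ e1.symm) rfl
        simp [zc]
      · show (c : F) = r'.c * _
        rw [e2, Prod.fst_inv, Units.val_inv_eq_inv_val, map_inv₀]
        have := p.1.ne_zero
        have : σ (p.1 : F) ≠ 0 := (map_ne_zero σ).2 this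
        simp only [zc]
        field_simp
    · rintro ⟨l, hl, e⟩
      obtain ⟨r', hr', e1, e2⟩ := key p b hb _ _ hl
      rw [mem_Lsub]
      convert hr' using 1
      refine Rad.ext (by rw [e1]; simp [zc]) ?_
      rw [e2]
      simp only [zc, e]
      ring
  · ext w
    constructor
    · rintro ⟨r, hr, rfl⟩
      obtain ⟨r', hr', e1, -⟩ := key _ _ hb' _ _ hr
      rw [hback] at hr'
      refine ⟨r'.w, ⟨r', hr', rfl⟩, ?_⟩
      show σ (p.1 : F) • (p.2 • r'.w) = r.w
      rw [e1, Prod.fst_inv, Prod.snd_inv, smul_comm p.2, smul_inv_smul, smul_smul, ← map_mul,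
        Units.mul_inv, map_one, one_smul]
    · rintro ⟨_, ⟨r, hr, rfl⟩, rfl⟩
      obtain ⟨r', hr', e1, -⟩ := key p b hb _ _ hr
      exact ⟨r', hr', e1⟩

theorem invs_blkW (g : SUH (hW h v v')) (ω : Ω) :
    Lsub hh P ρ (ρ (blkW hh P g) ω) = Lsub hh P ρ ω ∧
      Asub hh P ρ (ρ (blkW hh P g) ω) = subPerm g (Asub hh P ρ ω) := by
  obtain ⟨h1, h2⟩ := invs_blk hh P ρ ((1 : Fˣ), (g : UH (hW h v v'))) (blkW hh P g) rfl ω
  refine ⟨h1.trans ?_, h2.trans ?_⟩
  · ext c
    rw [mem_scaleL hh (by simp)]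
    simp
  · exact congrArg (fun f => AddSubgroup.map f _) (AddMonoidHom.ext fun w => by
      show σ ((1 : Fˣ) : F) • ((g : UH (hW h v v')) • w) = g • w
      rw [Units.val_one, map_one, one_smul]
      rfl)

end Cfsg.Agent.MinDeg.Unitary
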