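import Cfsg.Agent.Lib.MinDeg.UnitMoved

/-!
The lower bound for the degree of a transitive action of a unitary group: some transvection group
fixes a point without its radical fixing it, and then counting finishes.
-/

set_option autoImplicit false
set_option linter.unusedSectionVars false

namespace Cfsg.Agent.MinDeg.Unitary

open Cfsg.Agent.ClassicalSimple Cfsg.Agent.MinDegree

variable {F V : Type*} [Field F] [Finite F] [AddCommGroup V] [Module F V] [FiniteDimensional F V]
  {σ : F →+* F} {h : V →ₛₗ[σ] V →ₗ[F] F}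

variable (hh : IsUnitaryForm σ h)
include hh

theorem exists_norm_lam : ∃ l : F, l ≠ 0 ∧ σ l * l = 1 ∧ l * l ≠ 1 := by
  obtain ⟨μ, hμ0, hμ⟩ : ∃ μ : F, μ ≠ 0 ∧ σ μ * σ μ ≠ μ * μ := by
    by_contra hc
    push Not at hc
    obtain ⟨b, hb⟩ := hh.ne_id
    have hb0 : b ≠ 0 := fun e => hb (by rw [e, map_zero])
    rcases mul_self_eq_mul_self_iff.1 (hc b hb0) with e | e
    · exact hb e
    by_cases h2 : (2 : F) = 0
    · exact hb (e.trans (by linear_combination (-b) * h2))
    have hb1 : b + 1 ≠ 0 := fun e1 => hb (by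
      rw [show b = -1 by linear_combination e1, map_neg, map_one])
    have h1 := hc (b + 1) hb1
    rw [map_add, map_one, e] at h1
    exact (mul_ne_zero (mul_ne_zero h2 h2) hb0) (by linear_combination -h1)
  have hσμ : σ μ ≠ 0 := (map_ne_zero σ).2 hμ0
  refine ⟨σ μ / μ, div_ne_zero hσμ hμ0, ?_, fun e => hμ ?_⟩
  · rw [map_div₀, hh.invol]; field_simp
  · field_simp at e
    linear_combination e

/-- An element of order prime to `q` without fixed vectors, with an isotropic eigenvector. -/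
theorem eigen_elem {q : ℕ} (hq : Nat.card F = q ^ 2) {D : ℕ} (hn : Module.finrank F V = D)
    (hD : 3 ≤ D) :
    ∃ (g : SUH h) (s : V) (l : F), g ^ (q ^ 2 - 1) = 1 ∧ (∀ w : V, g • w = w → w = 0) ∧
      s ≠ 0 ∧ h s s = 0 ∧ σ l * l = 1 ∧ g • s = l • s := by
  classical
  have := Fintype.ofFinite F
  obtain ⟨l, hl0, hl, hl2⟩ := exists_norm_lam hh
  have hl1 : l ≠ 1 := fun e => hl2 (by rw [e, one_mul])
  have hσl : σ l = l⁻¹ := eq_inv_of_mul_eq_one_left hl
  have hpow : ∀ e : F, e ≠ 0 → e ^ (q ^ 2 - 1) = 1 := fun e he => by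
    rw [← hq, Nat.card_eq_fintype_card]
    exact FiniteField.pow_card_sub_one_eq_one e he
  let S : UH h := uMk hh (l • LinearMap.id) fun x y => by
    simp only [LinearMap.smul_apply, LinearMap.id_apply, map_smulₛₗ, smul_eq_mul, RingHom.id_apply]
    linear_combination (h x y) * hl
  have hS : ∀ x : V, S • x = l • x := fun x => rfl
  have hSk : ∀ (k : ℕ) (x : V), S ^ k • x = l ^ k • x := by
    intro k
    induction k with
    | zero => simp
    | succ k ih => intro x; rw [pow_succ, mul_smul, hS, smul_comm, ih, smul_smul, pow_succ']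
  obtain ⟨b1, hb1⟩ := exists_norm_one hh hq hn (by omega)
  have dil : ∀ (b : V) (e : F), h b b = 1 → σ e * e = 1 → ∃ T : UH h,
      (∀ x, T • x = x + ((e - 1) * h b x) • b) ∧
      LinearMap.det ((T : V ≃ₗ[F] V) : V →ₗ[F] V) = e ∧ T ^ (q ^ 2 - 1) = 1 := by
    intro b e hb he
    have hc : (e - 1) + σ (e - 1) + (e - 1) * σ (e - 1) * h b b = 0 := by
      rw [hb, map_sub, map_one]
      linear_combination he
    refine ⟨uDil hh b _ hc, fun x => uDil_smul hh hc x, ?_, ?_⟩
    · rw [uDil_det, hb, mul_one, add_sub_cancel]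
    · have key : ∀ (k : ℕ) (x : V), uDil hh b _ hc ^ k • x = x + ((e ^ k - 1) * h b x) • b := by
        intro k
        induction k with
        | zero => simp
        | succ k ih =>
          intro x
          rw [pow_succ, mul_smul, uDil_smul, ih, map_add, map_smul, hb, smul_eq_mul, pow_succ]
          module
      refine UH.ext' fun x => ?_
      rw [key, hpow e (fun e0 => by simp [e0] at he), sub_self, zero_mul, zero_smul, add_zero,
        one_smul]
  by_cases hD3 : D = 3
  · subst hD3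
    -- eigenvalues `l, l, l ^ (-2)`
    obtain ⟨T, hT, hTdet, hTk⟩ := dil b1 ((l ^ 3)⁻¹) hb1 (by
      rw [map_inv₀, map_pow, hσl]; field_simp)
    obtain ⟨s, hs0, hs, hsb⟩ := exists_iso_ker hh ![h b1] (by omega)
    refine ⟨⟨S * T, ?_⟩, s, l, ?_, fun w hw => ?_, hs0, hs, hl, ?_⟩
    · rw [mem_SUH]
      change LinearMap.det ((l • LinearMap.id).comp ((T : V ≃ₗ[F] V) : V →ₗ[F] V)) = 1
      rw [LinearMap.det_comp, LinearMap.det_smul, LinearMap.det_id, mul_one, hTdet, hn,
        mul_inv_cancel₀ (pow_ne_zero _ hl0)]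
    · refine Subtype.ext ?_
      have hc : Commute S T := UH.ext' fun x => by
        rw [mul_smul, mul_smul, hS, hS, smul_comm T]
      rw [SubmonoidClass.coe_pow, hc.mul_pow, hTk, mul_one]
      exact UH.ext' fun x => by rw [hSk, hpow l hl0, one_smul]; simp
    · have hw : (S * T) • w = w := hw
      rw [mul_smul, hS, hT] at hw
      have e1 := congrArg (h b1) hw
      simp only [map_smul, map_add, hb1, smul_eq_mul, mul_one] at e1
      have h0 : h b1 w = 0 := by
        by_contra h0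
        have e2 : l * (l ^ 3)⁻¹ = 1 :=
          mul_right_cancel₀ h0 (by linear_combination e1)
        field_simp at e2
        exact hl2 (by linear_combination -e2)
      rw [h0, mul_zero, zero_smul, add_zero] at hw
      by_contra hw0
      exact hl1 (smul_left_injective F hw0 (by simpa using hw))
    · show (S * T) • s = _
      rw [mul_smul, hT, show h b1 s = 0 from hsb 0, mul_zero, zero_smul, add_zero, hS]
  · obtain ⟨b, hb, hbb⟩ : ∃ b, h b1 b = 0 ∧ h b b ≠ 0 := by
      obtain ⟨y₀, hy₀, hy₀0⟩ := exists_forall_eq_zero_notMem ![h b1] (⊥ : Submodule F V)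
        (by rw [finrank_bot, Fintype.card_fin]; omega)
      have hi : LinearIndependent F ![b1] := linearIndependent_unique_iff.2
        (fun e => by have : b1 = 0 := e; simp [this] at hb1)
      obtain ⟨y, hy, hyy⟩ := exists_aniso_perp hh ![b1] hi (y₀ := y₀)
        (fun i => by fin_cases i; exact hy₀ 0) (by
          rw [Matrix.range_cons, Matrix.range_empty, Set.union_empty, Submodule.mem_span_singleton]
          rintro ⟨c, rfl⟩
          have := hy₀ 0
          simp [hb1] at this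
          exact hy₀0 (by simp [this]))
      exact ⟨y, hy 0, hyy⟩
    obtain ⟨r, hr⟩ := hh.exists_norm_eq (c := (h b b)⁻¹) (by rw [map_inv₀, hh.σ_self])
    set b2 := r • b
    have hb2 : h b2 b2 = 1 := by
      simp only [b2, map_smulₛₗ, LinearMap.smul_apply, smul_eq_mul, RingHom.id_apply]
      rw [← mul_assoc, mul_comm r, hr, inv_mul_cancel₀ hbb]
    have hb12 : h b1 b2 = 0 := by simp [b2, hb]
    have hb21 : h b2 b1 = 0 := hh.comm_zero hb12
    have hlD : σ ((l ^ (D - 2))⁻¹) * (l ^ (D - 2))⁻¹ = 1 := by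
      rw [map_inv₀, map_pow, hσl, inv_pow, inv_inv, mul_inv_cancel₀ (pow_ne_zero _ hl0)]
    obtain ⟨μ, hμ0, hμ, hμ1, hμD⟩ : ∃ μ : F, μ ≠ 0 ∧ σ μ * μ = 1 ∧ μ ≠ 1 ∧
        μ ≠ (l ^ (D - 2))⁻¹ := by
      by_cases he : l = (l ^ (D - 2))⁻¹
      · refine ⟨l⁻¹, inv_ne_zero hl0, by rw [map_inv₀, hσl]; field_simp, inv_ne_one.2 hl1,
          fun e => hl2 ?_⟩
        rw [← he] at e
        exact (mul_eq_one_iff_eq_inv₀ hl0).2 e.symm
      · exact ⟨l, hl0, hl, hl1, he⟩
    set ν := (l ^ (D - 2))⁻¹ / μ with hν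
    have hν1 : σ ν * ν = 1 := by
      rw [hν, map_div₀, div_mul_div_comm, hlD, hμ, div_one]
    obtain ⟨T1, hT1, hT1det, hT1k⟩ := dil b1 (μ / l) hb1 (by
      rw [map_div₀, div_mul_div_comm, hμ, hl, div_one])
    obtain ⟨T2, hT2, hT2det, hT2k⟩ := dil b2 (ν / l) hb2 (by
      rw [map_div₀, div_mul_div_comm, hν1, hl, div_one])
    obtain ⟨s, hs0, hs, hsb⟩ := exists_iso_ker hh ![h b1, h b2] (by omega)
    refine ⟨⟨S * (T1 * T2), ?_⟩, s, l, ?_, fun w hw => ?_, hs0, hs, hl, ?_⟩
    · rw [mem_SUH]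
      change LinearMap.det ((l • LinearMap.id).comp (((T1 : V ≃ₗ[F] V) : V →ₗ[F] V).comp
        ((T2 : V ≃ₗ[F] V) : V →ₗ[F] V))) = 1
      rw [LinearMap.det_comp, LinearMap.det_comp, LinearMap.det_smul, LinearMap.det_id, mul_one,
        hT1det, hT2det, hn, hν]
      obtain ⟨m, rfl⟩ : ∃ m, D = m + 2 := ⟨D - 2, by omega⟩
      rw [Nat.add_sub_cancel, pow_add]
      field_simp
    · refine Subtype.ext ?_
      have hc : Commute S (T1 * T2) := UH.ext' fun x => by
        simp only [mul_smul, hS]; rw [smul_comm T2 l, smul_comm T1 l]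
      have hc2 : Commute T1 T2 := UH.ext' fun x => by
        rw [mul_smul, mul_smul, hT1, hT2, hT1, hT2]
        simp only [map_add, map_smul, hb12, hb21, smul_eq_mul, mul_zero, add_zero]
        module
      rw [SubmonoidClass.coe_pow, hc.mul_pow, hc2.mul_pow, hT1k, hT2k, one_mul, mul_one]
      exact UH.ext' fun x => by rw [hSk, hpow l hl0, one_smul]; simp
    · have hw : (S * (T1 * T2)) • w = w := hw
      rw [mul_smul, mul_smul, hS, hT1, hT2] at hw
      have e1 := congrArg (h b1) hw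
      have e2 := congrArg (h b2) hw
      simp only [map_smul, map_add, hb1, hb2, hb12, hb21, smul_eq_mul, mul_one, mul_zero,
        add_zero] at e1 e2
      have h1 : h b1 w = 0 := by
        by_contra h0
        refine hμ1 (mul_right_cancel₀ h0 ?_)
        field_simp at e1
        linear_combination (h b1 w) * e1
      have h2 : h b2 w = 0 := by
        by_contra h0
        have hν' : ν = 1 := mul_right_cancel₀ h0 (by
          field_simp at e2
          linear_combination (h b2 w) * e2)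
        rw [hν, div_eq_one_iff_eq hμ0] at hν'
        exact hμD hν'.symm
      simp only [map_add, map_smul, hb12, h1, h2, mul_zero, zero_smul, add_zero] at hw
      by_contra hw0
      exact hl1 (smul_left_injective F hw0 (by simpa using hw))
    · show (S * (T1 * T2)) • s = _
      rw [mul_smul, mul_smul, hT2, show h b2 s = 0 from hsb 1, mul_zero, zero_smul, add_zero, hT1,
        show h b1 s = 0 from hsb 0, mul_zero, zero_smul, add_zero, hS]

variable {Ω : Type*} {q D : ℕ} {ρ : SUH h →* Equiv.Perm Ω} (H : Hyp hh q D ρ)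
include H

theorem Hyp.exists_moved {v v' : V} (P : Pair h v v') : ∃ ω, Lsub hh P ρ ω ≠ ⊤ := by
  have hdim := H.dim
  have hD := H.three
  by_contra hall
  push Not at hall
  obtain ⟨θ, hθ0, hθ⟩ := hh.exists_skew
  have hmem : rt hh v 0 θ ∈ ρ.ker := MonoidHom.mem_ker.2 (Equiv.ext fun ω =>
    (rt_fixed_Lsub hh P ρ (c := ⟨θ, hθ⟩)).1 (by rw [hall ω]; trivial))
  have h3 : 3 ≤ Module.finrank F V := by omega
  rcases SUH_normal_eq_top_or_le_center hh h3 (SUH_perfect hh h3 (Or.inl (by omega))) ρ.ker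
    with hK | hK
  · obtain ⟨ω₁, ω₂, hne⟩ := H.nontriv
    obtain ⟨g, hg⟩ := H.trans ω₁ ω₂
    have : ρ g = 1 := MonoidHom.mem_ker.1 (by rw [hK]; trivial)
    exact hne (by rw [← hg, this]; rfl)
  · obtain ⟨b, -, hb⟩ := (SUH_mem_center_iff hh h3 _).1 (hK hmem)
    have o := ok_skew hh P.left ⟨θ, hθ⟩
    have e1 := hb v
    rw [rt_smul_v hh o] at e1
    have hb1 : b = 1 := (smul_left_injective F P.ne_zero ((one_smul F v).trans e1)).symm
    have e2 := hb v'
    rw [rt_smul hh o, hb1, one_smul, P.one] at e2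
    simp [hθ0, P.ne_zero] at e2

theorem Hyp.stab_trivial {v v' : V} (P : Pair h v v') {x : Ω} (hx : Lsub hh P ρ x ≠ ⊤)
    {r : Rad hh v v'} (hr : r ∈ stabR hh P ρ x) : r = 1 := by
  obtain ⟨h1, h2⟩ := H.moved_free hh P hx
  have hc := card_stabR hh P ρ H.hq x
  rw [h1, h2, AddSubgroup.card_bot, AddSubgroup.card_bot] at hc
  have := (Nat.card_eq_one_iff_unique.1 hc).1
  exact congrArg Subtype.val (Subsingleton.elim (⟨r, hr⟩ : stabR hh P ρ x) 1)

/-- A fixed point of an element of the complement in a regular orbit. -/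
theorem Hyp.exists_fixed {v v' : V} (P : Pair h v v') (g : SUH (hW h v v'))
    (hk : g ^ (q ^ 2 - 1) = 1) (hg : ∀ w : Wsp h v v', g • w = w → w = 0) :
    ∃ x, Lsub hh P ρ x ≠ ⊤ ∧ ρ (blkW hh P g) x = x := by
  obtain ⟨ω, hω⟩ := H.exists_moved hh P
  have hconj : ∀ r : Rad hh v v', ∃ r' : Rad hh v v', r'.w = g • r.w ∧ r'.c = r.c ∧
      ∀ y, ρ (blkW hh P g) (ρ (Rad.toSU hh P r) y) =
        ρ (Rad.toSU hh P r') (ρ (blkW hh P g) y) := by
    intro r
    obtain ⟨o, e⟩ := blk_conj hh P ((1 : Fˣ), (g : UH (hW h v v'))) (blkW hh P g) rfl r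
    have e1 : σ ((1 : Fˣ) : F) • ((g : UH (hW h v v')) • r.w) = g • r.w := by
      rw [Units.val_one, map_one, one_smul]; rfl
    have e2 : σ ((1 : Fˣ) : F) * ((1 : Fˣ) : F) * r.c = r.c := by simp
    refine ⟨⟨_, _, o.tr⟩, e1, e2, fun y => ?_⟩
    rw [show Rad.toSU hh P ⟨_, _, o.tr⟩ = blkW hh P g * Rad.toSU hh P r * (blkW hh P g)⁻¹ from
      e.symm]
    simp only [map_mul, map_inv, Equiv.Perm.mul_apply, Equiv.Perm.inv_def, Equiv.symm_apply_apply]
  obtain ⟨r₀, hr₀⟩ : ρ (blkW hh P g) ω ∈ orbR hh P ρ ω :=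
    H.free_unique hh P hω (by rw [(invs_blkW hh P ρ g ω).1]; exact hω)
  let T : Wsp h v v' →ₗ[F] Wsp h v v' :=
    LinearMap.id - (((g : UH (hW h v v')) : Wsp h v v' ≃ₗ[F] Wsp h v v') : Wsp h v v' →ₗ[F] Wsp h v v')
  have hT : Function.Injective T := by
    rw [injective_iff_map_eq_zero]
    intro w hw
    exact hg w (sub_eq_zero.1 (show w - g • w = 0 from hw)).symm
  obtain ⟨w, hw⟩ := (LinearMap.injective_iff_surjective.1 hT) r₀.w
  have hw : w - g • w = r₀.w := hw
  obtain ⟨d, hd⟩ := hh.exists_trace_one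
  let r : Rad hh v v' := ⟨w, -(d * h (w : V) (w : V)), by
    rw [map_neg, map_mul, hh.σ_self]; linear_combination -(h (w : V) (w : V)) * hd⟩
  obtain ⟨r', hr'w, -, hr'⟩ := hconj r
  set x := ρ (Rad.toSU hh P r) ω with hx_def
  have hxorb : x ∈ orbR hh P ρ ω := ⟨r, rfl⟩
  have hxL : Lsub hh P ρ x ≠ ⊤ := by rw [(invs_orbR hh P ρ hxorb).1]; exact hω
  have hz : (r' * r₀ * r⁻¹).w = 0 := by
    rw [Rad.mul_w, Rad.mul_w, Rad.inv_w, hr'w, ← hw, show r.w = w from rfl]
    abel
  set c : skewAdd σ := ⟨(r' * r₀ * r⁻¹).c, by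
    have := (r' * r₀ * r⁻¹).ok
    rw [hz] at this
    simpa [mem_skewAdd] using this⟩ with hc_def
  have hgx : ρ (blkW hh P g) x = ρ (Rad.toSU hh P (zc hh c)) x := by
    have e : (zc hh c : Rad hh v v') * r = r' * r₀ := by
      rw [show (zc hh c : Rad hh v v') = r' * r₀ * r⁻¹ from Rad.ext hz.symm rfl, inv_mul_cancel_right]
    rw [hx_def, ← Equiv.Perm.mul_apply (ρ (Rad.toSU hh P (zc hh c))), ← map_mul, ← map_mul, e,
      hr' ω, ← hr₀]
    simp only [map_mul, Equiv.Perm.mul_apply]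
  have hcomm : ∀ (d : skewAdd σ) (y : Ω), ρ (blkW hh P g) (ρ (Rad.toSU hh P (zc hh d)) y) =
      ρ (Rad.toSU hh P (zc hh d)) (ρ (blkW hh P g) y) := by
    intro d y
    obtain ⟨s, h1, h2, h3⟩ := hconj (zc hh d)
    rw [h3, show s = zc hh d from Rad.ext (by rw [h1]; simp [zc]) h2]
  have hiter : ∀ j : ℕ, ρ (blkW hh P g ^ j) x = ρ (Rad.toSU hh P (zc hh (j • c))) x := by
    intro j
    induction j with
    | zero => simp [zc_zero]
    | succ j ih =>
      rw [pow_succ', map_mul, Equiv.Perm.mul_apply, ih, hcomm, hgx, succ_nsmul, zc_add, map_mul,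
        map_mul, Equiv.Perm.mul_apply]
  have h1 := hiter (q ^ 2 - 1)
  rw [← map_pow, hk, map_one, map_one, Equiv.Perm.one_apply] at h1
  have h2 : (q ^ 2 - 1) • c ∈ Lsub hh P ρ x := h1.symm
  rw [(H.moved_free hh P hxL).2, AddSubgroup.mem_bot] at h2
  have h3 : ((q ^ 2 - 1 : ℕ) : F) * (c : F) = 0 := by
    rw [← nsmul_eq_mul]
    exact congrArg Subtype.val h2
  have hk0 : ((q ^ 2 - 1 : ℕ) : F) = -1 := by
    have := Fintype.ofFinite F
    rw [Nat.cast_sub (Nat.one_le_pow _ _ (by have := two_le_q H.hq; omega)), ← H.hq,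
      Nat.card_eq_fintype_card, FiniteField.cast_card_eq_zero, Nat.cast_one, zero_sub]
  rw [hk0, neg_mul, one_mul, neg_eq_zero] at h3
  have hc0 : c = 0 := Subtype.ext h3
  refine ⟨x, hxL, ?_⟩
  rw [hgx, hc0, zc_zero, map_one, map_one, Equiv.Perm.one_apply]

set_option maxHeartbeats 800000 in
/-- Some transvection group fixes a point which its radical does not fix. -/
theorem Hyp.exists_mixed :
    ∃ (v v' : V) (P : Pair h v v') (ω : Ω), Lsub hh P ρ ω = ⊤ ∧ Asub hh P ρ ω ≠ ⊤ := by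
  have hdim := H.dim
  have hD := H.three
  by_contra hno
  push Not at hno
  obtain ⟨v, v', P⟩ := exists_pair hh (by omega)
  have hWu := hW_isUnitary hh P
  obtain ⟨g, s, l, hk, hfree, hs0, hss, hl, hgs⟩ := eigen_elem hWu H.hq (H.dimW hh P) hD
  obtain ⟨x, hxL, hgx⟩ := H.exists_fixed hh P g hk hfree
  obtain ⟨θ, hθ0, hθ⟩ := hh.exists_skew
  have oW : Ok (hW h v v') s 0 θ := ⟨hss, by simp, by simpa using hθ⟩
  set t := rt hWu s 0 θ with ht
  have hcomm : g * t = t * g := by
    have e : g * t * g⁻¹ = t := by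
      rw [ht, rt_conj hWu g oW, smul_zero, hgs, rt_scale hWu oW, smul_zero, hl, one_mul]
    rw [← mul_inv_eq_iff_eq_mul.1 e]
  set y := ρ (blkW hh P t) x with hy
  have hyfix : ρ (blkW hh P g) y = y := by
    rw [hy, ← Equiv.Perm.mul_apply, ← map_mul, ← map_mul, hcomm, map_mul, map_mul,
      Equiv.Perm.mul_apply, hgx]
  obtain ⟨r, hr⟩ : y ∈ orbR hh P ρ x :=
    H.free_unique hh P hxL (by rw [hy, (invs_blkW hh P ρ t x).1]; exact hxL)
  have hr : ρ (Rad.toSU hh P r) x = y := hr
  have hrw : r.w = 0 := by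
    obtain ⟨o, e⟩ := blk_conj hh P ((1 : Fˣ), (g : UH (hW h v v'))) (blkW hh P g) rfl r
    set r' : Rad hh v v' := ⟨_, _, o.tr⟩
    have e' : Rad.toSU hh P r' = blkW hh P g * Rad.toSU hh P r * (blkW hh P g)⁻¹ := e.symm
    have h1 : ρ (Rad.toSU hh P r') x = y := by
      rw [e', map_mul, map_mul, map_inv, Equiv.Perm.mul_apply, Equiv.Perm.mul_apply,
        show (ρ (blkW hh P g))⁻¹ x = x from Equiv.Perm.inv_eq_iff_eq.2 hgx.symm, hr, hyfix]
    have h2 : r⁻¹ * r' ∈ stabR hh P ρ x := by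
      rw [mem_stabR, map_mul, map_inv, map_mul, map_inv, Equiv.Perm.mul_apply, h1,
        Equiv.Perm.inv_eq_iff_eq, hr]
    have h3 : r = r' := inv_mul_eq_one.1 (H.stab_trivial hh P hxL h2)
    have h4 : σ ((1 : Fˣ) : F) • ((g : UH (hW h v v')) • r.w) = r.w := (congrArg Rad.w h3).symm
    rw [Units.val_one, map_one, one_smul] at h4
    exact hfree _ h4
  set c : F := r.c with hc_def
  have hcskew : c + σ c = 0 := by
    have := r.ok
    rw [hrw] at this
    simpa using this
  obtain ⟨s1, s2, -, -⟩ := W_apply hh s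
  have hss' : h (s : V) (s : V) = 0 := hss
  have oS : Ok h (s : V) 0 θ := ⟨hss', by simp, by simpa using hθ⟩
  have oV : Ok h v 0 (-c) := ⟨P.left, by simp, by simp; linear_combination -hcskew⟩
  have htS : blkW hh P t = rt hh (s : V) 0 θ := by
    refine su_ext hh fun z => ?_
    rw [rt_smul hh oS]
    show blk hh P ((1 : Fˣ), (t : UH (hW h v v'))) • z = _
    rw [blk_smul]
    have e2 : h (s : V) (prW hh P z : V) = h (s : V) z := by
      rw [coe_prW]
      simp [hh.comm_zero s1, hh.comm_zero s2]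
    conv_rhs => rw [eq_pr hh P z]
    simp only [blkLin, LinearMap.coe_mk, AddHom.coe_mk, Units.val_one, map_one, inv_one, one_mul]
    rw [show (t : UH (hW h v v')) • prW hh P z = t • prW hh P z from rfl, ht, rt_smul hWu oW]
    simp only [map_zero, smul_zero, add_zero, sub_zero, Submodule.coe_add, Submodule.coe_smul,
      hW_apply, LinearMap.zero_apply, map_add, map_smul, e2, hh.comm_zero s1, hh.comm_zero s2]
    module
  have hfix : ρ (rt hh v 0 (-c) * rt hh (s : V) 0 θ) x = x := by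
    rw [map_mul, Equiv.Perm.mul_apply, ← htS, ← hy, ← hr, ← Equiv.Perm.mul_apply, ← map_mul]
    have e : rt hh v 0 (-c) * Rad.toSU hh P r = 1 := by
      rw [Rad.toSU_apply, hrw, Submodule.coe_zero,
        rt_mul hh oV ⟨P.left, by simp, by simpa using hcskew⟩]
      simp only [add_zero, map_zero, sub_zero, ← hc_def, neg_add_cancel]
      exact rt_zero hh P.left
    rw [e, map_one, Equiv.Perm.one_apply]
  have hσθ : σ θ = -θ := eq_neg_of_add_eq_zero_right hθ
  obtain ⟨ξ, hξ⟩ := hh.exists_norm_eq (c := c / θ) (by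
    rw [map_div₀, hσθ, eq_neg_of_add_eq_zero_right hcskew, neg_div_neg_eq])
  set z : V := (s : V) + ξ • v with hz
  have hsv : h (s : V) v = 0 := hh.comm_zero s1
  have hzz : h z z = 0 := by simp [hz, hss', P.left, s1, hsv]
  have hzv : h z v = 0 := by simp [hz, P.left, hsv]
  have oZ : Ok h z ((-(θ * ξ)) • v) θ := ⟨hzz, by simp [hzv], by simpa [P.left] using hθ⟩
  have hprod : rt hh v 0 (-c) * rt hh (s : V) 0 θ = rt hh z ((-(θ * ξ)) • v) θ := by
    have hξ' : σ ξ * ξ * θ = c := by rw [hξ, div_mul_cancel₀ _ hθ0]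
    refine su_ext hh fun u => ?_
    rw [mul_smul, rt_smul hh oS, rt_smul hh oV, rt_smul hh oZ]
    simp only [hz, map_add, map_smulₛₗ, LinearMap.add_apply, LinearMap.smul_apply, map_zero,
      LinearMap.zero_apply, smul_eq_mul, RingHom.id_apply, s1, smul_zero, add_zero, sub_zero,
      mul_zero, map_neg, map_mul, hσθ]
    match_scalars
    all_goals first | ring1 | linear_combination (h v u) * hξ' | linear_combination -(h v u) * hξ'
  rw [hprod] at hfix
  have hs0V : (s : V) ≠ 0 := fun e => hs0 (Subtype.ext e)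
  have hz0 : z ≠ 0 := fun e => hs0 (by
    have := congrArg (prW hh P) e
    simpa [hz, prW_v hh P, prW_coe hh P] using this)
  obtain ⟨z', hz', hzz'⟩ := exists_isotropic_partner hh hzz hz0
  have Pz : Pair h z z' := ⟨hzz, hz', hzz'⟩
  have hdecomp : ∀ u : V, h z u = 0 → u = (prW hh Pz u : V) + h z' u • z := fun u hu => by
    conv_lhs => rw [eq_pr hh Pz u, hu, zero_smul, add_zero]
    exact add_comm _ _
  have hLz : Lsub hh Pz ρ x = ⊤ := by
    by_contra hne
    have oZ' := oZ
    rw [hdecomp ((-(θ * ξ)) • v) (by simp [hzv])] at oZ'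
    obtain ⟨o', e'⟩ := rt_add_self hh _ oZ'
    let r' : Rad hh z z' := ⟨prW hh Pz ((-(θ * ξ)) • v), _, o'.tr⟩
    have hmem : r' ∈ stabR hh Pz ρ x := by
      rw [mem_stabR, Rad.toSU_apply]
      show ρ (rt hh z _ _) x = x
      rw [← e', ← hdecomp _ (by simp [hzv])]
      exact hfix
    have hone : rt hh z ((-(θ * ξ)) • v) θ = 1 := by
      rw [hdecomp ((-(θ * ξ)) • v) (by simp [hzv]), e']
      have := congrArg (Rad.toSU hh Pz) (H.stab_trivial hh Pz hne hmem)
      rwa [map_one] at this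
    rw [← hprod] at hone
    obtain ⟨s', -, hss2⟩ := exists_isotropic_partner hWu hss hs0
    obtain ⟨u1, -, -, -⟩ := W_apply hh s'
    have e := congrArg (fun k : SUH h => k • (s' : V)) hone
    simp only [mul_smul, rt_smul hh oS, rt_smul hh oV, one_smul, map_add, map_smul, s1, u1,
      show h (s : V) (s' : V) = 1 from hss2, map_zero, LinearMap.zero_apply, smul_zero, add_zero,
      sub_zero, mul_one, mul_zero, zero_smul, smul_eq_mul, add_eq_left] at e
    exact (smul_ne_zero hθ0 hs0V) e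
  have hAz := hno z z' Pz x hLz
  have hrtz : ρ (rt hh z v 0) x = x := by
    have o : Ok h z v 0 := ⟨hzz, hzv, by simp [P.left]⟩
    rw [hdecomp v hzv] at o ⊢
    obtain ⟨o', e'⟩ := rt_add_self hh _ o
    rw [e']
    obtain ⟨r', hr', er'⟩ := (mem_Asub hh Pz ρ).1 (show prW hh Pz v ∈ Asub hh Pz ρ x by
      rw [hAz]; trivial)
    let r1 : Rad hh z z' := ⟨prW hh Pz v, _, o'.tr⟩
    have hmem : r1 ∈ stabR hh Pz ρ x := by
      have hd : (r1 * r'⁻¹).w = 0 := by simp [Rad.mul_w, Rad.inv_w, r1, er']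
      have hc' : (r1 * r'⁻¹).c ∈ skewAdd σ := by
        have := (r1 * r'⁻¹).ok
        rw [hd] at this
        simpa [mem_skewAdd] using this
      have h1 : r1 * r'⁻¹ ∈ stabR hh Pz ρ x := by
        have h0 : (⟨_, hc'⟩ : skewAdd σ) ∈ Lsub hh Pz ρ x := by rw [hLz]; trivial
        rw [show r1 * r'⁻¹ = zc hh ⟨_, hc'⟩ from Rad.ext hd rfl]
        exact h0
      simpa using mul_mem h1 hr'
    exact hmem
  rw [rt_swap hh hzz P.left hzv] at hrtz
  have o : Ok h v ((-s : Wsp h v v') + (-ξ) • v : V) 0 :=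
    ⟨P.left, by simp [s1, P.left], by simp [hss', P.left, s1, hsv]⟩
  obtain ⟨o', e'⟩ := rt_add_self hh _ o
  rw [show -z = ((-s : Wsp h v v') : V) + (-ξ) • v by simp [hz, neg_smul]; abel, e'] at hrtz
  have hmem : (⟨-s, _, o'.tr⟩ : Rad hh v v') ∈ stabR hh P ρ x := hrtz
  exact neg_ne_zero.2 hs0 (congrArg Rad.w (H.stab_trivial hh P hxL hmem))

end Cfsg.Agent.MinDeg.Unitary
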