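import Cfsg.Agent.Lib.MinDeg.UnitCount
import Mathlib.Analysis.Fourier.FiniteAbelian.PontryaginDuality

/-!
Tools for a nondegenerate hermitian space: transitivity facts, incidences with the images of an
additive subgroup, annihilators under a character, and numerical facts about the class sizes.
-/

set_option autoImplicit false
set_option linter.unusedSectionVars false

namespace Cfsg.Agent.MinDeg.Unitary

open Cfsg.Agent.ClassicalSimple Cfsg.Agent.MinDegree

variable {F V : Type*} [Field F] [Finite F] [AddCommGroup V] [Module F V] [FiniteDimensional F V]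
  {σ : F →+* F} {h : V →ₛₗ[σ] V →ₗ[F] F}

variable (hh : IsUnitaryForm σ h)
include hh

theorem uRootGroup_le : uRootGroup hh ≤ SUH h := by
  refine (Subgroup.closure_le _).2 ?_
  rintro g ⟨u, w, a, hu, hw, ha, rfl⟩
  exact uRootElt_det hh hu hw ha

theorem trans_iso (h3 : 3 ≤ Module.finrank F V) {x y : V} (hx : x ∈ isoV h) (hy : y ∈ isoV h) :
    ∃ g : SUH h, g • x = y := by
  obtain ⟨g, hg, e⟩ := uRoot_trans hh h3 hx.1 hy.1 hx.2 hy.2
  exact ⟨⟨g, uRootGroup_le hh hg⟩, e⟩

theorem trans_norm (h3 : 3 ≤ Module.finrank F V) {c : F} (hc : c ≠ 0) {x y : V}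
    (hx : x ∈ normV h c) (hy : y ∈ normV h c) : ∃ g : SUH h, g • x = y := by
  have hx : h x x = c := hx
  obtain ⟨g, hg, e⟩ := uRoot_trans_norm hh h3 (by rw [hx]; exact hc) (hx.trans (Eq.symm hy))
  exact ⟨⟨g, uRootGroup_le hh hg⟩, e⟩

omit hh in
theorem smul_iso (g : SUH h) {x : V} (hx : x ∈ isoV h) : g • x ∈ isoV h :=
  ⟨fun e => hx.1 ((smul_eq_zero_iff_eq g).1 e), (uh_smul_smul (g : UH h) x x).trans hx.2⟩

omit hh in
theorem smul_norm (g : SUH h) {c : F} {x : V} (hx : x ∈ normV h c) : g • x ∈ normV h c :=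
  (uh_smul_smul (g : UH h) x x).trans hx

/-- Two non-orthogonal isotropic lines are exchanged fixing their common perpendicular. -/
theorem exists_move {a b : V} (ha : h a a = 0) (hb : h b b = 0) (hab : h a b ≠ 0) :
    ∃ g : SUH h, ∃ c : F, c ≠ 0 ∧ g • a = c • b ∧
      ∀ z, h a z = 0 → h b z = 0 → g • z = z := by
  obtain ⟨θ, hθ0, hθ⟩ := hh.exists_skew
  obtain ⟨c, hc⟩ : ∃ c, c * h a b = θ := ⟨θ / h a b, div_mul_cancel₀ _ hab⟩
  have hc0 : c ≠ 0 := fun e => hθ0 (by rw [← hc, e, zero_mul])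
  have hσθ : σ θ = -θ := eq_neg_of_add_eq_zero_right hθ
  have e1 : h a (c • b) = θ := by rw [map_smul, smul_eq_mul, hc]
  have e2 : h (c • b) a = -θ := by rw [hh.swap, e1, hσθ]
  have hcb : h (c • b) (c • b) = 0 := by simp [hb]
  generalize hb' : c • b = b' at e1 e2 hcb
  have hu : h (θ⁻¹ • (b' - a)) (θ⁻¹ • (b' - a)) = 0 := by
    simp [ha, hcb, e1, e2]
  have hua : h (θ⁻¹ • (b' - a)) a = 1 := by
    simp [ha, e2, hσθ]
    field_simp
  have hub : h (θ⁻¹ • (b' - a)) b' = 1 := by
    simp [hcb, e1, hσθ]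
    field_simp
  obtain ⟨g, hg, hga, hfix⟩ := exists_uRoot_map hh hu ha hcb hua hub
  refine ⟨⟨g, uRootGroup_le hh hg⟩, c, hc0, hga.trans hb'.symm, fun z hza hzb => ?_⟩
  have hzb' : h b' z = 0 := by simp [← hb', hzb]
  exact hfix z (by simp [hza, hzb']) (by simp [hza, hzb'])

/-- The stabiliser of an isotropic vector moves the orthogonal isotropic lines to each other. -/
theorem exists_point_map {φ x x' : V} (hx : h x x = 0) (hx' : h x' x' = 0)
    (hφx : h φ x = 0) (hφx' : h φ x' = 0) (hi : LinearIndependent F ![φ, x])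
    (hi' : LinearIndependent F ![φ, x']) :
    ∃ g : SUH h, ∃ c : F, c ≠ 0 ∧ g • φ = φ ∧ g • x = c • x' := by
  by_cases hxx' : h x x' = 0
  swap
  · obtain ⟨g, c, hc, e, hfix⟩ := exists_move hh hx hx' hxx'
    exact ⟨g, c, hc, hfix φ (hh.comm_zero hφx) (hh.comm_zero hφx'), e⟩
  obtain ⟨z, hz, hzx, hzx'⟩ := exists_h_ne_ne hh hi hi'
  obtain ⟨d, hd⟩ := hh.exists_trace_one
  have hzx0 : h z x ≠ 0 := fun e => hzx (hh.comm_zero e)
  obtain ⟨k, hk⟩ : ∃ k, k * h z x = -(d * h z z) :=
    ⟨-(d * h z z) / h z x, div_mul_cancel₀ _ hzx0⟩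
  have hz0 : h (z + k • x) (z + k • x) = 0 := by
    have hk' := congrArg σ hk
    rw [map_mul, map_neg, map_mul, hh.σ_self, ← hh.swap] at hk'
    simp only [map_add, map_smulₛₗ, LinearMap.add_apply, LinearMap.smul_apply, smul_eq_mul,
      RingHom.id_apply, hx, mul_zero, add_zero]
    linear_combination hk + hk' - (h z z) * hd
  have hφz : h φ (z + k • x) = 0 := by simp [hz, hφx]
  obtain ⟨g, c, hc, e, hfix⟩ := exists_move hh hx hz0 (by simp [hx, hzx])
  obtain ⟨g', c', hc', e', hfix'⟩ := exists_move hh hz0 hx' (fun e => hzx' (by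
    have h1 := hh.comm_zero e
    simpa [hh.comm_zero hxx'] using h1))
  refine ⟨g' * g, c * c', mul_ne_zero hc hc', ?_, ?_⟩
  · rw [mul_smul, hfix φ (hh.comm_zero hφx) (hh.comm_zero hφz),
      hfix' φ (hh.comm_zero hφz) (hh.comm_zero hφx')]
  · rw [mul_smul, e, smul_comm g', e', smul_smul]

omit [Finite F] in
theorem exists_iso_add {y : V} {a : V} (ha : h a a = 0) (hya : h y a ≠ 0) :
    ∃ k : F, h (y + k • a) (y + k • a) = 0 := by
  obtain ⟨d, hd⟩ := hh.exists_trace_one
  obtain ⟨k, hk⟩ : ∃ k, k * h y a = -(d * h y y) :=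
    ⟨-(d * h y y) / h y a, div_mul_cancel₀ _ hya⟩
  refine ⟨k, ?_⟩
  have hk' := congrArg σ hk
  rw [map_mul, map_neg, map_mul, hh.σ_self, ← hh.swap] at hk'
  simp only [map_add, map_smulₛₗ, LinearMap.add_apply, LinearMap.smul_apply, smul_eq_mul,
    RingHom.id_apply, ha, mul_zero, add_zero]
  linear_combination hk + hk' - (h y y) * hd

/-! ### Images of an additive subgroup -/

omit hh in
/-- An element of `SU` as an additive map. -/
noncomputable def gHom (g : SUH h) : V →+ V :=
  ((g : UH h) : V ≃ₗ[F] V).toLinearMap.toAddMonoidHom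

omit hh in
theorem gHom_apply (g : SUH h) (x : V) : gHom g x = g • x := rfl

omit hh in
/-- The action on the additive subgroups. -/
noncomputable def subPerm : SUH h →* Equiv.Perm (AddSubgroup V) where
  toFun g :=
    { toFun := fun S => S.map (gHom g)
      invFun := fun S => S.map (gHom g⁻¹)
      left_inv := fun S => by
        dsimp only
        rw [AddSubgroup.map_map, show (gHom g⁻¹).comp (gHom g) = AddMonoidHom.id V from
          AddMonoidHom.ext fun x => inv_smul_smul g x, AddSubgroup.map_id]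
      right_inv := fun S => by
        dsimp only
        rw [AddSubgroup.map_map, show (gHom g).comp (gHom g⁻¹) = AddMonoidHom.id V from
          AddMonoidHom.ext fun x => smul_inv_smul g x, AddSubgroup.map_id] }
  map_one' := Equiv.ext fun S => by
    show S.map (gHom 1) = S
    rw [show gHom (1 : SUH h) = AddMonoidHom.id V from AddMonoidHom.ext fun x => one_smul (SUH h) x,
      AddSubgroup.map_id]
  map_mul' g k := Equiv.ext fun S => by
    show S.map (gHom (g * k)) = (S.map (gHom k)).map (gHom g)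
    rw [AddSubgroup.map_map]
    exact congrArg (fun f => AddSubgroup.map f S) (AddMonoidHom.ext fun x => mul_smul g k x)

omit hh in
theorem smul_mem_subPerm {g : SUH h} {S : AddSubgroup V} {x : V} :
    g • x ∈ subPerm g S ↔ x ∈ S := by
  constructor
  · rintro ⟨y, hy, e⟩
    exact (MulAction.injective g e : y = x) ▸ hy
  · exact fun hx => ⟨x, hx, rfl⟩

omit hh in
theorem mem_subPerm {g : SUH h} {S : AddSubgroup V} {x : V} :
    x ∈ subPerm g S ↔ g⁻¹ • x ∈ S := by
  conv_lhs => rw [← smul_inv_smul g x]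
  exact smul_mem_subPerm

omit hh in
variable (h) in
/-- The images of a subgroup. -/
noncomputable def imgs (S : AddSubgroup V) : Set (AddSubgroup V) :=
  Set.range fun g : SUH h => subPerm g S

omit hh in
theorem mem_imgs {S T : AddSubgroup V} : T ∈ imgs h S ↔ ∃ g : SUH h, subPerm g S = T := Iff.rfl

omit hh in
theorem self_mem_imgs (S : AddSubgroup V) : S ∈ imgs h S := ⟨1, by simp⟩

omit hh in
theorem subPerm_mem_imgs {S T : AddSubgroup V} (hT : T ∈ imgs h S) (g : SUH h) :
    subPerm g T ∈ imgs h S := by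
  obtain ⟨k, rfl⟩ := hT
  exact ⟨g * k, by simp⟩

omit hh in
theorem finite_addSubgroup (_h : V →ₛₗ[σ] V →ₗ[F] F) : Finite (AddSubgroup V) := by
  have : Finite V := Module.finite_of_finite F
  exact Finite.of_injective (fun K : AddSubgroup V => (K : Set V)) SetLike.coe_injective

omit hh in
theorem imgs_pos (S : AddSubgroup V) : 1 ≤ (imgs h S).ncard := by
  have := finite_addSubgroup h
  exact (Set.ncard_pos (Set.toFinite _)).2 ⟨S, self_mem_imgs S⟩

open Classical in
omit hh in
/-- Incidences between an orbit of vectors and the images, for an equivariant relation. -/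
theorem imgs_incidence (S : AddSubgroup V) (C : Set V) (R : AddSubgroup V → V → Prop)
    (hR : ∀ (g : SUH h) T x, R T x → R (subPerm g T) (g • x))
    (htrans : ∀ x ∈ C, ∀ y ∈ C, ∃ g : SUH h, g • x = y)
    {y : V} (hy : y ∈ C) (K : Set (AddSubgroup V)) (hK : K ⊆ imgs h S) (hKy : ∀ T ∈ K, R T y)
    {k : ℕ} (hk : k ≤ K.ncard) {b : ℕ}
    (hb : ∀ T ∈ imgs h S, {x ∈ C | R T x}.ncard ≤ b) :
    C.ncard * k ≤ (imgs h S).ncard * b := by
  have : Finite V := Module.finite_of_finite F
  have := Fintype.ofFinite V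
  have := finite_addSubgroup h
  have := Fintype.ofFinite (AddSubgroup V)
  rw [Set.ncard_eq_toFinset_card' C, Set.ncard_eq_toFinset_card' (imgs h S)]
  let r : V → AddSubgroup V → Prop := fun x T => R T x
  have h1 : ∀ x ∈ C.toFinset, k ≤ ((imgs h S).toFinset.filter fun T => r x T).card := by
    intro x hx
    obtain ⟨g, hg⟩ := htrans y hy x (Set.mem_toFinset.1 hx)
    refine hk.trans ?_
    rw [← Set.ncard_coe_finset]
    refine Set.ncard_le_ncard_of_injOn (fun T => subPerm g T) (fun T hT => ?_)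
      (fun a _ b _ e => (subPerm g).injective e) (Set.toFinite _)
    refine Finset.mem_coe.2 (Finset.mem_filter.2 ⟨Set.mem_toFinset.2 (subPerm_mem_imgs (hK hT) g), ?_⟩)
    exact hg ▸ hR g T y (hKy T hT)
  have h2 : ∀ T ∈ (imgs h S).toFinset, (C.toFinset.filter fun x => r x T).card ≤ b := by
    intro T hT
    refine le_trans (le_of_eq ?_) (hb T (Set.mem_toFinset.1 hT))
    rw [← Set.ncard_coe_finset]
    congr 1
    ext x
    simp [r]
  calc C.toFinset.card * k ≤ ∑ x ∈ C.toFinset, ((imgs h S).toFinset.filter fun T => r x T).card := by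
        simpa using Finset.card_nsmul_le_sum C.toFinset _ k h1
    _ = ∑ T ∈ (imgs h S).toFinset, (C.toFinset.filter fun x => r x T).card :=
        Finset.sum_card_bipartiteAbove_eq_sum_card_bipartiteBelow r
    _ ≤ (imgs h S).toFinset.card * b := by
        simpa using Finset.sum_le_card_nsmul (imgs h S).toFinset _ b h2

omit hh in
/-- `k` images through a vector of an orbit `C`. -/
theorem imgs_mem_incidence (S : AddSubgroup V) (C : Set V)
    (hinv : ∀ (g : SUH h), ∀ x ∈ C, g • x ∈ C)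
    (htrans : ∀ x ∈ C, ∀ y ∈ C, ∃ g : SUH h, g • x = y)
    {y : V} (hy : y ∈ C) (K : Set (AddSubgroup V)) (hK : K ⊆ imgs h S) (hKy : ∀ T ∈ K, y ∈ T)
    {k : ℕ} (hk : k ≤ K.ncard) :
    C.ncard * k ≤ (imgs h S).ncard * ((S : Set V) ∩ C).ncard := by
  have : Finite V := Module.finite_of_finite F
  refine imgs_incidence S C (fun T x => x ∈ T) (fun g T x => smul_mem_subPerm.2) htrans hy K hK hKy
    hk fun T hT => ?_
  obtain ⟨g, rfl⟩ := hT
  refine Set.ncard_le_ncard_of_injOn (fun x => g⁻¹ • x) (fun x hx => ⟨mem_subPerm.1 hx.2, hinv _ _ hx.1⟩)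
    (fun a _ b _ e => MulAction.injective g⁻¹ e) (Set.toFinite _)

omit hh in
theorem ncard_inter_le [Finite V] (S : AddSubgroup V) (C : Set V) (hC : ∀ x ∈ C, x ≠ 0) :
    ((S : Set V) ∩ C).ncard + 1 ≤ Nat.card S := by
  have h1 : Nat.card S = (S : Set V).ncard := Nat.card_coe_set_eq _
  rw [h1, ← Set.ncard_sdiff_singleton_add_one (zero_mem S : (0 : V) ∈ (S : Set V)) (Set.toFinite _)]
  refine Nat.add_le_add_right (Set.ncard_le_ncard (t := (S : Set V) \ {0}) ?_ (Set.toFinite _)) 1
  exact fun x hx => ⟨hx.1, hC x hx.2⟩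

omit hh in
theorem ncard_inter_le₂ [Finite V] (S : AddSubgroup V) (C C' : Set V) (hC : ∀ x ∈ C, x ≠ 0)
    (hC' : ∀ x ∈ C', x ≠ 0) (hd : Disjoint C C') :
    ((S : Set V) ∩ C).ncard + ((S : Set V) ∩ C').ncard + 1 ≤ Nat.card S := by
  rw [← Set.ncard_union_eq (hd.mono Set.inter_subset_right Set.inter_subset_right)
    (Set.toFinite _) (Set.toFinite _), ← Set.inter_union_distrib_left]
  exact ncard_inter_le S _ fun x hx => hx.elim (hC x) (hC' x)

/-! ### Characters -/

omit hh in
variable (h) in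
/-- The annihilator of an additive subgroup under `χ ∘ h`. -/
def annC (χ : AddChar F ℂ) (A : AddSubgroup V) : AddSubgroup V where
  carrier := {φ | ∀ w ∈ A, χ (h φ w) = 1}
  zero_mem' := fun w _ => by simp
  add_mem' {a b} ha hb := fun w hw => by
    rw [map_add, LinearMap.add_apply, AddChar.map_add_eq_mul, ha w hw, hb w hw, one_mul]
  neg_mem' {a} ha := fun w hw => by
    rw [map_neg, LinearMap.neg_apply, AddChar.map_neg_eq_inv, ha w hw, inv_one]

theorem card_annC {χ : AddChar F ℂ} (hχ : χ ≠ 1) (A : AddSubgroup V) :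
    Nat.card (annC h χ A) * Nat.card A = Nat.card V := by
  classical
  have : Finite V := Module.finite_of_finite F
  have := Fintype.ofFinite V
  have sum0 : ∀ {G : Type _} [AddCommGroup G] [Fintype G] (f : G → ℂ),
      (∀ a b, f (a + b) = f a * f b) → ∀ b, f b ≠ 1 → ∑ a, f a = 0 := by
    intro G _ _ f hadd b hb
    have e : ∑ a, f (b + a) = ∑ a, f a :=
      Fintype.sum_bijective (fun a => b + a) (AddGroup.addLeft_bijective b) _ _ (fun _ => rfl)
    simp_rw [hadd, ← Finset.mul_sum] at e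
    by_contra h0
    exact hb (mul_right_cancel₀ h0 (by rw [e, one_mul]))
  let f : V → V → ℂ := fun φ w => χ (h φ w)
  have h1 : ∀ φ : V, ∑ w : A, f φ w = if φ ∈ annC h χ A then (Nat.card A : ℂ) else 0 := by
    intro φ
    split_ifs with hm
    · rw [Finset.sum_congr rfl (g := fun _ => (1 : ℂ)) fun w _ => hm w.1 w.2]
      simp [Nat.card_eq_fintype_card]
    · obtain ⟨w, hw, hne⟩ : ∃ w ∈ A, f φ w ≠ 1 := by
        by_contra hc
        push Not at hc
        exact hm hc
      exact sum0 (fun w : A => f φ w)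
        (fun a b => by simp [f, AddChar.map_add_eq_mul]) ⟨w, hw⟩ hne
  have h2 : ∀ w : A, ∑ φ : V, f φ w = if w = 0 then (Nat.card V : ℂ) else 0 := by
    intro w
    split_ifs with hw
    · subst hw; simp [f, Nat.card_eq_fintype_card]
    · obtain ⟨y, hy⟩ := exists_h_ne_zero hh (v := (w : V)) fun e => hw (Subtype.ext e)
      obtain ⟨b, hb⟩ := AddChar.ne_one_iff.1 hχ
      have hy' : h y (w : V) ≠ 0 := fun e => hy (hh.comm_zero e)
      refine sum0 (fun φ : V => f φ w) (fun a b => by simp [f, AddChar.map_add_eq_mul])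
        (σ (b / h y (w : V)) • y) ?_
      simpa [f, hh.invol, hy'] using hb
  have h3 : ∑ φ : V, ∑ w : A, f φ w = ∑ w : A, ∑ φ : V, f φ w := Finset.sum_comm
  simp_rw [h1, h2] at h3
  rw [← Finset.sum_filter, Finset.sum_const, nsmul_eq_mul, Finset.sum_ite_eq',
    if_pos (Finset.mem_univ _)] at h3
  rw [Nat.card_eq_fintype_card, Fintype.card_of_subtype
    (Finset.univ.filter fun φ => φ ∈ annC h χ A) (by simp)]
  exact_mod_cast h3

/-- A subgroup isotropic for the commutator form modulo `L` is small. -/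
theorem card_sq_le (L : AddSubgroup (skewAdd σ)) (hL : L ≠ ⊤) {t : F} (ht : σ t = t) (ht0 : t ≠ 0)
    (A : AddSubgroup V)
    (hA : ∀ w ∈ A, ∀ w' ∈ A, ∃ l ∈ L, (l : F) = t * (h w w' - h w' w)) :
    Nat.card A * Nat.card A ≤ Nat.card V := by
  have : Finite V := Module.finite_of_finite F
  obtain ⟨c, hc⟩ : ∃ c, c ∉ L := by
    by_contra hcon
    push Not at hcon
    exact hL ((AddSubgroup.eq_top_iff' L).2 hcon)
  obtain ⟨ψ, hψ⟩ := AddChar.exists_apply_ne_zero.2
    (show (QuotientAddGroup.mk c : skewAdd σ ⧸ L) ≠ 0 from fun e => hc ((QuotientAddGroup.eq_zero_iff c).1 e))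
  let sk : F →+ skewAdd σ ⧸ L := (QuotientAddGroup.mk' L).comp (AddMonoidHom.mk'
    (fun x => ⟨t * (x - σ x), by rw [mem_skewAdd, map_mul, ht, map_sub, hh.invol]; ring⟩)
    fun a b => Subtype.ext (by simp only [AddSubgroup.coe_add, map_add]; ring))
  let χ : AddChar F ℂ := ψ.compAddMonoidHom sk
  have hχ : χ ≠ 1 := by
    obtain ⟨d, hd⟩ := hh.exists_trace_one
    refine AddChar.ne_one_iff.2 ⟨d * (c : F) / t, ?_⟩
    have e : sk (d * (c : F) / t) = QuotientAddGroup.mk c := by
      refine congrArg (QuotientAddGroup.mk (s := L)) (Subtype.ext ?_)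
      show t * (d * (c : F) / t - σ (d * (c : F) / t)) = c
      rw [map_div₀, map_mul, ht, eq_neg_of_add_eq_zero_right (mem_skewAdd.1 c.2)]
      field_simp
      linear_combination (c : F) * hd
    show ψ (sk _) ≠ 1
    rw [e]
    exact hψ
  have hle : A ≤ annC h χ A := fun w hw w' hw' => by
    obtain ⟨l, hl, el⟩ := hA w hw w' hw'
    show ψ (sk (h w w')) = 1
    have e : sk (h w w') = 0 := by
      refine (QuotientAddGroup.eq_zero_iff _).2 ?_
      convert hl using 1
      exact Subtype.ext (by rw [el]; show t * (h w w' - σ (h w w')) = _; rw [← hh.swap])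
    rw [e, AddChar.map_zero_eq_one]
  rw [← card_annC hh hχ A]
  exact Nat.mul_le_mul_right _ (Nat.le_of_dvd Nat.card_pos (AddSubgroup.card_dvd_of_le hle))

end Cfsg.Agent.MinDeg.Unitary
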